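import Mathlib

/-!
# `Ext¹` from a presentation (helper75)

For a short exact sequence `0 → K → F → M → 0` of modules over a commutative ring `A` with `F`
projective, `Ext¹_A(M, N) ≃ₗ[A] Hom_A(K, N) ⧸ (restrictions of maps F → N)`.
Also: `Ext` is invariant under linear equivalences in the second variable, and a length
additivity lemma for a chain of submodules.
-/

universe u
open CategoryTheory

namespace Groth.Agent.Lib.Helper75.ExtPres

open Abelian

variable {A : Type u} [CommRing A]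

section pres

variable {K F M N : Type u} [AddCommGroup K] [Module A K] [AddCommGroup F] [Module A F]
  [AddCommGroup M] [Module A M] [AddCommGroup N] [Module A N]

/-- The short complex `K → F → M` in `ModuleCat A`. -/
noncomputable abbrev S (ι : K →ₗ[A] F) (π : F →ₗ[A] M) (h : π ∘ₗ ι = 0) :
    ShortComplex (ModuleCat.{u} A) :=
  ShortComplex.mk (X₁ := ModuleCat.of A K) (X₂ := ModuleCat.of A F) (X₃ := ModuleCat.of A M)
    (ModuleCat.ofHom ι) (ModuleCat.ofHom π) (by
      rw [← ModuleCat.ofHom_comp, h]; rfl)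

lemma shortExact (ι : K →ₗ[A] F) (π : F →ₗ[A] M) (hι : Function.Injective ι)
    (hπ : Function.Surjective π) (hex : LinearMap.range ι = LinearMap.ker π) :
    (S ι π (by
      ext x
      have : ι x ∈ LinearMap.ker π := hex ▸ LinearMap.mem_range_self ι x
      simpa using this)).ShortExact := by
  have hmono : Mono (ModuleCat.ofHom ι) := by
    rw [ModuleCat.mono_iff_injective]; exact hι
  have hepi : Epi (ModuleCat.ofHom π) := by
    rw [ModuleCat.epi_iff_surjective]; exact hπ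
  refine ShortComplex.ShortExact.mk ?_
  rw [ShortComplex.moduleCat_exact_iff]
  intro (x : F) hx
  have hx' : x ∈ LinearMap.ker π := hx
  rw [← hex] at hx'
  obtain ⟨y, hy⟩ := hx'
  exact ⟨y, hy⟩

/-- `Ext¹(M, N)` as a quotient of `Hom(K, N)`. -/
theorem ext_one_equiv [Module.Projective A F] (ι : K →ₗ[A] F) (π : F →ₗ[A] M)
    (hι : Function.Injective ι)
    (hπ : Function.Surjective π) (hex : LinearMap.range ι = LinearMap.ker π) :
    Nonempty (Ext (ModuleCat.of A M) (ModuleCat.of A N) 1 ≃ₗ[A]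
      ((K →ₗ[A] N) ⧸ LinearMap.range (LinearMap.lcomp A N ι))) := by
  have hzero : π ∘ₗ ι = 0 := by
    ext x
    have : ι x ∈ LinearMap.ker π := hex ▸ LinearMap.mem_range_self ι x
    simpa using this
  have hS : (S ι π hzero).ShortExact := shortExact ι π hι hπ hex
  let NN : ModuleCat.{u} A := ModuleCat.of A N
  -- the connecting map
  let δ₀ : Ext (S ι π hzero).X₁ NN 0 →ₗ[A] Ext (S ι π hzero).X₃ NN 1 :=
    (Ext.bilinearCompOfLinear A (S ι π hzero).X₃ (S ι π hzero).X₁ NN 1 0 1 (add_zero 1))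
      hS.extClass
  let e₁ : (K →ₗ[A] N) ≃ₗ[A] ((S ι π hzero).X₁ ⟶ NN) :=
    (ModuleCat.homLinearEquiv (S := A) (M := ModuleCat.of A K) (N := NN)).symm
  let e₂ : ((S ι π hzero).X₁ ⟶ NN) ≃ₗ[A] Ext (S ι π hzero).X₁ NN 0 :=
    (Ext.linearEquiv₀ (R := A)).symm
  let δ : (K →ₗ[A] N) →ₗ[A] Ext (S ι π hzero).X₃ NN 1 :=
    δ₀ ∘ₗ e₂.toLinearMap ∘ₗ e₁.toLinearMap
  have hδ_apply : ∀ φ : K →ₗ[A] N,
      δ φ = hS.extClass.comp (Ext.mk₀ (ModuleCat.ofHom φ)) (add_zero 1) := by
    intro φ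
    rfl
  have hsurj : Function.Surjective δ := by
    intro x₃
    have : Projective (S ι π hzero).X₂ := by
      change Projective (ModuleCat.of A F)
      exact (IsProjective.iff_projective (P := F)).mp inferInstance
    have h0 : (Ext.mk₀ (S ι π hzero).g).comp x₃ (zero_add 1) = 0 :=
      Ext.eq_zero_of_projective _
    obtain ⟨x₁, hx₁⟩ := Ext.contravariant_sequence_exact₃ hS NN x₃ h0 (add_zero 1)
    obtain ⟨ψ, rfl⟩ := Ext.addEquiv₀.symm.surjective x₁
    refine ⟨ψ.hom, ?_⟩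
    rw [hδ_apply]
    exact hx₁
  have hker : LinearMap.ker δ = LinearMap.range (LinearMap.lcomp A N ι) := by
    ext φ
    rw [LinearMap.mem_ker, hδ_apply, LinearMap.mem_range]
    constructor
    · intro h
      obtain ⟨x₂, hx₂⟩ := Ext.contravariant_sequence_exact₁ hS NN _ (add_zero 1) h
      obtain ⟨ψ, rfl⟩ := Ext.addEquiv₀.symm.surjective x₂
      refine ⟨ψ.hom, ?_⟩
      have h3 : Ext.mk₀ ((S ι π hzero).f ≫ ψ) = Ext.mk₀ (ModuleCat.ofHom φ) := by
        rw [← hx₂]
        change _ = (Ext.mk₀ (S ι π hzero).f).comp (Ext.mk₀ ψ) (zero_add 0)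
        rw [Ext.mk₀_comp_mk₀]
      have h4 : (S ι π hzero).f ≫ ψ = ModuleCat.ofHom φ :=
        Ext.addEquiv₀.symm.injective h3
      have h5 := congrArg ModuleCat.Hom.hom h4
      ext x
      have h6 := LinearMap.congr_fun h5 x
      simpa using h6
    · rintro ⟨ψ, rfl⟩
      have h1 : ModuleCat.ofHom ((LinearMap.lcomp A N ι) ψ) =
          (S ι π hzero).f ≫ ModuleCat.ofHom ψ := by
        rfl
      rw [h1, ← Ext.mk₀_comp_mk₀, ← Ext.comp_assoc_of_second_deg_zero,
        hS.extClass_comp, Ext.zero_comp]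
  exact ⟨((δ.quotKerEquivOfSurjective hsurj).symm.trans
    (Submodule.quotEquivOfEq _ _ hker))⟩

end pres

section congr

variable {N N' : Type u} [AddCommGroup N] [Module A N] [AddCommGroup N'] [Module A N']

/-- `Ext` is invariant under linear equivalences in the second variable. -/
theorem ext_congr_right (X : ModuleCat.{u} A) (e : N ≃ₗ[A] N') (n : ℕ) :
    Nonempty (Ext X (ModuleCat.of A N) n ≃ₗ[A] Ext X (ModuleCat.of A N') n) := by
  let f : ModuleCat.of A N ⟶ ModuleCat.of A N' := ModuleCat.ofHom e.toLinearMap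
  let g : ModuleCat.of A N' ⟶ ModuleCat.of A N := ModuleCat.ofHom e.symm.toLinearMap
  have hfg : f ≫ g = 𝟙 _ := by
    ext x; simp [f, g]
  have hgf : g ≫ f = 𝟙 _ := by
    ext x; simp [f, g]
  refine ⟨LinearEquiv.ofLinearMap
    (Ext.postcompOfLinear (Ext.mk₀ f) A X (add_zero n))
    (Ext.postcompOfLinear (Ext.mk₀ g) A X (add_zero n)) ?_ ?_⟩
  · ext x
    change ((x.comp (Ext.mk₀ g) (add_zero n)).comp (Ext.mk₀ f) (add_zero n)) = x
    rw [Ext.comp_assoc_of_third_deg_zero, Ext.mk₀_comp_mk₀, hgf, Ext.comp_mk₀_id]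
  · ext x
    change ((x.comp (Ext.mk₀ f) (add_zero n)).comp (Ext.mk₀ g) (add_zero n)) = x
    rw [Ext.comp_assoc_of_third_deg_zero, Ext.mk₀_comp_mk₀, hfg, Ext.comp_mk₀_id]

end congr

section congrLeft

variable {M M' : Type u} [AddCommGroup M] [Module A M] [AddCommGroup M'] [Module A M']

/-- `Ext` is invariant under linear equivalences in the first variable. -/
theorem ext_congr_left (Y : ModuleCat.{u} A) (e : M ≃ₗ[A] M') (n : ℕ) :
    Nonempty (Ext (ModuleCat.of A M) Y n ≃ₗ[A] Ext (ModuleCat.of A M') Y n) := by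
  let f : ModuleCat.of A M ⟶ ModuleCat.of A M' := ModuleCat.ofHom e.toLinearMap
  let g : ModuleCat.of A M' ⟶ ModuleCat.of A M := ModuleCat.ofHom e.symm.toLinearMap
  have hfg : f ≫ g = 𝟙 _ := by
    ext x; simp [f, g]
  have hgf : g ≫ f = 𝟙 _ := by
    ext x; simp [f, g]
  refine ⟨LinearEquiv.ofLinearMap
    (Ext.precompOfLinear (Ext.mk₀ g) A Y (zero_add n))
    (Ext.precompOfLinear (Ext.mk₀ f) A Y (zero_add n)) ?_ ?_⟩
  · ext x
    change (Ext.mk₀ g).comp ((Ext.mk₀ f).comp x (zero_add n)) (zero_add n) = x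
    rw [← Ext.comp_assoc_of_second_deg_zero, Ext.mk₀_comp_mk₀, hgf, Ext.mk₀_id_comp]
  · ext x
    change (Ext.mk₀ f).comp ((Ext.mk₀ g).comp x (zero_add n)) (zero_add n) = x
    rw [← Ext.comp_assoc_of_second_deg_zero, Ext.mk₀_comp_mk₀, hfg, Ext.mk₀_id_comp]

end congrLeft

section chain

variable {V : Type*} [AddCommGroup V] [Module A V]

/-- Additivity of length along a chain `p ≤ q` of submodules. -/
theorem length_quotient_chain (p q : Submodule A V) (hpq : p ≤ q) :
    Module.length A (V ⧸ p) =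
      Module.length A (↥q ⧸ p.comap q.subtype) + Module.length A (V ⧸ q) := by
  let f : (↥q ⧸ p.comap q.subtype) →ₗ[A] (V ⧸ p) :=
    Submodule.mapQ (p.comap q.subtype) p q.subtype le_rfl
  let g : (V ⧸ p) →ₗ[A] (V ⧸ q) := Submodule.factor hpq
  have hf : Function.Injective f := by
    rw [← LinearMap.ker_eq_bot, Submodule.ker_mapQ]
    simp
  have hg : Function.Surjective g := Submodule.factor_surjective hpq
  have hfg : Function.Exact f g := by
    intro y
    constructor
    · intro hy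
      obtain ⟨v, rfl⟩ := Submodule.Quotient.mk_surjective _ y
      have hv : v ∈ q := by
        have : (Submodule.Quotient.mk v : V ⧸ q) = 0 := hy
        exact (Submodule.Quotient.mk_eq_zero _).mp this
      exact ⟨Submodule.Quotient.mk ⟨v, hv⟩, rfl⟩
    · rintro ⟨x, rfl⟩
      obtain ⟨⟨v, hv⟩, rfl⟩ := Submodule.Quotient.mk_surjective _ x
      change (Submodule.Quotient.mk v : V ⧸ q) = 0
      exact (Submodule.Quotient.mk_eq_zero _).mpr hv
  exact Module.length_eq_add_of_exact f g hf hg hfg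

end chain

section subq

variable {V N₁ : Type*} [AddCommGroup V] [Module A V] [AddCommGroup N₁] [Module A N₁]

/-- If `θ : N₁ → V` maps into `Rg`, is onto `Rg` modulo `T'` and `θ n ∈ T' ↔ n ∈ N₁'`, then
`Rg / T'` and `N₁ / N₁'` have the same length. -/
theorem length_subQ_of_map (T' Rg : Submodule A V) (θ : N₁ →ₗ[A] V) (hθ : ∀ n, θ n ∈ Rg)
    (hsurj : ∀ x ∈ Rg, ∃ n, x - θ n ∈ T') (N₁' : Submodule A N₁)
    (hker : ∀ n, θ n ∈ T' ↔ n ∈ N₁') :
    Module.length A (↥Rg ⧸ T'.comap Rg.subtype) = Module.length A (N₁ ⧸ N₁') := by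
  let θ' : N₁ →ₗ[A] (↥Rg ⧸ T'.comap Rg.subtype) :=
    (T'.comap Rg.subtype).mkQ ∘ₗ (θ.codRestrict Rg hθ)
  have hs : Function.Surjective θ' := by
    intro y
    obtain ⟨⟨x, hx⟩, rfl⟩ := Submodule.Quotient.mk_surjective _ y
    obtain ⟨n, hn⟩ := hsurj x hx
    refine ⟨n, ?_⟩
    change Submodule.Quotient.mk (θ.codRestrict Rg hθ n) = Submodule.Quotient.mk _
    rw [Submodule.Quotient.eq, Submodule.mem_comap]
    have : Rg.subtype (θ.codRestrict Rg hθ n - ⟨x, hx⟩) = -(x - θ n) := by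
      simp
    rw [this]
    exact T'.neg_mem hn
  have hk : LinearMap.ker θ' = N₁' := by
    ext n
    rw [LinearMap.mem_ker]
    change Submodule.Quotient.mk (θ.codRestrict Rg hθ n) = 0 ↔ _
    rw [Submodule.Quotient.mk_eq_zero, Submodule.mem_comap]
    exact hker n
  exact ((θ'.quotKerEquivOfSurjective hs).symm.trans (Submodule.quotEquivOfEq _ _ hk)).length_eq

end subq

section combine

variable {ι' : Type*} [Fintype ι'] [DecidableEq ι'] {Hom N₁ : Type*} {Vj : ι' → Type*}
  [AddCommGroup Hom] [Module A Hom] [AddCommGroup N₁] [Module A N₁]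
  [∀ j, AddCommGroup (Vj j)] [∀ j, Module A (Vj j)]

/-- Combination of the chain lemma, `length_subQ_of_map` and the product decomposition, stated
for abstract modules. -/
theorem length_combine (E : Hom ≃ₗ[A] (∀ j, Vj j)) (Rg : Submodule A Hom)
    (Tj : ∀ j, Submodule A (Vj j))
    (hT : ∀ φ, (∀ j, E φ j ∈ Tj j) → φ ∈ Rg)
    (θ : N₁ →ₗ[A] Hom) (hθ : ∀ n, θ n ∈ Rg)
    (hsurj : ∀ x ∈ Rg, ∃ n, ∀ j, E (x - θ n) j ∈ Tj j)
    (N₁' : Submodule A N₁) (hker : ∀ n, (∀ j, E (θ n) j ∈ Tj j) ↔ n ∈ N₁') :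
    ∑ j, Module.length A (Vj j ⧸ Tj j) =
      Module.length A (N₁ ⧸ N₁') + Module.length A (Hom ⧸ Rg) := by
  let T : Submodule A (∀ j, Vj j) := Submodule.pi Set.univ Tj
  have hTmem : ∀ h : (∀ j, Vj j), h ∈ T ↔ ∀ j, h j ∈ Tj j := by
    intro h
    simp [T, Submodule.mem_pi]
  let T' := T.comap E.toLinearMap
  have hT'mem : ∀ φ, φ ∈ T' ↔ ∀ j, E φ j ∈ Tj j := by
    intro φ
    rw [Submodule.mem_comap, hTmem]
    rfl
  have hT'Rg : T' ≤ Rg := fun φ hφ => hT φ ((hT'mem φ).mp hφ)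
  have chain := length_quotient_chain T' Rg hT'Rg
  have h2 : Module.length A (Hom ⧸ T') = ∑ j, Module.length A (Vj j ⧸ Tj j) := by
    have e1 := Submodule.Quotient.equiv T' T E
      (Submodule.map_comap_eq_of_surjective E.surjective T)
    have e2 := Submodule.quotientPi Tj
    rw [(e1.trans e2).length_eq, Module.length_pi_of_fintype]
  have h3 : Module.length A (↥Rg ⧸ T'.comap Rg.subtype) = Module.length A (N₁ ⧸ N₁') := by
    apply length_subQ_of_map T' Rg θ hθ
    · intro x hx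
      obtain ⟨n, hn⟩ := hsurj x hx
      exact ⟨n, (hT'mem _).mpr hn⟩
    · intro n
      rw [hT'mem]
      exact hker n
  rw [h2, h3] at chain
  exact chain

end combine

end Groth.Agent.Lib.Helper75.ExtPres
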