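import Groth.Agent.Lib.Helper75.HomQuotientSystems
import Mathlib.RingTheory.AdicCompletion.Basic
import Mathlib.Algebra.Module.Projective
import Mathlib.RingTheory.Finiteness.Cardinality
import Mathlib.Algebra.Polynomial.AlgebraMap
import Mathlib.Tactic

/-!
# Finite projective modules over adically complete rings: completeness and lifting of idempotents
-/

set_option autoImplicit false
universe u v

namespace Groth.Agent.Lib.Helper75.CompleteProjective

open Groth.Agent.Lib.Helper75.HomQuotientSystems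

section complete

variable {W : Type u} [CommRing W] (I : Ideal W)

/-- finite powers of a complete ring are complete. -/
lemma isAdicComplete_pi [IsAdicComplete I W] (n : ℕ) : IsAdicComplete I (Fin n → W) := by
  refine { haus' := ?_, prec' := ?_ }
  · intro x hx
    ext i
    apply IsHausdorff.haus' (I := I)
    intro k
    have h1 := hx k
    rw [SModEq.zero] at h1 ⊢
    exact (mem_smul_top_pi (I ^ k) x).mp h1 i
  · intro f hf
    have hc : ∀ i : Fin n, ∃ L : W, ∀ k, f k i ≡ L [SMOD (I ^ k • ⊤ : Submodule W W)] := by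
      intro i
      apply IsPrecomplete.prec' (I := I) (fun k => f k i)
      intro a b hab
      have h1 := hf hab
      rw [SModEq.sub_mem] at h1 ⊢
      exact (mem_smul_top_pi (I ^ a) (f a - f b)).mp h1 i
    choose L hL using hc
    refine ⟨L, fun k => ?_⟩
    rw [SModEq.sub_mem, mem_smul_top_pi]
    intro i
    have := hL i k
    rw [SModEq.sub_mem] at this
    exact this

lemma map_mem_pow_smul_top {X : Type*} {Y : Type*} [AddCommGroup X] [Module W X] [AddCommGroup Y]
    [Module W Y] (g : X →ₗ[W] Y) (k : ℕ) (x : X) (hx : x ∈ (I ^ k • ⊤ : Submodule W X)) :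
    g x ∈ (I ^ k • ⊤ : Submodule W Y) := by
  have h1 : g x ∈ Submodule.map g (I ^ k • ⊤) := Submodule.mem_map_of_mem hx
  rw [Submodule.map_smul''] at h1
  exact Submodule.smul_mono le_rfl le_top h1

/-- a retract of a complete module is complete. -/
lemma isAdicComplete_of_retract {P : Type v} {N : Type*} [AddCommGroup P] [Module W P]
    [AddCommGroup N] [Module W N] [IsAdicComplete I N]
    (ι : P →ₗ[W] N) (ρ : N →ₗ[W] P) (h : ρ ∘ₗ ι = LinearMap.id) : IsAdicComplete I P := by
  refine { haus' := ?_, prec' := ?_ }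
  · intro x hx
    have h1 : ι x = 0 := by
      apply IsHausdorff.haus' (I := I)
      intro k
      have h2 := hx k
      rw [SModEq.zero] at h2 ⊢
      exact map_mem_pow_smul_top I ι k x h2
    have h3 := congrArg (fun g => g x) h
    simp only [LinearMap.comp_apply, LinearMap.id_apply] at h3
    rw [← h3, h1, map_zero]
  · intro f hf
    obtain ⟨y, hy⟩ := IsPrecomplete.prec' (I := I) (fun k => ι (f k)) (by
      intro a b hab
      have h1 := hf hab
      rw [SModEq.sub_mem] at h1 ⊢
      rw [← map_sub]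
      exact map_mem_pow_smul_top I ι a _ h1)
    refine ⟨ρ y, fun k => ?_⟩
    have h1 := hy k
    rw [SModEq.sub_mem] at h1 ⊢
    have h3 := congrArg (fun g => g (f k)) h
    simp only [LinearMap.comp_apply, LinearMap.id_apply] at h3
    rw [← h3, ← map_sub]
    exact map_mem_pow_smul_top I ρ k _ h1

/-- finite projective modules over a complete ring are complete. -/
lemma isAdicComplete_of_finite_projective [IsAdicComplete I W] (P : Type v) [AddCommGroup P]
    [Module W P] [Module.Finite W P] [Module.Projective W P] : IsAdicComplete I P := by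
  obtain ⟨n, π, hπ⟩ := Module.Finite.exists_fin' W P
  obtain ⟨s, hs⟩ := Module.projective_lifting_property π LinearMap.id hπ
  have := isAdicComplete_pi I n
  exact isAdicComplete_of_retract I s π hs

end complete

section idem

open Polynomial

variable {W : Type u} [CommRing W]

/-- Newton iteration polynomials for idempotents. -/
noncomputable def fseq (W : Type u) [CommRing W] : ℕ → Polynomial W
  | 0 => X
  | k + 1 => 3 * (fseq W k) ^ 2 - 2 * (fseq W k) ^ 3

lemma fseq_succ_sub (k : ℕ) :
    fseq W (k + 1) - fseq W k = ((fseq W k) ^ 2 - fseq W k) * (1 - 2 * fseq W k) := by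
  rw [fseq]
  ring

lemma fseq_dvd (k : ℕ) : ((X : Polynomial W) ^ 2 - X) ^ (k + 1) ∣ (fseq W k) ^ 2 - fseq W k := by
  induction k with
  | zero => simp [fseq]
  | succ k ih =>
    have h1 : (fseq W (k + 1)) ^ 2 - fseq W (k + 1) =
        ((fseq W k) ^ 2 - fseq W k) ^ 2 * (4 * (fseq W k) ^ 2 - 4 * fseq W k - 3) := by
      rw [fseq]
      ring
    rw [h1]
    apply Dvd.dvd.mul_right
    calc ((X : Polynomial W) ^ 2 - X) ^ (k + 1 + 1) ∣ (((X : Polynomial W) ^ 2 - X) ^ (k + 1)) ^ 2 := by
          rw [← pow_mul]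
          exact pow_dvd_pow _ (by omega)
      _ ∣ ((fseq W k) ^ 2 - fseq W k) ^ 2 := pow_dvd_pow_of_dvd ih 2

variable (I : Ideal W) {P : Type v} [AddCommGroup P] [Module W P]

lemma map_mem_succ (u : Module.End W P) (hu : ∀ x, u x ∈ (I • ⊤ : Submodule W P)) (m : ℕ) (y : P)
    (hy : y ∈ (I ^ m • ⊤ : Submodule W P)) : u y ∈ (I ^ (m + 1) • ⊤ : Submodule W P) := by
  refine Submodule.smul_induction_on (p := fun y => u y ∈ (I ^ (m + 1) • ⊤ : Submodule W P)) hy ?_ ?_
  · intro a ha z _
    rw [map_smul, pow_succ, mul_smul]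
    exact Submodule.smul_mem_smul ha (hu z)
  · intro x y hx hy
    rw [map_add]
    exact add_mem hx hy

lemma pow_apply_mem (u : Module.End W P) (hu : ∀ x, u x ∈ (I • ⊤ : Submodule W P)) (m : ℕ) (x : P) :
    (u ^ m) x ∈ (I ^ m • ⊤ : Submodule W P) := by
  induction m with
  | zero => simp
  | succ m ih =>
    have h1 : (u ^ (m + 1)) x = u ((u ^ m) x) := by
      rw [pow_succ' u m, Module.End.mul_apply]
    rw [h1]
    exact map_mem_succ I u hu m _ ih

lemma aeval_apply_mem (e₁ : Module.End W P)
    (hu : ∀ x, (e₁ * e₁ - e₁) x ∈ (I • ⊤ : Submodule W P)) (m : ℕ) (g : Polynomial W)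
    (hg : ((X : Polynomial W) ^ 2 - X) ^ m ∣ g) (x : P) :
    (aeval e₁ g) x ∈ (I ^ m • ⊤ : Submodule W P) := by
  obtain ⟨h, rfl⟩ := hg
  rw [map_mul, map_pow, Module.End.mul_apply]
  have h1 : aeval e₁ ((X : Polynomial W) ^ 2 - X) = e₁ * e₁ - e₁ := by
    rw [map_sub, map_pow, aeval_X, pow_two]
  rw [h1]
  exact pow_apply_mem I _ hu m _


/-- Lifting idempotent endomorphisms of an `I`-adically complete module. -/
theorem exists_idempotent_lift [IsAdicComplete I P] (e₁ : Module.End W P)
    (hu : ∀ x, (e₁ * e₁ - e₁) x ∈ (I • ⊤ : Submodule W P)) :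
    ∃ e : Module.End W P, (∀ x, e (e x) = e x) ∧ ∀ x, e x - e₁ x ∈ (I • ⊤ : Submodule W P) := by
  set E : ℕ → Module.End W P := fun k => aeval e₁ (fseq W k) with hE
  have hstep : ∀ k x, (E (k + 1)) x - (E k) x ∈ (I ^ (k + 1) • ⊤ : Submodule W P) := by
    intro k x
    have h1 : (E (k + 1)) x - (E k) x = (aeval e₁ (fseq W (k + 1) - fseq W k)) x := by
      rw [map_sub]; rfl
    rw [h1, fseq_succ_sub]
    exact aeval_apply_mem I e₁ hu (k + 1) _ (Dvd.dvd.mul_right (fseq_dvd k) _) x
  have hidem : ∀ k x, (E k) ((E k) x) - (E k) x ∈ (I ^ (k + 1) • ⊤ : Submodule W P) := by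
    intro k x
    have h1 : (E k) ((E k) x) - (E k) x = (aeval e₁ ((fseq W k) ^ 2 - fseq W k)) x := by
      rw [map_sub, map_pow, pow_two]; rfl
    rw [h1]
    exact aeval_apply_mem I e₁ hu (k + 1) _ (fseq_dvd k) x
  have hmono : ∀ {a b : ℕ}, a ≤ b → (I ^ b • ⊤ : Submodule W P) ≤ I ^ a • ⊤ := fun hab =>
    Submodule.smul_mono_left (Ideal.pow_le_pow_right hab)
  have htel : ∀ m n, m ≤ n → ∀ x, (E n) x - (E m) x ∈ (I ^ (m + 1) • ⊤ : Submodule W P) := by
    intro m n hmn x
    induction n, hmn using Nat.le_induction with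
    | base => rw [sub_self]; exact zero_mem _
    | succ n hmn ih =>
      have h1 : (E (n + 1)) x - (E m) x = ((E (n + 1)) x - (E n) x) + ((E n) x - (E m) x) := by abel
      rw [h1]
      exact add_mem (hmono (by omega) (hstep n x)) ih
  set F : ∀ n : ℕ, P →ₗ[W] P ⧸ (I ^ n • ⊤ : Submodule W P) :=
    fun n => Submodule.mkQ _ ∘ₗ E n with hF
  have hcompat : ∀ {m n : ℕ} (hle : m ≤ n), Submodule.factorPow I P hle ∘ₗ F n = F m := by
    intro m n hle
    ext x
    change Submodule.Quotient.mk ((E n) x) = Submodule.Quotient.mk ((E m) x)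
    rw [Submodule.Quotient.eq]
    exact hmono (by omega) (htel m n hle x)
  set e : Module.End W P := IsAdicComplete.lift I F hcompat with he
  have hlim : ∀ n x, e x - (E n) x ∈ (I ^ n • ⊤ : Submodule W P) := by
    intro n x
    have h1 := IsAdicComplete.mk_lift I hcompat n x
    change Submodule.Quotient.mk (e x) = Submodule.Quotient.mk ((E n) x) at h1
    rwa [Submodule.Quotient.eq] at h1
  have hmap : ∀ (g : Module.End W P) (k : ℕ) (y : P), y ∈ (I ^ k • ⊤ : Submodule W P) →
      g y ∈ (I ^ k • ⊤ : Submodule W P) := by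
    intro g k y hy
    have h1 : g y ∈ Submodule.map g (I ^ k • ⊤) := Submodule.mem_map_of_mem hy
    rw [Submodule.map_smul''] at h1
    exact Submodule.smul_mono le_rfl le_top h1
  refine ⟨e, ?_, ?_⟩
  · intro x
    rw [← sub_eq_zero]
    apply IsHausdorff.haus' (I := I)
    intro n
    rw [SModEq.zero]
    have h1 : e (e x) - e x = (e (e x) - (E n) (e x)) + (E n) (e x - (E n) x) +
        ((E n) ((E n) x) - (E n) x) + ((E n) x - e x) := by
      rw [map_sub]; abel
    rw [h1]
    refine add_mem (add_mem (add_mem (hlim n _) (hmap _ n _ (hlim n x))) ?_) ?_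
    · exact hmono (by omega) (hidem n x)
    · have := hlim n x
      rw [← neg_sub]
      exact neg_mem this
  · intro x
    have h0 : (E 0) x = e₁ x := by
      change (aeval e₁ (X : Polynomial W)) x = _
      rw [aeval_X]
    have h1 : e x - e₁ x = (e x - (E 1) x) + ((E 1) x - (E 0) x) := by
      rw [h0]; abel
    rw [h1]
    have h2 := hlim 1 x
    have h3 := hstep 0 x
    rw [pow_one] at h2
    rw [zero_add, pow_one] at h3
    exact add_mem h2 h3

/-- Newton iteration for idempotents in an arbitrary ring. -/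
def newton {A : Type*} [Ring A] (a : A) : ℕ → A
  | 0 => a
  | k + 1 => 3 * (newton a k) ^ 2 - 2 * (newton a k) ^ 3

lemma map_newton {A B : Type*} [Ring A] [Ring B] (g : A →+* B) (a : A) (k : ℕ) :
    g (newton a k) = newton (g a) k := by
  induction k with
  | zero => rfl
  | succ k ih =>
    simp only [newton, map_sub, map_mul, map_pow, ih, map_ofNat]

lemma newton_of_idempotent {A : Type*} [Ring A] (a : A) (ha : a * a = a) (k : ℕ) :
    newton a k = a := by
  induction k with
  | zero => rfl
  | succ k ih =>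
    have h2 : a ^ 2 = a := by rw [pow_two, ha]
    have h3 : a ^ 3 = a := by rw [pow_succ, h2, ha]
    simp only [newton, ih, h2, h3]
    noncomm_ring

lemma aeval_fseq (e₁ : Module.End W P) (k : ℕ) : aeval e₁ (fseq W k) = newton e₁ k := by
  induction k with
  | zero => simp [fseq, newton]
  | succ k ih =>
    simp only [fseq, newton, map_sub, map_mul, map_pow, ih, map_ofNat]

/-- Lifting idempotent endomorphisms of an `I`-adically complete module, with the approximating
Newton sequence. -/
theorem exists_idempotent_lift' [IsAdicComplete I P] (e₁ : Module.End W P)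
    (hu : ∀ x, (e₁ * e₁ - e₁) x ∈ (I • ⊤ : Submodule W P)) :
    ∃ e : Module.End W P, (∀ x, e (e x) = e x) ∧ (∀ x, e x - e₁ x ∈ (I • ⊤ : Submodule W P)) ∧
      ∀ n x, e x - (newton e₁ n) x ∈ (I ^ n • ⊤ : Submodule W P) := by
  set E : ℕ → Module.End W P := fun k => aeval e₁ (fseq W k) with hE
  have hstep : ∀ k x, (E (k + 1)) x - (E k) x ∈ (I ^ (k + 1) • ⊤ : Submodule W P) := by
    intro k x
    have h1 : (E (k + 1)) x - (E k) x = (aeval e₁ (fseq W (k + 1) - fseq W k)) x := by
      rw [map_sub]; rfl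
    rw [h1, fseq_succ_sub]
    exact aeval_apply_mem I e₁ hu (k + 1) _ (Dvd.dvd.mul_right (fseq_dvd k) _) x
  have hidem : ∀ k x, (E k) ((E k) x) - (E k) x ∈ (I ^ (k + 1) • ⊤ : Submodule W P) := by
    intro k x
    have h1 : (E k) ((E k) x) - (E k) x = (aeval e₁ ((fseq W k) ^ 2 - fseq W k)) x := by
      rw [map_sub, map_pow, pow_two]; rfl
    rw [h1]
    exact aeval_apply_mem I e₁ hu (k + 1) _ (fseq_dvd k) x
  have hmono : ∀ {a b : ℕ}, a ≤ b → (I ^ b • ⊤ : Submodule W P) ≤ I ^ a • ⊤ := fun hab =>
    Submodule.smul_mono_left (Ideal.pow_le_pow_right hab)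
  have htel : ∀ m n, m ≤ n → ∀ x, (E n) x - (E m) x ∈ (I ^ (m + 1) • ⊤ : Submodule W P) := by
    intro m n hmn x
    induction n, hmn using Nat.le_induction with
    | base => rw [sub_self]; exact zero_mem _
    | succ n hmn ih =>
      have h1 : (E (n + 1)) x - (E m) x = ((E (n + 1)) x - (E n) x) + ((E n) x - (E m) x) := by abel
      rw [h1]
      exact add_mem (hmono (by omega) (hstep n x)) ih
  set F : ∀ n : ℕ, P →ₗ[W] P ⧸ (I ^ n • ⊤ : Submodule W P) :=
    fun n => Submodule.mkQ _ ∘ₗ E n with hF
  have hcompat : ∀ {m n : ℕ} (hle : m ≤ n), Submodule.factorPow I P hle ∘ₗ F n = F m := by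
    intro m n hle
    ext x
    change Submodule.Quotient.mk ((E n) x) = Submodule.Quotient.mk ((E m) x)
    rw [Submodule.Quotient.eq]
    exact hmono (by omega) (htel m n hle x)
  set e : Module.End W P := IsAdicComplete.lift I F hcompat with he
  have hlim : ∀ n x, e x - (E n) x ∈ (I ^ n • ⊤ : Submodule W P) := by
    intro n x
    have h1 := IsAdicComplete.mk_lift I hcompat n x
    change Submodule.Quotient.mk (e x) = Submodule.Quotient.mk ((E n) x) at h1
    rwa [Submodule.Quotient.eq] at h1
  have hmap : ∀ (g : Module.End W P) (k : ℕ) (y : P), y ∈ (I ^ k • ⊤ : Submodule W P) →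
      g y ∈ (I ^ k • ⊤ : Submodule W P) := by
    intro g k y hy
    have h1 : g y ∈ Submodule.map g (I ^ k • ⊤) := Submodule.mem_map_of_mem hy
    rw [Submodule.map_smul''] at h1
    exact Submodule.smul_mono le_rfl le_top h1
  refine ⟨e, ?_, ?_, ?_⟩
  · intro x
    rw [← sub_eq_zero]
    apply IsHausdorff.haus' (I := I)
    intro n
    rw [SModEq.zero]
    have h1 : e (e x) - e x = (e (e x) - (E n) (e x)) + (E n) (e x - (E n) x) +
        ((E n) ((E n) x) - (E n) x) + ((E n) x - e x) := by
      rw [map_sub]; abel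
    rw [h1]
    refine add_mem (add_mem (add_mem (hlim n _) (hmap _ n _ (hlim n x))) ?_) ?_
    · exact hmono (by omega) (hidem n x)
    · have := hlim n x
      rw [← neg_sub]
      exact neg_mem this
  · intro x
    have h0 : (E 0) x = e₁ x := by
      change (aeval e₁ (X : Polynomial W)) x = _
      rw [aeval_X]
    have h1 : e x - e₁ x = (e x - (E 1) x) + ((E 1) x - (E 0) x) := by
      rw [h0]; abel
    rw [h1]
    have h2 := hlim 1 x
    have h3 := hstep 0 x
    rw [pow_one] at h2
    rw [zero_add, pow_one] at h3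
    exact add_mem h2 h3
  · intro n x
    rw [← aeval_fseq]
    exact hlim n x

end idem

end Groth.Agent.Lib.Helper75.CompleteProjective
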