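import Mathlib
import Groth.Agent.Lib.Helper75.CompleteProjective

/-!
# Finiteness and exactness for adic completions of (not necessarily finite) modules

* `finite_adicCompletion_of_finite_quot`: if `A` is `I`-adically complete and `M / I M` is finite
  then the completion of `M` is a finite `A`-module.
* `isAdicComplete_of_finite`: finite modules over a complete Noetherian local ring are complete.
* `range_map_eq_ker_map`: if `M → N → P → 0` is exact and the completion of `N` is finite over the
  Noetherian local ring `A`, then the completed sequence is exact in the middle.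
* `finite_quot_kaehler`: `Ω_{A/k} / m Ω_{A/k}` is finite when `m` is f.g. and `Ω_{K/k}` is finite.
-/

set_option autoImplicit false
universe u v w

namespace Groth.Agent.Lib.Helper75.CompletedModules

open Submodule

section Finite

variable {A : Type u} [CommRing A] (I : Ideal A) (M : Type v) [AddCommGroup M] [Module A M]

theorem finite_adicCompletion_of_finite_quot [IsAdicComplete I A]
    [Module.Finite A (M ⧸ (I • ⊤ : Submodule A M))] :
    Module.Finite A (AdicCompletion I M) := by
  obtain ⟨n, s, hs⟩ := Module.Finite.exists_fin (R := A) (M := M ⧸ (I • ⊤ : Submodule A M))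
  choose ω hω using fun i => Submodule.mkQ_surjective _ (s i)
  let f : (Fin n → A) →ₗ[A] M := Fintype.linearCombination A ω
  have hf : Function.Surjective ((I • ⊤ : Submodule A M).mkQ ∘ₗ f) := by
    rw [← LinearMap.range_eq_top, LinearMap.range_comp, Fintype.range_linearCombination,
      Submodule.map_span, ← Set.range_comp]
    have : (⇑(I • ⊤ : Submodule A M).mkQ ∘ ω) = s := funext hω
    rw [this, hs]
  have h3 := AdicCompletion.map_surjective_of_mkQ_comp_surjective hf
  have : IsAdicComplete I (Fin n → A) :=
    Groth.Agent.Lib.Helper75.CompleteProjective.isAdicComplete_pi I n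
  have h4 := AdicCompletion.of_surjective I (Fin n → A)
  exact Module.Finite.of_surjective
    (((AdicCompletion.map I f).restrictScalars A) ∘ₗ AdicCompletion.of I (Fin n → A)) (h3.comp h4)

theorem isPrecomplete_of_finite [IsAdicComplete I A] [Module.Finite A M] : IsPrecomplete I M := by
  rw [← AdicCompletion.of_surjective_iff]
  obtain ⟨n, p, hp⟩ := Module.Finite.exists_fin' A M
  have : IsAdicComplete I (Fin n → A) :=
    Groth.Agent.Lib.Helper75.CompleteProjective.isAdicComplete_pi I n
  intro y
  obtain ⟨x, rfl⟩ := AdicCompletion.map_surjective I hp y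
  obtain ⟨x, rfl⟩ := AdicCompletion.of_surjective I (Fin n → A) x
  exact ⟨p x, (AdicCompletion.map_of I p x).symm⟩

theorem isAdicComplete_of_finite [IsNoetherianRing A] [IsLocalRing A]
    [IsAdicComplete (IsLocalRing.maximalIdeal A) A] [Module.Finite A M] :
    IsAdicComplete (IsLocalRing.maximalIdeal A) M :=
  { toIsHausdorff := inferInstance
    toIsPrecomplete := isPrecomplete_of_finite _ M }

end Finite

section Exact

variable {A : Type u} [CommRing A] [IsNoetherianRing A] [IsLocalRing A]
  {M : Type v} {N : Type v} {P : Type v} [AddCommGroup M] [Module A M] [AddCommGroup N] [Module A N]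
  [AddCommGroup P] [Module A P]

theorem range_map_eq_ker_map (u : M →ₗ[A] N) (v : N →ₗ[A] P) (huv : Function.Exact u v)
    (hv : Function.Surjective v)
    [Module.Finite A (AdicCompletion (IsLocalRing.maximalIdeal A) N)] :
    LinearMap.range (AdicCompletion.map (IsLocalRing.maximalIdeal A) u) =
      LinearMap.ker (AdicCompletion.map (IsLocalRing.maximalIdeal A) v) := by
  set I := IsLocalRing.maximalIdeal A with hI
  have hIfg : I.FG := (isNoetherianRing_iff_ideal_fg A).mp inferInstance I
  apply le_antisymm
  · rintro _ ⟨x, rfl⟩
    have : v ∘ₗ u = 0 := by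
      ext m
      exact huv.apply_apply_eq_zero m
    rw [LinearMap.mem_ker, AdicCompletion.map_comp_apply, this, AdicCompletion.map_zero,
      LinearMap.zero_apply]
  · intro y hy
    rw [LinearMap.mem_ker] at hy
    set W : Submodule A (AdicCompletion I N) :=
      (LinearMap.range (AdicCompletion.map I u)).restrictScalars A with hW
    -- the quotient is Hausdorff
    have hH : IsHausdorff I (AdicCompletion I N ⧸ W) := inferInstance
    have key : ∀ n : ℕ, ∃ w : M, y - AdicCompletion.map I u (AdicCompletion.of I M w) ∈
        (I ^ n • ⊤ : Submodule A (AdicCompletion I N)) := by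
      intro n
      obtain ⟨x, hx⟩ := Submodule.mkQ_surjective _ (AdicCompletion.eval I N n y)
      have h1 : (I ^ n • ⊤ : Submodule A P).mkQ (v x) = 0 := by
        have h2 : AdicCompletion.eval I P n (AdicCompletion.map I v y) = 0 := by rw [hy, map_zero]
        rw [AdicCompletion.eval_apply, AdicCompletion.map_val_apply] at h2
        have h3 : y.val n = (I ^ n • ⊤ : Submodule A N).mkQ x := hx.symm
        rw [h3] at h2
        exact h2
      have h4 : v x ∈ (I ^ n • ⊤ : Submodule A P) := by
        rwa [Submodule.mkQ_apply, Submodule.Quotient.mk_eq_zero] at h1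
      have h5 : (I ^ n • ⊤ : Submodule A P) = Submodule.map v (I ^ n • ⊤) := by
        rw [Submodule.map_smul'', Submodule.map_top, LinearMap.range_eq_top.mpr hv]
      rw [h5] at h4
      obtain ⟨z, hz, hzx⟩ := h4
      have h6 : v (x - z) = 0 := by rw [map_sub, hzx, sub_self]
      obtain ⟨w, hw⟩ := (huv (x - z)).mp h6
      refine ⟨w, ?_⟩
      rw [AdicCompletion.pow_smul_top_eq_ker_eval hIfg, LinearMap.mem_ker, map_sub,
        AdicCompletion.map_of, AdicCompletion.eval_of, hw, ← hx, ← map_sub]
      rw [Submodule.mkQ_apply, Submodule.Quotient.mk_eq_zero]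
      simpa using hz
    have h0 : W.mkQ y = 0 := by
      apply hH.haus
      intro n
      rw [SModEq.zero]
      obtain ⟨w, hw⟩ := key n
      have h7 : W.mkQ y = W.mkQ (y - AdicCompletion.map I u (AdicCompletion.of I M w)) := by
        rw [map_sub]
        have : W.mkQ (AdicCompletion.map I u (AdicCompletion.of I M w)) = 0 := by
          rw [Submodule.mkQ_apply, Submodule.Quotient.mk_eq_zero]
          exact ⟨_, rfl⟩
        rw [this, sub_zero]
      rw [h7]
      have h8 : W.mkQ (y - AdicCompletion.map I u (AdicCompletion.of I M w)) ∈
          Submodule.map W.mkQ (I ^ n • ⊤) := Submodule.mem_map_of_mem hw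
      rwa [Submodule.map_smul'', Submodule.map_top, Submodule.range_mkQ] at h8
    rw [Submodule.mkQ_apply, Submodule.Quotient.mk_eq_zero] at h0
    exact h0

end Exact

section Kaehler

open TensorProduct

variable (k : Type u) (A : Type v) [CommRing k] [CommRing A] [IsLocalRing A] [Algebra k A]

theorem finite_quot_kaehler (hm : (IsLocalRing.maximalIdeal A).FG)
    [Module.Finite (IsLocalRing.ResidueField A) (Ω[IsLocalRing.ResidueField A⁄k])] :
    Module.Finite A ((Ω[A⁄k]) ⧸ (IsLocalRing.maximalIdeal A • ⊤ : Submodule A (Ω[A⁄k]))) := by
  have hsurj : Function.Surjective (algebraMap A (IsLocalRing.ResidueField A)) :=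
    Ideal.Quotient.mk_surjective
  have h1 : Module.Finite A ((IsLocalRing.ResidueField A) ⊗[A] Ω[A⁄k]) := by
    have : Module.Finite A (IsLocalRing.ResidueField A) :=
      Module.Finite.of_surjective (Algebra.linearMap A (IsLocalRing.ResidueField A)) hsurj
    have : Module.Finite A (Ω[IsLocalRing.ResidueField A⁄k]) :=
      Module.Finite.trans (IsLocalRing.ResidueField A) _
    have hker : RingHom.ker (algebraMap A (IsLocalRing.ResidueField A)) =
        IsLocalRing.maximalIdeal A := IsLocalRing.ker_residue
    have : Module.Finite A (RingHom.ker (algebraMap A (IsLocalRing.ResidueField A))) := by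
      rw [hker]
      exact Module.Finite.iff_fg.mpr hm
    have : Module.Finite A (RingHom.ker (algebraMap A (IsLocalRing.ResidueField A))).Cotangent :=
      Module.Finite.of_surjective (RingHom.ker (algebraMap A (IsLocalRing.ResidueField A))).toCotangent
        (Ideal.toCotangent_surjective _)
    exact Module.Finite.of_exact
      (f := KaehlerDifferential.kerCotangentToTensor k A (IsLocalRing.ResidueField A))
      (g := (KaehlerDifferential.mapBaseChange k A (IsLocalRing.ResidueField A)).restrictScalars A)
      (KaehlerDifferential.exact_kerCotangentToTensor_mapBaseChange k A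
        (IsLocalRing.ResidueField A) hsurj)
      (KaehlerDifferential.mapBaseChange_surjective k A (IsLocalRing.ResidueField A) hsurj)
  have : Module.Finite A ((A ⧸ IsLocalRing.maximalIdeal A) ⊗[A] Ω[A⁄k]) := h1
  exact Module.Finite.equiv
    (TensorProduct.quotTensorEquivQuotSMul (Ω[A⁄k]) (IsLocalRing.maximalIdeal A))

end Kaehler

end Groth.Agent.Lib.Helper75.CompletedModules
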