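import Groth.Agent.Lib.Helper75.HomologyFilteredColim
import Mathlib.Algebra.Category.ModuleCat.Adjunctions
import Mathlib.Algebra.Category.ModuleCat.Projective
import Mathlib.CategoryTheory.Abelian.Projective.Resolution
import Mathlib.CategoryTheory.Limits.Preserves.Filtered

/-!
# A functorial free resolution of modules, commuting with filtered colimits
-/

set_option autoImplicit false
universe u
open CategoryTheory Limits

namespace Groth.Agent.Lib.Helper75

variable {A : Type u} [Ring A]

/-- the free module on the underlying set of a module, as a functor -/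
noncomputable def freeOn : ModuleCat.{u} A ⥤ ModuleCat.{u} A :=
  forget (ModuleCat.{u} A) ⋙ ModuleCat.free A

/-- the canonical map `A^(N) ⟶ N` -/
noncomputable def freeOnε : (freeOn : ModuleCat.{u} A ⥤ ModuleCat.{u} A) ⟶ 𝟭 _ :=
  (ModuleCat.adj A).counit

theorem freeOnε_freeMk (N : ModuleCat.{u} A) (n : N) :
    (freeOnε.app N).hom
      (ModuleCat.freeMk (R := A) (X := (forget (ModuleCat.{u} A)).obj N) n) = n := by
  unfold freeOnε
  simp [ModuleCat.adj, Adjunction.mkOfHomEquiv]
  exact (ModuleCat.freeDesc_apply _ _).trans rfl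

theorem freeOnε_surjective (N : ModuleCat.{u} A) : Function.Surjective (freeOnε.app N).hom :=
  fun n => ⟨_, freeOnε_freeMk N n⟩

instance freeOnε_epi (N : ModuleCat.{u} A) : Epi (freeOnε.app N) :=
  (ModuleCat.epi_iff_surjective _).mpr (freeOnε_surjective N)

instance freeOn_projective (N : ModuleCat.{u} A) : Projective (freeOn.obj N) := by
  change Projective (ModuleCat.of A (((forget (ModuleCat.{u} A)).obj N) →₀ A))
  exact ModuleCat.projective_of_free (Finsupp.basisSingleOne)

theorem freeOnε_naturality_apply {N N' : ModuleCat.{u} A} (f : N ⟶ N') (x : freeOn.obj N) :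
    (freeOnε.app N').hom ((freeOn.map f).hom x) = f.hom ((freeOnε.app N).hom x) :=
  mc_sq_app (freeOnε.naturality f) x

/-- the first syzygy functor: the kernel of `A^(N) ⟶ N` -/
noncomputable def syz : ModuleCat.{u} A ⥤ ModuleCat.{u} A where
  obj N := ModuleCat.of A (LinearMap.ker (freeOnε.app N).hom)
  map {N N'} f := ModuleCat.ofHom ((freeOn.map f).hom.restrict (fun x hx => by
    rw [LinearMap.mem_ker] at hx ⊢
    rw [freeOnε_naturality_apply, hx, map_zero]))
  map_id N := by
    ext x
    change (freeOn.map (𝟙 N)).hom x.1 = x.1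
    rw [freeOn.map_id]
    rfl
  map_comp f g := by
    ext x
    change (freeOn.map (f ≫ g)).hom x.1 = (freeOn.map g).hom ((freeOn.map f).hom x.1)
    rw [freeOn.map_comp]
    rfl

/-- the inclusion of the syzygy -/
noncomputable def syzι : (syz : ModuleCat.{u} A ⥤ ModuleCat.{u} A) ⟶ freeOn where
  app N := ModuleCat.ofHom (LinearMap.ker (freeOnε.app N).hom).subtype
  naturality {N N'} f := by
    ext x
    rfl

theorem syzι_injective (N : ModuleCat.{u} A) : Function.Injective (syzι.app N).hom :=
  Subtype.val_injective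

instance syzι_mono (N : ModuleCat.{u} A) : Mono (syzι.app N) :=
  (ModuleCat.mono_iff_injective _).mpr (syzι_injective N)

theorem syzι_freeOnε (N : ModuleCat.{u} A) : syzι.app N ≫ freeOnε.app N = 0 := by
  ext x
  exact x.2

theorem syzι_freeOnε_apply (N : ModuleCat.{u} A) (x : syz.obj N) :
    (freeOnε.app N).hom ((syzι.app N).hom x) = 0 := x.2

theorem exists_syz_of_freeOnε_eq_zero (N : ModuleCat.{u} A) (y : freeOn.obj N)
    (hy : (freeOnε.app N).hom y = 0) : ∃ x : syz.obj N, (syzι.app N).hom x = y :=
  ⟨⟨y, hy⟩, rfl⟩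

/-- one step of the resolution: `A^(ΩY) ⟶ ΩY ⟶ A^(Y)` -/
noncomputable def stepD (Y : ModuleCat.{u} A) : freeOn.obj (syz.obj Y) ⟶ freeOn.obj Y :=
  freeOnε.app (syz.obj Y) ≫ syzι.app Y

theorem stepD_apply (Y : ModuleCat.{u} A) (x : freeOn.obj (syz.obj Y)) :
    (stepD Y).hom x = (syzι.app Y).hom ((freeOnε.app (syz.obj Y)).hom x) := rfl

theorem stepD_comp (Y : ModuleCat.{u} A) : stepD (syz.obj Y) ≫ stepD Y = 0 := by
  unfold stepD
  rw [Category.assoc, reassoc_of% (syzι_freeOnε (syz.obj Y)), zero_comp, comp_zero]

theorem stepD_freeOnε (Y : ModuleCat.{u} A) : stepD Y ≫ freeOnε.app Y = 0 := by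
  unfold stepD
  rw [Category.assoc, syzι_freeOnε, comp_zero]

theorem stepD_exact (Y : ModuleCat.{u} A) :
    (ShortComplex.mk (stepD (syz.obj Y)) (stepD Y) (stepD_comp Y)).Exact := by
  rw [ShortComplex.moduleCat_exact_iff]
  intro x hx
  have hx' : (syzι.app Y).hom ((freeOnε.app (syz.obj Y)).hom x) = 0 := hx
  have h0 : (freeOnε.app (syz.obj Y)).hom x = 0 :=
    syzι_injective _ (by rw [hx', map_zero])
  obtain ⟨y, hy⟩ := exists_syz_of_freeOnε_eq_zero (syz.obj Y) x h0
  obtain ⟨z, hz⟩ := freeOnε_surjective (syz.obj (syz.obj Y)) y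
  refine ⟨z, ?_⟩
  change (syzι.app (syz.obj Y)).hom ((freeOnε.app (syz.obj (syz.obj Y))).hom z) = x
  rw [hz, hy]

theorem stepD_freeOnε_exact (Y : ModuleCat.{u} A) :
    (ShortComplex.mk (stepD Y) (freeOnε.app Y) (stepD_freeOnε Y)).Exact := by
  rw [ShortComplex.moduleCat_exact_iff]
  intro x hx
  obtain ⟨y, hy⟩ := exists_syz_of_freeOnε_eq_zero Y x hx
  obtain ⟨z, hz⟩ := freeOnε_surjective (syz.obj Y) y
  refine ⟨z, ?_⟩
  change (syzι.app Y).hom ((freeOnε.app (syz.obj Y)).hom z) = x
  rw [hz, hy]

/-- iterated syzygies -/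
noncomputable def syzPow : ℕ → (ModuleCat.{u} A ⥤ ModuleCat.{u} A)
  | 0 => 𝟭 _
  | n + 1 => syzPow n ⋙ syz

/-- the terms of the functorial resolution -/
noncomputable abbrev resX (N : ModuleCat.{u} A) (n : ℕ) : ModuleCat.{u} A :=
  freeOn.obj ((syzPow n).obj N)

/-- the differentials of the functorial resolution -/
noncomputable def resD (N : ModuleCat.{u} A) (n : ℕ) : resX N (n + 1) ⟶ resX N n :=
  stepD ((syzPow n).obj N)

theorem resD_comp (N : ModuleCat.{u} A) (n : ℕ) : resD N (n + 1) ≫ resD N n = 0 :=
  stepD_comp ((syzPow n).obj N)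

/-- the functorial free resolution, as a complex -/
noncomputable def resCx (N : ModuleCat.{u} A) : ChainComplex (ModuleCat.{u} A) ℕ :=
  ChainComplex.of (resX N) (resD N) (resD_comp N)

theorem resD_exact (N : ModuleCat.{u} A) (n : ℕ) :
    (ShortComplex.mk (resD N (n + 1)) (resD N n) (resD_comp N n)).Exact :=
  stepD_exact ((syzPow n).obj N)

theorem stepD_naturality {Y Y' : ModuleCat.{u} A} (g : Y ⟶ Y') :
    freeOn.map (syz.map g) ≫ stepD Y' = stepD Y ≫ freeOn.map g := by
  unfold stepD
  have h1 := freeOnε.naturality (syz.map g)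
  have h2 := syzι.naturality g
  simp only [Functor.id_map] at h1
  rw [reassoc_of% h1, h2, Category.assoc]

/-- the functorial free resolution, as a functor to chain complexes -/
noncomputable def res : ModuleCat.{u} A ⥤ ChainComplex (ModuleCat.{u} A) ℕ where
  obj N := resCx N
  map {N N'} f := ChainComplex.ofHom (X := resCx N) (Y := resCx N')
    (fun n => freeOn.map ((syzPow n).map f))
    (fun n => by
      change _ ≫ ChainComplex.of.d (resX N') (resD N') (n + 1) n =
        ChainComplex.of.d (resX N) (resD N) (n + 1) n ≫ _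
      rw [ChainComplex.of_d, ChainComplex.of_d]
      exact stepD_naturality ((syzPow n).map f))
  map_id N := by
    ext n
    simp [resCx]
  map_comp f g := by
    ext n
    simp [resCx]

theorem res_map_f {N N' : ModuleCat.{u} A} (f : N ⟶ N') (n : ℕ) :
    (res.map f).f n = freeOn.map ((syzPow n).map f) := by
  simp [res, resCx]

theorem resCx_d_one_zero (N : ModuleCat.{u} A) : (resCx N).d 1 0 = stepD N := by
  change ChainComplex.of.d (resX N) (resD N) (0 + 1) 0 = _
  rw [ChainComplex.of_d]
  rfl

theorem resCx_exactAt_succ (N : ModuleCat.{u} A) (n : ℕ) : (resCx N).ExactAt (n + 1) := by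
  rw [HomologicalComplex.exactAt_iff' _ (n + 1 + 1) (n + 1) n (by simp) (by simp)]
  simp only [HomologicalComplex.sc', HomologicalComplex.shortComplexFunctor', resCx,
    ChainComplex.of_d]
  exact resD_exact N n

instance resCx_projective (N : ModuleCat.{u} A) (n : ℕ) : Projective ((resCx N).X n) :=
  freeOn_projective _

/-- the augmentation of the functorial resolution -/
noncomputable def resπ (N : ModuleCat.{u} A) :
    resCx N ⟶ (ChainComplex.single₀ (ModuleCat.{u} A)).obj N :=
  (ChainComplex.toSingle₀Equiv _ _).symm ⟨freeOnε.app N, by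
    rw [resCx_d_one_zero]
    exact stepD_freeOnε N⟩

set_option backward.isDefEq.respectTransparency false in
theorem resπ_f_zero (N : ModuleCat.{u} A) : (resπ N).f 0 = freeOnε.app N := by
  simp [resπ, ChainComplex.toSingle₀Equiv]

/-- the functorial free resolution is a projective resolution -/
noncomputable def resProj (N : ModuleCat.{u} A) : ProjectiveResolution N where
  complex := resCx N
  π := resπ N
  quasiIso := ⟨fun n => by
    cases n
    · rw [ChainComplex.quasiIsoAt₀_iff, ShortComplex.quasiIso_iff_of_zeros']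
      · refine (ShortComplex.exact_and_epi_g_iff_of_iso ?_).2
          ⟨stepD_freeOnε_exact N, by dsimp; infer_instance⟩
        exact ShortComplex.isoMk (Iso.refl _) (Iso.refl _) (Iso.refl _)
          (by
            simp only [Iso.refl_hom]
            exact (Category.id_comp (stepD N)).trans (Category.comp_id (stepD N)).symm)
          (by
            simp only [Iso.refl_hom]
            exact (Category.id_comp (freeOnε.app N)).trans
              (Category.comp_id (freeOnε.app N)).symm)
      all_goals rfl
    · rw [quasiIsoAt_iff_exactAt']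
      · apply resCx_exactAt_succ
      · apply ChainComplex.exactAt_succ_single_obj⟩

theorem res_map_π {N N' : ModuleCat.{u} A} (f : N ⟶ N') :
    (res.map f).f 0 ≫ (resProj N').π.f 0 = (resProj N).π.f 0 ≫ f := by
  change (res.map f).f 0 ≫ (resπ N').f 0 = (resπ N).f 0 ≫ f
  rw [resπ_f_zero, resπ_f_zero, res_map_f]
  exact freeOnε.naturality f

section colimits

variable {J : Type u} [SmallCategory J] [IsFiltered J]

instance freeOn_preservesFilteredColimits :
    PreservesColimitsOfShape J (freeOn : ModuleCat.{u} A ⥤ ModuleCat.{u} A) := by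
  unfold freeOn
  have h1 : PreservesColimitsOfShape J (forget (ModuleCat.{u} A)) :=
    PreservesFilteredColimitsOfSize.preserves_filtered_colimits J
  have h2 : PreservesColimitsOfShape J (ModuleCat.free A) :=
    (ModuleCat.adj A).leftAdjoint_preservesColimits.preservesColimitsOfShape
  exact comp_preservesColimitsOfShape _ _

theorem syz_preservesFilteredColimits :
    PreservesColimitsOfShape J (syz : ModuleCat.{u} A ⥤ ModuleCat.{u} A) := by
  constructor
  intro K
  apply preservesColimit_of_preserves_colimit_cocone (colimit.isColimit K)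
  have hF : IsColimit (freeOn.mapCocone (colimit.cocone K)) :=
    isColimitOfPreserves _ (colimit.isColimit K)
  apply mc_isColimitOfElementwise
  · intro x
    -- x ∈ syz (colimit K) ⊆ freeOn (colimit K)
    obtain ⟨j, y, hy⟩ := mc_exists_rep hF ((syzι.app (colimit K)).hom x)
    have hy' : (freeOn.map (colimit.ι K j)).hom y = (syzι.app (colimit K)).hom x := hy
    have h0 : (colimit.ι K j).hom ((freeOnε.app (K.obj j)).hom y) = 0 := by
      rw [← freeOnε_naturality_apply, hy']
      exact syzι_freeOnε_apply _ x
    obtain ⟨k, f, hf⟩ := mc_eq_zero_stage (colimit.isColimit K) _ h0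
    have h1 : (freeOnε.app (K.obj k)).hom ((freeOn.map (K.map f)).hom y) = 0 := by
      rw [freeOnε_naturality_apply]
      exact hf
    obtain ⟨z, hz⟩ := exists_syz_of_freeOnε_eq_zero _ _ h1
    refine ⟨k, z, ?_⟩
    apply syzι_injective
    change (syzι.app (colimit K)).hom ((syz.map (colimit.ι K k)).hom z) = _
    rw [mc_sq_app (syzι.naturality (colimit.ι K k)) z, hz]
    have := congrArg (fun φ : K.obj j ⟶ colimit K => (freeOn.map φ).hom y) (colimit.w K f)
    simp only [Functor.map_comp] at this
    exact this.trans hy'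
  · intro j y hy
    have hy' : (syz.map (colimit.ι K j)).hom y = 0 := hy
    have h0 : (freeOn.map (colimit.ι K j)).hom ((syzι.app (K.obj j)).hom y) = 0 := by
      rw [← mc_sq_app (syzι.naturality (colimit.ι K j)) y, hy', map_zero]
    obtain ⟨k, f, hf⟩ := mc_eq_zero_stage hF _ h0
    refine ⟨k, f, ?_⟩
    apply syzι_injective
    change (syzι.app (K.obj k)).hom ((syz.map (K.map f)).hom y) = _
    rw [mc_sq_app (syzι.naturality (K.map f)) y, map_zero]
    exact hf

theorem syzPow_preservesFilteredColimits (n : ℕ) :
    PreservesColimitsOfShape J (syzPow n : ModuleCat.{u} A ⥤ ModuleCat.{u} A) := by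
  induction n with
  | zero =>
    change PreservesColimitsOfShape J (𝟭 (ModuleCat.{u} A))
    infer_instance
  | succ n ih =>
    change PreservesColimitsOfShape J (syzPow n ⋙ syz)
    have := syz_preservesFilteredColimits (A := A) (J := J)
    exact comp_preservesColimitsOfShape _ _

theorem res_preservesFilteredColimits :
    PreservesColimitsOfShape J (res : ModuleCat.{u} A ⥤ ChainComplex (ModuleCat.{u} A) ℕ) := by
  apply HomologicalComplex.preservesColimitsOfShape_of_eval
  intro n
  have e : res ⋙ HomologicalComplex.eval _ _ n ≅ syzPow n ⋙ freeOn (A := A) :=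
    NatIso.ofComponents (fun M => Iso.refl _) (fun {M M'} f => by
      have h : (res ⋙ HomologicalComplex.eval _ _ n).map f = (syzPow n ⋙ freeOn).map f :=
        res_map_f f n
      rw [h]
      exact (Category.comp_id _).trans (Category.id_comp _).symm)
  have h1 := syzPow_preservesFilteredColimits (A := A) (J := J) n
  have h2 : PreservesColimitsOfShape J (syzPow n ⋙ freeOn (A := A)) :=
    comp_preservesColimitsOfShape _ _
  exact preservesColimitsOfShape_of_natIso e.symm

end colimits

end Groth.Agent.Lib.Helper75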