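import Groth.Agent.Lib.Helper17.HZero
import Mathlib.LinearAlgebra.Dimension.Finrank
import Mathlib.LinearAlgebra.FiniteDimensional.Basic

set_option autoImplicit false
universe u
open CategoryTheory CategoryTheory.Limits AlgebraicGeometry TopologicalSpace Opposite

namespace Groth.Agent.Lib.Helper75.H0k

/-- If `H^0(X, O_X)` is one-dimensional over the field `k`, then `k → Γ(X, O_X)` is surjective. -/
theorem appTop_surjective_of_finrank_eq_one (k : Type u) [Field k] (X : Scheme.{u})
    [X.Over (Spec (CommRingCat.of k))]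
    (h0 : Module.finrank k (Coh.HH X (Coh.structureModule X) 0) = 1) :
    Function.Surjective (X ↘ Spec (CommRingCat.of k)).appTop.hom := by
  let e := Groth.Agent.Lib.Helper17.HZero.hh0Equiv (Coh.structureModule X)
  obtain ⟨v, -, hv⟩ := finrank_eq_one_iff'.mp h0
  let tg : k →+* Coh.Γtop X := Coh.toGlobal (X ↘ Spec (CommRingCat.of k))
  let V : Coh.Γtop X := e v
  have key : ∀ W : Coh.Γtop X, ∃ c : k, tg c * V = W := by
    intro W
    obtain ⟨c, hc⟩ := hv (e.symm W)
    refine ⟨c, ?_⟩
    have h1 : c • v = (tg c) • v := rfl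
    have h2 := Groth.Agent.Lib.Helper17.HZero.hh0Equiv_smul (Coh.structureModule X) (tg c) v
    have h3 : e (c • v) = W := by rw [hc]; exact e.apply_symm_apply W
    rw [h1] at h3
    rw [← h3]
    exact h2.symm
  obtain ⟨c₁, hc₁⟩ := key 1
  have hcomm : ∀ a b : Coh.Γtop X, a * b = b * a := by
    intro a b
    have h := @mul_comm (Γ(X, ⊤)) _ a b
    exact h
  have hsurj : Function.Surjective tg := by
    intro W
    obtain ⟨c, hc⟩ := key (W * V)
    refine ⟨c, ?_⟩
    have : tg c * V * tg c₁ = W * V * tg c₁ := by rw [hc]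
    rw [mul_assoc, mul_assoc, hcomm V, hc₁, mul_one, mul_one] at this
    exact this
  intro W
  obtain ⟨c, hc⟩ := hsurj W
  exact ⟨_, hc⟩

end Groth.Agent.Lib.Helper75.H0k
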