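import Groth.Agent.Lib.Helper75.RigGenOver

/-!
# Abelian schemes over an arbitrary base: consequences of rigidity (helper75)

An "abelian scheme" here is `X : Over S` with `[GrpObj X]`, `X.hom` proper, flat, locally of finite
presentation with geometrically connected and geometrically reduced fibres.

* `isMonHom_of_one`: a morphism of `S`-schemes from an abelian scheme to a separated `S`-group
  scheme preserving the unit is a homomorphism;
* `isCommMonObj`: abelian schemes are commutative.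
-/

set_option autoImplicit false
universe u
open CategoryTheory MonoidalCategory CartesianMonoidalCategory MonObj GrpObj AlgebraicGeometry Topology

namespace Groth.Agent.Lib.Helper75.RigGenGrp

open Groth.Agent.Lib.Helper75.RigMain

variable {S : Scheme.{u}}

/-- the abelian-scheme hypotheses give `κ(s) = H⁰(X_s, O)` -/
theorem fibH0 (X : Over S) [IsProper X.hom] [GeometricallyConnected X.hom]
    [GeometricallyReduced X.hom] (s : S) : FibH0 X.hom s :=
  RigGeom.fibH0_of_geometricallyConnected X.hom s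

/-- a morphism `F : X × Y → G` which is trivial on `X × e` for a section `e` meeting every fibre of
a family `Y → S` with connected fibres factors through `Y`. -/
theorem exists_factor_snd_of_section (X Y G : Over S) [IsProper X.hom] [Flat X.hom]
    [LocallyOfFinitePresentation X.hom] [GeometricallyConnected X.hom] [GeometricallyReduced X.hom]
    [IsSeparated G.hom] (hconn : ∀ s : S, _root_.IsPreconnected (Y.hom ⁻¹' {s}))
    (F : X ⊗ Y ⟶ G) (e : 𝟙_ (Over S) ⟶ Y) (σ : 𝟙_ (Over S) ⟶ G)
    (hσ : (X ◁ e) ≫ F = toUnit _ ≫ σ) : ∃ h : Y ⟶ G, F = snd X Y ≫ h := by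
  have h0' : ∀ s : S, FibH0 X.hom s := fibH0 X
  have hmem := RigOver.mem_collapsedY_of_section X Y G F e σ hσ
  have hclopen := RigGenOver.isClopen_collapsedY X Y G h0' F
  have huniv : RigOver.collapsedY X Y G F = Set.univ := by
    rw [Set.eq_univ_iff_forall]
    intro y
    have hsec : Y.hom.base (e.left.base (Y.hom.base y)) = Y.hom.base y := by
      rw [← Scheme.Hom.comp_apply, Over.w e]
      rfl
    have hsub := (hconn (Y.hom.base y)).subset_isClopen hclopen
      ⟨e.left.base (Y.hom.base y), hsec, hmem (Y.hom.base y)⟩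
    exact hsub rfl
  exact RigGenOver.exists_factor_snd_of_univ X Y G h0' F huniv

theorem isMonHom_of_one (X G : Over S) [GrpObj X] [GrpObj G] [IsProper X.hom] [Flat X.hom]
    [LocallyOfFinitePresentation X.hom] [GeometricallyConnected X.hom] [GeometricallyReduced X.hom]
    [IsSeparated G.hom] (f : X ⟶ G) (hf : η[X] ≫ f = η[G]) : IsMonHom f := by
  have hconn : ∀ s : S, _root_.IsPreconnected (X.hom ⁻¹' {s}) := fun s =>
    (X.hom.isConnected_preimage_singleton s).isPreconnected
  -- the obstruction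
  let F : X ⊗ X ⟶ G := ((fst X X * snd X X) ≫ f) * (snd X X ≫ f)⁻¹ * (fst X X ≫ f)⁻¹
  have hσ : (X ◁ η[X]) ≫ F = toUnit _ ≫ η[G] := by
    have e1 : (X ◁ η[X]) ≫ fst X X = fst X (𝟙_ (Over S)) := whiskerLeft_fst _ _
    have e2 : (X ◁ η[X]) ≫ snd X X = snd X (𝟙_ (Over S)) ≫ η[X] := whiskerLeft_snd _ _
    have e3 : snd X (𝟙_ (Over S)) ≫ η[X] = (1 : X ⊗ 𝟙_ (Over S) ⟶ X) := by
      rw [Hom.one_def]
      congr 1
      exact toUnit_unique _ _
    have e4 : (snd X (𝟙_ (Over S)) ≫ η[X]) ≫ f = (1 : X ⊗ 𝟙_ (Over S) ⟶ G) := by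
      rw [Category.assoc, hf, Hom.one_def]
      congr 1
      exact toUnit_unique _ _
    show (X ◁ η[X]) ≫ (((fst X X * snd X X) ≫ f) * (snd X X ≫ f)⁻¹ * (fst X X ≫ f)⁻¹) = _
    rw [comp_mul, comp_mul, GrpObj.comp_inv, GrpObj.comp_inv, ← Category.assoc, comp_mul,
      ← Category.assoc (X ◁ η[X]) (snd X X), ← Category.assoc (X ◁ η[X]) (fst X X), e1, e2, e4, e3,
      _root_.mul_one, inv_one, _root_.mul_one, mul_inv_cancel, Hom.one_def]
  obtain ⟨h, hh⟩ := exists_factor_snd_of_section X X G hconn F η[X] η[G] hσ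
  -- `h = 1`
  have hh1 : h = 1 := by
    let j : X ⟶ X ⊗ X := lift (toUnit X ≫ η[X]) (𝟙 X)
    have j1 : j ≫ fst X X = (1 : X ⟶ X) := by
      rw [lift_fst, Hom.one_def]
    have j2 : j ≫ snd X X = 𝟙 X := lift_snd _ _
    have e5 : (1 : X ⟶ X) ≫ f = (1 : X ⟶ G) := by
      rw [Hom.one_def, Category.assoc, hf, Hom.one_def]
    have h1 : j ≫ F = h := by
      rw [hh, ← Category.assoc, j2, Category.id_comp]
    rw [← h1]
    show j ≫ (((fst X X * snd X X) ≫ f) * (snd X X ≫ f)⁻¹ * (fst X X ≫ f)⁻¹) = 1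
    rw [comp_mul, comp_mul, GrpObj.comp_inv, GrpObj.comp_inv, ← Category.assoc, comp_mul,
      ← Category.assoc j (snd X X), ← Category.assoc j (fst X X), j1, j2, e5, _root_.one_mul,
      Category.id_comp, mul_inv_cancel, inv_one, _root_.mul_one]
  have hF1 : F = 1 := by
    rw [hh, hh1, MonObj.comp_one]
  have hmain : (fst X X * snd X X) ≫ f = (fst X X ≫ f) * (snd X X ≫ f) := by
    have h2 : ((fst X X * snd X X) ≫ f) * (snd X X ≫ f)⁻¹ * (fst X X ≫ f)⁻¹ = 1 := hF1
    have h3 := mul_inv_eq_one.mp h2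
    exact mul_inv_eq_iff_eq_mul.mp h3
  refine ⟨hf, ?_⟩
  rw [MonObj.mul_eq_mul X, hmain, MonObj.mul_eq_mul G, comp_mul, tensorHom_fst, tensorHom_snd]

end Groth.Agent.Lib.Helper75.RigGenGrp

namespace Groth.Agent.Lib.Helper75.RigGenGrp

variable {S : Scheme.{u}}

/-- if inversion is a homomorphism, the group object is commutative -/
theorem isCommMonObj_of_isMonHom_inv (X : Over S) [GrpObj X]
    (h : IsMonHom ((𝟙 X : X ⟶ X)⁻¹)) : IsCommMonObj X := by
  have h1 := h.mul_hom
  rw [MonObj.mul_eq_mul X, GrpObj.comp_inv, Category.comp_id, comp_mul, tensorHom_fst,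
    tensorHom_snd, GrpObj.comp_inv, GrpObj.comp_inv, Category.comp_id, Category.comp_id,
    _root_.mul_inv_rev] at h1
  have hc : fst X X * snd X X = snd X X * fst X X := by
    have h2 := congrArg (fun t => t⁻¹) h1
    simp only [_root_.mul_inv_rev, _root_.inv_inv] at h2
    exact h2
  constructor
  rw [MonObj.mul_eq_mul X, comp_mul, braiding_hom_fst, braiding_hom_snd, hc]

theorem isCommMonObj (X : Over S) [GrpObj X] [IsProper X.hom] [Flat X.hom]
    [LocallyOfFinitePresentation X.hom] [GeometricallyConnected X.hom]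
    [GeometricallyReduced X.hom] : IsCommMonObj X := by
  apply isCommMonObj_of_isMonHom_inv
  apply isMonHom_of_one X X
  rw [GrpObj.comp_inv, Category.comp_id]
  have : η[X] = (1 : 𝟙_ (Over S) ⟶ X) := by
    rw [Hom.one_def, toUnit_unique (toUnit (𝟙_ (Over S))) (𝟙 _), Category.id_comp]
  rw [this, inv_one]

end Groth.Agent.Lib.Helper75.RigGenGrp

namespace Groth.Agent.Lib.Helper75.RigGenGrp

open Groth.Agent.Lib.Helper75.RigMain

variable {S : Scheme.{u}}

/-- a continuous map sends a preconnected set into a discrete set to at most one point -/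
theorem subsingleton_image_of_isPreconnected {A B : Type*} [TopologicalSpace A] [TopologicalSpace B]
    (φ : A → B) (hφ : Continuous φ) (C : Set A) (hC : _root_.IsPreconnected C) (D : Set B)
    (hD : _root_.IsDiscrete D) (hCD : φ '' C ⊆ D) : (φ '' C).Subsingleton := by
  have h1 : _root_.IsPreconnected (φ '' C) := hC.image φ hφ.continuousOn
  have h2 : _root_.IsDiscrete (φ '' C) := hD.mono hCD
  have : PreconnectedSpace ↥(φ '' C) := isPreconnected_iff_preconnectedSpace.mp h1
  have : DiscreteTopology ↥(φ '' C) := isDiscrete_iff_discreteTopology.mp h2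
  have hsub : Subsingleton ↥(φ '' C) := PreconnectedSpace.trivial_of_discrete
  exact Set.subsingleton_coe _ |>.mp hsub

/-- left cancellation of a homomorphism with discrete fibres, for morphisms from an abelian scheme
preserving the units -/
theorem eq_of_comp_eq_of_locallyQuasiFinite (Z X Y : Over S) [GrpObj Z] [GrpObj X] [GrpObj Y]
    [IsProper Z.hom] [Flat Z.hom] [LocallyOfFinitePresentation Z.hom]
    [GeometricallyConnected Z.hom] [GeometricallyReduced Z.hom]
    (f : X ⟶ Y) [IsMonHom f] [LocallyQuasiFinite f.left]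
    (h₁ h₂ : Z ⟶ X) (hu₁ : η[Z] ≫ h₁ = η[X]) (hu₂ : η[Z] ≫ h₂ = η[X])
    (h : h₁ ≫ f = h₂ ≫ f) : h₁ = h₂ := by
  have h0' : ∀ s : S, FibH0 Z.hom s := fibH0 Z
  let d : Z ⟶ X := h₁ * h₂⁻¹
  have hdf : d ≫ f = 1 := by
    show (h₁ * h₂⁻¹) ≫ f = 1
    rw [MonObj.mul_comp, GrpObj.inv_comp, h, mul_inv_cancel]
  have hη1 : η[X] = (1 : 𝟙_ (Over S) ⟶ X) := by
    rw [Hom.one_def, toUnit_unique (toUnit (𝟙_ (Over S))) (𝟙 _), Category.id_comp]
  have hηd : η[Z] ≫ d = η[X] := by
    show η[Z] ≫ (h₁ * h₂⁻¹) = _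
    rw [comp_mul, GrpObj.comp_inv, hu₁, hu₂, hη1, mul_inv_cancel]
  have hdfl : d.left ≫ f.left = Z.hom ≫ (η[Y]).left := by
    have h1 := congrArg (fun t : Z ⟶ Y => t.left) hdf
    simp only [Over.comp_left] at h1
    rw [h1, Hom.one_def, Over.comp_left]
    congr 1
  -- every fibre is collapsed
  have huniv : collapsed Z.hom d.left = Set.univ := by
    rw [Set.eq_univ_iff_forall]
    intro s
    have hpre : _root_.IsPreconnected (Z.hom ⁻¹' {s}) :=
      (Z.hom.isConnected_preimage_singleton s).isPreconnected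
    have hdisc : _root_.IsDiscrete (f.left ⁻¹' {(η[Y]).left.base s}) :=
      f.left.isDiscrete_preimage_singleton _
    have himg : d.left.base '' (Z.hom ⁻¹' {s}) ⊆ f.left ⁻¹' {(η[Y]).left.base s} := by
      rintro _ ⟨z, hz, rfl⟩
      show f.left.base (d.left.base z) = (η[Y]).left.base s
      rw [← Scheme.Hom.comp_apply, hdfl, Scheme.Hom.comp_apply]
      congr 1
    have hsub := subsingleton_image_of_isPreconnected d.left.base d.left.continuous _ hpre _ hdisc
      himg
    have hZs : Z.hom.base ((η[Z]).left.base s) = s := by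
      rw [← Scheme.Hom.comp_apply, Over.w η[Z]]
      rfl
    exact ⟨d.left.base ((η[Z]).left.base s), fun z hz =>
      hsub ⟨z, hz, rfl⟩ ⟨_, hZs, rfl⟩⟩
  obtain ⟨k, hk⟩ := RigGenMain.exists_factor_of_univ Z.hom d.left h0' huniv
  have hηZ : (η[Z]).left ≫ Z.hom = 𝟙 S := Over.w η[Z]
  have hk' : k = (η[X]).left := by
    have h3 : ((η[Z]).left ≫ Z.hom) ≫ k = k := by
      rw [hηZ]
      exact Category.id_comp k
    calc k = ((η[Z]).left ≫ Z.hom) ≫ k := h3.symm
      _ = (η[Z]).left ≫ d.left := by rw [Category.assoc, hk]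
      _ = (η[Z] ≫ d).left := rfl
      _ = (η[X]).left := by rw [hηd]
  have hd1 : d = 1 := by
    rw [Hom.one_def]
    apply Over.OverMorphism.ext
    rw [hk, hk', Over.comp_left]
    congr 1
  exact mul_inv_eq_one.mp hd1

end Groth.Agent.Lib.Helper75.RigGenGrp
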