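import Mathlib.Topology.Spectral.Basic
import Mathlib.Topology.Spectral.ConstructibleTopology
import Mathlib.Topology.Constructible
import Groth.Agent.Lib.Helper16.ProCons

/-!
# Spectral spaces: closedness of pro-constructible specialization-stable sets (helper75)
-/

namespace Groth.Agent.Lib.Helper75

open Topology Set

variable {W : Type*} [TopologicalSpace W]

/-- In a spectral space, an intersection of constructible sets which is stable under
specialization is closed. -/
theorem isClosed_sInter_of_stableUnderSpecialization [CompactSpace W] [QuasiSober W]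
    [PrespectralSpace W] [QuasiSeparatedSpace W]
    {𝒞 : Set (Set W)} (h𝒞 : ∀ C ∈ 𝒞, IsConstructible C)
    (hst : StableUnderSpecialization (⋂₀ 𝒞)) : IsClosed (⋂₀ 𝒞) := by
  classical
  rw [← isOpen_compl_iff, isOpen_iff_forall_mem_open]
  intro y hy
  have key : ∀ x ∈ ⋂₀ 𝒞, ∃ V : Set W, IsOpen V ∧ IsCompact V ∧ y ∈ V ∧ x ∉ V := by
    intro x hx
    have hxy : ¬ x ⤳ y := fun h => hy (hst h hx)
    rw [specializes_iff_forall_open] at hxy
    push Not at hxy
    obtain ⟨U, hUo, hyU, hxU⟩ := hxy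
    obtain ⟨V, ⟨hVo, hVc⟩, hyV, hVU⟩ :=
      PrespectralSpace.isTopologicalBasis.exists_subset_of_mem_open hyU hUo
    exact ⟨V, hVo, hVc, hyV, fun h => hxU (hVU h)⟩
  choose! V hVo hVc hyV hxV using key
  set E := ⋂₀ 𝒞 with hE
  let 𝒟 : Set (Set W) := 𝒞 ∪ (V '' E)
  have h𝒟 : ∀ C ∈ 𝒟, IsConstructible C := by
    rintro C (hC | ⟨x, hx, rfl⟩)
    · exact h𝒞 C hC
    · exact (hVc x hx).isConstructible (hVo x hx)
  have hemp : ⋂₀ 𝒟 = ∅ := by
    rw [eq_empty_iff_forall_notMem]
    intro x hx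
    have hxE : x ∈ E := fun C hC => hx C (Or.inl hC)
    exact hxV x hxE (hx (V x) (Or.inr ⟨x, hxE, rfl⟩))
  obtain ⟨𝒟₀, hsub, hfin, hemp₀⟩ := Groth.Agent.Lib.Helper16.exists_finite_sInter_eq_empty h𝒟 hemp
  refine ⟨⋂₀ (𝒟₀ ∩ (V '' E)), ?_, ?_, ?_⟩
  · intro z hz hzE
    have : z ∈ ⋂₀ 𝒟₀ := by
      intro C hC
      rcases hsub hC with hC' | hC'
      · exact hzE C hC'
      · exact hz C ⟨hC, hC'⟩
    rw [hemp₀] at this
    exact this
  · refine (hfin.subset inter_subset_left).isOpen_sInter ?_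
    rintro C ⟨_, x, hx, rfl⟩
    exact hVo x hx
  · rintro C ⟨_, x, hx, rfl⟩
    exact hyV x hx

/-- In a spectral space, the set of generalizations of a compact set `K` is the intersection of
the compact open neighbourhoods of `K`. -/
theorem setOf_specializes_eq_sInter [PrespectralSpace W] {K : Set W} (hK : IsCompact K) :
    {x | ∃ z ∈ K, x ⤳ z} = ⋂₀ {U | IsOpen U ∧ IsCompact U ∧ K ⊆ U} := by
  ext x
  constructor
  · rintro ⟨z, hz, hxz⟩ U ⟨hUo, _, hKU⟩
    exact hxz.mem_open hUo (hKU hz)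
  · intro hx
    by_contra hcon
    simp only [Set.mem_ofPred_eq, not_exists, not_and] at hcon
    have key : ∀ z ∈ K, ∃ V : Set W, IsOpen V ∧ IsCompact V ∧ z ∈ V ∧ x ∉ V := by
      intro z hz
      have hxz := hcon z hz
      rw [specializes_iff_forall_open] at hxz
      push Not at hxz
      obtain ⟨U, hUo, hzU, hxU⟩ := hxz
      obtain ⟨V, ⟨hVo, hVc⟩, hzV, hVU⟩ :=
        PrespectralSpace.isTopologicalBasis.exists_subset_of_mem_open hzU hUo
      exact ⟨V, hVo, hVc, hzV, fun h => hxU (hVU h)⟩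
    choose! V hVo hVc hzV hxV using key
    obtain ⟨t, ht, htfin, hcov⟩ := hK.elim_finite_subcover_image (b := K) (c := V) hVo
      (fun z hz => mem_biUnion hz (hzV z hz))
    have hU : (⋃ i ∈ t, V i) ∈ {U | IsOpen U ∧ IsCompact U ∧ K ⊆ U} := by
      refine ⟨isOpen_biUnion fun i hi => hVo i (ht hi), ?_, hcov⟩
      exact htfin.isCompact_biUnion fun i hi => hVc i (ht hi)
    have := hx _ hU
    simp only [mem_iUnion, exists_prop] at this
    obtain ⟨i, hi, hxi⟩ := this
    exact hxV i (ht hi) hxi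

end Groth.Agent.Lib.Helper75
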