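import Mathlib.AlgebraicGeometry.ValuativeCriterion
import Mathlib.RingTheory.Flat.TorsionFree
import Mathlib.RingTheory.Flat.FaithfullyFlat.Algebra

/-!
# Valuation rings through a specialization, II (helper75)

A sharper form of `exists_valuationRing_of_specializes` (closed point and generic point are
exposed) and surjectivity of `Spec V' ⟶ Spec V` for a local injective map of a valuation ring into a
local domain.
-/

set_option autoImplicit false

universe u

open CategoryTheory AlgebraicGeometry IsLocalRing

namespace Groth.Agent.Lib.Helper75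

/-- The generic point of the spectrum of a domain. -/
def botPoint (V : Type u) [CommRing V] [IsDomain V] : Spec (CommRingCat.of V) :=
  (⟨⊥, Ideal.isPrime_bot⟩ : PrimeSpectrum V)

/-- The closed point of the spectrum of a local ring, as a point of the scheme. -/
def clPoint (V : Type u) [CommRing V] [IsLocalRing V] : Spec (CommRingCat.of V) :=
  (closedPoint V : PrimeSpectrum V)

theorem botPoint_specializes_clPoint (V : Type u) [CommRing V] [IsDomain V] [IsLocalRing V] :
    botPoint V ⤳ clPoint V :=
  specializes_closedPoint (R := V) _

theorem botPoint_specializes (V : Type u) [CommRing V] [IsDomain V]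
    (x : Spec (CommRingCat.of V)) : botPoint V ⤳ x := by
  have h' : @Specializes (PrimeSpectrum V) PrimeSpectrum.zariskiTopology
      (⟨⊥, Ideal.isPrime_bot⟩ : PrimeSpectrum V) x := by
    rw [← PrimeSpectrum.le_iff_specializes]
    exact bot_le (a := (x : PrimeSpectrum V).asIdeal)
  exact h'

theorem specializes_clPoint (V : Type u) [CommRing V] [IsLocalRing V]
    (x : Spec (CommRingCat.of V)) : x ⤳ clPoint V :=
  specializes_closedPoint (R := V) _

theorem eq_clPoint_of_specializes (V : Type u) [CommRing V] [IsLocalRing V]
    (x : Spec (CommRingCat.of V)) (h : clPoint V ⤳ x) : x = clPoint V := by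
  have hc : IsClosed ({clPoint V} : Set (Spec (CommRingCat.of V))) :=
    isClosed_singleton_closedPoint V
  exact h.mem_closed hc rfl

theorem eq_botPoint_of_specializes (V : Type u) [CommRing V] [IsDomain V]
    (x : Spec (CommRingCat.of V)) (h : x ⤳ botPoint V) : x = botPoint V := by
  have h' : @Specializes (PrimeSpectrum V) PrimeSpectrum.zariskiTopology x
      (⟨⊥, Ideal.isPrime_bot⟩ : PrimeSpectrum V) := h
  rw [← PrimeSpectrum.le_iff_specializes] at h'
  apply PrimeSpectrum.ext
  exact le_bot_iff.mp h'

/-- For `y' ⤳ y` in a scheme `Y` there are a valuation ring `V` (in the same universe) and a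
morphism `g : Spec V ⟶ Y` sending the closed point to `y` and the generic point to `y'`. -/
theorem exists_valuationRing_of_specializes' {Y : Scheme.{u}} {y y' : Y} (h : y' ⤳ y) :
    ∃ (V : Type u) (_ : CommRing V) (_ : IsDomain V) (_ : ValuationRing V)
      (g : Spec (CommRingCat.of V) ⟶ Y), g (clPoint V) = y ∧ g (botPoint V) = y' := by
  let φ : Y.presheaf.stalk y ⟶ Y.residueField y' := Y.presheaf.stalkSpecializes h ≫ Y.residue y'
  obtain ⟨A, hA, hA_local⟩ := exists_factor_valuationRing φ.hom
  let ψ : Y.presheaf.stalk y ⟶ .of A := CommRingCat.ofHom (φ.hom.codRestrict _ hA)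
  have w : Y.fromSpecResidueField y' =
      Spec.map (CommRingCat.ofHom (algebraMap A (Y.residueField y'))) ≫
        Spec.map ψ ≫ Y.fromSpecStalk y := by
    rw [Scheme.fromSpecResidueField, ← Scheme.SpecMap_stalkSpecializes_fromSpecStalk h]
    simp_rw [← Spec.map_comp_assoc]
    rfl
  have hη : Spec.map (CommRingCat.ofHom (algebraMap A (Y.residueField y')))
      (closedPoint (Y.residueField y')) = botPoint A := by
    apply PrimeSpectrum.ext
    change Ideal.comap (algebraMap A (Y.residueField y')) (maximalIdeal (Y.residueField y')) = ⊥
    rw [IsLocalRing.maximalIdeal_eq_bot (R := Y.residueField y'), Ideal.comap_bot_of_injective]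
    exact Subtype.val_injective
  refine ⟨A, inferInstance, inferInstance, inferInstance, Spec.map ψ ≫ Y.fromSpecStalk y, ?_, ?_⟩
  · simp only [Scheme.Hom.comp_base, TopCat.coe_comp, Function.comp_apply]
    have : Spec.map ψ (clPoint A) = closedPoint (Y.presheaf.stalk y) :=
      comap_closedPoint (S := A) (φ.hom.codRestrict A.toSubring hA)
    rw [this, Y.fromSpecStalk_closedPoint]
  · rw [← hη, ← Scheme.Hom.comp_apply, ← w, Scheme.fromSpecResidueField_apply]

/-- A local injective ring map from a valuation ring to a local domain is surjective on spectra. -/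
theorem comap_surjective_of_valuationRing {V V' : Type*} [CommRing V] [IsDomain V]
    [ValuationRing V] [CommRing V'] [IsDomain V'] [IsLocalRing V'] (φ : V →+* V')
    (hinj : Function.Injective φ) [IsLocalHom φ] :
    Function.Surjective (PrimeSpectrum.comap φ) := by
  let _ : Algebra V V' := φ.toAlgebra
  have hloc : IsLocalHom (algebraMap V V') := ‹IsLocalHom φ›
  have hflat : Module.Flat V V' := by
    rw [Module.Flat.flat_iff_torsion_eq_bot_of_isBezout]
    rw [Submodule.eq_bot_iff]
    intro x hx
    rw [Submodule.mem_torsion_iff] at hx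
    obtain ⟨a, ha⟩ := hx
    have ha' : φ a * x = 0 := ha
    rcases mul_eq_zero.mp ha' with h0 | h0
    · exfalso
      have : (a : V) = 0 := hinj (by rw [h0, map_zero])
      exact nonZeroDivisors.coe_ne_zero a this
    · exact h0
  have : Module.FaithfullyFlat V V' := Module.FaithfullyFlat.of_flat_of_isLocalHom
  exact PrimeSpectrum.comap_surjective_of_faithfullyFlat

/-- A morphism `Spec V' ⟶ Spec V` (V a valuation ring, V' a local domain) matching closed points and
generic points is surjective. -/
theorem surjective_of_clPoint_of_botPoint {V V' : Type u} [CommRing V] [IsDomain V]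
    [ValuationRing V] [CommRing V'] [IsDomain V'] [IsLocalRing V']
    (b : Spec (CommRingCat.of V') ⟶ Spec (CommRingCat.of V))
    (hc : b (clPoint V') = clPoint V) (hb : b (botPoint V') = botPoint V) :
    Function.Surjective b := by
  obtain ⟨ψ, rfl⟩ := Spec.map_surjective b
  have hcomap : ∀ x : PrimeSpectrum V', (Spec.map ψ) x = PrimeSpectrum.comap ψ.hom x :=
    fun _ => rfl
  have hinj : Function.Injective ψ.hom := by
    rw [RingHom.injective_iff_ker_eq_bot]
    have := congrArg PrimeSpectrum.asIdeal hb
    exact this
  have hloc : IsLocalHom ψ.hom := by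
    have := congrArg PrimeSpectrum.asIdeal hc
    exact ((IsLocalRing.local_hom_TFAE ψ.hom).out 0 4).mpr this
  exact comap_surjective_of_valuationRing ψ.hom hinj

end Groth.Agent.Lib.Helper75
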