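import Mathlib.AlgebraicGeometry.ValuativeCriterion

/-!
# A valuation ring through a given specialization (helper75)
-/

set_option autoImplicit false

universe u

open CategoryTheory AlgebraicGeometry IsLocalRing

namespace Groth.Agent.Lib.Helper75

/-- For `y' ⤳ y` in a scheme `Y` there are a valuation ring `V` (in the same universe), a morphism
`g : Spec V ⟶ Y` and points `η ⤳ s` of `Spec V` with `g s = y` and `g η = y'`. -/
theorem exists_valuationRing_of_specializes {Y : Scheme.{u}} {y y' : Y} (h : y' ⤳ y) :
    ∃ (V : Type u) (_ : CommRing V) (_ : IsDomain V) (_ : ValuationRing V)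
      (g : Spec (CommRingCat.of V) ⟶ Y) (η s : Spec (CommRingCat.of V)),
      η ⤳ s ∧ g s = y ∧ g η = y' := by
  let φ : Y.presheaf.stalk y ⟶ Y.residueField y' := Y.presheaf.stalkSpecializes h ≫ Y.residue y'
  obtain ⟨A, hA, hA_local⟩ := exists_factor_valuationRing φ.hom
  let ψ : Y.presheaf.stalk y ⟶ .of A := CommRingCat.ofHom (φ.hom.codRestrict _ hA)
  have w : Y.fromSpecResidueField y' =
      Spec.map (CommRingCat.ofHom (algebraMap A (Y.residueField y'))) ≫
        Spec.map ψ ≫ Y.fromSpecStalk y := by
    rw [Scheme.fromSpecResidueField, ← Scheme.SpecMap_stalkSpecializes_fromSpecStalk h]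
    simp_rw [← Spec.map_comp_assoc]
    rfl
  refine ⟨A, inferInstance, inferInstance, inferInstance, Spec.map ψ ≫ Y.fromSpecStalk y,
    Spec.map (CommRingCat.ofHom (algebraMap A (Y.residueField y')))
      (closedPoint (Y.residueField y')), closedPoint A, ?_, ?_, ?_⟩
  · exact specializes_closedPoint _
  · simp only [Scheme.Hom.comp_base, TopCat.coe_comp, Function.comp_apply]
    have : Spec.map ψ (closedPoint A) = closedPoint (Y.presheaf.stalk y) :=
      comap_closedPoint (S := A) (φ.hom.codRestrict A.toSubring hA)
    rw [this, Y.fromSpecStalk_closedPoint]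
  · rw [← Scheme.Hom.comp_apply, ← w, Scheme.fromSpecResidueField_apply]

end Groth.Agent.Lib.Helper75
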