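import Mathlib
import Groth.Prelude

/-!
# An algebraic lemma for anti-affine rigidity (Krull intersection in a free algebra)
-/

set_option autoImplicit false
universe u
open TensorProduct

namespace Groth.Agent.Lib.Helper75.AAAlg

/-- the quotient of the local ring at `p` by the `n`-th power of its maximal ideal -/
abbrev Q {C : Type u} [CommRing C] (p : Ideal C) [p.IsPrime] (n : ℕ) : Type u :=
  Localization.AtPrime p ⧸ (IsLocalRing.maximalIdeal (Localization.AtPrime p)) ^ n

theorem coord_eq_zero {C : Type u} [CommRing C] [IsNoetherianRing C] (p : Ideal C) [p.IsPrime]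
    {R : Type u} [CommRing R] [Algebra C R] {ι : Type*} (b : Module.Basis ι C R) (r : R)
    (h : ∀ n : ℕ, (1 : Q p n) ⊗ₜ[C] r = 0) (i : ι) :
    algebraMap C (Localization.AtPrime p) (b.repr r i) = 0 := by
  have hmem : ∀ n : ℕ, algebraMap C (Localization.AtPrime p) (b.repr r i) ∈
      (IsLocalRing.maximalIdeal (Localization.AtPrime p)) ^ n := by
    intro n
    have h1 := congrArg (fun t => (Algebra.TensorProduct.basis (Q p n) b).repr t i) (h n)
    simp only [Algebra.TensorProduct.basis_repr_tmul, map_zero, Finsupp.coe_zero, Pi.zero_apply,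
      one_smul, Finsupp.mapRange_apply] at h1
    rw [IsScalarTower.algebraMap_apply C (Localization.AtPrime p) (Q p n),
      Ideal.Quotient.algebraMap_eq, Ideal.Quotient.eq_zero_iff_mem] at h1
    exact h1
  have hbot := Ideal.iInf_pow_eq_bot_of_isLocalRing
    (IsLocalRing.maximalIdeal (Localization.AtPrime p)) Ideal.IsPrime.ne_top'
  have : algebraMap C (Localization.AtPrime p) (b.repr r i) ∈
      ⨅ n, (IsLocalRing.maximalIdeal (Localization.AtPrime p)) ^ n := by
    rw [Ideal.mem_iInf]; exact hmem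
  rw [hbot] at this
  exact this

theorem exists_smul_eq_zero_single {C : Type u} [CommRing C] [IsNoetherianRing C] (p : Ideal C)
    [p.IsPrime] {R : Type u} [CommRing R] [Algebra C R] [Module.Free C R] (r : R)
    (h : ∀ n : ℕ, (1 : Q p n) ⊗ₜ[C] r = 0) :
    ∃ s : C, s ∉ p ∧ s • r = 0 := by
  classical
  let b := Module.Free.chooseBasis C R
  have h1 : ∀ i, ∃ s : C, s ∉ p ∧ s * b.repr r i = 0 := by
    intro i
    have := coord_eq_zero p b r h i
    rw [IsLocalization.map_eq_zero_iff p.primeCompl] at this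
    obtain ⟨m, hm⟩ := this
    exact ⟨m.1, m.2, hm⟩
  choose s hs hs0 using h1
  refine ⟨∏ i ∈ (b.repr r).support, s i, ?_, ?_⟩
  · have : (∏ i ∈ (b.repr r).support, s i) ∈ p.primeCompl :=
      Submonoid.prod_mem _ fun i _ => hs i
    exact this
  · apply b.repr.injective
    ext i
    rw [map_smul, map_zero, Finsupp.smul_apply, Finsupp.zero_apply, smul_eq_mul]
    by_cases hi : i ∈ (b.repr r).support
    · obtain ⟨c, hc⟩ := Finset.dvd_prod_of_mem s hi
      rw [hc, mul_comm (s i), mul_assoc, hs0, mul_zero]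
    · rw [Finsupp.notMem_support_iff.mp hi, mul_zero]

theorem exists_smul_eq_zero {C : Type u} [CommRing C] [IsNoetherianRing C] (p : Ideal C)
    [p.IsPrime] {R : Type u} [CommRing R] [Algebra C R] [Module.Free C R] (I : Ideal R)
    (hI : I.FG)
    (h : ∀ (n : ℕ) (r : R), r ∈ I → (1 : Q p n) ⊗ₜ[C] r = 0) :
    ∃ s : C, s ∉ p ∧ ∀ r ∈ I, s • r = 0 := by
  classical
  obtain ⟨G, hG⟩ := hI
  have h1 : ∀ r : R, r ∈ I → ∃ s : C, s ∉ p ∧ s • r = 0 := fun r hr =>
    exists_smul_eq_zero_single p r (fun n => h n r hr)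
  have hGI : ∀ r ∈ G, r ∈ I := fun r hr => hG ▸ Ideal.subset_span hr
  let s : R → C := fun r => if hr : r ∈ I then (h1 r hr).choose else 1
  have hs : ∀ r, s r ∉ p := by
    intro r
    by_cases hr : r ∈ I
    · simp only [s, dif_pos hr]; exact (h1 r hr).choose_spec.1
    · simp only [s, dif_neg hr]; exact fun h => Ideal.IsPrime.ne_top' ((Ideal.eq_top_iff_one p).mpr h)
  have hs0 : ∀ r ∈ I, s r • r = 0 := by
    intro r hr
    simp only [s, dif_pos hr]; exact (h1 r hr).choose_spec.2
  refine ⟨∏ r ∈ G, s r, ?_, ?_⟩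
  · have : (∏ r ∈ G, s r) ∈ p.primeCompl := Submonoid.prod_mem _ fun r _ => hs r
    exact this
  · intro r hr
    rw [← hG] at hr
    refine Submodule.span_induction (p := fun x _ => (∏ r ∈ G, s r) • x = 0) ?_ ?_ ?_ ?_ hr
    · intro x hx
      obtain ⟨c, hc⟩ := Finset.dvd_prod_of_mem s hx
      rw [hc, mul_comm, mul_smul, hs0 x (hGI x hx), smul_zero]
    · exact smul_zero _
    · intro x y _ _ hx hy
      rw [smul_add, hx, hy, add_zero]
    · intro a x _ hx
      rw [smul_comm, hx, smul_zero]

end Groth.Agent.Lib.Helper75.AAAlg
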