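import Mathlib
import Groth.Prelude

/-!
# Affine charts `Spec B ⟶ X` of a scheme over a field, with `B` a `k`-algebra
-/

set_option autoImplicit false
universe u
open CategoryTheory CategoryTheory.Limits AlgebraicGeometry

namespace Groth.Agent.Lib.Helper75.AAChart

variable {k : Type u} [Field k]

theorem exists_chart {X : Scheme.{u}} (a : X ⟶ Spec (CommRingCat.of k)) (x : X) :
    ∃ (B : Type u) (_ : CommRing B) (_ : Algebra k B) (u : Spec (CommRingCat.of B) ⟶ X),
      IsOpenImmersion u ∧ u ≫ a = Spec.map (CommRingCat.ofHom (algebraMap k B)) ∧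
      x ∈ Set.range u ∧
      (LocallyOfFiniteType a → Algebra.FiniteType k B) ∧
      (IsLocallyNoetherian X → IsNoetherianRing B) := by
  obtain ⟨_, ⟨U, hU, rfl⟩, hxU, -⟩ :=
    X.isBasis_affineOpens.exists_subset_of_mem_open (Set.mem_univ x) isOpen_univ
  let ψ : CommRingCat.of k ⟶ Γ(X, U) := Spec.preimage (hU.fromSpec ≫ a)
  letI : Algebra k ↑Γ(X, U) := ψ.hom.toAlgebra
  have hopen : IsOpenImmersion hU.fromSpec := hU.isOpenImmersion_fromSpec
  refine ⟨↑Γ(X, U), inferInstance, inferInstance, hU.fromSpec, hopen, ?_, ?_, ?_, ?_⟩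
  · exact (Spec.map_preimage (hU.fromSpec ≫ a)).symm
  · rw [hU.range_fromSpec]
    exact hxU
  · intro hlft
    have h1 : LocallyOfFiniteType (Spec.map ψ) := by
      rw [Spec.map_preimage]
      infer_instance
    exact (HasRingHomProperty.Spec_iff (P := @LocallyOfFiniteType)).mp h1
  · intro hN
    exact IsLocallyNoetherian.component_noetherian ⟨U, hU⟩

end Groth.Agent.Lib.Helper75.AAChart
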