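import Mathlib
import Groth.Prelude

/-!
# Morphisms from an anti-affine scheme to an affine scheme are constant
-/

set_option autoImplicit false
universe u
open CategoryTheory MonoidalCategory CartesianMonoidalCategory AlgebraicGeometry
  CategoryTheory.Limits

namespace Groth.Agent.Lib.Helper75.AAConst

theorem appTop_surjective_of_bijective {k : Type u} [Field k] {X : Scheme.{u}}
    (f : X ⟶ Spec (CommRingCat.of k))
    (hX : Function.Bijective ((Scheme.ΓSpecIso (CommRingCat.of k)).inv ≫ f.appTop).hom) :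
    Function.Surjective f.appTop := by
  intro s
  obtain ⟨c, hc⟩ := hX.2 s
  exact ⟨(Scheme.ΓSpecIso (CommRingCat.of k)).inv c, hc⟩

theorem eq_comp_of_isAffine {S X Z : Scheme.{u}}
    (f : X ⟶ S) (σ : S ⟶ X) (hσ : σ ≫ f = 𝟙 _)
    (hsurj : Function.Surjective f.appTop) [IsAffine Z] (φ : X ⟶ Z) : φ = f ≫ σ ≫ φ := by
  apply ext_of_isAffine
  ext a
  rw [Scheme.Hom.comp_appTop, Scheme.Hom.comp_appTop]
  obtain ⟨c, hc⟩ := hsurj (φ.appTop a)
  have h1 : σ.appTop (f.appTop c) = c := by
    have := congrArg (fun g => g.appTop c) hσ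
    simp only [Scheme.Hom.comp_appTop] at this
    rw [CommRingCat.comp_apply] at this
    rw [this]
    simp
  change φ.appTop a = f.appTop (σ.appTop (φ.appTop a))
  rw [← hc, h1]

/-- a morphism from an anti-affine `k`-scheme with a rational point to an affine `k`-scheme is
constant. -/
theorem eq_toUnit_comp (k : Type u) [Field k] (G N : Over (Spec (CommRingCat.of k)))
    (hG : Function.Bijective ((Scheme.ΓSpecIso (CommRingCat.of k)).inv ≫ G.hom.appTop).hom)
    [IsAffine N.left] (e : 𝟙_ (Over (Spec (CommRingCat.of k))) ⟶ G) (d : G ⟶ N) :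
    d = toUnit G ≫ e ≫ d := by
  ext
  have h1 : e.left ≫ G.hom = 𝟙 _ := Over.w e
  have h2 := eq_comp_of_isAffine G.hom e.left h1 (appTop_surjective_of_bijective G.hom hG) d.left
  rw [Over.comp_left, Over.comp_left, CategoryTheory.Over.toUnit_left]
  exact h2

end Groth.Agent.Lib.Helper75.AAConst
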