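import Mathlib
import Groth.Prelude

/-!
# The equalizer ideal of two morphisms from an affine scheme to a separated scheme
-/

set_option autoImplicit false
universe u
open CategoryTheory CategoryTheory.Limits AlgebraicGeometry

namespace Groth.Agent.Lib.Helper75.AAEq

/-- Lemma M: two morphisms `F G : Spec R ⟶ Z` over `S` with `Z` separated over `S` are equalized
exactly by the ring maps killing a certain ideal of `R`. -/
theorem exists_ideal_equalizer {S Z : Scheme.{u}} (c : Z ⟶ S) [IsSeparated c] (R : CommRingCat.{u})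
    (F G : Spec R ⟶ Z) (h : F ≫ c = G ≫ c) :
    ∃ I : Ideal R, ∀ (R' : CommRingCat.{u}) (φ : R ⟶ R'),
      Spec.map φ ≫ F = Spec.map φ ≫ G ↔ I ≤ RingHom.ker φ.hom := by
  let W' : Over S := Over.mk (F ≫ c)
  let Z' : Over S := Over.mk c
  let F' : W' ⟶ Z' := Over.homMk F rfl
  let G' : W' ⟶ Z' := Over.homMk G h.symm
  have hZ' : IsSeparated Z'.hom := ‹IsSeparated c›
  have hcl : IsClosedImmersion (equalizer.ι F' G').left := inferInstance
  obtain ⟨I, ε, hε⟩ := IsClosedImmersion.Spec_iff.mp hcl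
  have hcond : (equalizer.ι F' G').left ≫ F = (equalizer.ι F' G').left ≫ G := by
    have := congrArg (fun t => t.left) (equalizer.condition F' G')
    exact this
  refine ⟨I, fun R' φ => ⟨fun hφ => ?_, fun hφ => ?_⟩⟩
  · let T' : Over S := Over.mk (Spec.map φ ≫ F ≫ c)
    let τ : T' ⟶ W' := Over.homMk (Spec.map φ) rfl
    have hτ : τ ≫ F' = τ ≫ G' := by
      ext
      exact hφ
    let l : T' ⟶ equalizer F' G' := equalizer.lift τ hτ
    have hl : l ≫ equalizer.ι F' G' = τ := equalizer.lift_ι _ _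
    have hl' : l.left ≫ (equalizer.ι F' G').left = Spec.map φ := by
      have := congrArg (fun t => t.left) hl
      exact this
    rw [hε, ← Category.assoc] at hl'
    obtain ⟨ψ, hψ⟩ : ∃ ψ : CommRingCat.of (R ⧸ I) ⟶ R', Spec.map ψ = l.left ≫ ε.hom :=
      ⟨Spec.preimage (l.left ≫ ε.hom), Spec.map_preimage _⟩
    rw [← hψ, ← Spec.map_comp] at hl'
    have hφ' : φ = CommRingCat.ofHom (Ideal.Quotient.mk I) ≫ ψ := (Spec.map_injective hl').symm
    intro r hr
    rw [RingHom.mem_ker, hφ']
    simp [Ideal.Quotient.eq_zero_iff_mem.mpr hr]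
  · let ψ : CommRingCat.of (R ⧸ I) ⟶ R' := CommRingCat.ofHom (Ideal.Quotient.lift I φ.hom hφ)
    have hφ' : φ = CommRingCat.ofHom (Ideal.Quotient.mk I) ≫ ψ := by
      ext r
      simp only [ψ, CommRingCat.hom_comp, CommRingCat.hom_ofHom, RingHom.coe_comp,
        Function.comp_apply]
      exact (Ideal.Quotient.lift_mk I φ.hom hφ).symm
    have h1 : Spec.map φ = (Spec.map ψ ≫ ε.inv) ≫ (equalizer.ι F' G').left := by
      rw [hε, Category.assoc, Iso.inv_hom_id_assoc, ← Spec.map_comp, ← hφ']
    rw [h1, Category.assoc, Category.assoc, hcond, Category.assoc, Category.assoc]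

end Groth.Agent.Lib.Helper75.AAEq
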