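import Mathlib
import Groth.Prelude

/-!
# Morphisms from `X ×_S T` to an affine scheme factor through `T` when `O(X) = O(S)`
-/

set_option autoImplicit false
universe u
open CategoryTheory CategoryTheory.Limits AlgebraicGeometry

namespace Groth.Agent.Lib.Helper75.AAFactor

/-- flat base change for global sections when `O(X) = O(S)`. -/
theorem isIso_appTop_snd {X S T P : Scheme.{u}} (iX : X ⟶ S) (t : T ⟶ S) (g : P ⟶ X)
    (iT : P ⟶ T) (H : IsPullback g iT iX t) [IsAffine S] [IsAffine T] [CompactSpace X]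
    [QuasiSeparatedSpace X] [Flat t] (hX : IsIso iX.appTop) : IsIso iT.appTop := by
  have hUY : (⊤ : P.Opens) = g ⁻¹ᵁ (⊤ : X.Opens) ⊓ iT ⁻¹ᵁ (⊤ : T.Opens) := by simp
  have h1 := isIso_pushoutSection_of_isQuasiSeparated_of_flat_right H
    (US := ⊤) (UT := ⊤) (UX := ⊤) (by simp) (by simp) hUY (isAffineOpen_top S) (isAffineOpen_top T)
    isCompact_univ (isQuasiSeparated_univ_iff.mpr inferInstance)
  replace h1 := (isIso_pushoutSection_iff ..).mp h1
  have h2 : iX.appLE ⊤ ⊤ (by simp) = iX.appTop := iX.appLE_eq_app (U := ⊤)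
  have h3 : iT.appLE ⊤ ⊤ (by simp) = iT.appTop := iT.appLE_eq_app (U := ⊤)
  have : IsIso (iX.appLE ⊤ ⊤ (by simp)) := by rw [h2]; exact hX
  have h4 := h1.isIso_inr_of_isIso
  rw [h3] at h4
  exact h4

/-- if `P ⟶ T` induces an isomorphism on global functions and has a section, every morphism
from `P` to an affine scheme factors through `T`. -/
theorem eq_comp_section {P T Z₀ : Scheme.{u}} (iT : P ⟶ T) (σ : T ⟶ P) (hσ : σ ≫ iT = 𝟙 T)
    (hiso : IsIso iT.appTop) [IsAffine Z₀] (h : P ⟶ Z₀) : h = iT ≫ σ ≫ h := by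
  apply ext_of_isAffine
  rw [Scheme.Hom.comp_appTop, Scheme.Hom.comp_appTop]
  have h1 : iT.appTop ≫ σ.appTop = 𝟙 _ := by
    rw [← Scheme.Hom.comp_appTop, hσ, Scheme.Hom.id_appTop]
  have h2 : σ.appTop ≫ iT.appTop = 𝟙 _ := by
    rw [← cancel_epi iT.appTop, ← Category.assoc, h1, Category.id_comp, Category.comp_id]
  rw [Category.assoc, h2, Category.comp_id]

/-- Lemma L: over a test scheme `T ⟶ Y` on which `F` lands in an affine open, `F` factors
through the second projection. -/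
theorem comp_eq_of_forall_mem_affineOpen {X Y S Z T : Scheme.{u}} (a : X ⟶ S) (b : Y ⟶ S)
    [IsAffine S] [CompactSpace X] [QuasiSeparatedSpace X] (ha : IsIso a.appTop)
    (σ : Y ⟶ pullback a b) (hσ : σ ≫ pullback.snd a b = 𝟙 Y) (F : pullback a b ⟶ Z)
    (t : T ⟶ Y) [IsAffine T] [Flat (t ≫ b)] (Z₀ : Z.Opens) (hZ₀ : IsAffineOpen Z₀)
    (hr : ∀ q : ↥(pullback (pullback.snd a b) t), (pullback.fst (pullback.snd a b) t ≫ F) q ∈ Z₀) :
    pullback.fst (pullback.snd a b) t ≫ F =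
      pullback.fst (pullback.snd a b) t ≫ pullback.snd a b ≫ σ ≫ F := by
  set j := pullback.fst (pullback.snd a b) t with hj
  set iT := pullback.snd (pullback.snd a b) t with hiT
  have hsq : IsPullback (j ≫ pullback.fst a b) iT a (t ≫ b) :=
    (IsPullback.of_hasPullback (pullback.snd a b) t).paste_horiz (IsPullback.of_hasPullback a b)
  have hiso : IsIso iT.appTop := isIso_appTop_snd a (t ≫ b) _ iT hsq ha
  let σT : T ⟶ pullback (pullback.snd a b) t :=
    pullback.lift (t ≫ σ) (𝟙 T) (by rw [Category.assoc, hσ, Category.comp_id, Category.id_comp])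
  have hσT1 : σT ≫ iT = 𝟙 T := pullback.lift_snd _ _ _
  have hσT2 : σT ≫ j = t ≫ σ := pullback.lift_fst _ _ _
  have hrange : Set.range (j ≫ F) ⊆ Set.range Z₀.ι := by
    rintro _ ⟨q, rfl⟩
    rw [Scheme.Opens.range_ι]
    exact hr q
  have : IsAffine ↑Z₀ := hZ₀
  let h : pullback (pullback.snd a b) t ⟶ ↑Z₀ := IsOpenImmersion.lift Z₀.ι (j ≫ F) hrange
  have hh : h ≫ Z₀.ι = j ≫ F := IsOpenImmersion.lift_fac _ _ _
  have h1 := eq_comp_section iT σT hσT1 hiso h
  calc j ≫ F = h ≫ Z₀.ι := hh.symm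
    _ = (iT ≫ σT ≫ h) ≫ Z₀.ι := by rw [← h1]
    _ = iT ≫ σT ≫ j ≫ F := by rw [Category.assoc, Category.assoc, hh]
    _ = iT ≫ t ≫ σ ≫ F := by rw [← Category.assoc σT, hσT2, Category.assoc]
    _ = j ≫ pullback.snd a b ≫ σ ≫ F := by
      rw [← Category.assoc iT, ← pullback.condition, Category.assoc]

end Groth.Agent.Lib.Helper75.AAFactor
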