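import Mathlib
import Groth.Prelude
import Groth.Agent.Lib.Helper75.AAFactor

/-!
# Global functions and flat surjective morphisms; maps from `X × Y` to affine schemes when
`O(X) = k`
-/

set_option autoImplicit false
universe u
open CategoryTheory CategoryTheory.Limits AlgebraicGeometry

namespace Groth.Agent.Lib.Helper75.AAExt

/-- a flat surjective morphism is injective on sections. -/
theorem app_injective_of_flat_of_surjective {X Y : Scheme.{u}} (f : X ⟶ Y) [Flat f] [Surjective f]
    (U : Y.Opens) : Function.Injective (f.app U) := by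
  rw [injective_iff_map_eq_zero]
  intro s hs
  apply TopCat.Presheaf.section_ext Y.sheaf U
  intro y hy
  obtain ⟨x, rfl⟩ := f.surjective y
  have hinj : Function.Injective (f.stalkMap x) := by
    algebraize [(f.stalkMap x).hom]
    have : Module.FaithfullyFlat (Y.presheaf.stalk (f x)) (X.presheaf.stalk x) :=
      @Module.FaithfullyFlat.of_flat_of_isLocalHom _ _ _ _ _ _ _
        (Flat.stalkMap f x) (f.toLRSHom.prop x)
    exact ‹RingHom.FaithfullyFlat _›.injective
  have h1 := Scheme.Hom.germ_stalkMap_apply f U x hy s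
  rw [hs, map_zero] at h1
  have h4 : (Y.presheaf.germ U (f x) hy) s = 0 := by
    apply hinj
    rw [map_zero]
    exact h1
  have h5 : (Y.presheaf.germ U (f x) hy) (0 : ↑Γ(Y, U)) = 0 := map_zero _
  exact h4.trans h5.symm

/-- every morphism from `X ×_S Y` to an affine scheme factors through `Y` when `O(X) = O(S)`. -/
theorem eq_snd_comp_of_isAffine {X Y S Z : Scheme.{u}} (a : X ⟶ S) (b : Y ⟶ S)
    [IsAffine S] [CompactSpace X] [QuasiSeparatedSpace X] (ha : IsIso a.appTop) [Flat b]
    (σ : Y ⟶ pullback a b) (hσ : σ ≫ pullback.snd a b = 𝟙 Y) [IsAffine Z]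
    (F : pullback a b ⟶ Z) : F = pullback.snd a b ≫ σ ≫ F := by
  apply Scheme.Cover.hom_ext (Y.affineCover.pullback₁ (pullback.snd a b))
  intro i
  have : IsAffine (Y.affineCover.X i) := by
    dsimp [Scheme.affineCover]
    infer_instance
  have : IsOpenImmersion (Y.affineCover.f i) := Y.affineCover.map_prop i
  have : Flat (Y.affineCover.f i ≫ b) := inferInstance
  exact Groth.Agent.Lib.Helper75.AAFactor.comp_eq_of_forall_mem_affineOpen a b ha σ hσ F
    (Y.affineCover.f i) ⊤ (isAffineOpen_top Z) (fun _ => trivial)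

end Groth.Agent.Lib.Helper75.AAExt
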