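import Mathlib
import Groth.Prelude

/-!
# Affine pieces `Spec (B ⊗[k] C) ⟶ X ×_k Y` of a product over a field
-/

set_option autoImplicit false
set_option backward.isDefEq.respectTransparency false
universe u
open CategoryTheory CategoryTheory.Limits AlgebraicGeometry TensorProduct

namespace Groth.Agent.Lib.Helper75.AAPiece

variable {k : Type u} [Field k] {X Y : Scheme.{u}} (a : X ⟶ Spec (CommRingCat.of k))
  (b : Y ⟶ Spec (CommRingCat.of k))

/-- the affine piece of the product attached to `Spec B ⟶ X` and `Spec C ⟶ Y` -/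
noncomputable def piece (B C : Type u) [CommRing B] [CommRing C] [Algebra k B] [Algebra k C]
    (u : Spec (CommRingCat.of B) ⟶ X)
    (hu : u ≫ a = Spec.map (CommRingCat.ofHom (algebraMap k B)))
    (v : Spec (CommRingCat.of C) ⟶ Y)
    (hv : v ≫ b = Spec.map (CommRingCat.ofHom (algebraMap k C))) :
    Spec (CommRingCat.of (B ⊗[k] C)) ⟶ pullback a b :=
  (pullbackSpecIso k B C).inv ≫ pullback.map _ _ _ _ u v (𝟙 _)
    (by rw [Category.comp_id, hu]) (by rw [Category.comp_id, hv])

variable (B C : Type u) [CommRing B] [CommRing C] [Algebra k B] [Algebra k C]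
    (u : Spec (CommRingCat.of B) ⟶ X)
    (hu : u ≫ a = Spec.map (CommRingCat.ofHom (algebraMap k B)))
    (v : Spec (CommRingCat.of C) ⟶ Y)
    (hv : v ≫ b = Spec.map (CommRingCat.ofHom (algebraMap k C)))

theorem piece_fst :
    piece a b B C u hu v hv ≫ pullback.fst a b =
      Spec.map (CommRingCat.ofHom (Algebra.TensorProduct.includeLeftRingHom :
        B →+* B ⊗[k] C)) ≫ u := by
  simp [piece]

theorem piece_snd :
    piece a b B C u hu v hv ≫ pullback.snd a b =
      Spec.map (CommRingCat.ofHom
        ((Algebra.TensorProduct.includeRight : C →ₐ[k] B ⊗[k] C) : C →+* B ⊗[k] C)) ≫ v := by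
  simp [piece]

theorem range_piece :
    Set.range (piece a b B C u hu v hv) =
      pullback.fst a b ⁻¹' Set.range u ∩ pullback.snd a b ⁻¹' Set.range v := by
  unfold piece
  rw [Scheme.Hom.comp_base, TopCat.coe_comp, Set.range_comp]
  have : Set.range ⇑(pullbackSpecIso k B C).inv = Set.univ :=
    Set.range_eq_univ.mpr (pullbackSpecIso k B C).inv.homeomorph.surjective
  rw [this, Set.image_univ, Scheme.Pullback.range_map]

instance [IsOpenImmersion u] [IsOpenImmersion v] : IsOpenImmersion (piece a b B C u hu v hv) := by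
  unfold piece
  infer_instance

/-- functoriality of the piece in the second ring -/
theorem piece_map_right (C' : Type u) [CommRing C'] [Algebra k C'] (φ : C →ₐ[k] C')
    (v' : Spec (CommRingCat.of C') ⟶ Y)
    (hv' : v' ≫ b = Spec.map (CommRingCat.ofHom (algebraMap k C')))
    (hvv' : v' = Spec.map (CommRingCat.ofHom (φ : C →+* C')) ≫ v) :
    piece a b B C' u hu v' hv' =
      Spec.map (CommRingCat.ofHom
        ((Algebra.TensorProduct.map (AlgHom.id k B) φ : B ⊗[k] C →ₐ[k] B ⊗[k] C') :
          B ⊗[k] C →+* B ⊗[k] C')) ≫ piece a b B C u hu v hv := by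
  apply pullback.hom_ext
  · rw [piece_fst, Category.assoc, piece_fst, ← Category.assoc, ← Spec.map_comp]
    congr 2
    ext x
    simp
  · rw [piece_snd, Category.assoc, piece_snd, ← Category.assoc, ← Spec.map_comp, hvv',
      ← Category.assoc, ← Spec.map_comp]
    congr 2

end Groth.Agent.Lib.Helper75.AAPiece
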