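import Mathlib
import Groth.Prelude
import Groth.Agent.Lib.Helper75.AAAlg
import Groth.Agent.Lib.Helper75.AAFactor
import Groth.Agent.Lib.Helper75.AAEq
import Groth.Agent.Lib.Helper75.AAPiece

/-!
# Anti-affine rigidity: the local step (infinitesimal neighbourhoods + Krull)
-/

set_option autoImplicit false
set_option backward.isDefEq.respectTransparency false
universe u
open CategoryTheory CategoryTheory.Limits AlgebraicGeometry TensorProduct

namespace Groth.Agent.Lib.Helper75.AALocal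

open Groth.Agent.Lib.Helper75.AAAlg Groth.Agent.Lib.Helper75.AAPiece

/-- every point of `Spec (A_p / m^n)` lies over `p`. -/
theorem comap_Q_eq {C : Type u} [CommRing C] (p : Ideal C) [p.IsPrime] (n : ℕ)
    (w : PrimeSpectrum (Q p n)) :
    Ideal.comap (algebraMap C (Q p n)) w.asIdeal = p := by
  have h0 : algebraMap C (Q p n) =
      (Ideal.Quotient.mk ((IsLocalRing.maximalIdeal (Localization.AtPrime p)) ^ n)).comp
        (algebraMap C (Localization.AtPrime p)) := by
    ext x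
    rfl
  rw [h0, ← Ideal.comap_comap]
  have hw' : (Ideal.comap (Ideal.Quotient.mk
      ((IsLocalRing.maximalIdeal (Localization.AtPrime p)) ^ n)) w.asIdeal).IsPrime :=
    Ideal.comap_isPrime _ _
  have h1 : (IsLocalRing.maximalIdeal (Localization.AtPrime p)) ^ n ≤
      Ideal.comap (Ideal.Quotient.mk
        ((IsLocalRing.maximalIdeal (Localization.AtPrime p)) ^ n)) w.asIdeal := by
    intro x hx
    rw [Ideal.mem_comap, Ideal.Quotient.eq_zero_iff_mem.mpr hx]
    exact Ideal.zero_mem _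
  have h2 := Ideal.IsPrime.le_of_pow_le h1
  have h3 : IsLocalRing.maximalIdeal (Localization.AtPrime p) =
      Ideal.comap (Ideal.Quotient.mk
        ((IsLocalRing.maximalIdeal (Localization.AtPrime p)) ^ n)) w.asIdeal :=
    (IsLocalRing.maximalIdeal.isMaximal _).eq_of_le hw'.ne_top h2
  rw [← h3]
  exact Localization.AtPrime.under_maximalIdeal

variable {k : Type u} [Field k] {X Y Z : Scheme.{u}} (a : X ⟶ Spec (CommRingCat.of k))
  (b : Y ⟶ Spec (CommRingCat.of k))

/-- the test morphism from the `n`-th infinitesimal neighbourhood -/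
noncomputable def tn (C : Type u) [CommRing C] (p : Ideal C) [p.IsPrime]
    (v : Spec (CommRingCat.of C) ⟶ Y) (n : ℕ) : Spec (CommRingCat.of (Q p n)) ⟶ Y :=
  Spec.map (CommRingCat.ofHom (algebraMap C (Q p n))) ≫ v

theorem tn_apply (C : Type u) [CommRing C] (p : Ideal C) [p.IsPrime]
    (v : Spec (CommRingCat.of C) ⟶ Y) (n : ℕ) (w : ↥(Spec (CommRingCat.of (Q p n)))) :
    (tn C p v n) w = v ⟨p, inferInstance⟩ := by
  unfold tn
  rw [Scheme.Hom.comp_apply]
  congr 1
  apply PrimeSpectrum.ext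
  exact comap_Q_eq p n w

theorem infinitesimal [CompactSpace X] [QuasiSeparatedSpace X] (ha : IsIso a.appTop)
    (σ : Y ⟶ pullback a b) (hσ : σ ≫ pullback.snd a b = 𝟙 Y) (F : pullback a b ⟶ Z)
    (C : Type u) [CommRing C] (p : Ideal C) [p.IsPrime]
    (v : Spec (CommRingCat.of C) ⟶ Y) (Z₀ : Z.Opens) (hZ₀ : IsAffineOpen Z₀)
    (hy : ∀ q : ↥(pullback a b), (pullback.snd a b) q = v ⟨p, inferInstance⟩ → F q ∈ Z₀) (n : ℕ) :
    pullback.fst (pullback.snd a b) (tn C p v n) ≫ F =
      pullback.fst (pullback.snd a b) (tn C p v n) ≫ pullback.snd a b ≫ σ ≫ F := by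
  apply Groth.Agent.Lib.Helper75.AAFactor.comp_eq_of_forall_mem_affineOpen a b ha σ hσ F
    (tn C p v n) Z₀ hZ₀
  intro q
  rw [Scheme.Hom.comp_apply]
  apply hy
  rw [← Scheme.Hom.comp_apply, pullback.condition, Scheme.Hom.comp_apply, tn_apply]

attribute [local instance] Algebra.TensorProduct.rightAlgebra

/-- `B ⊗[k] C ≃ C ⊗[k] B` as `C`-modules (right algebra structure on the left). -/
noncomputable def commLin (k B C : Type u) [Field k] [CommRing B] [CommRing C] [Algebra k B]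
    [Algebra k C] : C ⊗[k] B ≃ₗ[C] B ⊗[k] C :=
  { (Algebra.TensorProduct.comm k C B).toLinearEquiv with
    map_smul' := by
      intro c x
      simp only [AlgEquiv.toLinearEquiv_toLinearMap, AddHom.toFun_eq_coe, LinearMap.coe_toAddHom,
        AlgEquiv.toLinearMap_apply, RingHom.id_apply]
      rw [Algebra.smul_def, Algebra.smul_def, map_mul]
      congr 1 }

theorem free_right (k B C : Type u) [Field k] [CommRing B] [CommRing C] [Algebra k B]
    [Algebra k C] : Module.Free C (B ⊗[k] C) := Module.Free.of_equiv (commLin k B C)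

/-- Lemma A2a: on an affine piece, the equalizer ideal is killed by some `s ∉ p`. -/
theorem exists_mul_eq_zero [CompactSpace X] [QuasiSeparatedSpace X] (ha : IsIso a.appTop)
    (σ : Y ⟶ pullback a b) (hσ : σ ≫ pullback.snd a b = 𝟙 Y) (F : pullback a b ⟶ Z)
    (B C : Type u) [CommRing B] [CommRing C] [Algebra k B] [Algebra k C] [IsNoetherianRing C]
    [IsNoetherianRing (B ⊗[k] C)] (p : Ideal C) [p.IsPrime]
    (u : Spec (CommRingCat.of B) ⟶ X)
    (hu : u ≫ a = Spec.map (CommRingCat.ofHom (algebraMap k B)))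
    (v : Spec (CommRingCat.of C) ⟶ Y)
    (hv : v ≫ b = Spec.map (CommRingCat.ofHom (algebraMap k C)))
    (Z₀ : Z.Opens) (hZ₀ : IsAffineOpen Z₀)
    (hy : ∀ q : ↥(pullback a b), (pullback.snd a b) q = v ⟨p, inferInstance⟩ → F q ∈ Z₀)
    (I : Ideal (B ⊗[k] C))
    (hI : ∀ (R' : CommRingCat.{u}) (φ : CommRingCat.of (B ⊗[k] C) ⟶ R'),
      Spec.map φ ≫ piece a b B C u hu v hv ≫ F =
        Spec.map φ ≫ piece a b B C u hu v hv ≫ pullback.snd a b ≫ σ ≫ F →
      I ≤ RingHom.ker φ.hom) :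
    ∃ s : C, s ∉ p ∧ ∀ r ∈ I, (1 ⊗ₜ[k] s : B ⊗[k] C) * r = 0 := by
  have hfree : Module.Free C (B ⊗[k] C) := free_right k B C
  have hfg : I.FG := IsNoetherian.noetherian I
  have key : ∀ (n : ℕ) (r : B ⊗[k] C), r ∈ I → (1 : Q p n) ⊗ₜ[C] r = 0 := by
    intro n r hr
    let φ : CommRingCat.of (B ⊗[k] C) ⟶ CommRingCat.of (Q p n ⊗[C] (B ⊗[k] C)) :=
      CommRingCat.ofHom ((Algebra.TensorProduct.includeRight :
        (B ⊗[k] C) →ₐ[C] Q p n ⊗[C] (B ⊗[k] C)) : (B ⊗[k] C) →+* Q p n ⊗[C] (B ⊗[k] C))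
    have hcomm : (Spec.map φ ≫ piece a b B C u hu v hv) ≫ pullback.snd a b =
        Spec.map (CommRingCat.ofHom (algebraMap (Q p n) (Q p n ⊗[C] (B ⊗[k] C)))) ≫
          tn C p v n := by
      rw [Category.assoc, piece_snd, ← Category.assoc, ← Spec.map_comp]
      unfold tn
      rw [← Category.assoc, ← Spec.map_comp]
      congr 2
      ext x
      simp only [φ, CommRingCat.hom_comp, CommRingCat.hom_ofHom, RingHom.coe_comp,
        Function.comp_apply]
      change (Algebra.TensorProduct.includeRight :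
        (B ⊗[k] C) →ₐ[C] Q p n ⊗[C] (B ⊗[k] C)) (algebraMap C (B ⊗[k] C) x) = _
      rw [AlgHom.commutes, Algebra.TensorProduct.algebraMap_apply]
      rfl
    let κ := pullback.lift _ _ hcomm
    have hκ : κ ≫ pullback.fst (pullback.snd a b) (tn C p v n) =
        Spec.map φ ≫ piece a b B C u hu v hv := pullback.lift_fst _ _ _
    have hinf := infinitesimal a b ha σ hσ F C p v Z₀ hZ₀ hy n
    have h1 : Spec.map φ ≫ piece a b B C u hu v hv ≫ F =
        Spec.map φ ≫ piece a b B C u hu v hv ≫ pullback.snd a b ≫ σ ≫ F := by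
      rw [← Category.assoc, ← hκ, Category.assoc, hinf, ← Category.assoc κ, hκ, Category.assoc]
    have h2 := hI _ φ h1 hr
    rw [RingHom.mem_ker] at h2
    exact h2
  obtain ⟨s, hs, hs0⟩ := exists_smul_eq_zero p I hfg key
  refine ⟨s, hs, fun r hr => ?_⟩
  have := hs0 r hr
  rw [Algebra.smul_def] at this
  exact this

/-- Lemma A2b: if `1 ⊗ s` kills the equalizer ideal, the two morphisms agree on the piece
over `D(s)`. -/
theorem piece_away_comp_eq
    (σ : Y ⟶ pullback a b) (F : pullback a b ⟶ Z)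
    (B C : Type u) [CommRing B] [CommRing C] [Algebra k B] [Algebra k C]
    (u : Spec (CommRingCat.of B) ⟶ X)
    (hu : u ≫ a = Spec.map (CommRingCat.ofHom (algebraMap k B)))
    (v : Spec (CommRingCat.of C) ⟶ Y)
    (hv : v ≫ b = Spec.map (CommRingCat.ofHom (algebraMap k C)))
    (I : Ideal (B ⊗[k] C))
    (hI : ∀ (R' : CommRingCat.{u}) (φ : CommRingCat.of (B ⊗[k] C) ⟶ R'),
      I ≤ RingHom.ker φ.hom →
      Spec.map φ ≫ piece a b B C u hu v hv ≫ F =
        Spec.map φ ≫ piece a b B C u hu v hv ≫ pullback.snd a b ≫ σ ≫ F)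
    (s : C) (hs : ∀ r ∈ I, (1 ⊗ₜ[k] s : B ⊗[k] C) * r = 0)
    (C' : Type u) [CommRing C'] [Algebra k C'] [Algebra C C'] [IsScalarTower k C C']
    (hunit : IsUnit (algebraMap C C' s))
    (v' : Spec (CommRingCat.of C') ⟶ Y)
    (hv' : v' ≫ b = Spec.map (CommRingCat.ofHom (algebraMap k C')))
    (hvv' : v' = Spec.map (CommRingCat.ofHom (algebraMap C C')) ≫ v) :
    piece a b B C' u hu v' hv' ≫ F =
      piece a b B C' u hu v' hv' ≫ pullback.snd a b ≫ σ ≫ F := by
  have h1 := piece_map_right a b B C u hu v hv C' (IsScalarTower.toAlgHom k C C') v' hv' hvv'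
  rw [h1, Category.assoc, Category.assoc]
  apply hI
  intro r hr
  rw [RingHom.mem_ker]
  have h2 := congrArg (Algebra.TensorProduct.map (AlgHom.id k B) (IsScalarTower.toAlgHom k C C'))
    (hs r hr)
  rw [map_mul, map_zero, Algebra.TensorProduct.map_tmul] at h2
  have hu' : IsUnit ((AlgHom.id k B) 1 ⊗ₜ[k] (IsScalarTower.toAlgHom k C C') s : B ⊗[k] C') := by
    have : ((AlgHom.id k B) 1 ⊗ₜ[k] (IsScalarTower.toAlgHom k C C') s : B ⊗[k] C') =
        (Algebra.TensorProduct.includeRight : C' →ₐ[k] B ⊗[k] C') (algebraMap C C' s) := by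
      simp
    rw [this]
    exact hunit.map _
  exact (hu'.mul_right_eq_zero).mp h2

end Groth.Agent.Lib.Helper75.AALocal
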