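import Mathlib
import Groth.Prelude
import Groth.Agent.Lib.Helper75.AALocal
import Groth.Agent.Lib.Helper75.AAChart

/-!
# Anti-affine rigidity: the locus where `F` factors through the second projection is open
-/

set_option autoImplicit false
set_option backward.isDefEq.respectTransparency false
universe u
open CategoryTheory CategoryTheory.Limits AlgebraicGeometry TensorProduct

namespace Groth.Agent.Lib.Helper75.AAOpen

open Groth.Agent.Lib.Helper75.AAAlg Groth.Agent.Lib.Helper75.AAPiece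
  Groth.Agent.Lib.Helper75.AALocal Groth.Agent.Lib.Helper75.AAChart

/-- `F` and `G` agree on an open neighbourhood of `q`. -/
def LocEq {P Z : Scheme.{u}} (F G : P ⟶ Z) (q : P) : Prop :=
  ∃ O : P.Opens, q ∈ O ∧ O.ι ≫ F = O.ι ≫ G

theorem locEq_of_mem_range {P Z W : Scheme.{u}} (F G : P ⟶ Z) (j : W ⟶ P) [IsOpenImmersion j]
    (h : j ≫ F = j ≫ G) (q : P) (hq : q ∈ Set.range j) : LocEq F G q := by
  refine ⟨j.opensRange, hq, ?_⟩
  rw [← j.isoOpensRange_inv_comp, Category.assoc, Category.assoc, h]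

theorem eq_of_forall_locEq {P Z : Scheme.{u}} (F G : P ⟶ Z) (h : ∀ q, LocEq F G q) : F = G := by
  choose O hO hFG using h
  have hcov : TopologicalSpace.IsOpenCover O := by
    show ⨆ q, O q = ⊤
    rw [eq_top_iff]
    intro q _
    rw [TopologicalSpace.Opens.mem_iSup]
    exact ⟨q, hO q⟩
  apply (P.openCoverOfIsOpenCover O hcov).hom_ext
  intro q
  exact hFG q

variable {k : Type u} [Field k] {X Y Z : Scheme.{u}} (a : X ⟶ Spec (CommRingCat.of k))
  (b : Y ⟶ Spec (CommRingCat.of k)) (c : Z ⟶ Spec (CommRingCat.of k))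

theorem G_comp (σ : Y ⟶ pullback a b) (hσ : σ ≫ pullback.snd a b = 𝟙 Y) (F : pullback a b ⟶ Z)
    (hF : F ≫ c = pullback.fst a b ≫ a) :
    (pullback.snd a b ≫ σ ≫ F) ≫ c = F ≫ c := by
  rw [Category.assoc, Category.assoc, hF, pullback.condition, ← Category.assoc σ, hσ,
    Category.id_comp]

/-- the chart of `Y` over `D(s)` -/
noncomputable def vAway (C : Type u) [CommRing C] (v : Spec (CommRingCat.of C) ⟶ Y) (s : C) :
    Spec (CommRingCat.of (Localization.Away s)) ⟶ Y :=
  Spec.map (CommRingCat.ofHom (algebraMap C (Localization.Away s))) ≫ v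

theorem vAway_comp (C : Type u) [CommRing C] [Algebra k C] (v : Spec (CommRingCat.of C) ⟶ Y)
    (hv : v ≫ b = Spec.map (CommRingCat.ofHom (algebraMap k C))) (s : C) :
    vAway C v s ≫ b = Spec.map (CommRingCat.ofHom (algebraMap k (Localization.Away s))) := by
  unfold vAway
  rw [Category.assoc, hv, ← Spec.map_comp]
  congr 1

instance (C : Type u) [CommRing C] (v : Spec (CommRingCat.of C) ⟶ Y) [IsOpenImmersion v] (s : C) :
    IsOpenImmersion (vAway C v s) := by
  unfold vAway
  infer_instance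

theorem range_vAway (C : Type u) [CommRing C] (v : Spec (CommRingCat.of C) ⟶ Y) (s : C)
    (p₀ : PrimeSpectrum C) (hp₀ : s ∉ p₀.asIdeal) : v p₀ ∈ Set.range (vAway C v s) := by
  have h1 : p₀ ∈ Set.range (PrimeSpectrum.comap (algebraMap C (Localization.Away s))) := by
    rw [PrimeSpectrum.localization_away_comap_range (Localization.Away s) s]
    exact hp₀
  obtain ⟨w, hw⟩ := h1
  refine ⟨w, ?_⟩
  unfold vAway
  rw [Scheme.Hom.comp_apply]
  congr 1

attribute [local instance] Algebra.TensorProduct.rightAlgebra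

/-- Lemma A2c: on an affine chart the two morphisms agree over `D(s')` for all multiples `s'`
of some `s ∉ p`. -/
theorem exists_away_piece_eq [CompactSpace X] [QuasiSeparatedSpace X] [IsSeparated c]
    (ha : IsIso a.appTop)
    (σ : Y ⟶ pullback a b) (hσ : σ ≫ pullback.snd a b = 𝟙 Y) (F : pullback a b ⟶ Z)
    (hF : F ≫ c = pullback.fst a b ≫ a)
    (B C : Type u) [CommRing B] [CommRing C] [Algebra k B] [Algebra k C] [IsNoetherianRing C]
    [Algebra.FiniteType k B] (p : Ideal C) [p.IsPrime]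
    (u : Spec (CommRingCat.of B) ⟶ X)
    (hu : u ≫ a = Spec.map (CommRingCat.ofHom (algebraMap k B)))
    (v : Spec (CommRingCat.of C) ⟶ Y)
    (hv : v ≫ b = Spec.map (CommRingCat.ofHom (algebraMap k C)))
    (Z₀ : Z.Opens) (hZ₀ : IsAffineOpen Z₀)
    (hy : ∀ q : ↥(pullback a b), (pullback.snd a b) q = v ⟨p, inferInstance⟩ → F q ∈ Z₀) :
    ∃ s : C, s ∉ p ∧ ∀ s' : C, s ∣ s' →
      piece a b B (Localization.Away s') u hu (vAway C v s') (vAway_comp b C v hv s') ≫ F =
      piece a b B (Localization.Away s') u hu (vAway C v s') (vAway_comp b C v hv s') ≫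
        pullback.snd a b ≫ σ ≫ F := by
  have hN : IsNoetherianRing (B ⊗[k] C) := by
    have h1 : Algebra.FiniteType C (C ⊗[k] B) := Algebra.FiniteType.baseChange C
    have h2 : IsNoetherianRing (C ⊗[k] B) := Algebra.FiniteType.isNoetherianRing C _
    exact isNoetherianRing_of_ringEquiv (C ⊗[k] B) (Algebra.TensorProduct.comm k C B).toRingEquiv
  have hover : (piece a b B C u hu v hv ≫ F) ≫ c =
      (piece a b B C u hu v hv ≫ pullback.snd a b ≫ σ ≫ F) ≫ c := by
    rw [Category.assoc, Category.assoc, G_comp a b c σ hσ F hF]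
  obtain ⟨I, hI⟩ := Groth.Agent.Lib.Helper75.AAEq.exists_ideal_equalizer c
    (CommRingCat.of (B ⊗[k] C)) _ _ hover
  obtain ⟨s, hs, hs0⟩ := exists_mul_eq_zero a b ha σ hσ F B C p u hu v hv Z₀ hZ₀ hy I
    (fun R' φ h => (hI R' φ).mp h)
  refine ⟨s, hs, ?_⟩
  rintro s' ⟨w, rfl⟩
  apply piece_away_comp_eq a b σ F B C u hu v hv I (fun R' φ h => (hI R' φ).mpr h) (s * w) ?_
    (Localization.Away (s * w)) (IsLocalization.Away.algebraMap_isUnit (s * w)) (vAway C v (s * w))
    (vAway_comp b C v hv (s * w)) rfl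
  intro r hr
  have : (1 ⊗ₜ[k] (s * w) : B ⊗[k] C) = (1 ⊗ₜ[k] w) * (1 ⊗ₜ[k] s) := by
    rw [Algebra.TensorProduct.tmul_mul_tmul, one_mul, mul_comm]
  rw [this, mul_assoc, hs0 r hr, mul_zero]

/-- Claim A: set-theoretic agreement over a point `y` spreads to agreement over an open
neighbourhood of `y`. -/
theorem exists_open_locEq [CompactSpace X] [QuasiSeparatedSpace X] [LocallyOfFiniteType a]
    [IsLocallyNoetherian Y] [IsSeparated c] (ha : IsIso a.appTop)
    (σ : Y ⟶ pullback a b) (hσ : σ ≫ pullback.snd a b = 𝟙 Y) (F : pullback a b ⟶ Z)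
    (hF : F ≫ c = pullback.fst a b ≫ a) (y : Y)
    (hy : ∀ q : ↥(pullback a b), (pullback.snd a b) q = y →
      F q = (pullback.snd a b ≫ σ ≫ F) q) :
    ∃ V : Y.Opens, y ∈ V ∧ ∀ q : ↥(pullback a b), (pullback.snd a b) q ∈ V →
      LocEq F (pullback.snd a b ≫ σ ≫ F) q := by
  classical
  -- the common value on the fibre
  have hz : ∀ q : ↥(pullback a b), (pullback.snd a b) q = y → F q = (σ ≫ F) y := by
    intro q hq
    rw [hy q hq, Scheme.Hom.comp_apply, hq]
  obtain ⟨_, ⟨Z₀, hZ₀, rfl⟩, hzZ₀, -⟩ :=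
    Z.isBasis_affineOpens.exists_subset_of_mem_open (Set.mem_univ ((σ ≫ F) y)) isOpen_univ
  -- a chart of `Y` at `y`
  obtain ⟨C, _, _, v, hvopen, hv, ⟨p₀, hp₀⟩, -, hCN⟩ := exists_chart b y
  have hCN' : IsNoetherianRing C := hCN inferInstance
  have hpprime : p₀.asIdeal.IsPrime := p₀.isPrime
  have hyZ : ∀ q : ↥(pullback a b), (pullback.snd a b) q = v ⟨p₀.asIdeal, inferInstance⟩ →
      F q ∈ Z₀ := by
    intro q hq
    have : (pullback.snd a b) q = y := by rw [hq, ← hp₀]; rfl
    rw [hz q this]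
    exact hzZ₀
  -- charts of `X`
  choose B instB algB u huopen hu hxu hBft _ using fun x : X => exists_chart a x
  have hBft' : ∀ x, Algebra.FiniteType k (B x) := fun x => hBft x inferInstance
  obtain ⟨t, ht⟩ := isCompact_univ.elim_finite_subcover (fun x : X => Set.range (u x))
    (fun x => (u x).isOpenEmbedding.isOpen_range) (fun x _ => Set.mem_iUnion.mpr ⟨x, hxu x⟩)
  -- the elements `s_x`
  have hex : ∀ x : X, ∃ s : C, s ∉ p₀.asIdeal ∧ ∀ s' : C, s ∣ s' →
      piece a b (B x) (Localization.Away s') (u x) (hu x) (vAway C v s')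
        (vAway_comp b C v hv s') ≫ F =
      piece a b (B x) (Localization.Away s') (u x) (hu x) (vAway C v s')
        (vAway_comp b C v hv s') ≫ pullback.snd a b ≫ σ ≫ F := fun x =>
    exists_away_piece_eq a b c ha σ hσ F hF (B x) C p₀.asIdeal (u x) (hu x) v hv Z₀ hZ₀ hyZ
  choose s hs hs' using hex
  let S : C := ∏ x ∈ t, s x
  have hS : S ∉ p₀.asIdeal := by
    have : S ∈ p₀.asIdeal.primeCompl := Submonoid.prod_mem _ fun x _ => hs x
    exact this
  refine ⟨(vAway C v S).opensRange, ?_, ?_⟩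
  · rw [← hp₀]
    exact range_vAway C v S p₀ hS
  · intro q hq
    have hq1 : (pullback.fst a b) q ∈ ⋃ x ∈ t, Set.range (u x) := ht (Set.mem_univ _)
    rw [Set.mem_iUnion₂] at hq1
    obtain ⟨x, hxt, hxq⟩ := hq1
    have hdvd : s x ∣ S := Finset.dvd_prod_of_mem s hxt
    refine locEq_of_mem_range F _ (piece a b (B x) (Localization.Away S) (u x) (hu x)
      (vAway C v S) (vAway_comp b C v hv S)) (hs' x S hdvd) q ?_
    rw [range_piece]
    exact ⟨hxq, hq⟩

end Groth.Agent.Lib.Helper75.AAOpen
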