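import Mathlib
import Groth.Prelude
import Groth.Agent.Lib.Helper75.AAOpen

/-!
# Anti-affine rigidity over a connected locally Noetherian base (scheme-level statement)
-/

set_option autoImplicit false
set_option backward.isDefEq.respectTransparency false
universe u
open CategoryTheory CategoryTheory.Limits AlgebraicGeometry

namespace Groth.Agent.Lib.Helper75.AAGlobal

open Groth.Agent.Lib.Helper75.AAOpen

/-- a closed set containing the locus of local agreement, on which `F` and `G` agree pointwise -/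
theorem exists_closed {S P Z : Scheme.{u}} (c : Z ⟶ S) [IsSeparated c] (F G : P ⟶ Z)
    (h : F ≫ c = G ≫ c) :
    ∃ T : Set P, IsClosed T ∧ (∀ q, LocEq F G q → q ∈ T) ∧ (∀ q ∈ T, F q = G q) := by
  let W' : Over S := Over.mk (F ≫ c)
  let Z' : Over S := Over.mk c
  let F' : W' ⟶ Z' := Over.homMk F rfl
  let G' : W' ⟶ Z' := Over.homMk G h.symm
  have hZ' : IsSeparated Z'.hom := ‹IsSeparated c›
  have hcl : IsClosedImmersion (equalizer.ι F' G').left := inferInstance
  have hcond : (equalizer.ι F' G').left ≫ F = (equalizer.ι F' G').left ≫ G := by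
    have := congrArg (fun t => t.left) (equalizer.condition F' G')
    exact this
  refine ⟨Set.range (equalizer.ι F' G').left,
    (equalizer.ι F' G').left.isClosedEmbedding.isClosed_range, ?_, ?_⟩
  · rintro q ⟨O, hqO, hO⟩
    let O' : Over S := Over.mk (O.ι ≫ F ≫ c)
    let o : O' ⟶ W' := Over.homMk O.ι rfl
    have ho : o ≫ F' = o ≫ G' := by
      ext
      exact hO
    let l : O' ⟶ equalizer F' G' := equalizer.lift o ho
    have hl : l.left ≫ (equalizer.ι F' G').left = O.ι := by
      have := congrArg (fun t => t.left) (equalizer.lift_ι o ho)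
      exact this
    refine ⟨l.left ⟨q, hqO⟩, ?_⟩
    rw [← Scheme.Hom.comp_apply, hl]
    rfl
  · rintro _ ⟨q', rfl⟩
    have := congrArg (fun t : (equalizer F' G').left ⟶ Z => t q') hcond
    simp only [Scheme.Hom.comp_apply] at this
    exact this

variable {k : Type u} [Field k] {X Y Z : Scheme.{u}} (a : X ⟶ Spec (CommRingCat.of k))
  (b : Y ⟶ Spec (CommRingCat.of k)) (c : Z ⟶ Spec (CommRingCat.of k))

/-- Anti-affine rigidity, scheme-level: `X` of finite type with `O(X) = k`, `Y` connected and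
locally Noetherian, `Z` separated; if `F` and `F ∘ σ ∘ pr₂` agree set-theoretically over one point
of `Y`, they agree. -/
theorem eq_of_connected [CompactSpace X] [QuasiSeparatedSpace X] [LocallyOfFiniteType a]
    [IsLocallyNoetherian Y] [ConnectedSpace Y] [IsSeparated c] (ha : IsIso a.appTop)
    (σ : Y ⟶ pullback a b) (hσ : σ ≫ pullback.snd a b = 𝟙 Y) (F : pullback a b ⟶ Z)
    (hF : F ≫ c = pullback.fst a b ≫ a) (y₀ : Y)
    (hy₀ : ∀ q : ↥(pullback a b), (pullback.snd a b) q = y₀ →
      F q = (pullback.snd a b ≫ σ ≫ F) q) :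
    F = pullback.snd a b ≫ σ ≫ F := by
  set G := pullback.snd a b ≫ σ ≫ F with hG
  have hover : F ≫ c = G ≫ c := (G_comp a b c σ hσ F hF).symm
  obtain ⟨T, hTcl, hT1, hT2⟩ := exists_closed c F G hover
  let U : Set Y := {y | ∃ V : Y.Opens, y ∈ V ∧
    ∀ q : ↥(pullback a b), (pullback.snd a b) q ∈ V → LocEq F G q}
  have hUopen : IsOpen U := by
    rw [isOpen_iff_forall_mem_open]
    rintro y ⟨V, hyV, hV⟩
    exact ⟨V, fun y' hy' => ⟨V, hy', hV⟩, V.isOpen, hyV⟩
  have hUclosed : IsClosed U := by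
    rw [← closure_subset_iff_isClosed]
    intro y₁ hy₁
    apply exists_open_locEq a b c ha σ hσ F hF y₁
    intro q hq
    apply hT2
    by_contra hqT
    have hopen : IsOpen ((pullback.snd a b) '' Tᶜ) :=
      (pullback.snd a b).isOpenMap _ hTcl.isOpen_compl
    have hmem : y₁ ∈ (pullback.snd a b) '' Tᶜ := ⟨q, hqT, hq⟩
    obtain ⟨y', ⟨q', hq'T, rfl⟩, V, hq'V, hV⟩ := mem_closure_iff.mp hy₁ _ hopen hmem
    exact hq'T (hT1 q' (hV q' hq'V))
  have hUne : U.Nonempty := ⟨y₀, exists_open_locEq a b c ha σ hσ F hF y₀ hy₀⟩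
  have hUuniv : U = Set.univ := IsClopen.eq_univ ⟨hUclosed, hUopen⟩ hUne
  apply eq_of_forall_locEq
  intro q
  have : (pullback.snd a b) q ∈ U := by rw [hUuniv]; trivial
  obtain ⟨V, hqV, hV⟩ := this
  exact hV q hqV

end Groth.Agent.Lib.Helper75.AAGlobal
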