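import Mathlib
import Groth.Prelude
import Groth.Agent.Lib.Helper75.AAGlobal

/-!
# Anti-affine rigidity (Brion): statement for objects over `Spec k`

`X` of finite type over `k` with `O(X) = k`, `Y` connected locally Noetherian, `Z` separated,
`f : X × Y ⟶ Z` constant on `X × y₀`. Then `f` factors through the second projection.
-/

set_option autoImplicit false
set_option backward.isDefEq.respectTransparency false
universe u
open CategoryTheory CategoryTheory.Limits AlgebraicGeometry MonoidalCategory CartesianMonoidalCategory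

namespace Groth.Agent.Lib.Helper75.AARigidity

theorem exists_of_isPullback' {P X Y Z : Scheme.{u}} {fst' : P ⟶ X} {snd' : P ⟶ Y} {f : X ⟶ Z}
    {g : Y ⟶ Z} (h : IsPullback fst' snd' f g) (x : X) (y : Y) (hxy : f x = g y) :
    ∃ p : P, fst' p = x ∧ snd' p = y := by
  obtain ⟨z, hz1, hz2⟩ := Scheme.Pullback.exists_preimage_pullback x y hxy
  refine ⟨h.isoPullback.inv z, ?_, ?_⟩
  · have : (h.isoPullback.inv ≫ fst') z = x := by rw [h.isoPullback_inv_fst]; exact hz1
    exact this
  · have : (h.isoPullback.inv ≫ snd') z = y := by rw [h.isoPullback_inv_snd]; exact hz2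
    exact this

/-- `X ◁ f` is the base change of `f` along the second projection. -/
theorem isPullback_whiskerLeft_snd' {S : Scheme.{u}} (X : Over S) {Y Z : Over S} (f : Y ⟶ Z) :
    IsPullback (X ◁ f).left (snd X Y).left (snd X Z).left f.left := by
  have hright : IsPullback (pullback.fst X.hom Z.hom) (pullback.snd X.hom Z.hom) X.hom Z.hom :=
    IsPullback.of_hasPullback _ _
  have houter : IsPullback ((X ◁ f).left ≫ pullback.fst X.hom Z.hom) (pullback.snd X.hom Y.hom)
      X.hom (f.left ≫ Z.hom) := by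
    rw [Over.whiskerLeft_left_fst, Over.w f]
    exact IsPullback.of_hasPullback _ _
  exact IsPullback.of_right houter (Over.whiskerLeft_left_snd f) hright

theorem isIso_appTop_of_bijective {k : Type u} [Field k] {X : Scheme.{u}}
    (a : X ⟶ Spec (CommRingCat.of k))
    (hX : Function.Bijective ((Scheme.ΓSpecIso (CommRingCat.of k)).inv ≫ a.appTop).hom) :
    IsIso a.appTop := by
  have h1 : IsIso ((Scheme.ΓSpecIso (CommRingCat.of k)).inv ≫ a.appTop) :=
    (ConcreteCategory.isIso_iff_bijective _).mpr hX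
  exact IsIso.of_isIso_comp_left (Scheme.ΓSpecIso (CommRingCat.of k)).inv a.appTop

/-- **Anti-affine rigidity.** -/
theorem aa_rigidity (k : Type u) [Field k] (X Y Z : Over (Spec (CommRingCat.of k)))
    [LocallyOfFiniteType X.hom] [QuasiCompact X.hom]
    (hX : Function.Bijective ((Scheme.ΓSpecIso (CommRingCat.of k)).inv ≫ X.hom.appTop).hom)
    [IsLocallyNoetherian Y.left] [ConnectedSpace ↥Y.left] [IsSeparated Z.hom]
    (x₀ : 𝟙_ (Over (Spec (CommRingCat.of k))) ⟶ X) (y₀ : 𝟙_ (Over (Spec (CommRingCat.of k))) ⟶ Y)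
    (f : X ⊗ Y ⟶ Z) (hf : (X ◁ y₀) ≫ f = toUnit _ ≫ lift x₀ y₀ ≫ f) :
    f = snd X Y ≫ lift (toUnit Y ≫ x₀) (𝟙 Y) ≫ f := by
  have hcomp : CompactSpace X.left := (quasiCompact_iff_compactSpace X.hom).mp inferInstance
  have hN : IsLocallyNoetherian X.left := LocallyOfFiniteType.isLocallyNoetherian X.hom
  have hqs : QuasiSeparatedSpace X.left := inferInstance
  have ha := isIso_appTop_of_bijective X.hom hX
  let σ : Y.left ⟶ pullback X.hom Y.hom := (lift (toUnit Y ≫ x₀) (𝟙 Y)).left
  have hσ : σ ≫ pullback.snd X.hom Y.hom = 𝟙 Y.left := by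
    have : (lift (toUnit Y ≫ x₀) (𝟙 Y) ≫ snd X Y).left = (𝟙 Y : Y ⟶ Y).left := by
      rw [lift_snd]
    exact this
  have hF : f.left ≫ Z.hom = pullback.fst X.hom Y.hom ≫ X.hom := Over.w f
  let pt : ↥(𝟙_ (Over (Spec (CommRingCat.of k)))).left := (⊥ : PrimeSpectrum k)
  have key := Groth.Agent.Lib.Helper75.AAGlobal.eq_of_connected X.hom Y.hom Z.hom ha σ hσ f.left hF
    (y₀.left pt) ?_
  · ext
    exact key
  · intro q hq
    obtain ⟨q', hq', -⟩ := exists_of_isPullback' (isPullback_whiskerLeft_snd' X y₀) q pt hq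
    have e1 : (X ◁ y₀) ≫ snd X Y ≫ lift (toUnit Y ≫ x₀) (𝟙 Y) =
        toUnit _ ≫ lift x₀ y₀ := by
      rw [← Category.assoc, whiskerLeft_snd, Category.assoc, comp_lift, comp_lift,
        ← Category.assoc y₀, toUnit_unique (y₀ ≫ toUnit Y) (𝟙 _), Category.id_comp,
        Category.comp_id, toUnit_unique (snd X (𝟙_ _)) (toUnit _)]
      exact (comp_lift _ _ _).symm
    have e2 : (X ◁ y₀) ≫ f = (X ◁ y₀) ≫ snd X Y ≫ lift (toUnit Y ≫ x₀) (𝟙 Y) ≫ f := by
      rw [hf, ← Category.assoc (snd X Y), ← Category.assoc (X ◁ y₀), e1, Category.assoc]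
    have h1 := congrArg (fun t => t.left q') e2
    rw [← hq']
    exact h1

end Groth.Agent.Lib.Helper75.AARigidity
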