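import Mathlib
import Groth.Prelude
import Groth.Agent.Lib.Helper75.AAOpen

/-!
# Anti-affine rigidity over an integral base, without finiteness of `X`
-/

set_option autoImplicit false
set_option backward.isDefEq.respectTransparency false
universe u
open CategoryTheory CategoryTheory.Limits AlgebraicGeometry TensorProduct

namespace Groth.Agent.Lib.Helper75.AAIntegral

open Groth.Agent.Lib.Helper75.AAAlg Groth.Agent.Lib.Helper75.AAPiece
  Groth.Agent.Lib.Helper75.AALocal Groth.Agent.Lib.Helper75.AAChart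
  Groth.Agent.Lib.Helper75.AAOpen

/-- Krull: over a Noetherian domain, an element of a free module dying in all infinitesimal
neighbourhoods of a prime is zero. -/
theorem eq_zero_of_forall_tmul {C : Type u} [CommRing C] [IsNoetherianRing C] [IsDomain C]
    (p : Ideal C) [p.IsPrime] {R : Type u} [CommRing R] [Algebra C R] [Module.Free C R] (r : R)
    (h : ∀ n : ℕ, (1 : Q p n) ⊗ₜ[C] r = 0) : r = 0 := by
  obtain ⟨s, hs, hs0⟩ := exists_smul_eq_zero_single p r h
  have hs' : s ≠ 0 := fun h0 => hs (h0 ▸ p.zero_mem)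
  exact (smul_eq_zero.mp hs0).resolve_left hs'

theorem locEq_comp {P Z W : Scheme.{u}} (F G : P ⟶ Z) (j : W ⟶ P) (w : W)
    (h : LocEq F G (j w)) : LocEq (j ≫ F) (j ≫ G) w := by
  obtain ⟨O, hO, hFG⟩ := h
  refine ⟨j ⁻¹ᵁ O, hO, ?_⟩
  rw [← Category.assoc, ← Category.assoc, ← morphismRestrict_ι, Category.assoc, Category.assoc, hFG]

variable {k : Type u} [Field k] {X Y Z : Scheme.{u}} (a : X ⟶ Spec (CommRingCat.of k))
  (b : Y ⟶ Spec (CommRingCat.of k)) (c : Z ⟶ Spec (CommRingCat.of k))

attribute [local instance] Algebra.TensorProduct.rightAlgebra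

/-- elements of the equalizer ideal die in all infinitesimal neighbourhoods. -/
theorem tmul_eq_zero_of_mem [CompactSpace X] [QuasiSeparatedSpace X] (ha : IsIso a.appTop)
    (σ : Y ⟶ pullback a b) (hσ : σ ≫ pullback.snd a b = 𝟙 Y) (F : pullback a b ⟶ Z)
    (B C : Type u) [CommRing B] [CommRing C] [Algebra k B] [Algebra k C]
    (p : Ideal C) [p.IsPrime]
    (u : Spec (CommRingCat.of B) ⟶ X)
    (hu : u ≫ a = Spec.map (CommRingCat.ofHom (algebraMap k B)))
    (v : Spec (CommRingCat.of C) ⟶ Y)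
    (hv : v ≫ b = Spec.map (CommRingCat.ofHom (algebraMap k C)))
    (Z₀ : Z.Opens) (hZ₀ : IsAffineOpen Z₀)
    (hy : ∀ q : ↥(pullback a b), (pullback.snd a b) q = v ⟨p, inferInstance⟩ → F q ∈ Z₀)
    (I : Ideal (B ⊗[k] C))
    (hI : ∀ (R' : CommRingCat.{u}) (φ : CommRingCat.of (B ⊗[k] C) ⟶ R'),
      Spec.map φ ≫ piece a b B C u hu v hv ≫ F =
        Spec.map φ ≫ piece a b B C u hu v hv ≫ pullback.snd a b ≫ σ ≫ F →
      I ≤ RingHom.ker φ.hom) (n : ℕ) (r : B ⊗[k] C) (hr : r ∈ I) :
    (1 : Q p n) ⊗ₜ[C] r = 0 := by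
  let φ : CommRingCat.of (B ⊗[k] C) ⟶ CommRingCat.of (Q p n ⊗[C] (B ⊗[k] C)) :=
    CommRingCat.ofHom ((Algebra.TensorProduct.includeRight :
      (B ⊗[k] C) →ₐ[C] Q p n ⊗[C] (B ⊗[k] C)) : (B ⊗[k] C) →+* Q p n ⊗[C] (B ⊗[k] C))
  have hcomm : (Spec.map φ ≫ piece a b B C u hu v hv) ≫ pullback.snd a b =
      Spec.map (CommRingCat.ofHom (algebraMap (Q p n) (Q p n ⊗[C] (B ⊗[k] C)))) ≫
        tn C p v n := by
    rw [Category.assoc, piece_snd, ← Category.assoc, ← Spec.map_comp]
    unfold tn
    rw [← Category.assoc, ← Spec.map_comp]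
    congr 2
    ext x
    simp only [φ, CommRingCat.hom_comp, CommRingCat.hom_ofHom, RingHom.coe_comp,
      Function.comp_apply]
    change (Algebra.TensorProduct.includeRight :
      (B ⊗[k] C) →ₐ[C] Q p n ⊗[C] (B ⊗[k] C)) (algebraMap C (B ⊗[k] C) x) = _
    rw [AlgHom.commutes, Algebra.TensorProduct.algebraMap_apply]
    rfl
  let κ := pullback.lift _ _ hcomm
  have hκ : κ ≫ pullback.fst (pullback.snd a b) (tn C p v n) =
      Spec.map φ ≫ piece a b B C u hu v hv := pullback.lift_fst _ _ _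
  have hinf := infinitesimal a b ha σ hσ F C p v Z₀ hZ₀ hy n
  have h1 : Spec.map φ ≫ piece a b B C u hu v hv ≫ F =
      Spec.map φ ≫ piece a b B C u hu v hv ≫ pullback.snd a b ≫ σ ≫ F := by
    rw [← Category.assoc, ← hκ, Category.assoc, hinf, ← Category.assoc κ, hκ, Category.assoc]
  have h2 := hI _ φ h1 hr
  rw [RingHom.mem_ker] at h2
  exact h2

/-- Case (a): agreement on a piece over an affine chart of `Y` (a Noetherian domain)
containing the base point. -/
theorem piece_comp_eq_of_mem [CompactSpace X] [QuasiSeparatedSpace X] [IsSeparated c]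
    (ha : IsIso a.appTop)
    (σ : Y ⟶ pullback a b) (hσ : σ ≫ pullback.snd a b = 𝟙 Y) (F : pullback a b ⟶ Z)
    (hF : F ≫ c = pullback.fst a b ≫ a)
    (B C : Type u) [CommRing B] [CommRing C] [Algebra k B] [Algebra k C] [IsNoetherianRing C]
    [IsDomain C] (p : Ideal C) [p.IsPrime]
    (u : Spec (CommRingCat.of B) ⟶ X)
    (hu : u ≫ a = Spec.map (CommRingCat.ofHom (algebraMap k B)))
    (v : Spec (CommRingCat.of C) ⟶ Y)
    (hv : v ≫ b = Spec.map (CommRingCat.ofHom (algebraMap k C)))
    (Z₀ : Z.Opens) (hZ₀ : IsAffineOpen Z₀)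
    (hy : ∀ q : ↥(pullback a b), (pullback.snd a b) q = v ⟨p, inferInstance⟩ → F q ∈ Z₀) :
    piece a b B C u hu v hv ≫ F = piece a b B C u hu v hv ≫ pullback.snd a b ≫ σ ≫ F := by
  have hover : (piece a b B C u hu v hv ≫ F) ≫ c =
      (piece a b B C u hu v hv ≫ pullback.snd a b ≫ σ ≫ F) ≫ c := by
    rw [Category.assoc, Category.assoc, G_comp a b c σ hσ F hF]
  obtain ⟨I, hI⟩ := Groth.Agent.Lib.Helper75.AAEq.exists_ideal_equalizer c
    (CommRingCat.of (B ⊗[k] C)) _ _ hover
  have hfree : Module.Free C (B ⊗[k] C) := free_right k B C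
  have hbot : I = ⊥ := by
    rw [eq_bot_iff]
    intro r hr
    rw [Ideal.mem_bot]
    apply eq_zero_of_forall_tmul p r
    intro n
    exact tmul_eq_zero_of_mem a b ha σ hσ F B C p u hu v hv Z₀ hZ₀ hy I
      (fun R' φ h => (hI R' φ).mp h) n r hr
  have := (hI _ (𝟙 _)).mpr (by rw [hbot]; exact bot_le)
  rw [Spec.map_id, Category.id_comp, Category.id_comp] at this
  exact this

/-- Case (b): agreement on a piece over an affine chart `Spec C'` of `Y` (a domain), given
local agreement over a nonempty basic open `D(s)` of the chart. -/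
theorem piece_comp_eq_of_locEq [IsSeparated c]
    (σ : Y ⟶ pullback a b) (hσ : σ ≫ pullback.snd a b = 𝟙 Y) (F : pullback a b ⟶ Z)
    (hF : F ≫ c = pullback.fst a b ≫ a)
    (B C : Type u) [CommRing B] [CommRing C] [Algebra k B] [Algebra k C] [IsDomain C]
    (u : Spec (CommRingCat.of B) ⟶ X)
    (hu : u ≫ a = Spec.map (CommRingCat.ofHom (algebraMap k B)))
    (v : Spec (CommRingCat.of C) ⟶ Y)
    (hv : v ≫ b = Spec.map (CommRingCat.ofHom (algebraMap k C)))
    (s : C) (hs : s ≠ 0)
    (hloc : ∀ q : ↥(pullback a b), (pullback.snd a b) q ∈ Set.range (vAway C v s) →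
      LocEq F (pullback.snd a b ≫ σ ≫ F) q) :
    piece a b B C u hu v hv ≫ F = piece a b B C u hu v hv ≫ pullback.snd a b ≫ σ ≫ F := by
  have hover : (piece a b B C u hu v hv ≫ F) ≫ c =
      (piece a b B C u hu v hv ≫ pullback.snd a b ≫ σ ≫ F) ≫ c := by
    rw [Category.assoc, Category.assoc, G_comp a b c σ hσ F hF]
  obtain ⟨I, hI⟩ := Groth.Agent.Lib.Helper75.AAEq.exists_ideal_equalizer c
    (CommRingCat.of (B ⊗[k] C)) _ _ hover
  -- agreement on the piece over `D(s)`
  have h1 : piece a b B (Localization.Away s) u hu (vAway C v s) (vAway_comp b C v hv s) ≫ F =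
      piece a b B (Localization.Away s) u hu (vAway C v s) (vAway_comp b C v hv s) ≫
        pullback.snd a b ≫ σ ≫ F := by
    apply eq_of_forall_locEq
    intro w
    apply locEq_comp
    apply hloc
    rw [← Scheme.Hom.comp_apply, piece_snd, Scheme.Hom.comp_apply]
    exact ⟨_, rfl⟩
  have h2 := piece_map_right a b B C u hu v hv (Localization.Away s)
    (IsScalarTower.toAlgHom k C (Localization.Away s)) (vAway C v s) (vAway_comp b C v hv s) rfl
  rw [h2, Category.assoc, Category.assoc] at h1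
  have h3 := (hI _ _).mp h1
  have hinj : Function.Injective
      (Algebra.TensorProduct.map (AlgHom.id k B) (IsScalarTower.toAlgHom k C (Localization.Away s))) := by
    have hinj0 : Function.Injective (IsScalarTower.toAlgHom k C (Localization.Away s)) := by
      have : (IsScalarTower.toAlgHom k C (Localization.Away s) : C → Localization.Away s) =
          algebraMap C (Localization.Away s) := rfl
      rw [this]
      apply IsLocalization.injective (Localization.Away s) (M := Submonoid.powers s)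
      exact powers_le_nonZeroDivisors_of_noZeroDivisors hs
    exact Module.Flat.lTensor_preserves_injective_linearMap (M := B)
      (IsScalarTower.toAlgHom k C (Localization.Away s)).toLinearMap hinj0
  have hbot : I = ⊥ := by
    rw [eq_bot_iff]
    intro r hr
    have h4 := h3 hr
    rw [RingHom.mem_ker] at h4
    rw [Ideal.mem_bot]
    apply hinj
    rw [map_zero]
    exact h4
  have := (hI _ (𝟙 _)).mpr (by rw [hbot]; exact bot_le)
  rw [Spec.map_id, Category.id_comp, Category.id_comp] at this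
  exact this

theorem range_vAway_eq (C : Type u) [CommRing C] (v : Spec (CommRingCat.of C) ⟶ Y) (s : C) :
    Set.range (vAway C v s) = v '' (PrimeSpectrum.basicOpen s : Set (PrimeSpectrum C)) := by
  unfold vAway
  rw [Scheme.Hom.comp_base, TopCat.coe_comp, Set.range_comp]
  congr 1
  exact PrimeSpectrum.localization_away_comap_range (Localization.Away s) s

/-- Anti-affine rigidity over an integral locally Noetherian base; `X` only quasi-compact and
quasi-separated with `O(X) = k`. -/
theorem eq_of_integral [CompactSpace X] [QuasiSeparatedSpace X]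
    [IsLocallyNoetherian Y] [IsIntegral Y] [IsSeparated c] (ha : IsIso a.appTop)
    (σ : Y ⟶ pullback a b) (hσ : σ ≫ pullback.snd a b = 𝟙 Y) (F : pullback a b ⟶ Z)
    (hF : F ≫ c = pullback.fst a b ≫ a) (y₀ : Y)
    (hy₀ : ∀ q : ↥(pullback a b), (pullback.snd a b) q = y₀ →
      F q = (pullback.snd a b ≫ σ ≫ F) q) :
    F = pullback.snd a b ≫ σ ≫ F := by
  classical
  have hz : ∀ q : ↥(pullback a b), (pullback.snd a b) q = y₀ → F q = (σ ≫ F) y₀ := by
    intro q hq
    rw [hy₀ q hq, Scheme.Hom.comp_apply, hq]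
  obtain ⟨_, ⟨Z₀, hZ₀, rfl⟩, hzZ₀, -⟩ :=
    Z.isBasis_affineOpens.exists_subset_of_mem_open (Set.mem_univ ((σ ≫ F) y₀)) isOpen_univ
  -- a chart of `Y` at `y₀`
  obtain ⟨C, _, _, v, hvopen, hv, ⟨p₀, hp₀⟩, -, hCN⟩ := exists_chart b y₀
  have hCN' : IsNoetherianRing C := hCN inferInstance
  have hpprime : p₀.asIdeal.IsPrime := p₀.isPrime
  have hCdom : IsDomain C := by
    have : Nonempty ↥(Spec (CommRingCat.of C)) := ⟨p₀⟩
    have : IsIntegral (Spec (CommRingCat.of C)) := isIntegral_of_isOpenImmersion v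
    exact (affine_isIntegral_iff (CommRingCat.of C)).mp this
  have hyZ : ∀ q : ↥(pullback a b), (pullback.snd a b) q = v ⟨p₀.asIdeal, inferInstance⟩ →
      F q ∈ Z₀ := by
    intro q hq
    have : (pullback.snd a b) q = y₀ := by rw [hq, ← hp₀]; rfl
    rw [hz q this]
    exact hzZ₀
  -- Step A: local agreement over the chart `v`
  have hA : ∀ q : ↥(pullback a b), (pullback.snd a b) q ∈ Set.range v →
      LocEq F (pullback.snd a b ≫ σ ≫ F) q := by
    intro q hq
    obtain ⟨B, _, _, u, huopen, hu, hxu, -, -⟩ := exists_chart a ((pullback.fst a b) q)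
    refine locEq_of_mem_range F _ (piece a b B C u hu v hv)
      (piece_comp_eq_of_mem a b c ha σ hσ F hF B C p₀.asIdeal u hu v hv Z₀ hZ₀ hyZ) q ?_
    rw [range_piece]
    exact ⟨hxu, hq⟩
  -- Step B: arbitrary points
  apply eq_of_forall_locEq
  intro q
  obtain ⟨B, _, _, u, huopen, hu, hxu, -, -⟩ := exists_chart a ((pullback.fst a b) q)
  obtain ⟨C', _, _, v', hv'open, hv', ⟨p₁, hp₁⟩, -, -⟩ := exists_chart b ((pullback.snd a b) q)
  have hC'dom : IsDomain C' := by
    have : Nonempty ↥(Spec (CommRingCat.of C')) := ⟨p₁⟩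
    have : IsIntegral (Spec (CommRingCat.of C')) := isIntegral_of_isOpenImmersion v'
    exact (affine_isIntegral_iff (CommRingCat.of C')).mp this
  -- a nonempty basic open of `Spec C'` mapping into the chart `v`
  have hne : (Set.range v ∩ Set.range v').Nonempty :=
    nonempty_preirreducible_inter v.isOpenEmbedding.isOpen_range v'.isOpenEmbedding.isOpen_range
      ⟨_, p₀, rfl⟩ ⟨_, p₁, rfl⟩
  obtain ⟨y, hyv, ⟨p₂, rfl⟩⟩ := hne
  have hopen : IsOpen (v' ⁻¹' Set.range v) :=
    v.isOpenEmbedding.isOpen_range.preimage v'.continuous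
  obtain ⟨_, ⟨s, rfl⟩, hp₂s, hsub⟩ :=
    PrimeSpectrum.isTopologicalBasis_basic_opens.exists_subset_of_mem_open
      (show p₂ ∈ v' ⁻¹' Set.range v from hyv) hopen
  have hs : s ≠ 0 := by
    rintro rfl
    exact hp₂s (Ideal.zero_mem _)
  have hloc : ∀ q' : ↥(pullback a b), (pullback.snd a b) q' ∈ Set.range (vAway C' v' s) →
      LocEq F (pullback.snd a b ≫ σ ≫ F) q' := by
    intro q' hq'
    apply hA
    rw [range_vAway_eq] at hq'
    obtain ⟨w, hw, hw'⟩ := hq'
    rw [← hw']
    exact hsub hw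
  refine locEq_of_mem_range F _ (piece a b B C' u hu v' hv')
    (piece_comp_eq_of_locEq a b c σ hσ F hF B C' u hu v' hv' s hs hloc) q ?_
  rw [range_piece]
  exact ⟨hxu, ⟨p₁, hp₁⟩⟩

end Groth.Agent.Lib.Helper75.AAIntegral
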