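import Mathlib
import Groth.Prelude

/-!
# Rational points of nonempty schemes locally of finite type over an algebraically closed field
-/

set_option autoImplicit false
universe u
open CategoryTheory CategoryTheory.Limits AlgebraicGeometry MonoidalCategory CartesianMonoidalCategory

namespace Groth.Agent.Lib.Helper75.AAPoint

theorem exists_point (k : Type u) [Field k] [IsAlgClosed k] (X : Over (Spec (CommRingCat.of k)))
    [LocallyOfFiniteType X.hom] [Nonempty ↥X.left] :
    Nonempty (𝟙_ (Over (Spec (CommRingCat.of k))) ⟶ X) := by
  have hJ : JacobsonSpace ↥X.left := LocallyOfFiniteType.jacobsonSpace X.hom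
  obtain ⟨x, -, hx⟩ := nonempty_inter_closedPoints (X := ↥X.left) Set.univ_nonempty
    isOpen_univ.isLocallyClosed
  exact ⟨Over.homMk (pointOfClosedPoint X.hom x hx) (pointOfClosedPoint_comp X.hom x hx)⟩

end Groth.Agent.Lib.Helper75.AAPoint
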