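import Mathlib
import Groth.Prelude

/-!
# Building actions of group objects from pointwise axioms
-/

set_option autoImplicit false
universe u
open CategoryTheory CategoryTheory.Limits MonoidalCategory CartesianMonoidalCategory MonObj GrpObj
  AlgebraicGeometry

namespace Groth.Agent.Lib.Helper75.ActionMk

variable {S : Scheme.{u}} {G X : Over S} [GrpObj G]

theorem act_one (a : AlgGrp.Action G X) {T : Over S} (x : T ⟶ X) :
    lift (toUnit T ≫ η[G]) x ≫ a.act = x := by
  have h : lift (toUnit T ≫ η[G]) x = lift (toUnit T) x ≫ (η[G] ▷ X) := by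
    apply CartesianMonoidalCategory.hom_ext
    · simp
    · simp
  rw [h, Category.assoc, a.one_act]
  simp

theorem act_mul (a : AlgGrp.Action G X) {T : Over S} (g h : T ⟶ G) (x : T ⟶ X) :
    lift (g * h) x ≫ a.act = lift g (lift h x ≫ a.act) ≫ a.act := by
  have h1 : lift (g * h) x = lift (lift g h) x ≫ (μ[G] ▷ X) := by
    apply CartesianMonoidalCategory.hom_ext
    · simp [Hom.mul_def]
    · simp
  have h2 : lift (lift g h) x ≫ (α_ G G X).hom ≫ (G ◁ a.act) = lift g (lift h x ≫ a.act) := by
    apply CartesianMonoidalCategory.hom_ext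
    · simp
    · simp
  rw [h1, Category.assoc, a.mul_act, ← h2]
  simp only [Category.assoc]

/-- an action from its pointwise axioms -/
noncomputable def mkAction (act : G ⊗ X ⟶ X)
    (h1 : ∀ (T : Over S) (x : T ⟶ X), lift (toUnit T ≫ η[G]) x ≫ act = x)
    (h2 : ∀ (T : Over S) (g h : T ⟶ G) (x : T ⟶ X),
      lift (g * h) x ≫ act = lift g (lift h x ≫ act) ≫ act) : AlgGrp.Action G X where
  act := act
  one_act := by
    have e : (η[G] ▷ X) = lift (toUnit _ ≫ η[G]) (snd (𝟙_ (Over S)) X) := by
      apply CartesianMonoidalCategory.hom_ext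
      · rw [lift_fst, whiskerRight_fst]
        congr 1
      · rw [lift_snd, whiskerRight_snd]
    rw [e, h1, leftUnitor_hom]
  mul_act := by
    have e : (μ[G] ▷ X) = lift ((fst (G ⊗ G) X ≫ fst G G) * (fst (G ⊗ G) X ≫ snd G G))
        (snd (G ⊗ G) X) := by
      apply CartesianMonoidalCategory.hom_ext
      · rw [lift_fst, whiskerRight_fst, Hom.mul_def]
        congr 1
        apply CartesianMonoidalCategory.hom_ext <;> simp
      · rw [lift_snd, whiskerRight_snd]
    have e2 : (α_ G G X).hom ≫ (G ◁ act) = lift (fst (G ⊗ G) X ≫ fst G G)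
        (lift (fst (G ⊗ G) X ≫ snd G G) (snd (G ⊗ G) X) ≫ act) := by
      apply CartesianMonoidalCategory.hom_ext
      · simp
      · rw [Category.assoc, whiskerLeft_snd, lift_snd, ← Category.assoc]
        congr 1
        apply CartesianMonoidalCategory.hom_ext <;> simp
    rw [e, h2, ← e2, Category.assoc]

@[simp]
theorem mkAction_act (act : G ⊗ X ⟶ X) (h1) (h2) : (mkAction act h1 h2).act = act := rfl

theorem action_ext (a b : AlgGrp.Action G X) (h : a.act = b.act) : a = b := by
  cases a
  cases b
  congr

end Groth.Agent.Lib.Helper75.ActionMk
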