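import Mathlib.RingTheory.AdicCompletion.Algebra
import Mathlib.RingTheory.AdicCompletion.Functoriality
import Mathlib.Tactic

/-!
# Isomorphisms of adic completions from compatible isomorphisms of the quotients
-/

set_option autoImplicit false
universe u

namespace Groth.Agent.Lib.Helper75.AdicQuotEquiv

variable {A : Type u} [CommRing A] (I : Ideal A)
  {M N : Type u} [AddCommGroup M] [Module A M] [AddCommGroup N] [Module A N]

/-- `A`-linear maps between the quotients are linear over `A ⧸ I^n`. -/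
lemma map_quot_smul (n : ℕ)
    (f : (M ⧸ (I ^ n • ⊤ : Submodule A M)) →ₗ[A] (N ⧸ (I ^ n • ⊤ : Submodule A N)))
    (q : A ⧸ (I ^ n • ⊤ : Ideal A)) (x : M ⧸ (I ^ n • ⊤ : Submodule A M)) :
    f (q • x) = q • f x := by
  obtain ⟨a, rfl⟩ := Ideal.Quotient.mk_surjective q
  have h1 : ∀ y : M ⧸ (I ^ n • ⊤ : Submodule A M),
      (Ideal.Quotient.mk (I ^ n • ⊤ : Ideal A) a) • y = a • y := fun y => rfl
  have h2 : ∀ y : N ⧸ (I ^ n • ⊤ : Submodule A N),
      (Ideal.Quotient.mk (I ^ n • ⊤ : Ideal A) a) • y = a • y := fun y => rfl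
  rw [h1, h2, map_smul]

/-- A compatible family of isomorphisms between the quotients gives an isomorphism of the
completions. -/
noncomputable def equivOfCompatible
    (e : ∀ n, (M ⧸ (I ^ n • ⊤ : Submodule A M)) ≃ₗ[A] (N ⧸ (I ^ n • ⊤ : Submodule A N)))
    (he : ∀ {m n : ℕ} (hmn : m ≤ n) (x : M ⧸ (I ^ n • ⊤ : Submodule A M)),
      AdicCompletion.transitionMap I N hmn (e n x) = e m (AdicCompletion.transitionMap I M hmn x)) :
    AdicCompletion I M ≃ₗ[AdicCompletion I A] AdicCompletion I N where
  toFun x := ⟨fun n => e n (x.val n), fun {m n} hmn => by rw [he hmn, x.property hmn]⟩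
  invFun y := ⟨fun n => (e n).symm (y.val n), fun {m n} hmn => by
    apply (e m).injective
    rw [← he hmn, LinearEquiv.apply_symm_apply, LinearEquiv.apply_symm_apply, y.property hmn]⟩
  map_add' x y := by
    apply AdicCompletion.ext
    intro n
    change e n ((x + y).val n) = e n (x.val n) + e n (y.val n)
    rw [AdicCompletion.val_add_apply, map_add]
  map_smul' r x := by
    apply AdicCompletion.ext
    intro n
    change e n ((r • x).val n) = r.val n • e n (x.val n)
    rw [AdicCompletion.smul_eval]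
    exact map_quot_smul I n (e n).toLinearMap (r.val n) (x.val n)
  left_inv x := by
    apply AdicCompletion.ext
    intro n
    exact (e n).symm_apply_apply (x.val n)
  right_inv y := by
    apply AdicCompletion.ext
    intro n
    exact (e n).apply_symm_apply (y.val n)

lemma pow_smul_top_quot (n : ℕ) :
    (I ^ n • ⊤ : Submodule A (N ⧸ (I ^ n • ⊤ : Submodule A N))) = ⊥ := by
  have h1 : Submodule.map (I ^ n • ⊤ : Submodule A N).mkQ (I ^ n • ⊤) = ⊥ :=
    Submodule.mkQ_map_self _
  rw [Submodule.map_smul'', Submodule.map_top, Submodule.range_mkQ] at h1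
  exact h1

/-- the kernel of the transition map to `N / I N`. -/
lemma mem_smul_top_of_transitionMap_eq_zero (n : ℕ) (hn : 1 ≤ n)
    (q : N ⧸ (I ^ n • ⊤ : Submodule A N))
    (hq : AdicCompletion.transitionMap I N hn q = 0) :
    q ∈ (I • ⊤ : Submodule A (N ⧸ (I ^ n • ⊤ : Submodule A N))) := by
  obtain ⟨y, rfl⟩ := Submodule.mkQ_surjective _ q
  have h1 : y ∈ (I ^ 1 • ⊤ : Submodule A N) := by
    rw [← Submodule.Quotient.mk_eq_zero]
    exact hq
  rw [pow_one] at h1
  have h2 : (I ^ n • ⊤ : Submodule A N).mkQ y ∈ Submodule.map (I ^ n • ⊤ : Submodule A N).mkQ (I • ⊤) :=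
    Submodule.mem_map_of_mem h1
  rw [Submodule.map_smul'', Submodule.map_top, Submodule.range_mkQ] at h2
  exact h2

/-- Nakayama for the nilpotent situation: a map to `N / I^n N` which is surjective modulo `I` is surjective. -/
lemma surjective_of_surjective_mod (n : ℕ) (hn : 1 ≤ n)
    (ψ : M →ₗ[A] N ⧸ (I ^ n • ⊤ : Submodule A N))
    (h1 : Function.Surjective (AdicCompletion.transitionMap I N hn ∘ₗ ψ)) :
    Function.Surjective ψ := by
  rw [← LinearMap.range_eq_top]
  have hR : LinearMap.range ψ ⊔ (I • ⊤ : Submodule A (N ⧸ (I ^ n • ⊤ : Submodule A N))) = ⊤ := by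
    rw [eq_top_iff]
    intro q _
    obtain ⟨m, hm⟩ := h1 (AdicCompletion.transitionMap I N hn q)
    have h2 : q - ψ m ∈ (I • ⊤ : Submodule A (N ⧸ (I ^ n • ⊤ : Submodule A N))) := by
      apply mem_smul_top_of_transitionMap_eq_zero I n hn
      rw [map_sub, sub_eq_zero]
      exact hm.symm
    have h3 : q = ψ m + (q - ψ m) := by abel
    rw [h3]
    exact Submodule.add_mem_sup (LinearMap.mem_range_self ψ m) h2
  have hj : ∀ j : ℕ, LinearMap.range ψ ⊔
      (I ^ j • ⊤ : Submodule A (N ⧸ (I ^ n • ⊤ : Submodule A N))) = ⊤ := by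
    intro j
    induction j with
    | zero => simp
    | succ j ih =>
      rw [eq_top_iff]
      calc (⊤ : Submodule A (N ⧸ (I ^ n • ⊤ : Submodule A N)))
          = LinearMap.range ψ ⊔ I • (⊤ : Submodule A (N ⧸ (I ^ n • ⊤ : Submodule A N))) := hR.symm
        _ = LinearMap.range ψ ⊔ I • (LinearMap.range ψ ⊔
              (I ^ j • ⊤ : Submodule A (N ⧸ (I ^ n • ⊤ : Submodule A N)))) := by rw [ih]
        _ = LinearMap.range ψ ⊔ (I • LinearMap.range ψ ⊔
              I • (I ^ j • ⊤ : Submodule A (N ⧸ (I ^ n • ⊤ : Submodule A N)))) := by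
            rw [Submodule.smul_sup]
        _ ≤ LinearMap.range ψ ⊔
              (I ^ (j + 1) • ⊤ : Submodule A (N ⧸ (I ^ n • ⊤ : Submodule A N))) := by
            refine sup_le le_sup_left (sup_le ?_ ?_)
            · exact le_trans Submodule.smul_le_right le_sup_left
            · rw [← mul_smul, ← pow_succ']
              exact le_sup_right
  have := hj n
  rwa [pow_smul_top_quot, sup_bot_eq] at this

end Groth.Agent.Lib.Helper75.AdicQuotEquiv
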