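import Mathlib.RingTheory.Filtration
import Mathlib.RingTheory.Ideal.Operations
import Mathlib.Tactic

/-!
# Artin–Rees for the homology of quotient systems (S7153)
-/

set_option autoImplicit false
universe u

namespace Groth.Agent.Lib.Helper75.ArtinReesHomology

variable {A : Type u} [CommRing A] [IsNoetherianRing A] (I : Ideal A)

/-- Artin–Rees in the form `I^(n+c) M ∩ P ≤ I^n P`, for all `c ≥ c₀`. -/
lemma artin_rees {M : Type u} [AddCommGroup M] [Module A M] [Module.Finite A M]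
    (P : Submodule A M) :
    ∃ c₀ : ℕ, ∀ c : ℕ, c₀ ≤ c → ∀ n : ℕ, (I ^ (n + c) • ⊤ : Submodule A M) ⊓ P ≤ I ^ n • P := by
  obtain ⟨k, hk⟩ := Ideal.exists_pow_inf_eq_pow_smul I P
  refine ⟨k, fun c hc n => ?_⟩
  have h1 : (I ^ (n + c) • ⊤ : Submodule A M) ≤ I ^ (n + k) • ⊤ :=
    Submodule.smul_mono_left (Ideal.pow_le_pow_right (by omega))
  refine le_trans (inf_le_inf_right _ h1) ?_
  rw [hk (n + k) (by omega), Nat.add_sub_cancel]
  exact Submodule.smul_mono le_rfl inf_le_right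

theorem artinRees_homology
    (K L M : Type u) [AddCommGroup K] [Module A K] [Module.Finite A K] [AddCommGroup L] [Module A L]
    [Module.Finite A L] [AddCommGroup M] [Module A M] [Module.Finite A M]
    (α : K →ₗ[A] L) (β : L →ₗ[A] M) (hαβ : β ∘ₗ α = 0) :
    ∃ c : ℕ, 0 < c ∧ ∀ n : ℕ,
      (∀ y ∈ (I ^ (n + c) • ⊤ : Submodule A M).comap β,
        ∃ z ∈ LinearMap.ker β, y - z ∈ LinearMap.range α ⊔ (I ^ n • ⊤ : Submodule A L)) ∧
      (∀ z ∈ LinearMap.ker β, z ∈ LinearMap.range α ⊔ (I ^ n • ⊤ : Submodule A L) →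
        ∀ a ∈ I ^ c, a • z ∈ LinearMap.range α ⊔ I ^ n • LinearMap.ker β) ∧
      (∀ y ∈ (I ^ n • ⊤ : Submodule A M).comap β, ∀ a ∈ I ^ c,
        ∃ z ∈ LinearMap.ker β, a • y - z ∈ LinearMap.range α ⊔ (I ^ n • ⊤ : Submodule A L)) := by
  obtain ⟨c1, hc1⟩ := artin_rees I (LinearMap.range β)
  obtain ⟨c2, hc2⟩ := artin_rees I (LinearMap.ker β)
  set c := max c1 c2 + 1 with hc
  have hAR1 := hc1 c (by omega)
  have hAR2 := hc2 c (by omega)
  -- key: elements of `I^(n+c) M ∩ range β` lift to `I^n L`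
  have hlift : ∀ n : ℕ, ∀ y : L, β y ∈ (I ^ (n + c) • ⊤ : Submodule A M) →
      ∃ y' ∈ (I ^ n • ⊤ : Submodule A L), β y' = β y := by
    intro n y hy
    have h1 : β y ∈ I ^ n • LinearMap.range β := hAR1 n ⟨hy, LinearMap.mem_range_self β y⟩
    rw [LinearMap.range_eq_map, ← Submodule.map_smul''] at h1
    obtain ⟨y', hy', h2⟩ := h1
    exact ⟨y', hy', h2⟩
  refine ⟨c, by omega, fun n => ⟨?_, ?_, ?_⟩⟩
  · intro y hy
    obtain ⟨y', hy', h2⟩ := hlift n y hy
    refine ⟨y - y', ?_, ?_⟩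
    · rw [LinearMap.mem_ker, map_sub, h2, sub_self]
    · rw [sub_sub_cancel]
      exact Submodule.mem_sup_right hy'
  · intro z hz hz' a ha
    obtain ⟨_, ⟨k, rfl⟩, l, hl, rfl⟩ := Submodule.mem_sup.mp hz'
    have hlker : l ∈ LinearMap.ker β := by
      rw [LinearMap.mem_ker] at hz ⊢
      rw [map_add] at hz
      have : β (α k) = 0 := by
        have := congrArg (fun f => f k) hαβ
        simpa using this
      rw [this, zero_add] at hz
      exact hz
    have hal : a • l ∈ I ^ n • LinearMap.ker β := by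
      by_cases hnc : c ≤ n
      · obtain ⟨m, rfl⟩ : ∃ m, n = m + c := ⟨n - c, by omega⟩
        have h3 : l ∈ I ^ m • LinearMap.ker β := hAR2 m ⟨hl, hlker⟩
        rw [add_comm m c, pow_add, mul_smul]
        exact Submodule.smul_mem_smul ha h3
      · exact Submodule.smul_mem_smul (Ideal.pow_le_pow_right (by omega) ha) hlker
    rw [smul_add, ← map_smul]
    exact Submodule.add_mem_sup (LinearMap.mem_range_self α _) hal
  · intro y hy a ha
    have h1 : β (a • y) ∈ (I ^ (n + c) • ⊤ : Submodule A M) := by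
      rw [map_smul, add_comm n c, pow_add, mul_smul]
      exact Submodule.smul_mem_smul ha hy
    obtain ⟨y', hy', h2⟩ := hlift n (a • y) h1
    refine ⟨a • y - y', ?_, ?_⟩
    · rw [LinearMap.mem_ker, map_sub, h2, sub_self]
    · rw [sub_sub_cancel]
      exact Submodule.mem_sup_right hy'

end Groth.Agent.Lib.Helper75.ArtinReesHomology
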