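import Groth.Prelude.Def_CGrpSh2
import Groth.Agent.Lib.Helper75.RigGenGrp
import Groth.Agent.Lib.Helper14.GrpSepQCa
import Groth.Agent.Lib.Helper41.SmoothGeomRed

/-!
# Biadditive pairings of abelian schemes vanish (helper75)

`φ : A ⟶ 𝓗om(B, C)` a morphism of abelian sheaves on the big site of `S` (sheaves of points of
commutative group schemes). `pair K φ T a b : T ⟶ C` is the associated pairing on points; it is
natural in `T`, trivial for `a = 1` or `b = 1`, and `φ = 0` iff the universal pairing
`A ⊗ B ⟶ C` is trivial (`eq_zero_of_pair`). For abelian schemes the universal pairing is trivial by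
the rigidity lemma (`pair_univ_eq_one`).
-/

set_option autoImplicit false
universe u
open CategoryTheory CategoryTheory.Limits AlgebraicGeometry Opposite MonObj MonoidalCategory
  CartesianMonoidalCategory

namespace Groth.Agent.Lib.Helper75.BiaddSh


variable {S : Scheme.{u}} (K : Precoverage Scheme.{u}) [(QuotSh.J K S).Subcanonical]
variable {A B C : Over S} [GrpObj A] [IsCommMonObj A] [GrpObj B] [IsCommMonObj B] [GrpObj C]
  [IsCommMonObj C]
variable (φ : CGrpSh.pts K A ⟶ HomSh.homSh (QuotSh.J K S) (CGrpSh.pts K B) (CGrpSh.pts K C))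

/-- the pairing on points attached to `φ : A ⟶ 𝓗om(B, C)` -/
noncomputable def pair (T : Over S) (a : T ⟶ A) (b : T ⟶ B) : T ⟶ C :=
  (HomSh.ev (QuotSh.J K S) (φ.hom.app (op T) (ULift.up (Additive.ofMul a)))
    (ULift.up (Additive.ofMul b))).down.toMul

/-- the component of `φ_T(a)` at an object `U → T`, in terms of `pair` -/
theorem app_app_eq {T : Over S} (a : T ⟶ A) (U : Over T) (b : U.left ⟶ B) :
    ((φ.hom.app (op T) (ULift.up (Additive.ofMul a))).hom.app (op U)
      (ULift.up (Additive.ofMul b))).down.toMul = pair K φ U.left (U.hom ≫ a) b := by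
  have h1 := ConcreteCategory.congr_hom (φ.hom.naturality U.hom.op) (ULift.up (Additive.ofMul a))
  have h2 : φ.hom.app (op U.left) (ULift.up (Additive.ofMul (U.hom ≫ a))) =
      ((QuotSh.J K S).overMapPullback AddCommGrpCat.{u + 1} U.hom).map
        (φ.hom.app (op T) (ULift.up (Additive.ofMul a))) := h1
  unfold pair
  rw [h2]
  have h3 := HomSh.app_over_mk_congr (QuotSh.J K S)
    (φ.hom.app (op T) (ULift.up (Additive.ofMul a))) (Category.id_comp U.hom)
    (ULift.up (Additive.ofMul b))
  exact congrArg (fun t => t.down.toMul) h3.symm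

theorem pair_nat {T T' : Over S} (f : T' ⟶ T) (a : T ⟶ A) (b : T ⟶ B) :
    pair K φ T' (f ≫ a) (f ≫ b) = f ≫ pair K φ T a b := by
  have h1 := app_app_eq K φ a (Over.mk f) (f ≫ b)
  have h2 : pair K φ T' (f ≫ a) (f ≫ b) = pair K φ (Over.mk f).left ((Over.mk f).hom ≫ a) (f ≫ b) :=
    rfl
  rw [h2, ← h1]
  have hn := ConcreteCategory.congr_hom
    ((φ.hom.app (op T) (ULift.up (Additive.ofMul a))).hom.naturality
      (Over.homMk f (by simp) : Over.mk f ⟶ Over.mk (𝟙 T)).op) (ULift.up (Additive.ofMul b))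
  exact congrArg (fun t => t.down.toMul) hn

theorem pair_one_left (T : Over S) (b : T ⟶ B) : pair K φ T 1 b = 1 := by
  have h1 : φ.hom.app (op T) (ULift.up (Additive.ofMul (1 : T ⟶ A))) = 0 :=
    map_zero (φ.hom.app (op T)).hom
  have h2 : pair K φ T 1 b = (HomSh.ev (QuotSh.J K S)
      (0 : (CGrpSh.pts K B).over T ⟶ (CGrpSh.pts K C).over T)
      (ULift.up (Additive.ofMul b))).down.toMul := by
    unfold pair
    exact congrArg (fun ψ : (CGrpSh.pts K B).over T ⟶ (CGrpSh.pts K C).over T =>
      (HomSh.ev (QuotSh.J K S) ψ (ULift.up (Additive.ofMul b))).down.toMul) h1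
  rw [h2, HomSh.ev_zero]
  rfl

theorem pair_one_right (T : Over S) (a : T ⟶ A) : pair K φ T a 1 = 1 := by
  have h1 := map_zero (HomSh.ev (QuotSh.J K S) (φ.hom.app (op T) (ULift.up (Additive.ofMul a))))
  unfold pair
  have h2 : (ULift.up (Additive.ofMul (1 : T ⟶ B)) : ULift.{u + 1} (Additive (T ⟶ B))) = 0 := rfl
  rw [h2]
  erw [h1]
  rfl

theorem pair_eq_lift (T : Over S) (a : T ⟶ A) (b : T ⟶ B) :
    pair K φ T a b = lift a b ≫ pair K φ (A ⊗ B) (fst A B) (snd A B) := by
  rw [← pair_nat, lift_fst, lift_snd]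

/-- `φ = 0` as soon as the universal pairing vanishes -/
theorem eq_zero_of_pair (h : pair K φ (A ⊗ B) (fst A B) (snd A B) = 1) : φ = 0 := by
  have hall : ∀ (T : Over S) (a : T ⟶ A) (b : T ⟶ B), pair K φ T a b = 1 := by
    intro T a b
    rw [pair_eq_lift, h, MonObj.comp_one]
  apply Sheaf.hom_ext
  apply NatTrans.ext
  funext T
  apply AddCommGrpCat.ext
  intro x
  apply Sheaf.hom_ext
  apply NatTrans.ext
  funext U
  apply AddCommGrpCat.ext
  intro y
  have h1 := app_app_eq K φ x.down.toMul U.unop y.down.toMul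
  have h2 := h1.trans (hall _ _ _)
  apply ULift.ext
  exact h2


section Geom

omit [(QuotSh.J K S).Subcanonical] [IsCommMonObj A] [IsCommMonObj B] [IsCommMonObj C] in
theorem geometricallyConnected_of_geometricallyIrreducible {X Y : Scheme.{u}} (f : X ⟶ Y)
    [h : GeometricallyIrreducible f] : GeometricallyConnected f :=
  ⟨fun K _ y Z fst snd hpb => by
    have : IrreducibleSpace Z := h.geometrically_irreducibleSpace y fst snd hpb
    infer_instance⟩

/-- a group scheme with connected fibres has geometrically connected fibres -/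
theorem geometricallyConnected_of_connected_fibres (G : Over S) [GrpObj G]
    (h : ∀ s : S, ConnectedSpace ↥(G.hom.fiber s)) : GeometricallyConnected G.hom := by
  have hconn : ∀ s : S, _root_.IsConnected (G.hom ⁻¹' {s}) := by
    intro s
    have := h s
    rw [← Scheme.Hom.range_fiberι]
    exact isConnected_range (G.hom.fiberι s).continuous
  have := Groth.Agent.Lib.Helper14.GrpSepQC.geometricallyIrreducible_of_connected_fibres G hconn
  exact geometricallyConnected_of_geometricallyIrreducible G.hom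

/-- the universal pairing vanishes by rigidity -/
theorem pair_univ_eq_one [IsProper A.hom] [Flat A.hom] [LocallyOfFinitePresentation A.hom]
    [GeometricallyConnected A.hom] [GeometricallyReduced A.hom] [IsSeparated C.hom]
    (hconn : ∀ s : S, _root_.IsPreconnected (B.hom ⁻¹' {s})) :
    pair K φ (A ⊗ B) (fst A B) (snd A B) = 1 := by
  have hσ : (A ◁ η[B]) ≫ pair K φ (A ⊗ B) (fst A B) (snd A B) = toUnit _ ≫ η[C] := by
    rw [← pair_nat, whiskerLeft_fst, whiskerLeft_snd]
    have e3 : snd A (𝟙_ (Over S)) ≫ η[B] = (1 : A ⊗ 𝟙_ (Over S) ⟶ B) := by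
      rw [Hom.one_def]
      congr 1
      exact toUnit_unique _ _
    rw [e3, pair_one_right, Hom.one_def]
  obtain ⟨h, hh⟩ := RigGenGrp.exists_factor_snd_of_section A B C hconn _ η[B] η[C] hσ
  have hh1 : h = 1 := by
    let j : B ⟶ A ⊗ B := lift (toUnit B ≫ η[A]) (𝟙 B)
    have j1 : j ≫ fst A B = (1 : B ⟶ A) := by
      rw [lift_fst, Hom.one_def]
    have j2 : j ≫ snd A B = 𝟙 B := lift_snd _ _
    have h1 : j ≫ pair K φ (A ⊗ B) (fst A B) (snd A B) = h := by
      rw [hh, ← Category.assoc, j2, Category.id_comp]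
    rw [← h1, ← pair_nat, j1, pair_one_left]
  rw [hh, hh1, MonObj.comp_one]

end Geom

end Groth.Agent.Lib.Helper75.BiaddSh
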