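import Groth.Prelude.Def_Biext
import Mathlib.CategoryTheory.Sites.EpiMono
import Groth.Prelude.Def_CGrpSh2

/-!
# Descent of splittings of biextensions along `(α, β) : P' × Q' → P × Q` (helper75)

Abstract part (any site): a "pre-splitting" of `B` over `(α, β)` is a family
`τ(p', q') ∈ E_{α p', β q'}` natural in `T` and additive in both variables.  If it is constant
along the kernels of `α` and `β`, and `α`, `β` are locally surjective, it descends to a splitting of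
`B`.  For `α = n`, `β = m` on divisible sheaves the constancy is automatic.
-/

set_option autoImplicit false
universe u
open CategoryTheory Opposite CategoryTheory.Limits

namespace Groth.Agent.Lib.Helper75.BiextDiv

variable {C : Type (u + 1)} [Category.{u} C] {J : GrothendieckTopology C}

section Basic

variable {P Q G : Sheaf J AddCommGrpCat.{u + 1}} (B : Biext J P Q G)

theorem add₁_congr (T : C) {x x' z z' : B.E.obj.obj (op T)} (hx : x = x') (hz : z = z')
    (h : B.πQ T x = B.πQ T z) (h' : B.πQ T x' = B.πQ T z') :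
    B.add₁ T x z h = B.add₁ T x' z' h' := by
  subst hx hz
  rfl

theorem add₂_congr (T : C) {x x' y y' : B.E.obj.obj (op T)} (hx : x = x') (hy : y = y')
    (h : B.πP T x = B.πP T y) (h' : B.πP T x' = B.πP T y') :
    B.add₂ T x y h = B.add₂ T x' y' h' := by
  subst hx hy
  rfl

theorem add₁_act' (T : C) (g : G.obj.obj (op T)) (x z : B.E.obj.obj (op T))
    (h : B.πQ T x = B.πQ T z) :
    B.add₁ T x (B.act T g z) (h.trans (B.πQ_act T g z).symm) = B.act T g (B.add₁ T x z h) := by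
  rw [B.add₁_comm, B.add₁_act T g z x h.symm, B.add₁_comm]

theorem add₂_act' (T : C) (g : G.obj.obj (op T)) (x y : B.E.obj.obj (op T))
    (h : B.πP T x = B.πP T y) :
    B.add₂ T x (B.act T g y) (h.trans (B.πP_act T g y).symm) = B.act T g (B.add₂ T x y h) := by
  rw [B.add₂_comm, B.add₂_act T g y x h.symm, B.add₂_comm]

/-- the difference `y - x ∈ G(T)` of two sections in the same fibre -/
noncomputable def diff (T : C) (x y : B.E.obj.obj (op T)) (hP : B.πP T x = B.πP T y)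
    (hQ : B.πQ T x = B.πQ T y) : G.obj.obj (op T) :=
  (B.existsUnique_act T x y hP hQ).choose

theorem act_diff (T : C) (x y : B.E.obj.obj (op T)) (hP : B.πP T x = B.πP T y)
    (hQ : B.πQ T x = B.πQ T y) : B.act T (diff B T x y hP hQ) x = y :=
  (B.existsUnique_act T x y hP hQ).choose_spec.1

theorem eq_diff (T : C) (x y : B.E.obj.obj (op T)) (hP : B.πP T x = B.πP T y)
    (hQ : B.πQ T x = B.πQ T y) (g : G.obj.obj (op T)) (h : B.act T g x = y) :
    g = diff B T x y hP hQ :=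
  (B.existsUnique_act T x y hP hQ).choose_spec.2 g h

theorem eq_of_diff_eq_zero (T : C) (x y : B.E.obj.obj (op T)) (hP : B.πP T x = B.πP T y)
    (hQ : B.πQ T x = B.πQ T y) (h : diff B T x y hP hQ = 0) : x = y := by
  have := act_diff B T x y hP hQ
  rw [h, B.zero_act] at this
  exact this

theorem diff_map {T T' : C} (f : T' ⟶ T) (x y : B.E.obj.obj (op T)) (hP : B.πP T x = B.πP T y)
    (hQ : B.πQ T x = B.πQ T y) :
    G.obj.map f.op (diff B T x y hP hQ) =
      diff B T' (B.E.obj.map f.op x) (B.E.obj.map f.op y)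
        (by rw [B.πP_map, B.πP_map, hP]) (by rw [B.πQ_map, B.πQ_map, hQ]) := by
  apply eq_diff
  rw [← B.act_map, act_diff]

/-- the flipped biextension of `(Q, P)` by `G` -/
def flip : Biext J Q P G where
  E := B.E
  πP := B.πQ
  πQ := B.πP
  πP_map := B.πQ_map
  πQ_map := B.πP_map
  act := B.act
  act_map := B.act_map
  πP_act := B.πQ_act
  πQ_act := B.πP_act
  zero_act := B.zero_act
  add_act := B.add_act
  existsUnique_act T x y hP hQ := B.existsUnique_act T x y hQ hP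
  locallySurjective T p q := by
    obtain ⟨R, hR, h⟩ := B.locallySurjective T q p
    exact ⟨R, hR, fun T' f hf => by
      obtain ⟨x, hx1, hx2⟩ := h f hf
      exact ⟨x, hx2, hx1⟩⟩
  add₁ := B.add₂
  πP_add₁ := B.πQ_add₂
  πQ_add₁ := B.πP_add₂
  add₁_map := B.add₂_map
  add₁_comm := B.add₂_comm
  add₁_assoc := B.add₂_assoc
  add₁_act := B.add₂_act
  add₂ := B.add₁
  πP_add₂ := B.πQ_add₁
  πQ_add₂ := B.πP_add₁
  add₂_map := B.add₁_map
  add₂_comm := B.add₁_comm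
  add₂_assoc := B.add₁_assoc
  add₂_act := B.add₁_act
  compat T x y z t hxy hzt hxz hyt := (B.compat T x z y t hxz hyt hxy hzt).symm

end Basic


section PreSplit

variable {P Q G P' Q' : Sheaf J AddCommGrpCat.{u + 1}}

/-- a pre-splitting of `B` over `(α, β)`: sections `τ(p', q') ∈ E_{α p', β q'}`, natural and
biadditive -/
structure PreSplit (B : Biext J P Q G) (α : P' ⟶ P) (β : Q' ⟶ Q) : Type (u + 1) where
  τ : ∀ T : C, P'.obj.obj (op T) → Q'.obj.obj (op T) → B.E.obj.obj (op T)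
  πP_τ : ∀ (T : C) (p : P'.obj.obj (op T)) (q : Q'.obj.obj (op T)),
    B.πP T (τ T p q) = α.hom.app (op T) p
  πQ_τ : ∀ (T : C) (p : P'.obj.obj (op T)) (q : Q'.obj.obj (op T)),
    B.πQ T (τ T p q) = β.hom.app (op T) q
  τ_map : ∀ {T T' : C} (f : T' ⟶ T) (p : P'.obj.obj (op T)) (q : Q'.obj.obj (op T)),
    B.E.obj.map f.op (τ T p q) = τ T' (P'.obj.map f.op p) (Q'.obj.map f.op q)
  τ_add₁ : ∀ (T : C) (p p' : P'.obj.obj (op T)) (q : Q'.obj.obj (op T)),
    τ T (p + p') q = B.add₁ T (τ T p q) (τ T p' q) ((πQ_τ T p q).trans (πQ_τ T p' q).symm)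
  τ_add₂ : ∀ (T : C) (p : P'.obj.obj (op T)) (q q' : Q'.obj.obj (op T)),
    τ T p (q + q') = B.add₂ T (τ T p q) (τ T p q') ((πP_τ T p q).trans (πP_τ T p q').symm)

variable {B : Biext J P Q G} {α : P' ⟶ P} {β : Q' ⟶ Q}

/-- flip of a pre-splitting -/
def PreSplit.flip (t : PreSplit B α β) : PreSplit (flip B) β α where
  τ T q p := t.τ T p q
  πP_τ T q p := t.πQ_τ T p q
  πQ_τ T q p := t.πP_τ T p q
  τ_map f q p := t.τ_map f p q
  τ_add₁ T q q' p := t.τ_add₂ T p q q'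
  τ_add₂ T q p p' := t.τ_add₁ T p p' q

/-- pre-splitting from a morphism of biextensions and a splitting of the source -/
def PreSplit.ofHomOver {B' : Biext J P' Q' G} (φ : Biext.HomOver J α β (𝟙 G) B' B)
    (s : Biext.Splitting J B') : PreSplit B α β where
  τ T p q := φ.map T (s.σ T p q)
  πP_τ T p q := by rw [φ.πP_map, s.πP_σ]
  πQ_τ T p q := by rw [φ.πQ_map, s.πQ_σ]
  τ_map f p q := by rw [← φ.map_res, s.σ_map]
  τ_add₁ T p p' q := by
    have := φ.map_add₁ T (s.σ T p q) (s.σ T p' q) ((s.πQ_σ T p q).trans (s.πQ_σ T p' q).symm)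
    rw [← this, ← s.σ_add₁]
  τ_add₂ T p q q' := by
    have := φ.map_add₂ T (s.σ T p q) (s.σ T p q') ((s.πP_σ T p q).trans (s.πP_σ T p q').symm)
    rw [← this, ← s.σ_add₂]

variable (t : PreSplit B α β)

theorem α_add_ker {T : C} (p a : P'.obj.obj (op T)) (ha : α.hom.app (op T) a = 0) :
    α.hom.app (op T) (p + a) = α.hom.app (op T) p := by
  rw [map_add, ha, add_zero]

/-- `c(p, a, q)`: the difference `τ(p + a, q) - τ(p, q)` for `a ∈ ker α` -/
noncomputable def c (T : C) (p a : P'.obj.obj (op T)) (ha : α.hom.app (op T) a = 0)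
    (q : Q'.obj.obj (op T)) : G.obj.obj (op T) :=
  diff B T (t.τ T p q) (t.τ T (p + a) q)
    (by rw [t.πP_τ, t.πP_τ, α_add_ker p a ha]) (by rw [t.πQ_τ, t.πQ_τ])

theorem act_c (T : C) (p a : P'.obj.obj (op T)) (ha : α.hom.app (op T) a = 0)
    (q : Q'.obj.obj (op T)) : B.act T (c t T p a ha q) (t.τ T p q) = t.τ T (p + a) q :=
  act_diff B T _ _ _ _

theorem eq_c (T : C) (p a : P'.obj.obj (op T)) (ha : α.hom.app (op T) a = 0)
    (q : Q'.obj.obj (op T)) (g : G.obj.obj (op T))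
    (h : B.act T g (t.τ T p q) = t.τ T (p + a) q) : g = c t T p a ha q :=
  eq_diff B T _ _ _ _ g h

theorem map_ker {T T' : C} (f : T' ⟶ T) (a : P'.obj.obj (op T)) (ha : α.hom.app (op T) a = 0) :
    α.hom.app (op T') (P'.obj.map f.op a) = 0 := by
  have := NatTrans.naturality_apply α.hom f.op a
  rw [this, ha, map_zero]

theorem c_map {T T' : C} (f : T' ⟶ T) (p a : P'.obj.obj (op T)) (ha : α.hom.app (op T) a = 0)
    (q : Q'.obj.obj (op T)) :
    G.obj.map f.op (c t T p a ha q) =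
      c t T' (P'.obj.map f.op p) (P'.obj.map f.op a) (map_ker f a ha) (Q'.obj.map f.op q) := by
  apply eq_c
  rw [← t.τ_map, ← B.act_map, act_c, t.τ_map, map_add]

theorem c_zero (T : C) (p : P'.obj.obj (op T)) (q : Q'.obj.obj (op T)) :
    c t T p 0 (map_zero _) q = 0 := by
  symm
  apply eq_c
  rw [B.zero_act, add_zero]


theorem c_indep (T : C) (p a : P'.obj.obj (op T)) (ha : α.hom.app (op T) a = 0)
    (q : Q'.obj.obj (op T)) : c t T p a ha q = c t T 0 a ha q := by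
  symm
  apply eq_c
  have h1 : t.τ T (p + a) q = t.τ T (p + (0 + a)) q := by rw [zero_add]
  rw [h1, t.τ_add₁ T p (0 + a) q]
  have h2 := act_c t T 0 a ha q
  have h3 : t.τ T p q = t.τ T (p + 0) q := by rw [add_zero]
  conv_lhs => rw [h3, t.τ_add₁ T p 0 q]
  rw [← add₁_act' B T (c t T 0 a ha q) (t.τ T p q) (t.τ T 0 q)
    ((t.πQ_τ T p q).trans (t.πQ_τ T 0 q).symm)]
  exact add₁_congr B T rfl h2 _ _

theorem c_add_right (T : C) (a : P'.obj.obj (op T)) (ha : α.hom.app (op T) a = 0)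
    (q q' : Q'.obj.obj (op T)) :
    c t T 0 a ha (q + q') = c t T 0 a ha q + c t T 0 a ha q' := by
  symm
  apply eq_c
  rw [t.τ_add₂ T (0 + a) q q', t.τ_add₂ T 0 q q', B.add_act]
  rw [← add₂_act' B T (c t T 0 a ha q') (t.τ T 0 q) (t.τ T 0 q')
    ((t.πP_τ T 0 q).trans (t.πP_τ T 0 q').symm)]
  rw [← B.add₂_act T (c t T 0 a ha q) (t.τ T 0 q) (B.act T (c t T 0 a ha q') (t.τ T 0 q'))
    (((t.πP_τ T 0 q).trans (t.πP_τ T 0 q').symm).trans (B.πP_act T _ _).symm)]
  exact add₂_congr B T (act_c t T 0 a ha q) (act_c t T 0 a ha q') _ _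

theorem c_add_left (T : C) (a a' : P'.obj.obj (op T)) (ha : α.hom.app (op T) a = 0)
    (ha' : α.hom.app (op T) a' = 0) (q : Q'.obj.obj (op T)) :
    c t T 0 (a + a') (by rw [map_add, ha, ha', add_zero]) q =
      c t T 0 a ha q + c t T 0 a' ha' q := by
  symm
  apply eq_c
  rw [add_comm (c t T 0 a ha q), B.add_act, act_c, ← c_indep t T (0 + a) a' ha' q, act_c,
    add_assoc]


theorem c_congr (T : C) {a a' : P'.obj.obj (op T)} (ha : α.hom.app (op T) a = 0) (h : a = a')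
    {q q' : Q'.obj.obj (op T)} (hq : q = q') :
    c t T 0 a ha q = c t T 0 a' (h ▸ ha) q' := by
  subst h hq
  rfl

/-- `c(a, ·)` as an additive map -/
noncomputable def cR (T : C) (a : P'.obj.obj (op T)) (ha : α.hom.app (op T) a = 0) :
    Q'.obj.obj (op T) →+ G.obj.obj (op T) :=
  AddMonoidHom.mk' (fun q => c t T 0 a ha q) (c_add_right t T a ha)

/-- `c(·, q)` as an additive map on the kernel of `α` -/
noncomputable def cL (T : C) (q : Q'.obj.obj (op T)) :
    (α.hom.app (op T)).hom.ker →+ G.obj.obj (op T) :=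
  AddMonoidHom.mk' (fun a => c t T 0 a.1 (AddMonoidHom.mem_ker.1 a.2) q)
    (fun a a' => c_add_left t T a.1 a'.1 (AddMonoidHom.mem_ker.1 a.2)
      (AddMonoidHom.mem_ker.1 a'.2) q)

theorem c_zsmul_right (T : C) (a : P'.obj.obj (op T)) (ha : α.hom.app (op T) a = 0) (n : ℤ)
    (q : Q'.obj.obj (op T)) : c t T 0 a ha (n • q) = n • c t T 0 a ha q :=
  map_zsmul (cR t T a ha) n q

theorem c_zsmul_left (T : C) (a : P'.obj.obj (op T)) (ha : α.hom.app (op T) a = 0) (n : ℤ)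
    (q : Q'.obj.obj (op T)) :
    c t T 0 (n • a) (by rw [map_zsmul, ha, smul_zero]) q = n • c t T 0 a ha q :=
  map_zsmul (cL t T q) n ⟨a, AddMonoidHom.mem_ker.2 ha⟩

theorem sheaf_map_comp (F : Sheaf J AddCommGrpCat.{u + 1}) {T T' T'' : C} (f : T' ⟶ T)
    (g : T'' ⟶ T') (x : F.obj.obj (op T)) :
    F.obj.map (g ≫ f).op x = F.obj.map g.op (F.obj.map f.op x) := by
  rw [op_comp, Functor.map_comp]
  rfl

theorem E_map_comp (B : Biext J P Q G) {T T' T'' : C} (f : T' ⟶ T)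
    (g : T'' ⟶ T') (x : B.E.obj.obj (op T)) :
    B.E.obj.map (g ≫ f).op x = B.E.obj.map g.op (B.E.obj.map f.op x) := by
  rw [op_comp, Functor.map_comp]
  rfl

/-- sections of an abelian sheaf vanishing on a covering sieve vanish -/
theorem eq_zero_of_cover (F : Sheaf J AddCommGrpCat.{u + 1}) {T : C} (R : Sieve T) (hR : R ∈ J T)
    (x : F.obj.obj (op T)) (h : ∀ ⦃T' : C⦄ (f : T' ⟶ T), R f → F.obj.map f.op x = 0) : x = 0 := by
  have hF : Presieve.IsSheaf J (Biext.uSh J F).obj :=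
    (isSheaf_iff_isSheaf_of_type _ _).1 (Biext.uSh J F).property
  apply (hF R hR).isSeparatedFor.ext
  intro T' f hf
  show F.obj.map f.op x = F.obj.map f.op 0
  rw [h f hf, map_zero]

theorem eq_of_cover (F : Sheaf J AddCommGrpCat.{u + 1}) {T : C} (R : Sieve T) (hR : R ∈ J T)
    (x y : F.obj.obj (op T)) (h : ∀ ⦃T' : C⦄ (f : T' ⟶ T), R f → F.obj.map f.op x = F.obj.map f.op y) :
    x = y := by
  have hF : Presieve.IsSheaf J (Biext.uSh J F).obj :=
    (isSheaf_iff_isSheaf_of_type _ _).1 (Biext.uSh J F).property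
  apply (hF R hR).isSeparatedFor.ext
  intro T' f hf
  exact h f hf

theorem E_eq_of_cover (B : Biext J P Q G) {T : C} (R : Sieve T) (hR : R ∈ J T)
    (x y : B.E.obj.obj (op T))
    (h : ∀ ⦃T' : C⦄ (f : T' ⟶ T), R f → B.E.obj.map f.op x = B.E.obj.map f.op y) : x = y := by
  have hF : Presieve.IsSheaf J B.E.obj := (isSheaf_iff_isSheaf_of_type _ _).1 B.E.property
  apply (hF R hR).isSeparatedFor.ext
  intro T' f hf
  exact h f hf

/-- if `ker α` is killed by `n` and `Q'` is locally `n`-divisible, then `c = 0` -/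
theorem c_eq_zero_of_div (n : ℤ)
    (hker : ∀ (T : C) (a : P'.obj.obj (op T)), α.hom.app (op T) a = 0 → n • a = 0)
    (hdiv : ∀ (T : C) (q : Q'.obj.obj (op T)), ∃ R ∈ J T, ∀ ⦃T' : C⦄ (f : T' ⟶ T), R f →
      ∃ q'' : Q'.obj.obj (op T'), n • q'' = Q'.obj.map f.op q)
    (T : C) (a : P'.obj.obj (op T)) (ha : α.hom.app (op T) a = 0) (q : Q'.obj.obj (op T)) :
    c t T 0 a ha q = 0 := by
  obtain ⟨R, hR, h⟩ := hdiv T q
  apply eq_zero_of_cover G R hR
  intro T' f hf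
  obtain ⟨q'', hq''⟩ := h f hf
  rw [c_map, c_indep]
  have h1 := c_congr t T' (map_ker f a ha) rfl hq''.symm
  rw [h1, c_zsmul_right, ← c_zsmul_left]
  have h2 := c_congr t T' (a := n • P'.obj.map f.op a)
    (by rw [map_zsmul, map_ker f a ha, smul_zero]) (hker T' _ (map_ker f a ha)) (rfl : q'' = q'')
  rw [h2]
  exact c_zero t T' 0 q''


theorem τ_congr_left (hc : ∀ (T : C) (a : P'.obj.obj (op T)) (ha : α.hom.app (op T) a = 0)
      (q : Q'.obj.obj (op T)), c t T 0 a ha q = 0)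
    (T : C) (p₁ p₂ : P'.obj.obj (op T)) (h : α.hom.app (op T) p₁ = α.hom.app (op T) p₂)
    (q : Q'.obj.obj (op T)) : t.τ T p₁ q = t.τ T p₂ q := by
  have ha : α.hom.app (op T) (p₂ - p₁) = 0 := by rw [map_sub, h, sub_self]
  have h1 := act_c t T p₁ (p₂ - p₁) ha q
  rw [c_indep, hc, B.zero_act, add_sub_cancel] at h1
  exact h1

theorem τ_congr (hc : ∀ (T : C) (a : P'.obj.obj (op T)) (ha : α.hom.app (op T) a = 0)
      (q : Q'.obj.obj (op T)), c t T 0 a ha q = 0)
    (hc' : ∀ (T : C) (b : Q'.obj.obj (op T)) (hb : β.hom.app (op T) b = 0)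
      (p : P'.obj.obj (op T)), c t.flip T 0 b hb p = 0)
    (T : C) (p₁ p₂ : P'.obj.obj (op T)) (h : α.hom.app (op T) p₁ = α.hom.app (op T) p₂)
    (q₁ q₂ : Q'.obj.obj (op T)) (h' : β.hom.app (op T) q₁ = β.hom.app (op T) q₂) :
    t.τ T p₁ q₁ = t.τ T p₂ q₂ := by
  rw [τ_congr_left t hc T p₁ p₂ h q₁]
  exact τ_congr_left t.flip hc' T q₁ q₂ h' p₂

theorem nat_apply {F F' : Sheaf J AddCommGrpCat.{u + 1}} (γ : F ⟶ F') {T T' : C} (f : T' ⟶ T)
    (x : F.obj.obj (op T)) :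
    γ.hom.app (op T') (F.obj.map f.op x) = F'.obj.map f.op (γ.hom.app (op T) x) :=
  NatTrans.naturality_apply γ.hom f.op x

/-- **Descent of a pre-splitting** along locally surjective `α`, `β`. -/
theorem exists_splitting
    (hα : ∀ (T : C) (p : P.obj.obj (op T)), ∃ R ∈ J T, ∀ ⦃T' : C⦄ (f : T' ⟶ T), R f →
      ∃ p' : P'.obj.obj (op T'), α.hom.app (op T') p' = P.obj.map f.op p)
    (hβ : ∀ (T : C) (q : Q.obj.obj (op T)), ∃ R ∈ J T, ∀ ⦃T' : C⦄ (f : T' ⟶ T), R f →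
      ∃ q' : Q'.obj.obj (op T'), β.hom.app (op T') q' = Q.obj.map f.op q)
    (hc : ∀ (T : C) (a : P'.obj.obj (op T)) (ha : α.hom.app (op T) a = 0)
      (q : Q'.obj.obj (op T)), c t T 0 a ha q = 0)
    (hc' : ∀ (T : C) (b : Q'.obj.obj (op T)) (hb : β.hom.app (op T) b = 0)
      (p : P'.obj.obj (op T)), c t.flip T 0 b hb p = 0) :
    Nonempty (Biext.Splitting J B) := by
  have hE : Presieve.IsSheaf J B.E.obj := (isSheaf_iff_isSheaf_of_type _ _).1 B.E.property
  -- the covering sieve of common lifts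
  have hcov : ∀ (T : C) (p : P.obj.obj (op T)) (q : Q.obj.obj (op T)),
      ∃ R ∈ J T, ∀ ⦃T' : C⦄ (f : T' ⟶ T), R f →
        ∃ (p' : P'.obj.obj (op T')) (q' : Q'.obj.obj (op T')),
          α.hom.app (op T') p' = P.obj.map f.op p ∧ β.hom.app (op T') q' = Q.obj.map f.op q := by
    intro T p q
    obtain ⟨R₁, hR₁, h₁⟩ := hα T p
    obtain ⟨R₂, hR₂, h₂⟩ := hβ T q
    refine ⟨R₁ ⊓ R₂, J.intersection_covering hR₁ hR₂, fun T' f hf => ?_⟩
    obtain ⟨p', hp'⟩ := h₁ f hf.1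
    obtain ⟨q', hq'⟩ := h₂ f hf.2
    exact ⟨p', q', hp', hq'⟩
  choose R hR hlift using hcov
  choose lp lq hlp hlq using hlift
  -- the compatible family
  let fam : ∀ (T : C) (p : P.obj.obj (op T)) (q : Q.obj.obj (op T)),
      Presieve.FamilyOfElements B.E.obj (R T p q).arrows :=
    fun T p q T' f hf => t.τ T' (lp T p q f hf) (lq T p q f hf)
  have hfam : ∀ T p q, (fam T p q).Compatible := by
    intro T p q Y₁ Y₂ Z g₁ g₂ f₁ f₂ h₁ h₂ hcomm
    show B.E.obj.map g₁.op (t.τ Y₁ _ _) = B.E.obj.map g₂.op (t.τ Y₂ _ _)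
    rw [t.τ_map, t.τ_map]
    apply τ_congr t hc hc'
    · rw [nat_apply, nat_apply, hlp, hlp, ← sheaf_map_comp, ← sheaf_map_comp, hcomm]
    · rw [nat_apply, nat_apply, hlq, hlq, ← sheaf_map_comp, ← sheaf_map_comp, hcomm]
  let σ : ∀ T : C, P.obj.obj (op T) → Q.obj.obj (op T) → B.E.obj.obj (op T) :=
    fun T p q => (hE (R T p q) (hR T p q)).amalgamate (fam T p q) (hfam T p q)
  have hσ0 : ∀ (T : C) (p : P.obj.obj (op T)) (q : Q.obj.obj (op T)) ⦃T' : C⦄ (f : T' ⟶ T)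
      (hf : R T p q f), B.E.obj.map f.op (σ T p q) = t.τ T' (lp T p q f hf) (lq T p q f hf) :=
    fun T p q T' f hf => (hE (R T p q) (hR T p q)).valid_glue (hfam T p q) f hf
  -- characterisation of `σ`
  have hσ : ∀ (T : C) (p : P.obj.obj (op T)) (q : Q.obj.obj (op T)) ⦃T' : C⦄ (f : T' ⟶ T)
      (p' : P'.obj.obj (op T')) (q' : Q'.obj.obj (op T')),
      α.hom.app (op T') p' = P.obj.map f.op p → β.hom.app (op T') q' = Q.obj.map f.op q →
      B.E.obj.map f.op (σ T p q) = t.τ T' p' q' := by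
    intro T p q T' f p' q' hp' hq'
    apply E_eq_of_cover B ((R T p q).pullback f) (J.pullback_stable f (hR T p q))
    intro T'' g hg
    have hg' : R T p q (g ≫ f) := hg
    rw [← E_map_comp, hσ0 T p q (g ≫ f) hg', t.τ_map]
    apply τ_congr t hc hc'
    · rw [hlp, nat_apply, hp', sheaf_map_comp]
    · rw [hlq, nat_apply, hq', sheaf_map_comp]
  have hπP : ∀ (T : C) (p : P.obj.obj (op T)) (q : Q.obj.obj (op T)), B.πP T (σ T p q) = p := by
    intro T p q
    apply eq_of_cover P (R T p q) (hR T p q)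
    intro T' f hf
    rw [← B.πP_map, hσ0 T p q f hf, t.πP_τ, hlp]
  have hπQ : ∀ (T : C) (p : P.obj.obj (op T)) (q : Q.obj.obj (op T)), B.πQ T (σ T p q) = q := by
    intro T p q
    apply eq_of_cover Q (R T p q) (hR T p q)
    intro T' f hf
    rw [← B.πQ_map, hσ0 T p q f hf, t.πQ_τ, hlq]
  refine ⟨{ σ := σ, πP_σ := hπP, πQ_σ := hπQ, σ_map := ?_, σ_add₁ := ?_, σ_add₂ := ?_ }⟩
  · intro T T₁ g p q
    apply E_eq_of_cover B (R T₁ (P.obj.map g.op p) (Q.obj.map g.op q)) (hR T₁ _ _)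
    intro T' f hf
    rw [hσ0 T₁ _ _ f hf, ← E_map_comp]
    apply hσ T p q (f ≫ g)
    · rw [hlp, sheaf_map_comp]
    · rw [hlq, sheaf_map_comp]
  · intro T p₁ p₂ q
    apply E_eq_of_cover B (R T p₁ q ⊓ R T p₂ q) (J.intersection_covering (hR T p₁ q) (hR T p₂ q))
    intro T' f hf
    rw [B.add₁_map]
    have e1 := hσ T p₁ q f (lp T p₁ q f hf.1) (lq T p₁ q f hf.1) (hlp _ _ _ _ _) (hlq _ _ _ _ _)
    have e2 := hσ T p₂ q f (lp T p₂ q f hf.2) (lq T p₁ q f hf.1) (hlp _ _ _ _ _) (hlq _ _ _ _ _)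
    have e3 := hσ T (p₁ + p₂) q f (lp T p₁ q f hf.1 + lp T p₂ q f hf.2) (lq T p₁ q f hf.1)
      (by rw [map_add, map_add, hlp, hlp]) (hlq _ _ _ _ _)
    rw [e3, t.τ_add₁]
    exact add₁_congr B T' e1.symm e2.symm _ _
  · intro T p q₁ q₂
    apply E_eq_of_cover B (R T p q₁ ⊓ R T p q₂) (J.intersection_covering (hR T p q₁) (hR T p q₂))
    intro T' f hf
    rw [B.add₂_map]
    have e1 := hσ T p q₁ f (lp T p q₁ f hf.1) (lq T p q₁ f hf.1) (hlp _ _ _ _ _) (hlq _ _ _ _ _)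
    have e2 := hσ T p q₂ f (lp T p q₁ f hf.1) (lq T p q₂ f hf.2) (hlp _ _ _ _ _) (hlq _ _ _ _ _)
    have e3 := hσ T p (q₁ + q₂) f (lp T p q₁ f hf.1) (lq T p q₁ f hf.1 + lq T p q₂ f hf.2)
      (hlp _ _ _ _ _) (by rw [map_add, map_add, hlq, hlq])
    rw [e3, t.τ_add₂]
    exact add₂_congr B T' e1.symm e2.symm _ _

end PreSplit


section Main

variable {P Q G : Sheaf J AddCommGrpCat.{u + 1}}

theorem zsmul_id_app (F : Sheaf J AddCommGrpCat.{u + 1}) (k : ℤ) (T : C) (x : F.obj.obj (op T)) :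
    (k • 𝟙 F : F ⟶ F).hom.app (op T) x = k • x := by
  have h1 : (k • 𝟙 F : F ⟶ F).hom = k • (𝟙 F : F ⟶ F).hom := rfl
  rw [h1, NatTrans.app_zsmul]
  rfl

/-- local divisibility from epimorphy of `k • 𝟙` -/
theorem locally_div_of_epi (F : Sheaf J AddCommGrpCat.{u + 1}) (k : ℤ)
    (h : Epi (k • 𝟙 F : F ⟶ F)) (T : C) (x : F.obj.obj (op T)) :
    ∃ R ∈ J T, ∀ ⦃T' : C⦄ (f : T' ⟶ T), R f →
      ∃ x' : F.obj.obj (op T'), (k • 𝟙 F : F ⟶ F).hom.app (op T') x' = F.obj.map f.op x := by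
  have hls : Sheaf.IsLocallySurjective (k • 𝟙 F : F ⟶ F) :=
    (Sheaf.isLocallySurjective_iff_epi' _ _).2 h
  refine ⟨Presheaf.imageSieve (k • 𝟙 F : F ⟶ F).hom x, Presheaf.imageSieve_mem _ _ _, ?_⟩
  intro T' f hf
  obtain ⟨x', hx'⟩ := hf
  exact ⟨x', hx'⟩

/-- **Injectivity of `(n, m)^*` on classes of biextensions of divisible sheaves.** -/
theorem isTrivial_of_homOver_zsmul
    (hP : ∀ k : ℤ, k ≠ 0 → Epi (k • 𝟙 P))
    (hQ : ∀ k : ℤ, k ≠ 0 → Epi (k • 𝟙 Q))
    (n m : ℤ) (hn : n ≠ 0) (hm : m ≠ 0)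
    (B B' : Biext J P Q G)
    (φ : Biext.HomOver J (n • 𝟙 P) (m • 𝟙 Q) (𝟙 G) B' B)
    (hB' : Biext.IsTrivial J B') : Biext.IsTrivial J B := by
  obtain ⟨s⟩ := hB'
  let t := PreSplit.ofHomOver φ s
  apply exists_splitting t (locally_div_of_epi P n (hP n hn)) (locally_div_of_epi Q m (hQ m hm))
  · apply c_eq_zero_of_div t n
    · intro T a ha
      rwa [zsmul_id_app] at ha
    · intro T q
      obtain ⟨R, hR, h⟩ := locally_div_of_epi Q n (hQ n hn) T q
      refine ⟨R, hR, fun T' f hf => ?_⟩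
      obtain ⟨q'', hq''⟩ := h f hf
      rw [zsmul_id_app] at hq''
      exact ⟨q'', hq''⟩
  · apply c_eq_zero_of_div t.flip m
    · intro T a ha
      rwa [zsmul_id_app] at ha
    · intro T q
      obtain ⟨R, hR, h⟩ := locally_div_of_epi P m (hP m hm) T q
      refine ⟨R, hR, fun T' f hf => ?_⟩
      obtain ⟨q'', hq''⟩ := h f hf
      rw [zsmul_id_app] at hq''
      exact ⟨q'', hq''⟩

end Main

end Groth.Agent.Lib.Helper75.BiextDiv
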