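import Groth.Prelude.Def_Biext
import Groth.Prelude.Def_CGrpSh2
import Groth.Agent.Lib.Helper75.BiaddSh

/-!
# Rigidity of biextensions of abelian schemes (helper75)

* abstract part: for an endomorphism `f` of a biextension `B` of `(P, Q)` by `G` (over the
  identities), the difference `δ(x) = f(x) - x ∈ G(T)` is natural, depends only on the image of `x` in
  `P × Q`, and is additive for both partial laws;
* for sheaves of points of commutative group schemes `δ` is computed by a morphism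
  `F : A₁ ⊗ A₂ ⟶ A₃` (gluing in the representable sheaf of `A₃`), trivial on `A₁ × 0` and `0 × A₂`;
* for abelian schemes `F = 1` by the rigidity lemma, hence `f = id`.
-/

set_option autoImplicit false
universe u
open CategoryTheory Opposite CategoryTheory.Limits AlgebraicGeometry MonObj MonoidalCategory
  CartesianMonoidalCategory

namespace Groth.Agent.Lib.Helper75.BiextRig

section Abstract

variable {C : Type (u + 1)} [Category.{u} C] {J : GrothendieckTopology C}
  {P Q G : Sheaf J AddCommGrpCat.{u + 1}} (B : Biext J P Q G) (f : Biext.Hom J B B)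

theorem πP_f (T : C) (x : B.E.obj.obj (op T)) : B.πP T (f.map T x) = B.πP T x := f.πP_map T x

theorem πQ_f (T : C) (x : B.E.obj.obj (op T)) : B.πQ T (f.map T x) = B.πQ T x := f.πQ_map T x

theorem map_act' (T : C) (g : G.obj.obj (op T)) (x : B.E.obj.obj (op T)) :
    f.map T (B.act T g x) = B.act T g (f.map T x) := f.map_act T g x

/-- the difference `f(x) - x ∈ G(T)` -/
noncomputable def δ (T : C) (x : B.E.obj.obj (op T)) : G.obj.obj (op T) :=
  (B.existsUnique_act T x (f.map T x) (πP_f B f T x).symm (πQ_f B f T x).symm).choose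

theorem act_δ (T : C) (x : B.E.obj.obj (op T)) : B.act T (δ B f T x) x = f.map T x :=
  (B.existsUnique_act T x (f.map T x) (πP_f B f T x).symm (πQ_f B f T x).symm).choose_spec.1

theorem eq_δ (T : C) (x : B.E.obj.obj (op T)) (g : G.obj.obj (op T))
    (h : B.act T g x = f.map T x) : g = δ B f T x :=
  (B.existsUnique_act T x (f.map T x) (πP_f B f T x).symm (πQ_f B f T x).symm).choose_spec.2 g h

theorem δ_map {T T' : C} (g : T' ⟶ T) (x : B.E.obj.obj (op T)) :
    δ B f T' (B.E.obj.map g.op x) = G.obj.map g.op (δ B f T x) := by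
  symm
  apply eq_δ
  rw [← B.act_map, act_δ, f.map_res]

theorem δ_act (T : C) (h : G.obj.obj (op T)) (x : B.E.obj.obj (op T)) :
    δ B f T (B.act T h x) = δ B f T x := by
  symm
  apply eq_δ
  rw [← B.add_act, add_comm, B.add_act, act_δ, map_act']

theorem δ_congr (T : C) (x y : B.E.obj.obj (op T)) (hP : B.πP T x = B.πP T y)
    (hQ : B.πQ T x = B.πQ T y) : δ B f T x = δ B f T y := by
  obtain ⟨h, hh, -⟩ := B.existsUnique_act T x y hP hQ
  rw [← hh, δ_act]

theorem add₁_congr (T : C) {x x' z z' : B.E.obj.obj (op T)} (hx : x = x') (hz : z = z')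
    (h : B.πQ T x = B.πQ T z) (h' : B.πQ T x' = B.πQ T z') :
    B.add₁ T x z h = B.add₁ T x' z' h' := by
  subst hx hz
  rfl

theorem add₂_congr (T : C) {x x' y y' : B.E.obj.obj (op T)} (hx : x = x') (hy : y = y')
    (h : B.πP T x = B.πP T y) (h' : B.πP T x' = B.πP T y') :
    B.add₂ T x y h = B.add₂ T x' y' h' := by
  subst hx hy
  rfl

theorem δ_add₁ (T : C) (x z : B.E.obj.obj (op T)) (h : B.πQ T x = B.πQ T z) :
    δ B f T (B.add₁ T x z h) = δ B f T x + δ B f T z := by
  symm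
  apply eq_δ
  have hfz : B.πQ T (f.map T z) = B.πQ T x := (πQ_f B f T z).trans h.symm
  have hfx : B.πQ T (f.map T x) = B.πQ T (f.map T z) := (πQ_f B f T x).trans hfz.symm
  calc B.act T (δ B f T x + δ B f T z) (B.add₁ T x z h)
      = B.act T (δ B f T x) (B.act T (δ B f T z) (B.add₁ T z x h.symm)) := by
        rw [B.add_act, B.add₁_comm T x z h]
    _ = B.act T (δ B f T x) (B.add₁ T (f.map T z) x hfz) := by
        rw [← B.add₁_act T (δ B f T z) z x h.symm]
        congr 1
        exact add₁_congr B T (act_δ B f T z) rfl _ _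
    _ = B.act T (δ B f T x) (B.add₁ T x (f.map T z) hfz.symm) := by
        rw [B.add₁_comm]
    _ = B.add₁ T (f.map T x) (f.map T z) hfx := by
        rw [← B.add₁_act T (δ B f T x) x (f.map T z) hfz.symm]
        exact add₁_congr B T (act_δ B f T x) rfl _ _
    _ = f.map T (B.add₁ T x z h) := (f.map_add₁ T x z h).symm

theorem δ_add₂ (T : C) (x y : B.E.obj.obj (op T)) (h : B.πP T x = B.πP T y) :
    δ B f T (B.add₂ T x y h) = δ B f T x + δ B f T y := by
  symm
  apply eq_δ
  have hfy : B.πP T (f.map T y) = B.πP T x := (πP_f B f T y).trans h.symm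
  have hfx : B.πP T (f.map T x) = B.πP T (f.map T y) := (πP_f B f T x).trans hfy.symm
  calc B.act T (δ B f T x + δ B f T y) (B.add₂ T x y h)
      = B.act T (δ B f T x) (B.act T (δ B f T y) (B.add₂ T y x h.symm)) := by
        rw [B.add_act, B.add₂_comm T x y h]
    _ = B.act T (δ B f T x) (B.add₂ T (f.map T y) x hfy) := by
        rw [← B.add₂_act T (δ B f T y) y x h.symm]
        congr 1
        exact add₂_congr B T (act_δ B f T y) rfl _ _
    _ = B.act T (δ B f T x) (B.add₂ T x (f.map T y) hfy.symm) := by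
        rw [B.add₂_comm]
    _ = B.add₂ T (f.map T x) (f.map T y) hfx := by
        rw [← B.add₂_act T (δ B f T x) x (f.map T y) hfy.symm]
        exact add₂_congr B T (act_δ B f T x) rfl _ _
    _ = f.map T (B.add₂ T x y h) := (f.map_add₂ T x y h).symm

/-- `δ` vanishes on sections lying over `(p, 0)` -/
theorem δ_eq_zero_of_πQ (T : C) (x : B.E.obj.obj (op T)) (hx : B.πQ T x = 0) : δ B f T x = 0 := by
  have h1 := δ_add₂ B f T x x rfl
  have h2 : δ B f T (B.add₂ T x x rfl) = δ B f T x := by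
    apply δ_congr
    · exact B.πP_add₂ T x x rfl
    · rw [B.πQ_add₂, hx, add_zero]
  rw [h2] at h1
  exact (add_eq_left.mp h1.symm)

theorem δ_eq_zero_of_πP (T : C) (x : B.E.obj.obj (op T)) (hx : B.πP T x = 0) : δ B f T x = 0 := by
  have h1 := δ_add₁ B f T x x rfl
  have h2 : δ B f T (B.add₁ T x x rfl) = δ B f T x := by
    apply δ_congr
    · rw [B.πP_add₁, hx, add_zero]
    · exact B.πQ_add₁ T x x rfl
  rw [h2] at h1
  exact (add_eq_left.mp h1.symm)

theorem eq_id_of_δ (h : ∀ (T : C) (x : B.E.obj.obj (op T)), δ B f T x = 0) :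
    f = Biext.HomOver.id J B := by
  apply Biext.HomOver.ext'
  intro T x
  rw [← act_δ B f T x, h, B.zero_act]
  rfl

end Abstract

section Concrete

variable {S : Scheme.{u}} (K : Precoverage Scheme.{u}) [(QuotSh.J K S).Subcanonical]
variable {A₁ A₂ A₃ : Over S} [GrpObj A₁] [IsCommMonObj A₁] [GrpObj A₂] [IsCommMonObj A₂] [GrpObj A₃]
  [IsCommMonObj A₃]
variable (B : Biext (QuotSh.J K S) (CGrpSh.pts K A₁) (CGrpSh.pts K A₂) (CGrpSh.pts K A₃))
  (f : Biext.Hom (QuotSh.J K S) B B)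

theorem pts_map_apply {A : Over S} [GrpObj A] [IsCommMonObj A] {T T' : Over S} (g : T' ⟶ T)
    (p : (CGrpSh.pts K A).obj.obj (op T)) :
    (CGrpSh.pts K A).obj.map g.op p = ULift.up (Additive.ofMul (g ≫ p.down.toMul)) := rfl

/-- there is a universal pairing `F : A₁ ⊗ A₂ ⟶ A₃` computing `δ`, which vanishes on `A₁ × 0` and
`0 × A₂` -/
theorem exists_pairing :
    ∃ F : A₁ ⊗ A₂ ⟶ A₃,
      (∀ (T : Over S) (x : B.E.obj.obj (op T)),
        (δ B f T x).down.toMul = lift (B.πP T x).down.toMul (B.πQ T x).down.toMul ≫ F) ∧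
      (∀ (T : Over S) (t : T ⟶ A₁ ⊗ A₂), t ≫ snd A₁ A₂ = 1 → t ≫ F = 1) ∧
      (∀ (T : Over S) (t : T ⟶ A₁ ⊗ A₂), t ≫ fst A₁ A₂ = 1 → t ≫ F = 1) := by
  let p₀ : (CGrpSh.pts K A₁).obj.obj (op (A₁ ⊗ A₂)) := ULift.up (Additive.ofMul (fst A₁ A₂))
  let q₀ : (CGrpSh.pts K A₂).obj.obj (op (A₁ ⊗ A₂)) := ULift.up (Additive.ofMul (snd A₁ A₂))
  obtain ⟨R, hR, hlift⟩ := B.locallySurjective (A₁ ⊗ A₂) p₀ q₀
  choose x hxP hxQ using hlift
  have hsh : Presieve.IsSheaf (QuotSh.J K S) (yoneda.obj A₃) :=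
    GrothendieckTopology.Subcanonical.isSheaf_of_isRepresentable (J := QuotSh.J K S) (yoneda.obj A₃)
  let fam : Presieve.FamilyOfElements (yoneda.obj A₃) R.arrows :=
    fun T' g hg => (δ B f T' (x g hg)).down.toMul
  -- restriction of `δ`
  have hres : ∀ {T T' : Over S} (g : T' ⟶ T) (y : B.E.obj.obj (op T)),
      g ≫ (δ B f T y).down.toMul = (δ B f T' (B.E.obj.map g.op y)).down.toMul := by
    intro T T' g y
    rw [δ_map]
    rfl
  have hcompat : fam.Compatible := by
    intro Y₁ Y₂ Z g₁ g₂ f₁ f₂ h₁ h₂ hcomm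
    show g₁ ≫ (δ B f Y₁ (x f₁ h₁)).down.toMul = g₂ ≫ (δ B f Y₂ (x f₂ h₂)).down.toMul
    rw [hres, hres]
    congr 2
    apply δ_congr
    · rw [B.πP_map, B.πP_map, hxP, hxP, pts_map_apply, pts_map_apply, pts_map_apply,
        pts_map_apply]
      show ULift.up (Additive.ofMul (g₁ ≫ f₁ ≫ fst A₁ A₂)) =
        ULift.up (Additive.ofMul (g₂ ≫ f₂ ≫ fst A₁ A₂))
      rw [← Category.assoc, ← Category.assoc, hcomm]
    · rw [B.πQ_map, B.πQ_map, hxQ, hxQ, pts_map_apply, pts_map_apply, pts_map_apply,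
        pts_map_apply]
      show ULift.up (Additive.ofMul (g₁ ≫ f₁ ≫ snd A₁ A₂)) =
        ULift.up (Additive.ofMul (g₂ ≫ f₂ ≫ snd A₁ A₂))
      rw [← Category.assoc, ← Category.assoc, hcomm]
  let F : A₁ ⊗ A₂ ⟶ A₃ := (hsh R hR).amalgamate fam hcompat
  have hF : ∀ {T' : Over S} (g : T' ⟶ A₁ ⊗ A₂) (hg : R g),
      g ≫ F = (δ B f T' (x g hg)).down.toMul :=
    fun g hg => (hsh R hR).valid_glue hcompat g hg
  refine ⟨F, ?_, ?_, ?_⟩
  · intro T y
    set l := lift (B.πP T y).down.toMul (B.πQ T y).down.toMul with hl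
    have hsep := (hsh (R.pullback l) ((QuotSh.J K S).pullback_stable l hR)).isSeparatedFor
    apply hsep.ext
    intro T' g hg0
    have hg : R (g ≫ l) := hg0
    show g ≫ (δ B f T y).down.toMul = g ≫ l ≫ F
    rw [hres, ← Category.assoc, hF (g ≫ l) hg]
    congr 2
    apply δ_congr
    · rw [B.πP_map, hxP, pts_map_apply, pts_map_apply]
      show ULift.up (Additive.ofMul (g ≫ (B.πP T y).down.toMul)) =
        ULift.up (Additive.ofMul ((g ≫ l) ≫ fst A₁ A₂))
      rw [Category.assoc, hl, lift_fst]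
    · rw [B.πQ_map, hxQ, pts_map_apply, pts_map_apply]
      show ULift.up (Additive.ofMul (g ≫ (B.πQ T y).down.toMul)) =
        ULift.up (Additive.ofMul ((g ≫ l) ≫ snd A₁ A₂))
      rw [Category.assoc, hl, lift_snd]
  · intro T t ht
    have hsep := (hsh (R.pullback t) ((QuotSh.J K S).pullback_stable t hR)).isSeparatedFor
    apply hsep.ext
    intro T' g hg0
    have hg : R (g ≫ t) := hg0
    show g ≫ t ≫ F = g ≫ 1
    rw [← Category.assoc, hF (g ≫ t) hg, MonObj.comp_one]
    have h0 : δ B f T' (x (g ≫ t) hg) = 0 := by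
      apply δ_eq_zero_of_πQ
      rw [hxQ, pts_map_apply]
      show ULift.up (Additive.ofMul ((g ≫ t) ≫ snd A₁ A₂)) = 0
      rw [Category.assoc, ht, MonObj.comp_one]
      rfl
    rw [h0]
    rfl
  · intro T t ht
    have hsep := (hsh (R.pullback t) ((QuotSh.J K S).pullback_stable t hR)).isSeparatedFor
    apply hsep.ext
    intro T' g hg0
    have hg : R (g ≫ t) := hg0
    show g ≫ t ≫ F = g ≫ 1
    rw [← Category.assoc, hF (g ≫ t) hg, MonObj.comp_one]
    have h0 : δ B f T' (x (g ≫ t) hg) = 0 := by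
      apply δ_eq_zero_of_πP
      rw [hxP, pts_map_apply]
      show ULift.up (Additive.ofMul ((g ≫ t) ≫ fst A₁ A₂)) = 0
      rw [Category.assoc, ht, MonObj.comp_one]
      rfl
    rw [h0]
    rfl


/-- **Rigidity of biextensions of abelian schemes** -/
theorem eq_id_of_abelian [IsProper A₁.hom] [Flat A₁.hom] [LocallyOfFinitePresentation A₁.hom]
    [GeometricallyConnected A₁.hom] [GeometricallyReduced A₁.hom] [IsSeparated A₃.hom]
    (hconn : ∀ s : S, _root_.IsPreconnected (A₂.hom ⁻¹' {s})) :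
    f = Biext.HomOver.id (QuotSh.J K S) B := by
  obtain ⟨F, hδ, hF1, hF2⟩ := exists_pairing K B f
  have hσ : (A₁ ◁ η[A₂]) ≫ F = toUnit _ ≫ η[A₃] := by
    rw [← Hom.one_def]
    apply hF1
    rw [whiskerLeft_snd, Hom.one_def]
    congr 1
    exact toUnit_unique _ _
  obtain ⟨h, hh⟩ := RigGenGrp.exists_factor_snd_of_section A₁ A₂ A₃ hconn F η[A₂] η[A₃] hσ
  have hh1 : h = 1 := by
    let j : A₂ ⟶ A₁ ⊗ A₂ := lift (toUnit A₂ ≫ η[A₁]) (𝟙 A₂)
    have j1 : j ≫ fst A₁ A₂ = (1 : A₂ ⟶ A₁) := by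
      rw [lift_fst, Hom.one_def]
    have j2 : j ≫ snd A₁ A₂ = 𝟙 A₂ := lift_snd _ _
    have h1 : j ≫ F = h := by
      rw [hh, ← Category.assoc, j2, Category.id_comp]
    rw [← h1]
    exact hF2 _ j j1
  have hF : F = 1 := by
    rw [hh, hh1, MonObj.comp_one]
  apply eq_id_of_δ
  intro T x
  apply ULift.ext
  have h2 := hδ T x
  rw [hF, MonObj.comp_one] at h2
  exact h2

end Concrete

end Groth.Agent.Lib.Helper75.BiextRig
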