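import Mathlib.AlgebraicGeometry.Morphisms.Proper
import Mathlib.AlgebraicGeometry.Morphisms.Separated
import Mathlib.AlgebraicGeometry.Geometrically.Integral
import Mathlib.AlgebraicGeometry.PullbackCarrier

set_option autoImplicit false
universe u
open CategoryTheory Limits AlgebraicGeometry

namespace Groth.Agent.Lib.Helper75.Collapse

/-- Lemma E: a surjective morphism which is injective on sections is an epimorphism. -/
theorem eq_of_comp_eq {X S Y : Scheme.{u}} (ξ : X ⟶ S) [Surjective ξ]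
    (hinj : ∀ U : S.Opens, Function.Injective (ξ.app U).hom) (a b : S ⟶ Y)
    (hab : ξ ≫ a = ξ ≫ b) : a = b := by
  have hpt : ∀ s, a s = b s := by
    intro s
    obtain ⟨x, rfl⟩ := ξ.surjective s
    have := congr($hab x)
    simpa using this
  have hcov : TopologicalSpace.IsOpenCover (fun V : Y.affineOpens => a ⁻¹ᵁ V.1) := by
    show ⨆ V : Y.affineOpens, a ⁻¹ᵁ V.1 = ⊤
    rw [← Scheme.Hom.preimage_iSup, iSup_affineOpens_eq_top]
    rfl
  apply (S.openCoverOfIsOpenCover _ hcov).hom_ext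
  intro V
  show (a ⁻¹ᵁ V.1).ι ≫ a = (a ⁻¹ᵁ V.1).ι ≫ b
  have hVb : a ⁻¹ᵁ V.1 = b ⁻¹ᵁ V.1 := by
    ext s
    show a s ∈ V.1 ↔ b s ∈ V.1
    rw [hpt]
  rw [← morphismRestrict_ι a V.1]
  have h2 : (a ⁻¹ᵁ V.1).ι ≫ b = ((S.isoOfEq hVb).hom ≫ (b ∣_ V.1)) ≫ V.1.ι := by
    rw [Category.assoc, morphismRestrict_ι, Scheme.isoOfEq_hom_ι_assoc]
  rw [h2]
  congr 1
  have : IsAffine (V.1 : Scheme) := V.2
  apply ext_of_isAffine
  -- compare after composing with `ξ ∣_ W`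
  set W : S.Opens := a ⁻¹ᵁ V.1 with hW
  have hcomp : (ξ ∣_ W) ≫ (a ∣_ V.1) = (ξ ∣_ W) ≫ ((S.isoOfEq hVb).hom ≫ (b ∣_ V.1)) := by
    rw [← cancel_mono V.1.ι, Category.assoc, Category.assoc, Category.assoc, morphismRestrict_ι,
      morphismRestrict_ι, Scheme.isoOfEq_hom_ι_assoc, morphismRestrict_ι_assoc,
      morphismRestrict_ι_assoc, hab]
  have hinjW : Function.Injective (ξ ∣_ W).appTop.hom := by
    rw [morphismRestrict_appTop]
    intro s t hst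
    apply hinj (W.ι ''ᵁ ⊤)
    have hiso : Function.Injective
        (X.presheaf.map (eqToHom (image_morphismRestrict_preimage ξ W ⊤)).op).hom :=
      ((ConcreteCategory.isIso_iff_bijective _).mp inferInstance).1
    apply hiso
    exact hst
  have h3 : (a ∣_ V.1).appTop ≫ (ξ ∣_ W).appTop =
      ((S.isoOfEq hVb).hom ≫ (b ∣_ V.1)).appTop ≫ (ξ ∣_ W).appTop := by
    rw [← Scheme.Hom.comp_appTop, ← Scheme.Hom.comp_appTop, hcomp]
  ext s
  apply hinjW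
  exact congr($h3 s)

/-- Lemma G: gluing morphisms defined on an open cover by opens, compatible on intersections. -/
theorem exists_glue {T Y : Scheme.{u}} {ι : Type*} (W : ι → T.Opens)
    (hW : TopologicalSpace.IsOpenCover W) (g : ∀ i, (W i : Scheme) ⟶ Y)
    (hg : ∀ i j, T.homOfLE (inf_le_left : W i ⊓ W j ≤ W i) ≫ g i =
      T.homOfLE (inf_le_right : W i ⊓ W j ≤ W j) ≫ g j) :
    ∃ r : T ⟶ Y, ∀ i, (W i).ι ≫ r = g i := by
  let 𝒰 := T.openCoverOfIsOpenCover W hW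
  have hcompat : ∀ i j : ι, pullback.fst (W i).ι (W j).ι ≫ g i =
      pullback.snd (W i).ι (W j).ι ≫ g j := by
    intro i j
    have hpb := isPullback_opens_inf (W i) (W j)
    rw [← cancel_epi hpb.isoPullback.hom]
    have e1 : hpb.isoPullback.hom ≫ pullback.fst (W i).ι (W j).ι = T.homOfLE inf_le_left :=
      hpb.isoPullback_hom_fst
    have e2 : hpb.isoPullback.hom ≫ pullback.snd (W i).ι (W j).ι = T.homOfLE inf_le_right :=
      hpb.isoPullback_hom_snd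
    rw [reassoc_of% e1, reassoc_of% e2]
    exact hg i j
  refine ⟨𝒰.glueMorphisms g hcompat, fun i => ?_⟩
  exact 𝒰.ι_glueMorphisms g hcompat i

section main

variable {X Y S : Scheme.{u}} (ξ : X ⟶ S) (f : X ⟶ Y)

/-- `f` factors through `ξ` over the open `S'` via `r`. -/
def Fact (S' : S.Opens) (r : (S' : Scheme) ⟶ Y) : Prop :=
  (ξ ⁻¹ᵁ S').ι ≫ f = (ξ ∣_ S') ≫ r

theorem restrict_app_injective (h0 : ∀ U : S.Opens, Function.Injective (ξ.app U).hom)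
    (S' : S.Opens) (V : (S' : Scheme).Opens) : Function.Injective ((ξ ∣_ S').app V).hom := by
  rw [morphismRestrict_app]
  intro s t hst
  apply h0 (S'.ι ''ᵁ V)
  have hiso : Function.Injective
      (X.presheaf.map (eqToHom (image_morphismRestrict_preimage ξ S' V)).op).hom :=
    ((ConcreteCategory.isIso_iff_bijective _).mp inferInstance).1
  apply hiso
  exact hst

theorem restrict_appTop_bijective (h0 : ∀ U : S.Opens, Function.Bijective (ξ.app U).hom)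
    (S' : S.Opens) : Function.Bijective (ξ ∣_ S').appTop.hom := by
  rw [morphismRestrict_appTop]
  have hiso : Function.Bijective
      (X.presheaf.map (eqToHom (image_morphismRestrict_preimage ξ S' ⊤)).op).hom :=
    (ConcreteCategory.isIso_iff_bijective _).mp inferInstance
  exact hiso.comp (h0 (S'.ι ''ᵁ ⊤))

theorem exists_fact [UniversallyClosed ξ] (h0 : ∀ U : S.Opens, Function.Bijective (ξ.app U).hom)
    (s : S) (y : Y) (hy : ∀ x : X, ξ x = s → f x = y) :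
    ∃ S' : S.Opens, s ∈ S' ∧ ∃ r, Fact ξ f S' r := by
  obtain ⟨V, hV, hyV⟩ : ∃ V : Y.Opens, IsAffineOpen V ∧ y ∈ V := by
    obtain ⟨_, ⟨V, hV, rfl⟩, hzU, -⟩ :=
      Y.isBasis_affineOpens.exists_subset_of_mem_open (Set.mem_univ y) isOpen_univ
    exact ⟨V, hV, hzU⟩
  have hC : IsClosed ((f ⁻¹ᵁ V : Set X)ᶜ) := (f ⁻¹ᵁ V).isOpen.isClosed_compl
  have hG : IsClosed (ξ '' ((f ⁻¹ᵁ V : Set X)ᶜ)) := ξ.isClosedMap _ hC
  let S' : S.Opens := ⟨(ξ '' ((f ⁻¹ᵁ V : Set X)ᶜ))ᶜ, hG.isOpen_compl⟩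
  have hsS' : s ∈ S' := by
    rintro ⟨p, hp, hps⟩
    apply hp
    show f p ∈ V
    rw [hy p hps]; exact hyV
  have hle : ξ ⁻¹ᵁ S' ≤ f ⁻¹ᵁ V := by
    intro p hp
    by_contra hpn
    exact hp ⟨p, hpn, rfl⟩
  refine ⟨S', hsS', ?_⟩
  have hrange : Set.range ((ξ ⁻¹ᵁ S').ι ≫ f) ⊆ Set.range V.ι := by
    rintro _ ⟨x, rfl⟩
    rw [Scheme.Opens.range_ι]
    exact hle x.2
  let ψ : (ξ ⁻¹ᵁ S' : Scheme) ⟶ (V : Scheme) := IsOpenImmersion.lift V.ι ((ξ ⁻¹ᵁ S').ι ≫ f) hrange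
  have hψ : ψ ≫ V.ι = (ξ ⁻¹ᵁ S').ι ≫ f := IsOpenImmersion.lift_fac _ _ _
  have hVaff : IsAffine (V : Scheme) := hV
  have hiso : IsIso (ξ ∣_ S').appTop :=
    (ConcreteCategory.isIso_iff_bijective _).mpr (restrict_appTop_bijective ξ h0 S')
  let ρ : Γ((V : Scheme), ⊤) ⟶ Γ((S' : Scheme), ⊤) := ψ.appTop ≫ inv (ξ ∣_ S').appTop
  let r₀ : (S' : Scheme) ⟶ (V : Scheme) :=
    (S' : Scheme).toSpecΓ ≫ Spec.map ρ ≫ inv (V : Scheme).toSpecΓ
  refine ⟨r₀ ≫ V.ι, ?_⟩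
  show (ξ ⁻¹ᵁ S').ι ≫ f = (ξ ∣_ S') ≫ r₀ ≫ V.ι
  rw [← hψ, ← Category.assoc]
  congr 1
  rw [← cancel_mono (V : Scheme).toSpecΓ, Scheme.toSpecΓ_naturality]
  simp only [r₀, Category.assoc, IsIso.inv_hom_id, Category.comp_id]
  rw [Scheme.toSpecΓ_naturality_assoc, ← Spec.map_comp]
  congr 2
  simp only [ρ, Category.assoc, IsIso.inv_hom_id, Category.comp_id]

theorem fact_subset (S' : S.Opens) (r : (S' : Scheme) ⟶ Y) (hr : Fact ξ f S' r) (s : S)
    (hs : s ∈ S') : ∃ y : Y, ∀ x : X, ξ x = s → f x = y := by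
  refine ⟨r ⟨s, hs⟩, fun x hx => ?_⟩
  have hx' : x ∈ ξ ⁻¹ᵁ S' := by
    show ξ x ∈ S'
    rw [hx]; exact hs
  let x' : (ξ ⁻¹ᵁ S' : Scheme) := ⟨x, hx'⟩
  have h1 : ((ξ ⁻¹ᵁ S').ι ≫ f) x' = ((ξ ∣_ S') ≫ r) x' := congr($hr x')
  rw [Scheme.Hom.comp_apply, Scheme.Hom.comp_apply] at h1
  have h2 : (ξ ∣_ S') x' = ⟨s, hs⟩ := by
    apply Subtype.ext
    rw [morphismRestrict_base_coe]
    exact hx
  rw [h2] at h1
  exact h1

theorem fact_restrict (S' S'' : S.Opens) (h : S'' ≤ S') (r : (S' : Scheme) ⟶ Y)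
    (hr : Fact ξ f S' r) : Fact ξ f S'' (S.homOfLE h ≫ r) := by
  unfold Fact at hr ⊢
  rw [morphismRestrict_homOfLE_assoc, ← hr, Scheme.homOfLE_ι_assoc]

theorem restrict_surjective [Surjective ξ] (S' : S.Opens) : Surjective (ξ ∣_ S') := by
  constructor
  rintro ⟨s, hs⟩
  obtain ⟨x, rfl⟩ := ξ.surjective s
  exact ⟨⟨x, hs⟩, Subtype.ext (morphismRestrict_base_coe ξ S' _)⟩

theorem fact_unique [Surjective ξ] (h0 : ∀ U : S.Opens, Function.Injective (ξ.app U).hom)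
    (S' : S.Opens) (r₁ r₂ : (S' : Scheme) ⟶ Y) (h₁ : Fact ξ f S' r₁) (h₂ : Fact ξ f S' r₂) :
    r₁ = r₂ := by
  have : Surjective (ξ ∣_ S') := restrict_surjective ξ S'
  exact eq_of_comp_eq (ξ ∣_ S') (restrict_app_injective ξ h0 S') r₁ r₂ (h₁.symm.trans h₂)

theorem fact_comp [Surjective ξ] (h0 : ∀ U : S.Opens, Function.Injective (ξ.app U).hom)
    (v : Y ⟶ S) (hf : f ≫ v = ξ)
    (S' : S.Opens) (r : (S' : Scheme) ⟶ Y) (hr : Fact ξ f S' r) : r ≫ v = S'.ι := by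
  have : Surjective (ξ ∣_ S') := restrict_surjective ξ S'
  apply eq_of_comp_eq (ξ ∣_ S') (restrict_app_injective ξ h0 S')
  rw [← Category.assoc, ← hr, Category.assoc, hf, morphismRestrict_ι]

end main

end Groth.Agent.Lib.Helper75.Collapse
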