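import Mathlib
import Groth.Prelude
import Groth.Agent.Lib.Helper75.Collapse

/-!
# Factorization through a fibration (EGA II 8.11.1)

If `ξ : X ⟶ S` is universally closed, surjective and `O_S → ξ_* O_X` is an isomorphism, then any
morphism `f : X ⟶ Y` which is constant on the fibres of `ξ` factors uniquely through `ξ`.
-/

set_option autoImplicit false
universe u
open CategoryTheory Limits AlgebraicGeometry

namespace Groth.Agent.Lib.Helper75.FactorFib

open Groth.Agent.Lib.Helper75.Collapse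

theorem surjective_of_forall_isIso_app {X Y : Scheme.{u}} (f : X ⟶ Y) [UniversallyClosed f]
    (hfib : ∀ V : Y.Opens, IsIso (f.app V)) : Surjective f := by
  rw [surjective_iff]
  by_contra hns
  have hcl : IsClosed (Set.range f) := f.isClosedMap.isClosed_range
  let V : Y.Opens := ⟨(Set.range f)ᶜ, hcl.isOpen_compl⟩
  have hV : Nonempty V := by
    rw [Function.Surjective] at hns
    push Not at hns
    obtain ⟨y, hy⟩ := hns
    exact ⟨⟨y, fun ⟨x, hx⟩ => hy x hx⟩⟩
  have hpre : f ⁻¹ᵁ V = ⊥ := by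
    ext x
    simp only [TopologicalSpace.Opens.coe_bot, Set.mem_empty_iff_false, iff_false]
    intro hx
    exact hx ⟨x, rfl⟩
  have h1 := hfib V
  have h2 : Nontrivial Γ(Y, V) := inferInstance
  have h3 : Subsingleton Γ(X, f ⁻¹ᵁ V) := by rw [hpre]; infer_instance
  have e : Γ(Y, V) ≃+* Γ(X, f ⁻¹ᵁ V) := (asIso (f.app V)).commRingCatIsoToRingEquiv
  have : Subsingleton Γ(Y, V) := e.toEquiv.subsingleton
  exact not_subsingleton _ this

theorem bijective_of_isIso {X Y : Scheme.{u}} (f : X ⟶ Y) (hfib : ∀ V : Y.Opens, IsIso (f.app V))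
    (V : Y.Opens) : Function.Bijective (f.app V).hom :=
  (ConcreteCategory.isIso_iff_bijective _).mp (hfib V)

/-- **Factorization lemma.** -/
theorem exists_factor {X Y S : Scheme.{u}} (ξ : X ⟶ S) [UniversallyClosed ξ] [Surjective ξ]
    (h0 : ∀ U : S.Opens, Function.Bijective (ξ.app U).hom) (f : X ⟶ Y)
    (hcol : ∀ s : S, ∃ y : Y, ∀ x : X, ξ x = s → f x = y) : ∃ r : S ⟶ Y, f = ξ ≫ r := by
  have h0i : ∀ U : S.Opens, Function.Injective (ξ.app U).hom := fun U => (h0 U).1
  choose S' hS' r hr using fun s : S => exists_fact ξ f h0 s (hcol s).choose (hcol s).choose_spec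
  have hW : TopologicalSpace.IsOpenCover S' := by
    rw [TopologicalSpace.IsOpenCover, eq_top_iff]
    intro s _
    rw [TopologicalSpace.Opens.mem_iSup]
    exact ⟨s, hS' s⟩
  have hg : ∀ i j, S.homOfLE (inf_le_left : S' i ⊓ S' j ≤ S' i) ≫ r i =
      S.homOfLE (inf_le_right : S' i ⊓ S' j ≤ S' j) ≫ r j := by
    intro i j
    exact fact_unique ξ f h0i _ _ _ (fact_restrict ξ f _ _ inf_le_left _ (hr i))
      (fact_restrict ξ f _ _ inf_le_right _ (hr j))
  obtain ⟨rS, hrS⟩ := exists_glue S' hW r hg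
  refine ⟨rS, ?_⟩
  let P := fun s : S => ξ ⁻¹ᵁ (S' s)
  have hP : TopologicalSpace.IsOpenCover P := by
    rw [TopologicalSpace.IsOpenCover, eq_top_iff]
    intro p _
    rw [TopologicalSpace.Opens.mem_iSup]
    exact ⟨ξ p, hS' _⟩
  apply (X.openCoverOfIsOpenCover P hP).hom_ext
  intro s
  show (P s).ι ≫ f = (P s).ι ≫ ξ ≫ rS
  have := hr s
  unfold Collapse.Fact at this
  rw [this, ← hrS s, ← Category.assoc (ξ ∣_ S' s), morphismRestrict_ι, Category.assoc]

/-- uniqueness in the factorization lemma -/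
theorem factor_unique {X Y S : Scheme.{u}} (ξ : X ⟶ S) [Surjective ξ]
    (h0 : ∀ U : S.Opens, Function.Bijective (ξ.app U).hom) (r₁ r₂ : S ⟶ Y)
    (h : ξ ≫ r₁ = ξ ≫ r₂) : r₁ = r₂ :=
  eq_of_comp_eq ξ (fun U => (h0 U).1) r₁ r₂ h

end Groth.Agent.Lib.Helper75.FactorFib
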