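import Mathlib
import Groth.Prelude
import Groth.Agent.Lib.Helper75.FactorFib
import Groth.Agent.Lib.Helper75.AARigidity
import Groth.Agent.Lib.Helper75.ActionMk
import Groth.Agent.Lib.Helper50.FibBC

/-!
# Blanchard's lemma: descending group actions along fibrations (generic part)
-/

set_option autoImplicit false
universe u
open CategoryTheory CategoryTheory.Limits MonoidalCategory CartesianMonoidalCategory MonObj
  AlgebraicGeometry

namespace Groth.Agent.Lib.Helper75.Blanchard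

open Groth.Agent.Lib.Helper75.FactorFib Groth.Agent.Lib.Helper75.ActionMk

variable {k : Type u} [Field k]

/-- a fibration over `k`: proper with `O_Y ≅ f_* O_X` -/
structure IsFib {X Y : Over (Spec (CommRingCat.of k))} (f : X ⟶ Y) : Prop where
  proper : IsProper f.left
  iso : ∀ U : Y.left.Opens, IsIso (f.left.app U)

theorem IsFib.whiskerLeft {X Y : Over (Spec (CommRingCat.of k))} {f : X ⟶ Y} (h : IsFib f)
    (T : Over (Spec (CommRingCat.of k))) : IsFib (T ◁ f) := by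
  have hp := h.proper
  have hpb := Groth.Agent.Lib.Helper75.AARigidity.isPullback_whiskerLeft_snd' T f
  have hflatT : Flat T.hom := inferInstance
  have hflat : Flat (snd T Y).left := by
    rw [Over.snd_left]
    infer_instance
  refine ⟨MorphismProperty.of_isPullback (P := @IsProper) hpb.flip hp, fun W => ?_⟩
  exact Groth.Agent.Lib.Helper50.isIso_app_of_isPullback_of_flat hpb.flip h.iso W

theorem IsFib.surjective {X Y : Over (Spec (CommRingCat.of k))} {f : X ⟶ Y} (h : IsFib f) :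
    Surjective f.left := by
  have := h.proper
  exact surjective_of_forall_isIso_app f.left h.iso

theorem IsFib.epi {X Y Z : Over (Spec (CommRingCat.of k))} {f : X ⟶ Y} (h : IsFib f)
    (r₁ r₂ : Y ⟶ Z) (hr : f ≫ r₁ = f ≫ r₂) : r₁ = r₂ := by
  have := h.surjective
  ext
  apply factor_unique f.left (fun U => bijective_of_isIso f.left h.iso U)
  exact congrArg (fun t => t.left) hr

/-- factorization of a morphism constant on the fibres of a fibration, in `Over (Spec k)` -/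
theorem IsFib.exists_factor {X Y Z : Over (Spec (CommRingCat.of k))} {f : X ⟶ Y} (h : IsFib f)
    (φ : X ⟶ Z) (hφ : ∀ p q : ↥X.left, f.left p = f.left q → φ.left p = φ.left q) :
    ∃ r : Y ⟶ Z, f ≫ r = φ := by
  have hp := h.proper
  have hs := h.surjective
  have h0 := fun U => bijective_of_isIso f.left h.iso U
  obtain ⟨r, hr⟩ := FactorFib.exists_factor f.left h0 φ.left (fun s => by
    obtain ⟨x₀, hx₀⟩ := f.left.surjective s
    exact ⟨φ.left x₀, fun x hx => hφ x x₀ (hx.trans hx₀.symm)⟩)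
  have hw : r ≫ Z.hom = Y.hom := by
    apply factor_unique f.left h0
    rw [← Category.assoc, ← hr, Over.w φ, Over.w f]
  exact ⟨Over.homMk r hw, by ext; exact hr.symm⟩

variable {G X Y : Over (Spec (CommRingCat.of k))} [GrpObj G]

omit [GrpObj G] in
theorem lift_comp_whiskerLeft {T : Over (Spec (CommRingCat.of k))} (f : X ⟶ Y) (g : T ⟶ G)
    (x : T ⟶ X) : lift g (x ≫ f) = lift g x ≫ (G ◁ f) := by
  apply CartesianMonoidalCategory.hom_ext
  · rw [lift_fst, Category.assoc, whiskerLeft_fst, lift_fst]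
  · rw [lift_snd, Category.assoc, whiskerLeft_snd, lift_snd_assoc]

/-- a morphism `b₀` compatible with an action on the source of a fibration is an action -/
theorem exists_action_of_factor {f : X ⟶ Y} (hf : IsFib f) (a : AlgGrp.Action G X)
    (b₀ : G ⊗ Y ⟶ Y) (hb₀ : (G ◁ f) ≫ b₀ = a.act ≫ f) :
    ∃ b : AlgGrp.Action G Y, b.act = b₀ := by
  have key : ∀ {T : Over (Spec (CommRingCat.of k))} (g : T ⟶ G) (x : T ⟶ X),
      lift g (x ≫ f) ≫ b₀ = lift g x ≫ a.act ≫ f := by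
    intro T g x
    rw [lift_comp_whiskerLeft, Category.assoc, hb₀]
  -- unit axiom, universal case
  have h1u : lift (toUnit Y ≫ η[G]) (𝟙 Y) ≫ b₀ = 𝟙 Y := by
    apply hf.epi
    rw [Category.comp_id, ← Category.assoc, comp_lift, Category.comp_id, ← Category.assoc,
      toUnit_unique (f ≫ toUnit Y) (toUnit X)]
    have := key (toUnit X ≫ η[G]) (𝟙 X)
    rw [Category.id_comp] at this
    rw [this, ← Category.assoc, act_one, Category.id_comp]
  -- multiplication axiom, universal case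
  have h2u : lift ((fst G (G ⊗ Y)) * (snd G (G ⊗ Y) ≫ fst G Y)) (snd G (G ⊗ Y) ≫ snd G Y) ≫ b₀ =
      lift (fst G (G ⊗ Y)) (lift (snd G (G ⊗ Y) ≫ fst G Y) (snd G (G ⊗ Y) ≫ snd G Y) ≫ b₀) ≫
        b₀ := by
    apply ((hf.whiskerLeft G).whiskerLeft G).epi
    have e1 : (G ◁ (G ◁ f)) ≫ fst G (G ⊗ Y) = fst G (G ⊗ X) := whiskerLeft_fst _ _
    have e2 : (G ◁ (G ◁ f)) ≫ snd G (G ⊗ Y) ≫ fst G Y = snd G (G ⊗ X) ≫ fst G X := by
      rw [← Category.assoc, whiskerLeft_snd, Category.assoc, whiskerLeft_fst]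
    have e3 : (G ◁ (G ◁ f)) ≫ snd G (G ⊗ Y) ≫ snd G Y = (snd G (G ⊗ X) ≫ snd G X) ≫ f := by
      rw [← Category.assoc, whiskerLeft_snd, Category.assoc, whiskerLeft_snd, Category.assoc]
    have L : (G ◁ (G ◁ f)) ≫ lift ((fst G (G ⊗ Y)) * (snd G (G ⊗ Y) ≫ fst G Y))
        (snd G (G ⊗ Y) ≫ snd G Y) ≫ b₀ =
        lift ((fst G (G ⊗ X)) * (snd G (G ⊗ X) ≫ fst G X)) (snd G (G ⊗ X) ≫ snd G X) ≫
          a.act ≫ f := by
      rw [← Category.assoc, comp_lift, comp_mul, e1, e2, e3, key]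
    have R : (G ◁ (G ◁ f)) ≫ lift (fst G (G ⊗ Y))
        (lift (snd G (G ⊗ Y) ≫ fst G Y) (snd G (G ⊗ Y) ≫ snd G Y) ≫ b₀) ≫ b₀ =
        lift (fst G (G ⊗ X)) (lift (snd G (G ⊗ X) ≫ fst G X) (snd G (G ⊗ X) ≫ snd G X) ≫ a.act) ≫
          a.act ≫ f := by
      rw [← Category.assoc, comp_lift, e1, ← Category.assoc (G ◁ (G ◁ f)), comp_lift, e2, e3, key]
      have := key (fst G (G ⊗ X))
        (lift (snd G (G ⊗ X) ≫ fst G X) (snd G (G ⊗ X) ≫ snd G X) ≫ a.act)
      rw [Category.assoc] at this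
      exact this
    rw [L, R, ← Category.assoc, act_mul, Category.assoc]
  have h1 : ∀ (T : Over (Spec (CommRingCat.of k))) (y : T ⟶ Y),
      lift (toUnit T ≫ η[G]) y ≫ b₀ = y := by
    intro T y
    have : lift (toUnit T ≫ η[G]) y = y ≫ lift (toUnit Y ≫ η[G]) (𝟙 Y) := by
      rw [comp_lift, Category.comp_id, ← Category.assoc, toUnit_unique (y ≫ toUnit Y) (toUnit T)]
    rw [this, Category.assoc, h1u, Category.comp_id]
  have h2 : ∀ (T : Over (Spec (CommRingCat.of k))) (g h : T ⟶ G) (y : T ⟶ Y),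
      lift (g * h) y ≫ b₀ = lift g (lift h y ≫ b₀) ≫ b₀ := by
    intro T g h y
    have e := congrArg (fun t => lift g (lift h y) ≫ t) h2u
    have f1 : lift g (lift h y) ≫ fst G (G ⊗ Y) = g := lift_fst _ _
    have f2 : lift g (lift h y) ≫ snd G (G ⊗ Y) ≫ fst G Y = h := by
      rw [lift_snd_assoc, lift_fst]
    have f3 : lift g (lift h y) ≫ snd G (G ⊗ Y) ≫ snd G Y = y := by
      rw [lift_snd_assoc, lift_snd]
    have eL : lift g (lift h y) ≫ lift ((fst G (G ⊗ Y)) * (snd G (G ⊗ Y) ≫ fst G Y))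
        (snd G (G ⊗ Y) ≫ snd G Y) ≫ b₀ = lift (g * h) y ≫ b₀ := by
      rw [← Category.assoc, comp_lift, comp_mul, f1, f2, f3]
    have eR : lift g (lift h y) ≫ lift (fst G (G ⊗ Y))
        (lift (snd G (G ⊗ Y) ≫ fst G Y) (snd G (G ⊗ Y) ≫ snd G Y) ≫ b₀) ≫ b₀ =
        lift g (lift h y ≫ b₀) ≫ b₀ := by
      rw [← Category.assoc, comp_lift, f1, ← Category.assoc (lift g (lift h y)), comp_lift, f2, f3]
    rw [← eL, ← eR]
    exact e
  exact ⟨mkAction b₀ h1 h2, rfl⟩

/-- (i) ⇒ (ii) -/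
theorem stable_of_action {f : X ⟶ Y} (a : AlgGrp.Action G X) (b : AlgGrp.Action G Y)
    (hb : (G ◁ f) ≫ b.act = a.act ≫ f) (T : Over (Spec (CommRingCat.of k))) (g : T ⟶ G)
    (x₁ x₂ : T ⟶ X) (hx : x₁ ≫ f = x₂ ≫ f) :
    lift g x₁ ≫ a.act ≫ f = lift g x₂ ≫ a.act ≫ f := by
  rw [← hb, ← Category.assoc, ← lift_comp_whiskerLeft, ← Category.assoc, ← lift_comp_whiskerLeft, hx]

/-- (ii) ⇒ (iii) -/
theorem collapse_of_stable {f : X ⟶ Y} (a : AlgGrp.Action G X)
    (h : ∀ (T : Over (Spec (CommRingCat.of k))) (g : T ⟶ G) (x₁ x₂ : T ⟶ X),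
      x₁ ≫ f = x₂ ≫ f → lift g x₁ ≫ a.act ≫ f = lift g x₂ ≫ a.act ≫ f)
    (p q : ↥(G ⊗ X).left) (hpq : (G ◁ f).left p = (G ◁ f).left q) :
    (a.act ≫ f).left p = (a.act ≫ f).left q := by
  obtain ⟨r, hr1, hr2⟩ := Scheme.Pullback.exists_preimage_pullback (f := (G ◁ f).left)
    (g := (G ◁ f).left) p q hpq
  let T : Over (Spec (CommRingCat.of k)) :=
    Over.mk (pullback.fst (G ◁ f).left (G ◁ f).left ≫ (G ⊗ X).hom)
  let π₁ : T ⟶ G ⊗ X := Over.homMk (pullback.fst (G ◁ f).left (G ◁ f).left) rfl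
  let π₂ : T ⟶ G ⊗ X := Over.homMk (pullback.snd (G ◁ f).left (G ◁ f).left) (by
    change pullback.snd (G ◁ f).left (G ◁ f).left ≫ (G ⊗ X).hom =
      pullback.fst (G ◁ f).left (G ◁ f).left ≫ (G ⊗ X).hom
    rw [← Over.w (G ◁ f), ← Category.assoc, ← pullback.condition, Category.assoc])
  have hπ : π₁ ≫ (G ◁ f) = π₂ ≫ (G ◁ f) := by
    apply Over.OverMorphism.ext
    exact pullback.condition (f := (G ◁ f).left) (g := (G ◁ f).left)
  have hg : π₁ ≫ fst G X = π₂ ≫ fst G X := by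
    have := congrArg (fun t => t ≫ fst G Y) hπ
    simp only [Category.assoc, whiskerLeft_fst] at this
    exact this
  have hx : (π₁ ≫ snd G X) ≫ f = (π₂ ≫ snd G X) ≫ f := by
    have := congrArg (fun t => t ≫ snd G Y) hπ
    simp only [Category.assoc, whiskerLeft_snd] at this
    rw [Category.assoc, Category.assoc]
    exact this
  have key := h T (π₁ ≫ fst G X) (π₁ ≫ snd G X) (π₂ ≫ snd G X) hx
  have e1 : lift (π₁ ≫ fst G X) (π₁ ≫ snd G X) = π₁ := by
    apply CartesianMonoidalCategory.hom_ext <;> simp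
  have e2 : lift (π₁ ≫ fst G X) (π₂ ≫ snd G X) = π₂ := by
    rw [hg]
    apply CartesianMonoidalCategory.hom_ext <;> simp
  rw [e1, e2] at key
  have := congrArg (fun t => t.left r) key
  simp only [Over.comp_left, Scheme.Hom.comp_apply] at this ⊢
  rw [← hr1, ← hr2]
  exact this

/-- (iii) ⇒ (i) -/
theorem exists_action_of_collapse {f : X ⟶ Y} (hf : IsFib f) (a : AlgGrp.Action G X)
    (h : ∀ p q : ↥(G ⊗ X).left, (G ◁ f).left p = (G ◁ f).left q →
      (a.act ≫ f).left p = (a.act ≫ f).left q) :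
    ∃ b : AlgGrp.Action G Y, (G ◁ f) ≫ b.act = a.act ≫ f := by
  obtain ⟨b₀, hb₀⟩ := (hf.whiskerLeft G).exists_factor (a.act ≫ f) h
  obtain ⟨b, hb⟩ := exists_action_of_factor hf a b₀ hb₀
  exact ⟨b, by rw [hb, hb₀]⟩

/-- uniqueness of the descended action -/
theorem action_unique {f : X ⟶ Y} (hf : IsFib f) (a : AlgGrp.Action G X)
    (b b' : AlgGrp.Action G Y) (hb : (G ◁ f) ≫ b.act = a.act ≫ f)
    (hb' : (G ◁ f) ≫ b'.act = a.act ≫ f) : b = b' :=
  action_ext b b' ((hf.whiskerLeft G).epi _ _ (hb.trans hb'.symm))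

end Groth.Agent.Lib.Helper75.Blanchard
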