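import Mathlib
import Groth.Prelude
import Groth.Agent.Lib.Helper75.AAOpen

/-!
# Spreading out agreement of two morphisms from infinitesimal neighbourhoods (Krull)

`F F' : X ×_k Y ⟶ Z` with `X` of finite type over `k`, `Y` locally Noetherian and `Z` separated
over `k`.  If `F` and `F'` agree after base change along every `t : T ⟶ Y` with set-theoretic
image `{y}`, then they agree over an open neighbourhood of `y`.
-/

set_option autoImplicit false
set_option backward.isDefEq.respectTransparency false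
universe u
open CategoryTheory CategoryTheory.Limits AlgebraicGeometry TensorProduct

namespace Groth.Agent.Lib.Helper75.KrullSpread

open Groth.Agent.Lib.Helper75.AAAlg Groth.Agent.Lib.Helper75.AAPiece
  Groth.Agent.Lib.Helper75.AALocal Groth.Agent.Lib.Helper75.AAChart
  Groth.Agent.Lib.Helper75.AAOpen

variable {k : Type u} [Field k] {X Y Z : Scheme.{u}} (a : X ⟶ Spec (CommRingCat.of k))
  (b : Y ⟶ Spec (CommRingCat.of k)) (c : Z ⟶ Spec (CommRingCat.of k))

attribute [local instance] Algebra.TensorProduct.rightAlgebra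

theorem exists_mul_eq_zero' (F F' : pullback a b ⟶ Z)
    (B C : Type u) [CommRing B] [CommRing C] [Algebra k B] [Algebra k C] [IsNoetherianRing C]
    [IsNoetherianRing (B ⊗[k] C)] (p : Ideal C) [p.IsPrime]
    (u : Spec (CommRingCat.of B) ⟶ X)
    (hu : u ≫ a = Spec.map (CommRingCat.ofHom (algebraMap k B)))
    (v : Spec (CommRingCat.of C) ⟶ Y)
    (hv : v ≫ b = Spec.map (CommRingCat.ofHom (algebraMap k C)))
    (hinf : ∀ n : ℕ, pullback.fst (pullback.snd a b) (tn C p v n) ≫ F =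
      pullback.fst (pullback.snd a b) (tn C p v n) ≫ F')
    (I : Ideal (B ⊗[k] C))
    (hI : ∀ (R' : CommRingCat.{u}) (φ : CommRingCat.of (B ⊗[k] C) ⟶ R'),
      Spec.map φ ≫ piece a b B C u hu v hv ≫ F =
        Spec.map φ ≫ piece a b B C u hu v hv ≫ F' →
      I ≤ RingHom.ker φ.hom) :
    ∃ s : C, s ∉ p ∧ ∀ r ∈ I, (1 ⊗ₜ[k] s : B ⊗[k] C) * r = 0 := by
  have hfree : Module.Free C (B ⊗[k] C) := free_right k B C
  have hfg : I.FG := IsNoetherian.noetherian I
  have key : ∀ (n : ℕ) (r : B ⊗[k] C), r ∈ I → (1 : Q p n) ⊗ₜ[C] r = 0 := by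
    intro n r hr
    let φ : CommRingCat.of (B ⊗[k] C) ⟶ CommRingCat.of (Q p n ⊗[C] (B ⊗[k] C)) :=
      CommRingCat.ofHom ((Algebra.TensorProduct.includeRight :
        (B ⊗[k] C) →ₐ[C] Q p n ⊗[C] (B ⊗[k] C)) : (B ⊗[k] C) →+* Q p n ⊗[C] (B ⊗[k] C))
    have hcomm : (Spec.map φ ≫ piece a b B C u hu v hv) ≫ pullback.snd a b =
        Spec.map (CommRingCat.ofHom (algebraMap (Q p n) (Q p n ⊗[C] (B ⊗[k] C)))) ≫
          tn C p v n := by
      rw [Category.assoc, piece_snd, ← Category.assoc, ← Spec.map_comp]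
      unfold tn
      rw [← Category.assoc, ← Spec.map_comp]
      congr 2
      ext x
      simp only [φ, CommRingCat.hom_comp, CommRingCat.hom_ofHom, RingHom.coe_comp,
        Function.comp_apply]
      change (Algebra.TensorProduct.includeRight :
        (B ⊗[k] C) →ₐ[C] Q p n ⊗[C] (B ⊗[k] C)) (algebraMap C (B ⊗[k] C) x) = _
      rw [AlgHom.commutes, Algebra.TensorProduct.algebraMap_apply]
      rfl
    let κ := pullback.lift _ _ hcomm
    have hκ : κ ≫ pullback.fst (pullback.snd a b) (tn C p v n) =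
        Spec.map φ ≫ piece a b B C u hu v hv := pullback.lift_fst _ _ _
    have h1 : Spec.map φ ≫ piece a b B C u hu v hv ≫ F =
        Spec.map φ ≫ piece a b B C u hu v hv ≫ F' := by
      rw [← Category.assoc, ← hκ, Category.assoc, hinf n, ← Category.assoc κ, hκ, Category.assoc]
    have h2 := hI _ φ h1 hr
    rw [RingHom.mem_ker] at h2
    exact h2
  obtain ⟨s, hs, hs0⟩ := exists_smul_eq_zero p I hfg key
  refine ⟨s, hs, fun r hr => ?_⟩
  have := hs0 r hr
  rw [Algebra.smul_def] at this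
  exact this

theorem piece_away_comp_eq' (F F' : pullback a b ⟶ Z)
    (B C : Type u) [CommRing B] [CommRing C] [Algebra k B] [Algebra k C]
    (u : Spec (CommRingCat.of B) ⟶ X)
    (hu : u ≫ a = Spec.map (CommRingCat.ofHom (algebraMap k B)))
    (v : Spec (CommRingCat.of C) ⟶ Y)
    (hv : v ≫ b = Spec.map (CommRingCat.ofHom (algebraMap k C)))
    (I : Ideal (B ⊗[k] C))
    (hI : ∀ (R' : CommRingCat.{u}) (φ : CommRingCat.of (B ⊗[k] C) ⟶ R'),
      I ≤ RingHom.ker φ.hom →
      Spec.map φ ≫ piece a b B C u hu v hv ≫ F =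
        Spec.map φ ≫ piece a b B C u hu v hv ≫ F')
    (s : C) (hs : ∀ r ∈ I, (1 ⊗ₜ[k] s : B ⊗[k] C) * r = 0)
    (C' : Type u) [CommRing C'] [Algebra k C'] [Algebra C C'] [IsScalarTower k C C']
    (hunit : IsUnit (algebraMap C C' s))
    (v' : Spec (CommRingCat.of C') ⟶ Y)
    (hv' : v' ≫ b = Spec.map (CommRingCat.ofHom (algebraMap k C')))
    (hvv' : v' = Spec.map (CommRingCat.ofHom (algebraMap C C')) ≫ v) :
    piece a b B C' u hu v' hv' ≫ F = piece a b B C' u hu v' hv' ≫ F' := by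
  have h1 := piece_map_right a b B C u hu v hv C' (IsScalarTower.toAlgHom k C C') v' hv' hvv'
  rw [h1, Category.assoc, Category.assoc]
  apply hI
  intro r hr
  rw [RingHom.mem_ker]
  have h2 := congrArg (Algebra.TensorProduct.map (AlgHom.id k B) (IsScalarTower.toAlgHom k C C'))
    (hs r hr)
  rw [map_mul, map_zero, Algebra.TensorProduct.map_tmul] at h2
  have hu' : IsUnit ((AlgHom.id k B) 1 ⊗ₜ[k] (IsScalarTower.toAlgHom k C C') s : B ⊗[k] C') := by
    have : ((AlgHom.id k B) 1 ⊗ₜ[k] (IsScalarTower.toAlgHom k C C') s : B ⊗[k] C') =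
        (Algebra.TensorProduct.includeRight : C' →ₐ[k] B ⊗[k] C') (algebraMap C C' s) := by
      simp
    rw [this]
    exact hunit.map _
  exact (hu'.mul_right_eq_zero).mp h2

theorem exists_away_piece_eq' [IsSeparated c] (F F' : pullback a b ⟶ Z) (hFF' : F ≫ c = F' ≫ c)
    (B C : Type u) [CommRing B] [CommRing C] [Algebra k B] [Algebra k C] [IsNoetherianRing C]
    [Algebra.FiniteType k B] (p : Ideal C) [p.IsPrime]
    (u : Spec (CommRingCat.of B) ⟶ X)
    (hu : u ≫ a = Spec.map (CommRingCat.ofHom (algebraMap k B)))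
    (v : Spec (CommRingCat.of C) ⟶ Y)
    (hv : v ≫ b = Spec.map (CommRingCat.ofHom (algebraMap k C)))
    (hinf : ∀ n : ℕ, pullback.fst (pullback.snd a b) (tn C p v n) ≫ F =
      pullback.fst (pullback.snd a b) (tn C p v n) ≫ F') :
    ∃ s : C, s ∉ p ∧ ∀ s' : C, s ∣ s' →
      piece a b B (Localization.Away s') u hu (vAway C v s') (vAway_comp b C v hv s') ≫ F =
      piece a b B (Localization.Away s') u hu (vAway C v s') (vAway_comp b C v hv s') ≫ F' := by
  have hN : IsNoetherianRing (B ⊗[k] C) := by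
    have h1 : Algebra.FiniteType C (C ⊗[k] B) := Algebra.FiniteType.baseChange C
    have h2 : IsNoetherianRing (C ⊗[k] B) := Algebra.FiniteType.isNoetherianRing C _
    exact isNoetherianRing_of_ringEquiv (C ⊗[k] B) (Algebra.TensorProduct.comm k C B).toRingEquiv
  have hover : (piece a b B C u hu v hv ≫ F) ≫ c = (piece a b B C u hu v hv ≫ F') ≫ c := by
    rw [Category.assoc, Category.assoc, hFF']
  obtain ⟨I, hI⟩ := Groth.Agent.Lib.Helper75.AAEq.exists_ideal_equalizer c
    (CommRingCat.of (B ⊗[k] C)) _ _ hover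
  obtain ⟨s, hs, hs0⟩ := exists_mul_eq_zero' a b F F' B C p u hu v hv hinf I
    (fun R' φ h => (hI R' φ).mp h)
  refine ⟨s, hs, ?_⟩
  rintro s' ⟨w, rfl⟩
  apply piece_away_comp_eq' a b F F' B C u hu v hv I (fun R' φ h => (hI R' φ).mpr h) (s * w) ?_
    (Localization.Away (s * w)) (IsLocalization.Away.algebraMap_isUnit (s * w)) (vAway C v (s * w))
    (vAway_comp b C v hv (s * w)) rfl
  intro r hr
  have : (1 ⊗ₜ[k] (s * w) : B ⊗[k] C) = (1 ⊗ₜ[k] w) * (1 ⊗ₜ[k] s) := by
    rw [Algebra.TensorProduct.tmul_mul_tmul, one_mul, mul_comm]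
  rw [this, mul_assoc, hs0 r hr, mul_zero]

/-- **Krull spreading.** -/
theorem exists_open_locEq' [CompactSpace X] [LocallyOfFiniteType a] [IsLocallyNoetherian Y]
    [IsSeparated c] (F F' : pullback a b ⟶ Z) (hFF' : F ≫ c = F' ≫ c) (y : Y)
    (hinf : ∀ (T : Scheme.{u}) (t : T ⟶ Y), (∀ w, t w = y) →
      pullback.fst (pullback.snd a b) t ≫ F = pullback.fst (pullback.snd a b) t ≫ F') :
    ∃ V : Y.Opens, y ∈ V ∧ ∀ q : ↥(pullback a b), (pullback.snd a b) q ∈ V → LocEq F F' q := by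
  classical
  obtain ⟨C, _, _, v, hvopen, hv, ⟨p₀, hp₀⟩, -, hCN⟩ := exists_chart b y
  have hCN' : IsNoetherianRing C := hCN inferInstance
  have hpprime : p₀.asIdeal.IsPrime := p₀.isPrime
  have hinf' : ∀ n : ℕ, pullback.fst (pullback.snd a b) (tn C p₀.asIdeal v n) ≫ F =
      pullback.fst (pullback.snd a b) (tn C p₀.asIdeal v n) ≫ F' := by
    intro n
    apply hinf
    intro w
    rw [tn_apply, ← hp₀]
    rfl
  choose B instB algB u huopen hu hxu hBft _ using fun x : X => exists_chart a x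
  have hBft' : ∀ x, Algebra.FiniteType k (B x) := fun x => hBft x inferInstance
  obtain ⟨t, ht⟩ := isCompact_univ.elim_finite_subcover (fun x : X => Set.range (u x))
    (fun x => (u x).isOpenEmbedding.isOpen_range) (fun x _ => Set.mem_iUnion.mpr ⟨x, hxu x⟩)
  have hex : ∀ x : X, ∃ s : C, s ∉ p₀.asIdeal ∧ ∀ s' : C, s ∣ s' →
      piece a b (B x) (Localization.Away s') (u x) (hu x) (vAway C v s')
        (vAway_comp b C v hv s') ≫ F =
      piece a b (B x) (Localization.Away s') (u x) (hu x) (vAway C v s')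
        (vAway_comp b C v hv s') ≫ F' := fun x =>
    exists_away_piece_eq' a b c F F' hFF' (B x) C p₀.asIdeal (u x) (hu x) v hv hinf'
  choose s hs hs' using hex
  let S : C := ∏ x ∈ t, s x
  have hS : S ∉ p₀.asIdeal := by
    have : S ∈ p₀.asIdeal.primeCompl := Submonoid.prod_mem _ fun x _ => hs x
    exact this
  refine ⟨(vAway C v S).opensRange, ?_, ?_⟩
  · rw [← hp₀]
    exact range_vAway C v S p₀ hS
  · intro q hq
    have hq1 : (pullback.fst a b) q ∈ ⋃ x ∈ t, Set.range (u x) := ht (Set.mem_univ _)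
    rw [Set.mem_iUnion₂] at hq1
    obtain ⟨x, hxt, hxq⟩ := hq1
    have hdvd : s x ∣ S := Finset.dvd_prod_of_mem s hxt
    refine locEq_of_mem_range F _ (piece a b (B x) (Localization.Away S) (u x) (hu x)
      (vAway C v S) (vAway_comp b C v hv S)) (hs' x S hdvd) q ?_
    rw [range_piece]
    exact ⟨hxq, hq⟩

/-- If `F` and `F'` agree locally at every point of the image of `ρ`, then `ρ ≫ F = ρ ≫ F'`. -/
theorem comp_eq_of_forall_locEq {P Z' T : Scheme.{u}} (F F' : P ⟶ Z') (ρ : T ⟶ P)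
    (h : ∀ t : T, LocEq F F' (ρ t)) : ρ ≫ F = ρ ≫ F' := by
  choose O hO hFG using h
  have hcov : TopologicalSpace.IsOpenCover (fun t : T => ρ ⁻¹ᵁ O t) := by
    show ⨆ t, ρ ⁻¹ᵁ O t = ⊤
    rw [eq_top_iff]
    intro t _
    rw [TopologicalSpace.Opens.mem_iSup]
    exact ⟨t, hO t⟩
  apply (T.openCoverOfIsOpenCover _ hcov).hom_ext
  intro t
  show (ρ ⁻¹ᵁ O t).ι ≫ ρ ≫ F = (ρ ⁻¹ᵁ O t).ι ≫ ρ ≫ F'
  rw [← morphismRestrict_ι_assoc, ← morphismRestrict_ι_assoc, hFG t]

end Groth.Agent.Lib.Helper75.KrullSpread
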