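import Mathlib
import Groth.Prelude

/-!
# Towards the maximal abelian subvariety of a commutative group scheme

* `exists_lift_of_isReduced` : a morphism from a reduced scheme whose set-theoretic image lies in
  a closed subscheme factors through it.
-/

set_option autoImplicit false
universe u
open CategoryTheory CategoryTheory.Limits AlgebraicGeometry TopologicalSpace

namespace Groth.Agent.Lib.Helper75.MaxAbSub

/-- A morphism from a reduced scheme whose image lies (set-theoretically) in a closed subscheme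
factors through this closed subscheme. -/
theorem exists_lift_of_isReduced {X Y Z : Scheme.{u}} (i : X ⟶ Z) [IsClosedImmersion i]
    (g : Y ⟶ Z) [IsReduced Y] (h : Set.range g ⊆ Set.range i) : ∃ l : Y ⟶ X, l ≫ i = g := by
  have hle : i.ker ≤ g.ker := by
    have h1 : g.ker = Scheme.IdealSheafData.vanishingIdeal
        (.closure (g '' ((⊤ : Closeds Y) : Set Y))) := by
      rw [← Scheme.IdealSheafData.map_vanishingIdeal, Scheme.IdealSheafData.vanishingIdeal_top,
        Scheme.nilradical_eq_bot, Scheme.IdealSheafData.map_bot]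
    rw [h1, ← Scheme.IdealSheafData.le_support_iff_le_vanishingIdeal]
    rw [Closeds.closure_le]
    intro z hz
    obtain ⟨y, -, rfl⟩ := hz
    exact i.range_subset_ker_support (h ⟨y, rfl⟩)
  exact ⟨IsClosedImmersion.lift i g hle, IsClosedImmersion.lift_fac i g hle⟩

/-- In a locally Noetherian scheme, a nonempty family of points specializing to `e` which is
directed for generization has a most general member. -/
theorem exists_generic_of_directed {Z : Scheme.{u}} [IsLocallyNoetherian Z] (e : Z) (𝒜 : Set Z)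
    (hne : 𝒜.Nonempty) (hspec : ∀ x ∈ 𝒜, x ⤳ e)
    (hdir : ∀ x ∈ 𝒜, ∀ y ∈ 𝒜, ∃ z ∈ 𝒜, z ⤳ x ∧ z ⤳ y) :
    ∃ x ∈ 𝒜, ∀ y ∈ 𝒜, x ⤳ y := by
  have hmem : ∀ x ∈ 𝒜, ∃ p : PrimeSpectrum (Z.presheaf.stalk e), (Z.fromSpecStalk e) p = x := by
    intro x hx
    have : x ∈ Set.range (Z.fromSpecStalk e) := by
      rw [Scheme.range_fromSpecStalk]
      exact hspec x hx
    exact this
  let S : Set ℕ∞ := {n | ∃ x ∈ 𝒜, ∃ p : PrimeSpectrum (Z.presheaf.stalk e),
    (Z.fromSpecStalk e) p = x ∧ p.asIdeal.height = n}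
  have hS : S.Nonempty := by
    obtain ⟨x, hx⟩ := hne
    obtain ⟨p, hp⟩ := hmem x hx
    exact ⟨_, x, hx, p, hp, rfl⟩
  obtain ⟨m, ⟨x₀, hx₀, p₀, hp₀, hm⟩, hmin⟩ := wellFounded_lt.has_min S hS
  refine ⟨x₀, hx₀, fun y hy => ?_⟩
  obtain ⟨z, hz, hzx, hzy⟩ := hdir x₀ hx₀ y hy
  obtain ⟨q, hq⟩ := hmem z hz
  have hle : q.asIdeal ≤ p₀.asIdeal := by
    rw [PrimeSpectrum.asIdeal_le_asIdeal, PrimeSpectrum.le_iff_specializes]
    rw [← hq, ← hp₀] at hzx
    exact (Z.fromSpecStalk e).isEmbedding.isInducing.specializes_iff.mp hzx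
  have hht : ¬ q.asIdeal.height < m := hmin _ ⟨z, hz, q, hq, rfl⟩
  rw [not_lt, ← hm] at hht
  have hq' : q.asIdeal.IsPrime := q.isPrime
  have heq : q.asIdeal = p₀.asIdeal := Ideal.eq_of_le_of_height_le q.asIdeal hle hht
  have hqp : q = p₀ := PrimeSpectrum.ext heq
  have : z = x₀ := by rw [← hq, ← hp₀]; exact congrArg _ hqp
  rw [← this]
  exact hzy

end Groth.Agent.Lib.Helper75.MaxAbSub
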