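import Mathlib
import Groth.Prelude
import Groth.Agent.Lib.Helper75.Blanchard
import Groth.Agent.Lib.Helper75.KrullSpread
import Groth.Agent.Lib.Helper75.MaxAbSub

/-!
# Blanchard's lemma: the stability of the kernel pair under a connected group
-/

set_option autoImplicit false
universe u
open CategoryTheory CategoryTheory.Limits MonoidalCategory CartesianMonoidalCategory MonObj
  AlgebraicGeometry

namespace Groth.Agent.Lib.Helper75.Blanchard

open Groth.Agent.Lib.Helper75.FactorFib Groth.Agent.Lib.Helper75.ActionMk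

variable {k : Type u} [Field k] {G X Y : Over (Spec (CommRingCat.of k))} [GrpObj G]

/-- the unit point of `G` -/
noncomputable def ept (G : Over (Spec (CommRingCat.of k))) [GrpObj G] : ↥G.left :=
  η[G].left ((⊥ : PrimeSpectrum k) : ↥(𝟙_ (Over (Spec (CommRingCat.of k)))).left)

/-- Lemma R': a morphism from a reduced scheme to `G` with set-theoretic image the unit point
is the unit. -/
theorem eq_one_of_isReduced (Q : Over (Spec (CommRingCat.of k))) [IsReduced Q.left] (h : Q ⟶ G)
    (hh : ∀ w : ↥Q.left, h.left w = ept G) : h = toUnit Q ≫ η[G] := by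
  have hsub : Subsingleton (Spec (CommRingCat.of k)) :=
    inferInstanceAs (Subsingleton (PrimeSpectrum k))
  have hcl : IsClosedImmersion η[G].left :=
    isClosedImmersion_of_comp_eq_id G.hom η[G].left (Over.w η[G])
  have hrange : Set.range h.left ⊆ Set.range η[G].left := by
    rintro _ ⟨w, rfl⟩
    rw [hh w]
    exact ⟨_, rfl⟩
  obtain ⟨l, hl⟩ := Groth.Agent.Lib.Helper75.MaxAbSub.exists_lift_of_isReduced η[G].left h.left
    hrange
  have hl' : l = Q.hom := by
    have h1 : η[G].left ≫ G.hom = 𝟙 _ := Over.w η[G]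
    have h2 : l ≫ η[G].left ≫ G.hom = Q.hom := by
      rw [← Category.assoc, hl, Over.w h]
    rw [h1, Category.comp_id] at h2
    exact h2
  ext
  rw [Over.comp_left, ← hl, hl']
  congr 1

/-- Points of `G` with set-theoretic image the unit point preserve the kernel pair of a
fibration. -/
theorem stable_of_image_ept {f : X ⟶ Y} (hf : IsFib f) (a : AlgGrp.Action G X)
    (P : Over (Spec (CommRingCat.of k))) (g : P ⟶ G) (hg : ∀ w : ↥P.left, g.left w = ept G)
    (x₁ x₂ : P ⟶ X) (hx : x₁ ≫ f = x₂ ≫ f) :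
    lift g x₁ ≫ a.act ≫ f = lift g x₂ ≫ a.act ≫ f := by
  obtain ⟨β, hβdef⟩ : ∃ β : P ⊗ X ⟶ Y, β = (g ▷ X) ≫ a.act ≫ f := ⟨_, rfl⟩
  have hβ : ∀ p : ↥(P ⊗ X).left, β.left p = (snd P X ≫ f).left p := by
    intro p
    let Q : Over (Spec (CommRingCat.of k)) :=
      Over.mk ((P ⊗ X).left.fromSpecResidueField p ≫ (P ⊗ X).hom)
    let p' : Q ⟶ P ⊗ X := Over.homMk ((P ⊗ X).left.fromSpecResidueField p) rfl
    have hred : IsReduced Q.left :=
      (inferInstance : IsReduced (Spec ((P ⊗ X).left.residueField p)))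
    have h1 : p' ≫ fst P X ≫ g = toUnit Q ≫ η[G] :=
      eq_one_of_isReduced Q _ (fun w => hg _)
    have e : p' ≫ (g ▷ X) = lift (toUnit Q ≫ η[G]) (p' ≫ snd P X) := by
      apply CartesianMonoidalCategory.hom_ext
      · rw [Category.assoc, whiskerRight_fst, lift_fst, ← h1]
      · rw [Category.assoc, whiskerRight_snd, lift_snd]
    have h2 : p' ≫ β = p' ≫ snd P X ≫ f := by
      rw [hβdef, ← Category.assoc, e, ← Category.assoc, act_one, Category.assoc]
    let w : ↥Q.left := (IsLocalRing.closedPoint ((P ⊗ X).left.residueField p) :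
      PrimeSpectrum ((P ⊗ X).left.residueField p))
    have h3 : (p' ≫ β).left w = (p' ≫ snd P X ≫ f).left w := by rw [h2]
    have h4 : p'.left w = p := Scheme.fromSpecResidueField_apply _ _
    rw [Over.comp_left, Scheme.Hom.comp_apply, h4] at h3
    rw [h3, Over.comp_left, Scheme.Hom.comp_apply, h4]
  have hcol : ∀ p q : ↥(P ⊗ X).left, (P ◁ f).left p = (P ◁ f).left q → β.left p = β.left q := by
    intro p q hpq
    rw [hβ p, hβ q, ← whiskerLeft_snd]
    simp only [Over.comp_left, Scheme.Hom.comp_apply]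
    rw [hpq]
  obtain ⟨ψ, hψ⟩ := (hf.whiskerLeft P).exists_factor β hcol
  have key : ∀ x : P ⟶ X, lift g x ≫ a.act ≫ f = lift (𝟙 P) (x ≫ f) ≫ ψ := by
    intro x
    have e1 : lift g x = lift (𝟙 P) x ≫ (g ▷ X) := by
      apply CartesianMonoidalCategory.hom_ext
      · rw [lift_fst, Category.assoc, whiskerRight_fst, lift_fst_assoc, Category.id_comp]
      · rw [lift_snd, Category.assoc, whiskerRight_snd, lift_snd]
    have e2 : lift (𝟙 P) (x ≫ f) = lift (𝟙 P) x ≫ (P ◁ f) := by
      apply CartesianMonoidalCategory.hom_ext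
      · rw [lift_fst, Category.assoc, whiskerLeft_fst, lift_fst]
      · rw [lift_snd, Category.assoc, whiskerLeft_snd, lift_snd_assoc]
    rw [e1, e2, Category.assoc, Category.assoc, hψ, hβdef]
  rw [key, key, hx]

section KernelPair

variable (f : X ⟶ Y)

/-- the kernel pair of `f`, as an object over `k` -/
noncomputable def kp : Over (Spec (CommRingCat.of k)) :=
  Over.mk (pullback.fst f.left f.left ≫ X.hom)

noncomputable def kp₁ : kp f ⟶ X := Over.homMk (pullback.fst f.left f.left) rfl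

noncomputable def kp₂ : kp f ⟶ X := Over.homMk (pullback.snd f.left f.left) (by
  change pullback.snd f.left f.left ≫ X.hom = pullback.fst f.left f.left ≫ X.hom
  rw [← Over.w f, ← Category.assoc, ← pullback.condition, Category.assoc])

theorem kp_condition : kp₁ f ≫ f = kp₂ f ≫ f := by
  apply Over.OverMorphism.ext
  exact pullback.condition (f := f.left) (g := f.left)

variable {f}

noncomputable def kpLift {T : Over (Spec (CommRingCat.of k))} (x₁ x₂ : T ⟶ X)
    (h : x₁ ≫ f = x₂ ≫ f) : T ⟶ kp f :=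
  Over.homMk (pullback.lift x₁.left x₂.left (congrArg (fun t => t.left) h)) (by
    change pullback.lift x₁.left x₂.left _ ≫ pullback.fst f.left f.left ≫ X.hom = T.hom
    rw [pullback.lift_fst_assoc, Over.w])

theorem kpLift_fst {T : Over (Spec (CommRingCat.of k))} (x₁ x₂ : T ⟶ X)
    (h : x₁ ≫ f = x₂ ≫ f) : kpLift x₁ x₂ h ≫ kp₁ f = x₁ := by
  apply Over.OverMorphism.ext
  exact pullback.lift_fst _ _ _

theorem kpLift_snd {T : Over (Spec (CommRingCat.of k))} (x₁ x₂ : T ⟶ X)
    (h : x₁ ≫ f = x₂ ≫ f) : kpLift x₁ x₂ h ≫ kp₂ f = x₂ := by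
  apply Over.OverMorphism.ext
  exact pullback.lift_snd _ _ _

end KernelPair

/-- **Local step.** There is an open neighbourhood `U` of the unit point of `G` such that points
of `G` with values in `U` preserve the kernel pair of the fibration `f`. -/
theorem exists_open_stable {f : X ⟶ Y} (hf : IsFib f) (a : AlgGrp.Action G X)
    [LocallyOfFiniteType G.hom] [LocallyOfFiniteType X.hom] [QuasiCompact X.hom]
    [IsSeparated Y.hom] :
    ∃ U : G.left.Opens, ept G ∈ U ∧ ∀ (T : Over (Spec (CommRingCat.of k))) (g : T ⟶ G)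
      (x₁ x₂ : T ⟶ X), (∀ w : ↥T.left, g.left w ∈ U) → x₁ ≫ f = x₂ ≫ f →
      lift g x₁ ≫ a.act ≫ f = lift g x₂ ≫ a.act ≫ f := by
  have hp := hf.proper
  have hlft : LocallyOfFiniteType (kp f).hom := by
    change LocallyOfFiniteType (pullback.fst f.left f.left ≫ X.hom)
    infer_instance
  have hqc : QuasiCompact (kp f).hom := by
    change QuasiCompact (pullback.fst f.left f.left ≫ X.hom)
    infer_instance
  have hcomp : CompactSpace ↥(kp f).left := (quasiCompact_iff_compactSpace (kp f).hom).mp hqc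
  have hN : IsLocallyNoetherian G.left := LocallyOfFiniteType.isLocallyNoetherian G.hom
  obtain ⟨Φ, hΦ⟩ : ∃ Φ : kp f ⊗ G ⟶ Y,
      Φ = lift (snd (kp f) G) (fst (kp f) G ≫ kp₁ f) ≫ a.act ≫ f := ⟨_, rfl⟩
  obtain ⟨Φ', hΦ'⟩ : ∃ Φ' : kp f ⊗ G ⟶ Y,
      Φ' = lift (snd (kp f) G) (fst (kp f) G ≫ kp₂ f) ≫ a.act ≫ f := ⟨_, rfl⟩
  have hFF' : Φ.left ≫ Y.hom = Φ'.left ≫ Y.hom := by rw [Over.w Φ, Over.w Φ']
  have hinf : ∀ (T' : Scheme.{u}) (t : T' ⟶ G.left), (∀ w, t w = ept G) →
      pullback.fst (pullback.snd (kp f).hom G.hom) t ≫ Φ.left =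
        pullback.fst (pullback.snd (kp f).hom G.hom) t ≫ Φ'.left := by
    intro T' t ht
    let P : Over (Spec (CommRingCat.of k)) :=
      Over.mk (pullback.fst (pullback.snd (kp f).hom G.hom) t ≫ (kp f ⊗ G).hom)
    let ρ : P ⟶ kp f ⊗ G := Over.homMk (pullback.fst (pullback.snd (kp f).hom G.hom) t) rfl
    have hg : ∀ w : ↥P.left, (ρ ≫ snd (kp f) G).left w = ept G := by
      intro w
      have e : (ρ ≫ snd (kp f) G).left =
          pullback.snd (pullback.snd (kp f).hom G.hom) t ≫ t := by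
        rw [Over.comp_left, Over.snd_left]
        exact pullback.condition
      rw [e, Scheme.Hom.comp_apply, ht]
    have hx : (ρ ≫ fst (kp f) G ≫ kp₁ f) ≫ f = (ρ ≫ fst (kp f) G ≫ kp₂ f) ≫ f := by
      rw [Category.assoc, Category.assoc, Category.assoc, Category.assoc, kp_condition]
    have key := stable_of_image_ept hf a P (ρ ≫ snd (kp f) G) hg _ _ hx
    have e1 : ρ ≫ Φ = lift (ρ ≫ snd (kp f) G) (ρ ≫ fst (kp f) G ≫ kp₁ f) ≫ a.act ≫ f := by
      rw [hΦ, ← Category.assoc, comp_lift]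
    have e2 : ρ ≫ Φ' = lift (ρ ≫ snd (kp f) G) (ρ ≫ fst (kp f) G ≫ kp₂ f) ≫ a.act ≫ f := by
      rw [hΦ', ← Category.assoc, comp_lift]
    have := congrArg (fun t => t.left) (e1.trans (key.trans e2.symm))
    exact this
  obtain ⟨V, heV, hV⟩ := Groth.Agent.Lib.Helper75.KrullSpread.exists_open_locEq' (kp f).hom G.hom
    Y.hom Φ.left Φ'.left hFF' (ept G) hinf
  refine ⟨V, heV, ?_⟩
  intro T g x₁ x₂ hgU hx
  let ρ : T ⟶ kp f ⊗ G := lift (kpLift x₁ x₂ hx) g
  have hloc : ∀ t : ↥T.left,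
      Groth.Agent.Lib.Helper75.AAOpen.LocEq Φ.left Φ'.left (ρ.left t) := by
    intro t
    apply hV
    have e : ρ.left ≫ pullback.snd (kp f).hom G.hom = g.left := by
      rw [← Over.snd_left, ← Over.comp_left, lift_snd]
    rw [← Scheme.Hom.comp_apply, e]
    exact hgU t
  have h1 := Groth.Agent.Lib.Helper75.KrullSpread.comp_eq_of_forall_locEq Φ.left Φ'.left ρ.left hloc
  have e1 : ρ ≫ Φ = lift g x₁ ≫ a.act ≫ f := by
    rw [hΦ, ← Category.assoc, comp_lift, lift_snd, lift_fst_assoc, kpLift_fst]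
  have e2 : ρ ≫ Φ' = lift g x₂ ≫ a.act ≫ f := by
    rw [hΦ', ← Category.assoc, comp_lift, lift_snd, lift_fst_assoc, kpLift_snd]
  rw [← e1, ← e2]
  apply Over.OverMorphism.ext
  exact h1

end Groth.Agent.Lib.Helper75.Blanchard
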