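import Mathlib
import Groth.Prelude
import Groth.Agent.Lib.Helper75.Blanchard2
import Groth.Agent.Lib.Helper75.AAExt
import Groth.Agent.Lib.Helper26.DenseMul
import Groth.Agent.Lib.Helper70.GrpTransD
import Groth.Agent.Lib.Helper70.GrpConnC
import Groth.Agent.Lib.Helper14.DominantQC

/-!
# Blanchard's lemma: from a neighbourhood of the unit to the whole connected group
-/

set_option autoImplicit false
universe u
open CategoryTheory CategoryTheory.Limits MonoidalCategory CartesianMonoidalCategory MonObj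
  AlgebraicGeometry

namespace Groth.Agent.Lib.Helper75.Blanchard

open Groth.Agent.Lib.Helper75.FactorFib Groth.Agent.Lib.Helper75.ActionMk

variable {k : Type u} [Field k] {G X Y : Over (Spec (CommRingCat.of k))} [GrpObj G]

/-- the point `g` of `G` preserves the kernel pair of `f` -/
def Stable (f : X ⟶ Y) (a : AlgGrp.Action G X) {T : Over (Spec (CommRingCat.of k))}
    (g : T ⟶ G) : Prop :=
  ∀ (T' : Over (Spec (CommRingCat.of k))) (s : T' ⟶ T) (x₁ x₂ : T' ⟶ X), x₁ ≫ f = x₂ ≫ f →
    lift (s ≫ g) x₁ ≫ a.act ≫ f = lift (s ≫ g) x₂ ≫ a.act ≫ f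

variable {f : X ⟶ Y} {a : AlgGrp.Action G X}

theorem Stable.comp {T T' : Over (Spec (CommRingCat.of k))} {g : T ⟶ G} (h : Stable f a g)
    (s : T' ⟶ T) : Stable f a (s ≫ g) := by
  intro T'' s' x₁ x₂ hx
  rw [← Category.assoc]
  exact h T'' (s' ≫ s) x₁ x₂ hx

theorem Stable.mul {T : Over (Spec (CommRingCat.of k))} {g h : T ⟶ G} (hg : Stable f a g)
    (hh : Stable f a h) : Stable f a (g * h) := by
  intro T' s x₁ x₂ hx
  rw [comp_mul, ← Category.assoc, ← Category.assoc _ a.act f, act_mul, act_mul, Category.assoc,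
    Category.assoc]
  have h1 := hh T' s x₁ x₂ hx
  have h2 := hg T' s (lift (s ≫ h) x₁ ≫ a.act) (lift (s ≫ h) x₂ ≫ a.act)
    (by rw [Category.assoc, Category.assoc]; exact h1)
  exact h2

theorem stable_of_flat_surjective {T T' : Over (Spec (CommRingCat.of k))} (g : T ⟶ G)
    (π : T' ⟶ T) [Flat π.left] [Surjective π.left] (h : Stable f a (π ≫ g)) : Stable f a g := by
  intro T'' s x₁ x₂ hx
  let Po : Over (Spec (CommRingCat.of k)) := Over.mk (pullback.fst s.left π.left ≫ T''.hom)
  let p₁ : Po ⟶ T'' := Over.homMk (pullback.fst s.left π.left) rfl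
  let p₂ : Po ⟶ T' := Over.homMk (pullback.snd s.left π.left) (by
    change pullback.snd s.left π.left ≫ T'.hom = pullback.fst s.left π.left ≫ T''.hom
    rw [← Over.w π, ← Category.assoc, ← pullback.condition, Category.assoc, Over.w s])
  have hp : p₁ ≫ s = p₂ ≫ π := by
    apply Over.OverMorphism.ext
    exact pullback.condition (f := s.left) (g := π.left)
  have hflat : Flat p₁.left := inferInstanceAs (Flat (pullback.fst s.left π.left))
  have hsurj : Surjective p₁.left := inferInstanceAs (Surjective (pullback.fst s.left π.left))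
  have key := h Po p₂ (p₁ ≫ x₁) (p₁ ≫ x₂) (by rw [Category.assoc, Category.assoc, hx])
  rw [← Category.assoc p₂, ← hp, Category.assoc] at key
  have e : ∀ x : T'' ⟶ X, p₁ ≫ lift (s ≫ g) x ≫ a.act ≫ f =
      lift (p₁ ≫ s ≫ g) (p₁ ≫ x) ≫ a.act ≫ f := by
    intro x
    rw [← Category.assoc, comp_lift]
  have key' : p₁ ≫ lift (s ≫ g) x₁ ≫ a.act ≫ f = p₁ ≫ lift (s ≫ g) x₂ ≫ a.act ≫ f := by
    rw [e, e, key]
  apply Over.OverMorphism.ext
  apply Groth.Agent.Lib.Helper75.Collapse.eq_of_comp_eq p₁.left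
    (fun U => Groth.Agent.Lib.Helper75.AAExt.app_injective_of_flat_of_surjective p₁.left U)
  exact congrArg (fun t => t.left) key'

theorem flat_mul_left (G : Over (Spec (CommRingCat.of k))) [GrpObj G] : Flat μ[G].left := by
  rw [← Groth.Agent.Lib.Helper70.GrpTrans.shear_hom_snd, Over.comp_left]
  have h1 : IsIso (Groth.Agent.Lib.Helper70.GrpTrans.shear G).hom.left :=
    (inferInstance : IsIso ((Over.forget _).map (Groth.Agent.Lib.Helper70.GrpTrans.shear G).hom))
  have h2 : Flat G.hom := inferInstance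
  have h3 : Flat (snd G G).left := by
    rw [Over.snd_left]
    infer_instance
  infer_instance

/-- **Blanchard, stability.** A connected group scheme of finite type preserves the kernel pair
of a fibration `f : X ⟶ Y` between separated schemes of finite type. -/
theorem stable_id (hf : IsFib f) (a : AlgGrp.Action G X)
    [LocallyOfFiniteType G.hom] [QuasiCompact G.hom] [ConnectedSpace ↥G.left]
    [LocallyOfFiniteType X.hom] [QuasiCompact X.hom] [IsSeparated Y.hom] :
    Stable f a (𝟙 G) := by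
  obtain ⟨U, heU, hU⟩ := exists_open_stable hf a
  let U' : Over (Spec (CommRingCat.of k)) := Over.mk (U.ι ≫ G.hom)
  let ι' : U' ⟶ G := Over.homMk U.ι rfl
  have hι : Stable f a ι' := by
    intro T' s x₁ x₂ hx
    apply hU T' (s ≫ ι') x₁ x₂ _ hx
    intro w
    rw [Over.comp_left, Scheme.Hom.comp_apply]
    exact (s.left w).2
  have hm : Stable f a ((fst U' U' ≫ ι') * (snd U' U' ≫ ι')) := (hι.comp _).mul (hι.comp _)
  have em : (fst U' U' ≫ ι') * (snd U' U' ≫ ι') = (ι' ▷ U') ≫ (G ◁ ι') ≫ μ[G] := by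
    rw [Hom.mul_def, ← Category.assoc]
    congr 1
    apply CartesianMonoidalCategory.hom_ext
    · rw [lift_fst, Category.assoc, whiskerLeft_fst, whiskerRight_fst]
    · rw [lift_snd, Category.assoc, whiskerLeft_snd, ← Category.assoc, whiskerRight_snd]
  have hflatι : Flat ι'.left := inferInstanceAs (Flat U.ι)
  have hpb1 := Groth.Agent.Lib.Helper14.isPullback_whiskerRight_fst' U' ι'
  have hpb2 := Groth.Agent.Lib.Helper75.AARigidity.isPullback_whiskerLeft_snd' G ι'
  have hflat1 : Flat (ι' ▷ U').left := MorphismProperty.of_isPullback (P := @Flat) hpb1.flip hflatι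
  have hflat2 : Flat (G ◁ ι').left := MorphismProperty.of_isPullback (P := @Flat) hpb2.flip hflatι
  have hflat3 : Flat μ[G].left := flat_mul_left G
  have hflat : Flat ((fst U' U' ≫ ι') * (snd U' U' ≫ ι')).left := by
    rw [em, Over.comp_left, Over.comp_left]
    infer_instance
  have hirr : IrreducibleSpace ↥G.left :=
    Groth.Agent.Lib.Helper70.GrpConnC.irreducibleSpace_of_connectedSpace G
  have hdense : Dense (U : Set ↥G.left) := U.isOpen.dense ⟨ept G, heU⟩
  have hsurj : Surjective ((fst U' U' ≫ ι') * (snd U' U' ≫ ι')).left := by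
    constructor
    intro g
    obtain ⟨z, hz1, hz2, hz3⟩ := Groth.Agent.Lib.Helper26.DenseMul.exists_mul_eq k G U U hdense
      hdense g
    obtain ⟨z₁, hz₁, hz₁'⟩ := Groth.Agent.Lib.Helper75.AARigidity.exists_of_isPullback' hpb2 z
      ⟨(snd G G).left z, hz2⟩ rfl
    have hz₁U : (fst G U').left z₁ ∈ U := by
      have e : (G ◁ ι') ≫ fst G G = fst G U' := whiskerLeft_fst _ _
      have := congrArg (fun t => t.left z₁) e
      simp only [Over.comp_left, Scheme.Hom.comp_apply] at this
      rw [← this, hz₁]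
      exact hz1
    obtain ⟨z₂, hz₂, -⟩ := Groth.Agent.Lib.Helper75.AARigidity.exists_of_isPullback' hpb1 z₁
      ⟨(fst G U').left z₁, hz₁U⟩ rfl
    refine ⟨z₂, ?_⟩
    rw [em, Over.comp_left, Over.comp_left, Scheme.Hom.comp_apply, Scheme.Hom.comp_apply, hz₂, hz₁]
    exact hz3
  have := stable_of_flat_surjective (f := f) (a := a) (𝟙 G)
    ((fst U' U' ≫ ι') * (snd U' U' ≫ ι')) (by rw [Category.comp_id]; exact hm)
  exact this

end Groth.Agent.Lib.Helper75.Blanchard
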