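import Mathlib
import Groth.Prelude.Def_W4c2conddiscmodels

/-!
# Contraction of a chain in a multigraph with multiplicity function (helper75)

General facts on `LabGraph.edgeMult`, `LabGraph.mfMatrix`, and their behaviour under contraction
`DualGr.CtrVert`, used for S14800, S14801, S14802.
-/

set_option autoImplicit false
set_option linter.unusedSectionVars false
set_option linter.unusedSimpArgs false
set_option linter.unusedVariables false
universe u

namespace Groth.Agent.Lib.Helper75.ChainContract

open Finset LabGraph DualGr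

variable {V E : Type u} [Fintype V] [Fintype E] [DecidableEq V] [DecidableEq E]

lemma edgeMult_comm (ends : E → V × V) (v w : V) : edgeMult ends v w = edgeMult ends w v := by
  unfold edgeMult
  congr 1
  ext e
  simp [or_comm]

lemma edgeMult_eq_sum (ends : E → V × V) {v w : V} (h : v ≠ w) :
    (edgeMult ends v w : ℤ) = ∑ e : E, ((if (ends e).1 = v ∧ (ends e).2 = w then (1 : ℤ) else 0) +
      (if (ends e).1 = w ∧ (ends e).2 = v then (1 : ℤ) else 0)) := by
  unfold edgeMult
  rw [Finset.card_filter, Nat.cast_sum]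
  refine Finset.sum_congr rfl fun e _ => ?_
  by_cases h1 : (ends e).1 = v ∧ (ends e).2 = w
  · have h2 : ¬ ((ends e).1 = w ∧ (ends e).2 = v) := fun h2 => h (h1.1.symm.trans h2.1)
    have h3 : ends e = (v, w) := Prod.ext h1.1 h1.2
    simp [h3, h, Ne.symm h]
  · by_cases h2 : (ends e).1 = w ∧ (ends e).2 = v
    · have h3 : ends e = (w, v) := Prod.ext h2.1 h2.2
      simp [h3, h, Ne.symm h]
    · have h3 : ¬ (ends e = (v, w)) := fun h3 => h1 (by rw [h3]; exact ⟨rfl, rfl⟩)
      have h4 : ¬ (ends e = (w, v)) := fun h4 => h2 (by rw [h4]; exact ⟨rfl, rfl⟩)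
      simp [h1, h2, h3, h4]

/-- Edge-sum formula for the weighted neighbour sum of `v` over a set `T` not containing `v`. -/
lemma nbr_sum_eq (ends : E → V × V) (v : V) (T : V → Prop) [DecidablePred T] (hT : ¬ T v)
    (g : V → ℤ) :
    ∑ w ∈ univ.filter T, g w * (edgeMult ends v w : ℤ) =
      ∑ e : E, ((if (ends e).1 = v ∧ T (ends e).2 then g (ends e).2 else 0) +
        (if (ends e).2 = v ∧ T (ends e).1 then g (ends e).1 else 0)) := by
  have h1 : ∀ w ∈ univ.filter T, g w * (edgeMult ends v w : ℤ) =
      ∑ e : E, ((if (ends e).1 = v ∧ (ends e).2 = w then g w else 0) +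
        (if (ends e).1 = w ∧ (ends e).2 = v then g w else 0)) := by
    intro w hw
    have hvw : v ≠ w := fun h => hT (h ▸ (Finset.mem_filter.mp hw).2)
    rw [edgeMult_eq_sum ends hvw, Finset.mul_sum]
    refine Finset.sum_congr rfl fun e _ => ?_
    split_ifs <;> simp <;> ring
  rw [Finset.sum_congr rfl h1, Finset.sum_comm]
  refine Finset.sum_congr rfl fun e _ => ?_
  rw [Finset.sum_add_distrib, Finset.sum_filter, Finset.sum_filter]
  congr 1
  · by_cases h : (ends e).1 = v ∧ T (ends e).2
    · rw [if_pos h, Finset.sum_eq_single (ends e).2]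
      · simp [h.1, h.2]
      · intro b _ hb
        have : ¬ ((ends e).1 = v ∧ (ends e).2 = b) := fun h' => hb h'.2.symm
        simp [this]
      · intro h'; exact absurd (Finset.mem_univ _) h'
    · rw [if_neg h]
      refine Finset.sum_eq_zero fun b _ => ?_
      by_cases hb : T b
      · have : ¬ ((ends e).1 = v ∧ (ends e).2 = b) := fun h' => h ⟨h'.1, h'.2 ▸ hb⟩
        simp [this]
      · simp [hb]
  · by_cases h : (ends e).2 = v ∧ T (ends e).1
    · rw [if_pos h, Finset.sum_eq_single (ends e).1]
      · simp [h.1, h.2]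
      · intro b _ hb
        have : ¬ ((ends e).1 = b ∧ (ends e).2 = v) := fun h' => hb h'.1.symm
        simp [this]
      · intro h'; exact absurd (Finset.mem_univ _) h'
    · rw [if_neg h]
      refine Finset.sum_eq_zero fun b _ => ?_
      by_cases hb : T b
      · have : ¬ ((ends e).1 = b ∧ (ends e).2 = v) := fun h' => h ⟨h'.2, h'.1 ▸ hb⟩
        simp [this]
      · simp [hb]

/-! ### The matrix `mfMatrix` -/

lemma mfMatrix_off (ends : E → V × V) (β : V → ℤ) {v w : V} (h : v ≠ w) :
    mfMatrix ends β v w = (edgeMult ends v w : ℤ) := by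
  unfold mfMatrix; rw [if_neg h]

lemma mfMatrix_symm (ends : E → V × V) (β : V → ℤ) (v w : V) :
    mfMatrix ends β v w = mfMatrix ends β w v := by
  by_cases h : v = w
  · subst h; rfl
  · rw [mfMatrix_off ends β h, mfMatrix_off ends β (Ne.symm h), edgeMult_comm]

lemma mfMatrix_diag_mul (ends : E → V × V) (β : V → ℤ) (hβ : IsMultFn ends β) (v : V) :
    mfMatrix ends β v v * β v = - ∑ u ∈ univ.erase v, β u * (edgeMult ends v u : ℤ) := by
  unfold mfMatrix
  rw [if_pos rfl]
  exact Int.ediv_mul_cancel ((dvd_neg).mpr (hβ v).2)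

lemma mulVec_eq (M : Matrix V V ℤ) (y : V → ℤ) (v : V) :
    M.mulVec y v = ∑ w, M v w * y w := rfl

/-- Splitting of a row of `α z` along a predicate containing `v`. -/
lemma mulVec_split (ends : E → V × V) (β : V → ℤ) (z : V → ℤ) (v : V)
    (P : V → Prop) [DecidablePred P] (hv : P v) :
    (mfMatrix ends β).mulVec z v = ∑ w ∈ univ.filter P, mfMatrix ends β v w * z w +
      ∑ w ∈ univ.filter (fun w => ¬ P w), z w * (edgeMult ends v w : ℤ) := by
  rw [mulVec_eq, ← Finset.sum_filter_add_sum_filter_not univ P]
  congr 1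
  refine Finset.sum_congr rfl fun w hw => ?_
  have hvw : v ≠ w := fun h => (Finset.mem_filter.mp hw).2 (h ▸ hv)
  rw [mfMatrix_off ends β hvw, mul_comm]

lemma mulVec_beta (ends : E → V × V) (β : V → ℤ) (hβ : IsMultFn ends β) (v : V) :
    (mfMatrix ends β).mulVec β v = 0 := by
  rw [mulVec_eq, ← Finset.add_sum_erase univ _ (Finset.mem_univ v), mfMatrix_diag_mul ends β hβ]
  rw [neg_add_eq_zero]
  refine Finset.sum_congr rfl fun w hw => ?_
  rw [mfMatrix_off ends β (Finset.ne_of_mem_erase hw).symm, mul_comm]

/-! ### Contraction -/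

/-- Neighbour sums in the contracted graph, in terms of the original graph. -/
lemma ctr_nbr_sum (ends : E → V × V) (D : Finset E) (x' : CtrVert ends D → ℤ)
    (c : CtrVert ends D) :
    ∑ d ∈ univ.erase c, x' d * (edgeMult (ctrEnds ends D) c d : ℤ) =
      ∑ v ∈ univ.filter (fun v => ctrMk ends D v = c),
        ∑ w ∈ univ.filter (fun w => ¬ ctrMk ends D w = c),
          x' (ctrMk ends D w) * (edgeMult ends v w : ℤ) := by
  -- common value
  set G : E → ℤ := fun e =>
    (if ctrMk ends D (ends e).1 = c ∧ ¬ ctrMk ends D (ends e).2 = c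
      then x' (ctrMk ends D (ends e).2) else 0) +
    (if ctrMk ends D (ends e).2 = c ∧ ¬ ctrMk ends D (ends e).1 = c
      then x' (ctrMk ends D (ends e).1) else 0) with hG
  have hGD : ∀ e ∈ D, G e = 0 := by
    intro e he
    have := ctrMk_fst_eq_ctrMk_snd ends D he
    simp only [hG, this]
    simp
  have hL : ∑ d ∈ univ.erase c, x' d * (edgeMult (ctrEnds ends D) c d : ℤ) =
      ∑ e' : CtrEdge D, G e'.1 := by
    have h1 : univ.erase c = univ.filter (fun d : CtrVert ends D => ¬ d = c) :=
      (Finset.filter_ne' univ c).symm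
    rw [h1, nbr_sum_eq (ctrEnds ends D) c (fun d => ¬ d = c) (by simp) x']
    rfl
  have hR : ∀ v ∈ univ.filter (fun v => ctrMk ends D v = c),
      ∑ w ∈ univ.filter (fun w => ¬ ctrMk ends D w = c),
          x' (ctrMk ends D w) * (edgeMult ends v w : ℤ) =
      ∑ e : E, ((if (ends e).1 = v ∧ ¬ ctrMk ends D (ends e).2 = c
        then x' (ctrMk ends D (ends e).2) else 0) +
        (if (ends e).2 = v ∧ ¬ ctrMk ends D (ends e).1 = c
        then x' (ctrMk ends D (ends e).1) else 0)) := by
    intro v hv
    exact nbr_sum_eq ends v (fun w => ¬ ctrMk ends D w = c)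
      (by simpa using (Finset.mem_filter.mp hv).2) (fun w => x' (ctrMk ends D w))
  rw [hL, Finset.sum_congr rfl hR, Finset.sum_comm]
  have hR2 : ∀ e : E, ∑ v ∈ univ.filter (fun v => ctrMk ends D v = c),
      ((if (ends e).1 = v ∧ ¬ ctrMk ends D (ends e).2 = c
        then x' (ctrMk ends D (ends e).2) else 0) +
        (if (ends e).2 = v ∧ ¬ ctrMk ends D (ends e).1 = c
        then x' (ctrMk ends D (ends e).1) else 0)) = G e := by
    intro e
    rw [Finset.sum_add_distrib, Finset.sum_filter, Finset.sum_filter]
    simp only [hG]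
    congr 1
    · by_cases h : ctrMk ends D (ends e).1 = c ∧ ¬ ctrMk ends D (ends e).2 = c
      · rw [if_pos h, Finset.sum_eq_single (ends e).1]
        · simp [h.1, h.2]
        · intro b _ hb
          have : ¬ ((ends e).1 = b ∧ ¬ ctrMk ends D (ends e).2 = c) := fun h' => hb h'.1.symm
          simp [this]
        · intro h'; exact absurd (Finset.mem_univ _) h'
      · rw [if_neg h]
        refine Finset.sum_eq_zero fun b _ => ?_
        by_cases hb : ctrMk ends D b = c
        · have : ¬ ((ends e).1 = b ∧ ¬ ctrMk ends D (ends e).2 = c) :=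
            fun h' => h ⟨h'.1 ▸ hb, h'.2⟩
          simp [this]
        · simp [hb]
    · by_cases h : ctrMk ends D (ends e).2 = c ∧ ¬ ctrMk ends D (ends e).1 = c
      · rw [if_pos h, Finset.sum_eq_single (ends e).2]
        · simp [h.1, h.2]
        · intro b _ hb
          have : ¬ ((ends e).2 = b ∧ ¬ ctrMk ends D (ends e).1 = c) := fun h' => hb h'.1.symm
          simp [this]
        · intro h'; exact absurd (Finset.mem_univ _) h'
      · rw [if_neg h]
        refine Finset.sum_eq_zero fun b _ => ?_
        by_cases hb : ctrMk ends D b = c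
        · have : ¬ ((ends e).2 = b ∧ ¬ ctrMk ends D (ends e).1 = c) :=
            fun h' => h ⟨h'.1 ▸ hb, h'.2⟩
          simp [this]
        · simp [hb]
  rw [Finset.sum_congr rfl (fun e _ => hR2 e)]
  -- sum over all edges = sum over edges outside D
  rw [← Finset.sum_subtype (univ.filter (fun e => e ∉ D)) (by simp) G]
  refine (Finset.sum_subset (Finset.filter_subset _ _) ?_)
  intro e _ he
  have : e ∈ D := by simpa using he
  exact hGD e this

/-- Contraction preserves multiplicity functions, provided `β` is constant on the classes. -/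
lemma isMultFn_ctr (ends : E → V × V) (β : V → ℤ) (hβ : IsMultFn ends β) (D : Finset E)
    (hconst : ∀ v, ctrFn ends D β (ctrMk ends D v) = β v) :
    IsMultFn (ctrEnds ends D) (ctrFn ends D β) := by
  intro c
  obtain ⟨v0, rfl⟩ := ctrMk_surjective ends D c
  refine ⟨by rw [hconst]; exact (hβ v0).1, ?_⟩
  rw [ctr_nbr_sum]
  refine Finset.dvd_sum fun v hv => ?_
  have hv' : ctrMk ends D v = ctrMk ends D v0 := (Finset.mem_filter.mp hv).2
  have hβv : ctrFn ends D β (ctrMk ends D v0) = β v := by rw [← hv', hconst]
  have hsplit := Finset.sum_filter_add_sum_filter_not (univ.erase v)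
    (fun w => ctrMk ends D w = ctrMk ends D v0) (fun w => β w * (edgeMult ends v w : ℤ))
  have hset : (univ.erase v).filter (fun w => ¬ ctrMk ends D w = ctrMk ends D v0) =
      univ.filter (fun w => ¬ ctrMk ends D w = ctrMk ends D v0) := by
    ext w
    simp only [Finset.mem_filter, Finset.mem_erase, Finset.mem_univ, true_and, and_true,
      and_iff_right_iff_imp]
    intro h hwv
    exact h (hwv ▸ hv')
  rw [hset] at hsplit
  have hrw : ∑ w ∈ univ.filter (fun w => ¬ ctrMk ends D w = ctrMk ends D v0),
      ctrFn ends D β (ctrMk ends D w) * (edgeMult ends v w : ℤ) =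
      ∑ w ∈ univ.erase v, β w * (edgeMult ends v w : ℤ) -
        ∑ w ∈ (univ.erase v).filter (fun w => ctrMk ends D w = ctrMk ends D v0),
          β w * (edgeMult ends v w : ℤ) := by
    rw [← hsplit]
    simp only [hconst]
    ring
  rw [hrw, hβv]
  refine dvd_sub (hβ v).2 (Finset.dvd_sum fun w hw => ?_)
  have hw' : ctrMk ends D w = ctrMk ends D v0 := (Finset.mem_filter.mp hw).2
  have : β w = β v := by rw [← hconst w, hw', hβv]
  rw [this]
  exact dvd_mul_right _ _

/-- `π_* ∘ α ∘ π^* = α'`: the matrix of the contraction is obtained from the matrix of the graph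
by pulling back along `ctrMk` and pushing forward (summing over the classes). -/
lemma pushV_mulVec (ends : E → V × V) (β : V → ℤ) (hβ : IsMultFn ends β) (D : Finset E)
    (hconst : ∀ v, ctrFn ends D β (ctrMk ends D v) = β v) (y' : CtrVert ends D → ℤ) :
    pushV ends D ((mfMatrix ends β).mulVec (fun v => y' (ctrMk ends D v))) =
      (mfMatrix (ctrEnds ends D) (ctrFn ends D β)).mulVec y' := by
  have hβ' := isMultFn_ctr ends β hβ D hconst
  funext c
  change ∑ v ∈ univ.filter (fun v => ctrMk ends D v = c),
    (mfMatrix ends β).mulVec (fun v => y' (ctrMk ends D v)) v = _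
  -- the diagonal entry of α'
  have hdiag : mfMatrix (ctrEnds ends D) (ctrFn ends D β) c c =
      ∑ v ∈ univ.filter (fun v => ctrMk ends D v = c),
        ∑ w ∈ univ.filter (fun w => ctrMk ends D w = c), mfMatrix ends β v w := by
    have hpos : ctrFn ends D β c ≠ 0 := (hβ' c).1.ne'
    apply mul_right_cancel₀ hpos
    rw [mfMatrix_diag_mul _ _ hβ', ctr_nbr_sum, Finset.sum_mul, ← Finset.sum_neg_distrib]
    refine Finset.sum_congr rfl fun v hv => ?_
    have hv' : ctrMk ends D v = c := (Finset.mem_filter.mp hv).2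
    have h0 := mulVec_beta ends β hβ v
    rw [mulVec_split ends β β v (fun w => ctrMk ends D w = c) hv'] at h0
    have h1 : ∑ w ∈ univ.filter (fun w => ctrMk ends D w = c), mfMatrix ends β v w * β w =
        (∑ w ∈ univ.filter (fun w => ctrMk ends D w = c), mfMatrix ends β v w) *
          ctrFn ends D β c := by
      rw [Finset.sum_mul]
      refine Finset.sum_congr rfl fun w hw => ?_
      rw [← (Finset.mem_filter.mp hw).2, hconst]
    rw [h1] at h0
    simp only [hconst]
    linarith
  -- now compute both sides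
  rw [mulVec_eq, ← Finset.add_sum_erase univ _ (Finset.mem_univ c), hdiag]
  have h2 : ∑ d ∈ univ.erase c, mfMatrix (ctrEnds ends D) (ctrFn ends D β) c d * y' d =
      ∑ d ∈ univ.erase c, y' d * (edgeMult (ctrEnds ends D) c d : ℤ) := by
    refine Finset.sum_congr rfl fun d hd => ?_
    rw [mfMatrix_off _ _ (Finset.ne_of_mem_erase hd).symm, mul_comm]
  rw [h2, ctr_nbr_sum, Finset.sum_mul, ← Finset.sum_add_distrib]
  refine Finset.sum_congr rfl fun v hv => ?_
  have hv' : ctrMk ends D v = c := (Finset.mem_filter.mp hv).2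
  rw [mulVec_split ends β _ v (fun w => ctrMk ends D w = c) hv', Finset.sum_mul]
  congr 1
  refine Finset.sum_congr rfl fun w hw => ?_
  rw [(Finset.mem_filter.mp hw).2]

/-! ### Classes of the contraction of a chain -/

section Chain

variable (ends : E → V × V) {m : ℕ} (f : Fin (m + 1) → V) (e : Fin m → E)

lemma ctrMk_chain (hC : IsChain ends f e) (i : Fin (m + 1)) :
    ctrMk ends (univ.image e) (f i) = ctrMk ends (univ.image e) (f 0) := by
  induction i using Fin.induction with
  | zero => rfl
  | succ i ih =>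
    have he : e i ∈ univ.image e := Finset.mem_image_of_mem e (Finset.mem_univ i)
    have h := ctrMk_fst_eq_ctrMk_snd ends (univ.image e) he
    rcases hC.2.2 i with h1 | h1
    · rw [h1] at h
      exact h.symm.trans ih
    · rw [h1] at h
      exact h.trans ih

lemma ctrMk_eq_iff (hC : IsChain ends f e) (v w : V) :
    ctrMk ends (univ.image e) v = ctrMk ends (univ.image e) w ↔
      v = w ∨ (v ∈ Set.range f ∧ w ∈ Set.range f) := by
  constructor
  · intro h
    have h' : Relation.EqvGen (CtrRel ends (univ.image e)) v w := Quotient.exact h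
    induction h' with
    | rel x y hxy =>
      obtain ⟨e', he', hxy⟩ := hxy
      obtain ⟨i, _, rfl⟩ := Finset.mem_image.mp he'
      right
      rcases hC.2.2 i with h1 | h1
      · rw [h1] at hxy
        have hx : f i.castSucc = x := congrArg Prod.fst hxy
        have hy : f i.succ = y := congrArg Prod.snd hxy
        exact ⟨⟨_, hx⟩, ⟨_, hy⟩⟩
      · rw [h1] at hxy
        have hx : f i.succ = x := congrArg Prod.fst hxy
        have hy : f i.castSucc = y := congrArg Prod.snd hxy
        exact ⟨⟨_, hx⟩, ⟨_, hy⟩⟩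
    | refl x => exact Or.inl rfl
    | symm x y _ ih =>
      rcases ih (Quotient.sound (by assumption)) with h1 | h1
      · exact Or.inl h1.symm
      · exact Or.inr ⟨h1.2, h1.1⟩
    | trans x y z _ _ ih1 ih2 =>
      rcases ih1 (Quotient.sound (by assumption)) with h1 | h1
      · subst h1
        exact ih2 (Quotient.sound (by assumption))
      · rcases ih2 (Quotient.sound (by assumption)) with h2 | h2
        · subst h2
          exact Or.inr h1
        · exact Or.inr ⟨h1.1, h2.2⟩
  · rintro (rfl | ⟨⟨i, rfl⟩, ⟨j, rfl⟩⟩)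
    · rfl
    · rw [ctrMk_chain ends f e hC i, ctrMk_chain ends f e hC j]

lemma ctrMk_eq_zero_iff (hC : IsChain ends f e) (v : V) :
    ctrMk ends (univ.image e) v = ctrMk ends (univ.image e) (f 0) ↔ v ∈ Set.range f := by
  rw [ctrMk_eq_iff ends f e hC]
  constructor
  · rintro (rfl | h)
    · exact ⟨0, rfl⟩
    · exact h.1
  · intro h
    exact Or.inr ⟨h, ⟨0, rfl⟩⟩

lemma ctrFn_ctrMk (hC : IsChain ends f e) (β : V → ℤ) (hconst : ∀ i j, β (f i) = β (f j))
    (v : V) : ctrFn ends (univ.image e) β (ctrMk ends (univ.image e) v) = β v := by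
  unfold ctrFn
  have h : ctrMk ends (univ.image e) (Quotient.out (s := ctrSetoid ends (univ.image e))
      (ctrMk ends (univ.image e) v)) = ctrMk ends (univ.image e) v := Quotient.out_eq _
  rcases (ctrMk_eq_iff ends f e hC _ _).mp h with h1 | ⟨⟨i, hi⟩, ⟨j, hj⟩⟩
  · rw [h1]
  · rw [← hi, ← hj]
    exact hconst i j

end Chain

/-! ### The graph near a chain of `(-2)`-vertices of multiplicity `m` -/

section ChainGraph

variable (ends : E → V × V) (β : V → ℤ) {m : ℕ} (f : Fin (m + 1) → V) (e : Fin m → E)

/-- `ℕ`-indexed chain vertices. -/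
def gv (i : ℕ) : V := if h : i < m + 1 then f ⟨i, h⟩ else f 0

/-- `ℕ`-indexed chain edges. -/
def ge (hm : 0 < m) (i : ℕ) : E := if h : i < m then e ⟨i, h⟩ else e ⟨0, hm⟩

lemma gv_eq (i : ℕ) (h : i < m + 1) : gv f i = f ⟨i, h⟩ := dif_pos h

lemma gv_fin (i : Fin (m + 1)) : gv f i.val = f i := by
  rw [gv_eq f i.val i.isLt]

lemma gv_zero : gv f 0 = f 0 := gv_fin f 0

lemma ge_eq (hm : 0 < m) (i : ℕ) (h : i < m) : ge e hm i = e ⟨i, h⟩ := dif_pos h

lemma gv_inj (hC : IsChain ends f e) {i j : ℕ} (hi : i ≤ m) (hj : j ≤ m)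
    (h : gv f i = gv f j) : i = j := by
  rw [gv_eq f i (by omega), gv_eq f j (by omega)] at h
  have := hC.1 h
  simpa using congrArg Fin.val this

lemma ge_inj (hC : IsChain ends f e) (hm : 0 < m) {i j : ℕ} (hi : i < m) (hj : j < m)
    (h : ge e hm i = ge e hm j) : i = j := by
  rw [ge_eq e hm i hi, ge_eq e hm j hj] at h
  have := hC.2.1 h
  simpa using congrArg Fin.val this

lemma mem_range_iff (v : V) : v ∈ Set.range f ↔ ∃ i, i ≤ m ∧ gv f i = v := by
  constructor
  · rintro ⟨i, rfl⟩
    exact ⟨i.val, by have := i.isLt; omega, gv_fin f i⟩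
  · rintro ⟨i, hi, rfl⟩
    exact ⟨⟨i, by omega⟩, (gv_eq f i (by omega)).symm⟩

lemma ge_ends (hC : IsChain ends f e) (hm : 0 < m) (i : ℕ) (hi : i < m) :
    ends (ge e hm i) = (gv f i, gv f (i + 1)) ∨ ends (ge e hm i) = (gv f (i + 1), gv f i) := by
  rw [ge_eq e hm i hi, gv_eq f i (by omega), gv_eq f (i + 1) (by omega)]
  exact hC.2.2 ⟨i, hi⟩

lemma one_le_edgeMult {a b : V} {e0 : E} (h : ends e0 = (a, b) ∨ ends e0 = (b, a)) :
    1 ≤ edgeMult ends a b := by
  unfold edgeMult
  exact Finset.card_pos.mpr ⟨e0, by simp [h]⟩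

lemma pos_m (hβ : IsMultFn ends β) (hβm : ∀ i, β (f i) = m) : 0 < m := by
  have := (hβ (f 0)).1
  rw [hβm 0] at this
  exact_mod_cast this

lemma beta_gv (hβm : ∀ i, β (f i) = m) (i : ℕ) : β (gv f i) = m := by
  unfold gv
  split_ifs <;> exact hβm _

lemma alpha_gv (hα : ∀ i, mfMatrix ends β (f i) (f i) = -2) (i : ℕ) :
    mfMatrix ends β (gv f i) (gv f i) = -2 := by
  unfold gv
  split_ifs <;> exact hα _

/-- An interior vertex of the chain has exactly two neighbours, each joined by a single edge. -/
lemma interior_edgeMult (hβ : IsMultFn ends β) (hC : IsChain ends f e)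
    (hβm : ∀ i, β (f i) = m) (hα : ∀ i, mfMatrix ends β (f i) (f i) = -2)
    (j : ℕ) (h0 : 0 < j) (hj : j < m) (w : V) (hw : w ≠ gv f j) :
    (edgeMult ends (gv f j) w : ℤ) =
      (if w = gv f (j - 1) then 1 else 0) + (if w = gv f (j + 1) then 1 else 0) := by
  have hm : 0 < m := by omega
  set v := gv f j with hv
  set a := gv f (j - 1) with ha
  set b := gv f (j + 1) with hb
  have hav : a ≠ v := fun h => by
    have := gv_inj ends f e hC (by omega) (by omega) h; omega
  have hbv : b ≠ v := fun h => by
    have := gv_inj ends f e hC (by omega) (by omega) h; omega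
  have hab : a ≠ b := fun h => by
    have := gv_inj ends f e hC (by omega) (by omega) h; omega
  -- the neighbour sum is 2m
  have hT : ∑ u ∈ univ.erase v, β u * (edgeMult ends v u : ℤ) = 2 * m := by
    have h1 := mfMatrix_diag_mul ends β hβ v
    rw [alpha_gv ends β f hα j, beta_gv β f hβm j] at h1
    linarith
  have ha_mem : a ∈ univ.erase v := Finset.mem_erase.mpr ⟨hav, Finset.mem_univ _⟩
  have hb_mem : b ∈ (univ.erase v).erase a :=
    Finset.mem_erase.mpr ⟨hab.symm, Finset.mem_erase.mpr ⟨hbv, Finset.mem_univ _⟩⟩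
  rw [← Finset.add_sum_erase _ _ ha_mem, ← Finset.add_sum_erase _ _ hb_mem,
    beta_gv β f hβm (j - 1), beta_gv β f hβm (j + 1)] at hT
  have hea : 1 ≤ edgeMult ends v a := by
    have h := ge_ends ends f e hC hm (j - 1) (by omega)
    have hj1 : j - 1 + 1 = j := by omega
    rw [hj1] at h
    exact one_le_edgeMult ends h.symm
  have heb : 1 ≤ edgeMult ends v b := one_le_edgeMult ends (ge_ends ends f e hC hm j hj)
  have hrest_nonneg : ∀ u ∈ ((univ.erase v).erase a).erase b,
      0 ≤ β u * (edgeMult ends v u : ℤ) := fun u _ =>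
    mul_nonneg (hβ u).1.le (Int.natCast_nonneg _)
  have hrest := Finset.sum_nonneg hrest_nonneg
  have hmZ : (0 : ℤ) < m := by exact_mod_cast hm
  have heaZ : (1 : ℤ) ≤ edgeMult ends v a := by exact_mod_cast hea
  have hebZ : (1 : ℤ) ≤ edgeMult ends v b := by exact_mod_cast heb
  have hsum_le : (edgeMult ends v a : ℤ) + edgeMult ends v b ≤ 2 := by
    by_contra hcon
    push Not at hcon
    have : (m : ℤ) * 3 ≤ (m : ℤ) * ((edgeMult ends v a : ℤ) + edgeMult ends v b) :=
      mul_le_mul_of_nonneg_left (by omega) hmZ.le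
    nlinarith
  have hea1 : (edgeMult ends v a : ℤ) = 1 := by omega
  have heb1 : (edgeMult ends v b : ℤ) = 1 := by omega
  have hrest0 : ∑ u ∈ ((univ.erase v).erase a).erase b, β u * (edgeMult ends v u : ℤ) = 0 := by
    rw [hea1, heb1] at hT
    linarith
  by_cases hwa : w = a
  · rw [hwa, if_pos rfl, if_neg hab, hea1]; rfl
  · by_cases hwb : w = b
    · rw [hwb, if_neg hab.symm, if_pos rfl, heb1]; rfl
    · rw [if_neg hwa, if_neg hwb]
      have hw_mem : w ∈ ((univ.erase v).erase a).erase b :=
        Finset.mem_erase.mpr ⟨hwb, Finset.mem_erase.mpr ⟨hwa,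
          Finset.mem_erase.mpr ⟨hw, Finset.mem_univ _⟩⟩⟩
      have := (Finset.sum_eq_zero_iff_of_nonneg hrest_nonneg).mp hrest0 w hw_mem
      rcases mul_eq_zero.mp this with h | h
      · exact absurd h (hβ w).1.ne'
      · simpa using h

/-- The row of an interior vertex of the chain. -/
lemma interior_row (hβ : IsMultFn ends β) (hC : IsChain ends f e)
    (hβm : ∀ i, β (f i) = m) (hα : ∀ i, mfMatrix ends β (f i) (f i) = -2)
    (y : V → ℤ) (j : ℕ) (h0 : 0 < j) (hj : j < m) :
    (mfMatrix ends β).mulVec y (gv f j) =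
      y (gv f (j - 1)) - 2 * y (gv f j) + y (gv f (j + 1)) := by
  have hav : gv f (j - 1) ≠ gv f j := fun h => by
    have := gv_inj ends f e hC (by omega) (by omega) h; omega
  have hbv : gv f (j + 1) ≠ gv f j := fun h => by
    have := gv_inj ends f e hC (by omega) (by omega) h; omega
  rw [mulVec_eq, ← Finset.add_sum_erase univ _ (Finset.mem_univ (gv f j)),
    alpha_gv ends β f hα j]
  have h1 : ∀ w ∈ univ.erase (gv f j), mfMatrix ends β (gv f j) w * y w =
      (if w = gv f (j - 1) then y w else 0) + (if w = gv f (j + 1) then y w else 0) := by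
    intro w hw
    have hw' : w ≠ gv f j := Finset.ne_of_mem_erase hw
    rw [mfMatrix_off ends β hw'.symm, interior_edgeMult ends β f e hβ hC hβm hα j h0 hj w hw']
    split_ifs <;> simp <;> ring
  rw [Finset.sum_congr rfl h1, Finset.sum_add_distrib, Finset.sum_ite_eq', Finset.sum_ite_eq',
    if_pos (Finset.mem_erase.mpr ⟨hav, Finset.mem_univ _⟩),
    if_pos (Finset.mem_erase.mpr ⟨hbv, Finset.mem_univ _⟩)]
  ring

/-- The cut defined by the last edge of the chain. -/
lemma exists_cut (hC : IsChain ends f e) (hm : 0 < m) (hconn : ∀ i, IsConnecting ends (e i)) :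
    ∃ S : Finset V, gv f m ∈ S ∧ (∀ i, i < m → gv f i ∉ S) ∧
      ∀ a ∈ S, ∀ b ∉ S, edgeMult ends a b = if a = gv f m ∧ b = gv f (m - 1) then 1 else 0 := by
  obtain ⟨S0, hS0⟩ := hconn ⟨m - 1, by omega⟩
  have hlast : e ⟨m - 1, by omega⟩ = ge e hm (m - 1) := (ge_eq e hm (m - 1) (by omega)).symm
  rw [hlast] at hS0
  -- orient the cut
  obtain ⟨S, hS, hmS⟩ : ∃ S : Finset V, (∀ e' : E, ((ends e').1 ∈ S ↔ (ends e').2 ∉ S) ↔
      e' = ge e hm (m - 1)) ∧ gv f m ∈ S := by
    by_cases h : gv f m ∈ S0
    · exact ⟨S0, hS0, h⟩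
    · refine ⟨S0ᶜ, fun e' => ?_, Finset.mem_compl.mpr h⟩
      rw [← hS0 e']
      simp only [Finset.mem_compl]
      tauto
  have hcross : ∀ (e' : E) (a b : V), (ends e' = (a, b) ∨ ends e' = (b, a)) → a ∈ S → b ∉ S →
      e' = ge e hm (m - 1) := by
    intro e' a b h ha hb
    apply (hS e').mp
    rcases h with h | h <;> rw [h] <;> simp [ha, hb]
  have hlast_ends := ge_ends ends f e hC hm (m - 1) (by omega)
  have hm1 : m - 1 + 1 = m := by omega
  rw [hm1] at hlast_ends
  have hm1S : gv f (m - 1) ∉ S := by
    have h := (hS (ge e hm (m - 1))).mpr rfl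
    rcases hlast_ends with h1 | h1 <;> rw [h1] at h <;> simp only at h
    · intro h2
      exact (h.mp h2) hmS
    · exact h.mp hmS
  have hdown : ∀ k, k ≤ m - 1 → gv f (m - 1 - k) ∉ S := by
    intro k
    induction k with
    | zero => intro _; simpa using hm1S
    | succ k ih =>
      intro hk
      have ih' := ih (by omega)
      have hidx : m - 1 - (k + 1) + 1 = m - 1 - k := by omega
      have hends := ge_ends ends f e hC hm (m - 1 - (k + 1)) (by omega)
      rw [hidx] at hends
      intro hin
      have := hcross _ _ _ hends hin ih'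
      have := ge_inj ends f e hC hm (by omega) (by omega) this
      omega
  have hnot : ∀ i, i < m → gv f i ∉ S := by
    intro i hi
    have := hdown (m - 1 - i) (by omega)
    have hidx : m - 1 - (m - 1 - i) = i := by omega
    rwa [hidx] at this
  refine ⟨S, hmS, hnot, ?_⟩
  intro a ha b hb
  unfold edgeMult
  by_cases hab : a = gv f m ∧ b = gv f (m - 1)
  · rw [if_pos hab]
    have : (univ.filter fun e' : E => ends e' = (a, b) ∨ ends e' = (b, a)) =
        {ge e hm (m - 1)} := by
      ext e'
      simp only [Finset.mem_filter, Finset.mem_univ, true_and, Finset.mem_singleton]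
      constructor
      · intro h
        exact hcross e' a b h ha hb
      · rintro rfl
        rw [hab.1, hab.2]
        exact hlast_ends.symm
    rw [this, Finset.card_singleton]
  · rw [if_neg hab]
    rw [Finset.card_eq_zero, Finset.filter_eq_empty_iff]
    intro e' _ h
    have he' := hcross e' a b h ha hb
    subst he'
    apply hab
    rcases h with h | h <;> rcases hlast_ends with h1 | h1 <;> rw [h1] at h
    · have h2 : gv f (m - 1) = a := congrArg Prod.fst h
      exact absurd (h2 ▸ ha) hm1S
    · exact ⟨(congrArg Prod.fst h).symm, (congrArg Prod.snd h).symm⟩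
    · exact ⟨(congrArg Prod.snd h).symm, (congrArg Prod.fst h).symm⟩
    · have h2 : gv f (m - 1) = a := congrArg Prod.snd h
      exact absurd (h2 ▸ ha) hm1S

/-- Abel summation for second differences. -/
lemma sum_second_diff (t : ℕ → ℤ) (m : ℕ) (hm : 0 < m) :
    ∑ i ∈ Finset.Ico 1 m, (i : ℤ) * (t (i - 1) - 2 * t i + t (i + 1)) =
      t 0 - m * t (m - 1) + ((m : ℤ) - 1) * t m := by
  induction m with
  | zero => omega
  | succ n ih =>
    rcases Nat.eq_zero_or_pos n with h | h
    · subst h
      simp
    · rw [Finset.sum_Ico_succ_top (by omega), ih h]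
      have h1 : n + 1 - 1 = n := by omega
      rw [h1]
      push_cast
      ring

/-- The key vector: `α u = e_{v₀} - e_{v_m}` and `u (v_i) = i`. -/
lemma exists_u (hβ : IsMultFn ends β) (hC : IsChain ends f e)
    (hconn : ∀ i, IsConnecting ends (e i)) (hβm : ∀ i, β (f i) = m)
    (hα : ∀ i, mfMatrix ends β (f i) (f i) = -2) :
    ∃ u : V → ℤ, (∀ i, i ≤ m → u (gv f i) = i) ∧
      (mfMatrix ends β).mulVec u = Pi.single (gv f 0) 1 - Pi.single (gv f m) 1 := by
  have hm : 0 < m := pos_m ends β f hβ hβm
  obtain ⟨S, hmS, hnotS, hcut⟩ := exists_cut ends f e hC hm hconn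
  set u1 : V → ℤ := fun w => if w ∈ S then β w else 0 with hu1
  set u2 : V → ℤ := fun w => ∑ i ∈ Finset.Ico 1 m, (if gv f i = w then (i : ℤ) else 0) with hu2
  refine ⟨u1 + u2, ?_, ?_⟩
  · intro i hi
    simp only [Pi.add_apply, hu1, hu2]
    rcases Nat.lt_or_ge i m with hlt | hge
    · rw [if_neg (hnotS i hlt)]
      rcases Nat.eq_zero_or_pos i with h0 | h0
      · subst h0
        rw [zero_add, Finset.sum_eq_zero]
        · simp
        · intro j hj
          have hj' := Finset.mem_Ico.mp hj
          rw [if_neg]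
          intro h
          have := gv_inj ends f e hC (by omega) (by omega) h
          omega
      · rw [zero_add, Finset.sum_eq_single i]
        · simp
        · intro j hj hji
          have hj' := Finset.mem_Ico.mp hj
          rw [if_neg]
          intro h
          exact hji (gv_inj ends f e hC (by omega) (by omega) h)
        · intro h
          exact absurd (Finset.mem_Ico.mpr ⟨h0, hlt⟩) h
    · have him : i = m := by omega
      subst him
      rw [if_pos hmS, beta_gv β f hβm, Finset.sum_eq_zero, add_zero]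
      intro j hj
      have hj' := Finset.mem_Ico.mp hj
      rw [if_neg]
      intro h
      have := gv_inj ends f e hC (by omega) (by omega) h
      omega
  · funext v
    rw [Matrix.mulVec_add, Pi.add_apply]
    -- Part 1
    have hT1 : (mfMatrix ends β).mulVec u1 v =
        m * (if gv f (m - 1) = v then 1 else 0) - m * (if gv f m = v then 1 else 0) := by
      have h1 : (mfMatrix ends β).mulVec u1 v =
          ∑ w ∈ univ.filter (fun w => w ∈ S), mfMatrix ends β v w * β w := by
        rw [mulVec_eq, Finset.sum_filter]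
        refine Finset.sum_congr rfl fun w _ => ?_
        simp only [hu1]
        split_ifs <;> simp
      rw [h1]
      have h0 := mulVec_beta ends β hβ v
      have hm1S : gv f (m - 1) ∉ S := hnotS (m - 1) (by omega)
      by_cases hvS : v ∈ S
      · rw [mulVec_split ends β β v (fun w => w ∈ S) hvS] at h0
        have h2 : ∑ w ∈ univ.filter (fun w => ¬ w ∈ S), β w * (edgeMult ends v w : ℤ) =
            m * (if gv f m = v then 1 else 0) := by
          have h3 : ∀ w ∈ univ.filter (fun w => ¬ w ∈ S), β w * (edgeMult ends v w : ℤ) =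
              if w = gv f (m - 1) then (m : ℤ) * (if gv f m = v then 1 else 0) else 0 := by
            intro w hw
            have hwS : w ∉ S := (Finset.mem_filter.mp hw).2
            rw [hcut v hvS w hwS]
            by_cases hw1 : w = gv f (m - 1)
            · rw [if_pos hw1, hw1, beta_gv β f hβm]
              by_cases hv1 : v = gv f m
              · simp [hv1]
              · have : ¬ gv f m = v := fun h => hv1 h.symm
                simp [hv1, this]
            · rw [if_neg hw1]
              have : ¬ (v = gv f m ∧ w = gv f (m - 1)) := fun h => hw1 h.2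
              simp [this]
          rw [Finset.sum_congr rfl h3, Finset.sum_ite_eq', if_pos]
          exact Finset.mem_filter.mpr ⟨Finset.mem_univ _, hm1S⟩
        have h4 : ¬ gv f (m - 1) = v := fun h => hm1S (h ▸ hvS)
        rw [if_neg h4]
        linarith
      · rw [mulVec_split ends β β v (fun w => ¬ w ∈ S) hvS] at h0
        have h2 : ∑ w ∈ univ.filter (fun w => w ∈ S), mfMatrix ends β v w * β w =
            m * (if gv f (m - 1) = v then 1 else 0) := by
          have h3 : ∀ w ∈ univ.filter (fun w => w ∈ S), mfMatrix ends β v w * β w =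
              if w = gv f m then (m : ℤ) * (if gv f (m - 1) = v then 1 else 0) else 0 := by
            intro w hw
            have hwS : w ∈ S := (Finset.mem_filter.mp hw).2
            have hvw : v ≠ w := fun h => hvS (h ▸ hwS)
            rw [mfMatrix_off ends β hvw, edgeMult_comm, hcut w hwS v hvS]
            by_cases hw1 : w = gv f m
            · rw [if_pos hw1, hw1, beta_gv β f hβm]
              by_cases hv1 : v = gv f (m - 1)
              · simp [hv1]
              · have : ¬ gv f (m - 1) = v := fun h => hv1 h.symm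
                simp [hv1, this]
            · rw [if_neg hw1]
              have : ¬ (w = gv f m ∧ v = gv f (m - 1)) := fun h => hw1 h.1
              simp [this]
          rw [Finset.sum_congr rfl h3, Finset.sum_ite_eq', if_pos]
          exact Finset.mem_filter.mpr ⟨Finset.mem_univ _, hmS⟩
        have h4 : ¬ gv f m = v := fun h => hvS (h ▸ hmS)
        rw [h2, if_neg h4]
        ring
    -- Part 2
    have hT2 : (mfMatrix ends β).mulVec u2 v =
        (if gv f 0 = v then 1 else 0) - m * (if gv f (m - 1) = v then 1 else 0) +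
          ((m : ℤ) - 1) * (if gv f m = v then 1 else 0) := by
      have h1 : (mfMatrix ends β).mulVec u2 v =
          ∑ i ∈ Finset.Ico 1 m, (i : ℤ) * mfMatrix ends β v (gv f i) := by
        rw [mulVec_eq]
        simp only [hu2, Finset.mul_sum]
        rw [Finset.sum_comm]
        refine Finset.sum_congr rfl fun i _ => ?_
        rw [Finset.sum_eq_single (gv f i)]
        · simp [mul_comm]
        · intro w _ hw
          rw [if_neg (Ne.symm hw), mul_zero]
        · intro h; exact absurd (Finset.mem_univ _) h
      rw [h1]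
      have h2 : ∀ i ∈ Finset.Ico 1 m, (i : ℤ) * mfMatrix ends β v (gv f i) =
          (i : ℤ) * ((fun k => if gv f k = v then (1 : ℤ) else 0) (i - 1) -
            2 * (fun k => if gv f k = v then (1 : ℤ) else 0) i +
            (fun k => if gv f k = v then (1 : ℤ) else 0) (i + 1)) := by
        intro i hi
        have hi' := Finset.mem_Ico.mp hi
        have h3 := interior_row ends β f e hβ hC hβm hα (fun w => if w = v then 1 else 0) i
          (by omega) (by omega)
        rw [mulVec_eq, Finset.sum_eq_single v] at h3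
        · simp only [if_true, mul_one] at h3
          rw [mfMatrix_symm, h3]
        · intro w _ hw
          rw [if_neg hw, mul_zero]
        · intro h; exact absurd (Finset.mem_univ _) h
      rw [Finset.sum_congr rfl h2]
      exact sum_second_diff (fun k => if gv f k = v then (1 : ℤ) else 0) m hm
    rw [hT1, hT2]
    simp only [Pi.sub_apply, Pi.single_apply]
    have e1 : (v = gv f 0) = (gv f 0 = v) := propext eq_comm
    have e2 : (v = gv f m) = (gv f m = v) := propext eq_comm
    simp only [e1, e2]
    ring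

/-- Adjacency of two chain vertices. -/
lemma chain_adj (hβ : IsMultFn ends β) (hC : IsChain ends f e)
    (hconn : ∀ i, IsConnecting ends (e i)) (hβm : ∀ i, β (f i) = m)
    (hα : ∀ i, mfMatrix ends β (f i) (f i) = -2) (a b : ℕ) (hab : a < b) (hb : b ≤ m) :
    (edgeMult ends (gv f b) (gv f a) : ℤ) = if b = a + 1 then 1 else 0 := by
  have hm : 0 < m := pos_m ends β f hβ hβm
  have hne : gv f a ≠ gv f b := fun h => by
    have := gv_inj ends f e hC (by omega) hb h; omega
  rcases Nat.lt_or_ge b m with hbm | hbm
  · rw [interior_edgeMult ends β f e hβ hC hβm hα b (by omega) hbm (gv f a) hne]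
    have h2 : ¬ gv f a = gv f (b + 1) := fun h => by
      have := gv_inj ends f e hC (by omega) (by omega) h; omega
    rw [if_neg h2, add_zero]
    by_cases h1 : b = a + 1
    · rw [if_pos h1, if_pos]
      rw [h1]; simp
    · rw [if_neg h1, if_neg]
      intro h
      have := gv_inj ends f e hC (by omega) (by omega) h
      omega
  · have hbm' : b = m := by omega
    rw [hbm']
    rcases Nat.eq_zero_or_pos a with ha | ha
    · subst ha
      obtain ⟨S, hmS, hnotS, hcut⟩ := exists_cut ends f e hC hm hconn
      rw [hcut (gv f m) hmS (gv f 0) (hnotS 0 hm)]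
      by_cases h1 : m = 0 + 1
      · have : m - 1 = 0 := by omega
        rw [if_pos h1, this, if_pos ⟨rfl, rfl⟩]; rfl
      · rw [if_neg h1, if_neg]
        · rfl
        · rintro ⟨_, h⟩
          have := gv_inj ends f e hC (by omega) (by omega) h
          omega
    · rw [hbm'] at hne
      rw [edgeMult_comm, interior_edgeMult ends β f e hβ hC hβm hα a ha (by omega) (gv f m)
        hne.symm]
      have h2 : ¬ gv f m = gv f (a - 1) := fun h => by
        have := gv_inj ends f e hC (by omega) (by omega) h; omega
      rw [if_neg h2, zero_add]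
      by_cases h1 : m = a + 1
      · rw [if_pos h1, if_pos]
        exact congrArg (gv f) h1
      · rw [if_neg h1, if_neg]
        intro h
        have := gv_inj ends f e hC (by omega) (by omega) h
        omega

end ChainGraph

/-! ### `liftAt` and `pushV` for the contraction of a chain -/

section Lift

variable (ends : E → V × V) {m : ℕ} (f : Fin (m + 1) → V) (e : Fin m → E)

/-- `liftAt` as a linear map. -/
noncomputable def liftLin (D : Finset E) (v₀ : V) : (CtrVert ends D → ℤ) →ₗ[ℤ] (V → ℤ) where
  toFun := liftAt ends D v₀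
  map_add' x y := by
    funext v
    unfold liftAt
    simp only [Pi.add_apply]
    split_ifs <;> simp
  map_smul' a x := by
    funext v
    unfold liftAt
    simp only [Pi.smul_apply, RingHom.id_apply]
    split_ifs <;> simp

lemma liftLin_apply (D : Finset E) (v₀ : V) (x : CtrVert ends D → ℤ) :
    liftLin ends D v₀ x = liftAt ends D v₀ x := rfl

lemma liftAt_chain (hC : IsChain ends f e) (x : CtrVert ends (univ.image e) → ℤ) {v : V}
    (hv : v ∈ Set.range f) (hv0 : v ≠ f 0) : liftAt ends (univ.image e) (f 0) x v = 0 := by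
  unfold liftAt
  rw [if_pos ⟨(ctrMk_eq_zero_iff ends f e hC v).mpr hv, hv0⟩]

lemma liftAt_zero (x : CtrVert ends (univ.image e) → ℤ) :
    liftAt ends (univ.image e) (f 0) x (f 0) = x (ctrMk ends (univ.image e) (f 0)) := by
  unfold liftAt
  rw [if_neg (fun h => h.2 rfl)]

lemma liftAt_off (hC : IsChain ends f e) (x : CtrVert ends (univ.image e) → ℤ) {v : V}
    (hv : v ∉ Set.range f) :
    liftAt ends (univ.image e) (f 0) x v = x (ctrMk ends (univ.image e) v) := by
  unfold liftAt
  rw [if_neg (fun h => hv ((ctrMk_eq_zero_iff ends f e hC v).mp h.1))]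

lemma pushV_apply (D : Finset E) (w : V → ℤ) (c : CtrVert ends D) :
    pushV ends D w c = ∑ v ∈ univ.filter (fun v => ctrMk ends D v = c), w v := rfl

lemma fiber_off (hC : IsChain ends f e) {v0 : V} (hv : v0 ∉ Set.range f) :
    univ.filter (fun v => ctrMk ends (univ.image e) v = ctrMk ends (univ.image e) v0) = {v0} := by
  ext v
  simp only [Finset.mem_filter, Finset.mem_univ, true_and, Finset.mem_singleton]
  rw [ctrMk_eq_iff ends f e hC]
  constructor
  · rintro (h | h)
    · exact h
    · exact absurd h.2 hv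
  · intro h; exact Or.inl h

lemma fiber_zero (hC : IsChain ends f e) :
    univ.filter (fun v => ctrMk ends (univ.image e) v = ctrMk ends (univ.image e) (f 0)) =
      univ.image f := by
  ext v
  simp only [Finset.mem_filter, Finset.mem_univ, true_and, Finset.mem_image]
  rw [ctrMk_eq_zero_iff ends f e hC]
  rfl

lemma pushV_liftAt (hC : IsChain ends f e) (x : CtrVert ends (univ.image e) → ℤ) :
    pushV ends (univ.image e) (liftAt ends (univ.image e) (f 0) x) = x := by
  funext c
  obtain ⟨v0, rfl⟩ := ctrMk_surjective ends (univ.image e) c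
  rw [pushV_apply]
  by_cases h : v0 ∈ Set.range f
  · have h' := (ctrMk_eq_zero_iff ends f e hC v0).mpr h
    rw [h', fiber_zero ends f e hC, Finset.sum_eq_single (f 0)]
    · exact liftAt_zero ends f e x
    · intro v hv hv0
      obtain ⟨i, _, rfl⟩ := Finset.mem_image.mp hv
      exact liftAt_chain ends f e hC x ⟨i, rfl⟩ hv0
    · intro h0
      exact absurd (Finset.mem_image_of_mem f (Finset.mem_univ 0)) h0
  · rw [fiber_off ends f e hC h, Finset.sum_singleton, liftAt_off ends f e hC x h]

lemma liftAt_pushV (hC : IsChain ends f e) (w : V → ℤ) (hw : ∀ i : Fin (m + 1), i ≠ 0 → w (f i) = 0) :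
    liftAt ends (univ.image e) (f 0) (pushV ends (univ.image e) w) = w := by
  funext v
  by_cases h : v ∈ Set.range f
  · by_cases h0 : v = f 0
    · subst h0
      rw [liftAt_zero, pushV_apply, fiber_zero ends f e hC, Finset.sum_eq_single (f 0)]
      · intro v hv hv0
        obtain ⟨i, _, rfl⟩ := Finset.mem_image.mp hv
        exact hw i (fun hi => hv0 (hi ▸ rfl))
      · intro h0
        exact absurd (Finset.mem_image_of_mem f (Finset.mem_univ 0)) h0
    · rw [liftAt_chain ends f e hC _ h h0]
      obtain ⟨i, rfl⟩ := h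
      exact (hw i (fun hi => h0 (hi ▸ rfl))).symm
  · rw [liftAt_off ends f e hC _ h, pushV_apply, fiber_off ends f e hC h, Finset.sum_singleton]

lemma pushV_single (D : Finset E) (v : V) (a : ℤ) :
    pushV ends D (Pi.single v a) = Pi.single (ctrMk ends D v) a := by
  funext c
  rw [pushV_apply]
  by_cases h : ctrMk ends D v = c
  · subst h
    rw [Pi.single_eq_same, Finset.sum_eq_single v]
    · exact Pi.single_eq_same _ _
    · intro b _ hb
      exact Pi.single_eq_of_ne hb _
    · intro h0
      exact (h0 (Finset.mem_filter.mpr ⟨Finset.mem_univ v, rfl⟩)).elim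
  · rw [Pi.single_eq_of_ne (Ne.symm h)]
    refine Finset.sum_eq_zero fun b hb => ?_
    have hb' : ctrMk ends D b = c := (Finset.mem_filter.mp hb).2
    exact Pi.single_eq_of_ne (fun hbv => h (by rw [← hbv]; exact hb')) _

lemma betaHom_pushV (D : Finset E) (β : V → ℤ)
    (hconst : ∀ v, ctrFn ends D β (ctrMk ends D v) = β v) (w : V → ℤ) :
    betaHom (ctrFn ends D β) (pushV ends D w) = betaHom β w := by
  unfold betaHom
  rw [Fintype.linearCombination_apply, Fintype.linearCombination_apply]
  simp only [pushV_apply, smul_eq_mul, Finset.sum_mul]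
  rw [← Finset.sum_fiberwise univ (fun v => ctrMk ends D v) (fun v => w v * β v)]
  refine Finset.sum_congr rfl fun c _ => ?_
  refine Finset.sum_congr rfl fun v hv => ?_
  rw [← (Finset.mem_filter.mp hv).2, hconst]

end Lift

/-! ### Main results on the contraction of a chain -/

section Main

variable (ends : E → V × V) (β : V → ℤ) {m : ℕ} (f : Fin (m + 1) → V) (e : Fin m → E)

lemma mulVec_single_one (M : Matrix V V ℤ) (b v : V) :
    M.mulVec (Pi.single b 1) v = M v b := by
  rw [mulVec_eq, Finset.sum_eq_single b]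
  · simp
  · intro w _ hw
    rw [Pi.single_eq_of_ne hw, mul_zero]
  · intro h; exact absurd (Finset.mem_univ _) h

lemma betaHom_mulVec (hβ : IsMultFn ends β) (z : V → ℤ) :
    betaHom β ((mfMatrix ends β).mulVec z) = 0 := by
  unfold betaHom
  rw [Fintype.linearCombination_apply]
  simp only [mulVec_eq, smul_eq_mul, Finset.sum_mul]
  rw [Finset.sum_comm]
  refine Finset.sum_eq_zero fun w _ => ?_
  have h := mulVec_beta ends β hβ w
  rw [mulVec_eq] at h
  have h2 : ∑ v, mfMatrix ends β v w * z w * β v = z w * ∑ v, mfMatrix ends β w v * β v := by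
    rw [Finset.mul_sum]
    refine Finset.sum_congr rfl fun v _ => ?_
    rw [mfMatrix_symm ends β v w]
    ring
  rw [h2, h, mul_zero]

lemma hconst_of (hC : IsChain ends f e) (hβm : ∀ i, β (f i) = m) (v : V) :
    ctrFn ends (univ.image e) β (ctrMk ends (univ.image e) v) = β v :=
  ctrFn_ctrMk ends f e hC β (fun i j => by rw [hβm, hβm]) v

/-- Well-definedness: `liftAt` carries `im α'` into `im α`. -/
lemma liftAt_mulVec_mem (hβ : IsMultFn ends β) (hC : IsChain ends f e)
    (hconn : ∀ i, IsConnecting ends (e i)) (hβm : ∀ i, β (f i) = m)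
    (hα : ∀ i, mfMatrix ends β (f i) (f i) = -2) (y' : CtrVert ends (univ.image e) → ℤ) :
    ∃ y : V → ℤ, (mfMatrix ends β).mulVec y =
      liftAt ends (univ.image e) (f 0)
        ((mfMatrix (ctrEnds ends (univ.image e)) (ctrFn ends (univ.image e) β)).mulVec y') := by
  have hm : 0 < m := pos_m ends β f hβ hβm
  have hconst := hconst_of ends β f e hC hβm
  obtain ⟨u, hu, hαu⟩ := exists_u ends β f e hβ hC hconn hβm hα
  set z : V → ℤ := fun v => y' (ctrMk ends (univ.image e) v) with hz_def
  set w := (mfMatrix ends β).mulVec z with hw_def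
  have hP : pushV ends (univ.image e) w = _ := pushV_mulVec ends β hβ (univ.image e) hconst y'
  have hz : ∀ i, i ≤ m → z (gv f i) = y' (ctrMk ends (univ.image e) (f 0)) := by
    intro i hi
    simp only [hz_def]
    rw [gv_eq f i (by omega), ctrMk_chain ends f e hC]
  have hint : ∀ j, 0 < j → j < m → w (gv f j) = 0 := by
    intro j h0 hj
    rw [hw_def, interior_row ends β f e hβ hC hβm hα z j h0 hj, hz (j - 1) (by omega),
      hz j (by omega), hz (j + 1) (by omega)]
    ring
  refine ⟨z + w (gv f m) • u, ?_⟩
  rw [← hP]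
  set w₂ : V → ℤ := w + w (gv f m) • (Pi.single (gv f 0) 1 - Pi.single (gv f m) 1) with hw₂
  have h1 : (mfMatrix ends β).mulVec (z + w (gv f m) • u) = w₂ := by
    rw [Matrix.mulVec_add, Matrix.mulVec_smul, hαu]
  have h2 : pushV ends (univ.image e) w₂ = pushV ends (univ.image e) w := by
    rw [hw₂, map_add, map_smul, map_sub, pushV_single, pushV_single, gv_zero,
      gv_eq f m (by omega), ctrMk_chain ends f e hC ⟨m, by omega⟩, sub_self, smul_zero, add_zero]
  have h3 : ∀ i : Fin (m + 1), i ≠ 0 → w₂ (f i) = 0 := by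
    intro i hi
    have hival : 0 < i.val := Nat.pos_of_ne_zero (fun h => hi (Fin.ext h))
    have hile : i.val ≤ m := by have := i.isLt; omega
    rw [← gv_fin f i]
    have hne0 : gv f i.val ≠ gv f 0 := fun h => by
      have := gv_inj ends f e hC hile (by omega) h; omega
    simp only [hw₂, Pi.add_apply, Pi.smul_apply, Pi.sub_apply, smul_eq_mul]
    rw [Pi.single_eq_of_ne hne0]
    rcases Nat.lt_or_ge i.val m with hlt | hge
    · have hnem : gv f i.val ≠ gv f m := fun h => by
        have := gv_inj ends f e hC hile (by omega) h; omega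
      rw [Pi.single_eq_of_ne hnem, hint i.val hival hlt]
      ring
    · have : i.val = m := by omega
      rw [this, Pi.single_eq_same]
      ring
  rw [h1, ← h2, liftAt_pushV ends f e hC w₂ h3]

/-- Injectivity: if `liftAt x ∈ im α` then `x ∈ im α'`. -/
lemma mem_range_of_liftAt_eq (hβ : IsMultFn ends β) (hC : IsChain ends f e)
    (hconn : ∀ i, IsConnecting ends (e i)) (hβm : ∀ i, β (f i) = m)
    (hα : ∀ i, mfMatrix ends β (f i) (f i) = -2) (x : CtrVert ends (univ.image e) → ℤ)
    (y : V → ℤ) (h : (mfMatrix ends β).mulVec y = liftAt ends (univ.image e) (f 0) x) :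
    ∃ y' : CtrVert ends (univ.image e) → ℤ,
      (mfMatrix (ctrEnds ends (univ.image e)) (ctrFn ends (univ.image e) β)).mulVec y' = x := by
  have hm : 0 < m := pos_m ends β f hβ hβm
  have hconst := hconst_of ends β f e hC hβm
  obtain ⟨u, hu, hαu⟩ := exists_u ends β f e hβ hC hconn hβm hα
  set t : ℕ → ℤ := fun i => y (gv f i) with ht_def
  have hrow : ∀ j, 0 < j → j < m → t (j - 1) - 2 * t j + t (j + 1) = 0 := by
    intro j h0 hj
    have h1 := interior_row ends β f e hβ hC hβm hα y j h0 hj
    rw [h] at h1
    have hne0 : gv f j ≠ f 0 := fun h' => by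
      rw [← gv_zero f] at h'
      have := gv_inj ends f e hC (by omega) (by omega) h'; omega
    rw [liftAt_chain ends f e hC x ((mem_range_iff f _).mpr ⟨j, by omega, rfl⟩) hne0] at h1
    exact h1.symm
  set c : ℤ := t 1 - t 0 with hc_def
  have ht : ∀ i, i + 1 ≤ m → t i = t 0 + i * c ∧ t (i + 1) = t 0 + (i + 1 : ℕ) * c := by
    intro i
    induction i with
    | zero =>
      intro _
      refine ⟨by simp, ?_⟩
      simp only [hc_def]
      push_cast
      ring
    | succ i ih =>
      intro hi
      obtain ⟨h1, h2⟩ := ih (by omega)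
      refine ⟨h2, ?_⟩
      have h3 := hrow (i + 1) (by omega) (by omega)
      have hidx : i + 1 - 1 = i := by omega
      rw [hidx] at h3
      have h4 : t (i + 1 + 1) = 2 * t (i + 1) - t i := by linarith
      rw [h4, h2, h1]
      push_cast
      ring
  have ht' : ∀ i, i ≤ m → t i = t 0 + i * c := by
    intro i hi
    rcases Nat.eq_zero_or_pos i with h0 | h0
    · subst h0; simp
    · have := (ht (i - 1) (by omega)).2
      have hidx : i - 1 + 1 = i := by omega
      rw [hidx] at this
      exact this
  set z : V → ℤ := y - c • u with hz_def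
  have hz : ∀ i, i ≤ m → z (gv f i) = t 0 := by
    intro i hi
    simp only [hz_def, Pi.sub_apply, Pi.smul_apply, smul_eq_mul]
    rw [hu i hi]
    have := ht' i hi
    simp only [ht_def] at this
    rw [this]
    simp only [ht_def]
    ring
  set y' : CtrVert ends (univ.image e) → ℤ :=
    fun c' => z (Quotient.out (s := ctrSetoid ends (univ.image e)) c') with hy'_def
  have hzy : z = fun v => y' (ctrMk ends (univ.image e) v) := by
    funext v
    simp only [hy'_def]
    have h1 : ctrMk ends (univ.image e) (Quotient.out (s := ctrSetoid ends (univ.image e))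
        (ctrMk ends (univ.image e) v)) = ctrMk ends (univ.image e) v := Quotient.out_eq _
    rcases (ctrMk_eq_iff ends f e hC _ _).mp h1 with h2 | ⟨h2, h3⟩
    · rw [h2]
    · obtain ⟨i, hi, hi'⟩ := (mem_range_iff f _).mp h2
      obtain ⟨j, hj, hj'⟩ := (mem_range_iff f _).mp h3
      rw [← hi', ← hj', hz i hi, hz j hj]
  refine ⟨y', ?_⟩
  rw [← pushV_mulVec ends β hβ (univ.image e) hconst y', ← hzy, hz_def, Matrix.mulVec_sub,
    Matrix.mulVec_smul, hαu, h, map_sub, map_smul, map_sub, pushV_single, pushV_single, gv_zero,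
    gv_eq f m (by omega), ctrMk_chain ends f e hC ⟨m, by omega⟩, sub_self, smul_zero, sub_zero,
    pushV_liftAt ends f e hC]

/-- One can kill the coordinates at `v₁, …, v_m` by adding an element of `im α`. -/
lemma exists_kill (hβ : IsMultFn ends β) (hC : IsChain ends f e)
    (hconn : ∀ i, IsConnecting ends (e i)) (hβm : ∀ i, β (f i) = m)
    (hα : ∀ i, mfMatrix ends β (f i) (f i) = -2) (y : V → ℤ) :
    ∃ z' : V → ℤ, ∀ i : Fin (m + 1), i ≠ 0 → (y + (mfMatrix ends β).mulVec z') (f i) = 0 := by
  have hm : 0 < m := pos_m ends β f hβ hβm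
  have hclaim : ∀ k, k ≤ m → ∃ z' : V → ℤ, ∀ i, m - k < i → i ≤ m →
      (y + (mfMatrix ends β).mulVec z') (gv f i) = 0 := by
    intro k
    induction k with
    | zero =>
      intro _
      exact ⟨0, fun i h1 h2 => by omega⟩
    | succ k ih =>
      intro hk
      obtain ⟨z', hz'⟩ := ih (by omega)
      set j := m - k with hj
      have hj1 : 1 ≤ j := by omega
      set a := (y + (mfMatrix ends β).mulVec z') (gv f j) with ha
      refine ⟨z' - a • Pi.single (gv f (j - 1)) 1, ?_⟩
      intro i hi1 hi2
      have hij : j ≤ i := by omega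
      have hexp : (y + (mfMatrix ends β).mulVec (z' - a • Pi.single (gv f (j - 1)) 1)) (gv f i) =
          (y + (mfMatrix ends β).mulVec z') (gv f i) -
            a * mfMatrix ends β (gv f i) (gv f (j - 1)) := by
        rw [Matrix.mulVec_sub, Matrix.mulVec_smul]
        simp only [Pi.add_apply, Pi.sub_apply, Pi.smul_apply, smul_eq_mul, mulVec_single_one]
        ring
      rw [hexp]
      have hne : gv f i ≠ gv f (j - 1) := fun h => by
        have := gv_inj ends f e hC hi2 (by omega) h; omega
      rw [mfMatrix_off ends β hne,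
        chain_adj ends β f e hβ hC hconn hβm hα (j - 1) i (by omega) hi2]
      rcases Nat.eq_or_lt_of_le hij with h1 | h1
      · rw [← h1, if_pos (by omega)]
        ring
      · rw [hz' i (by omega) hi2, if_neg (by omega)]
        ring
  obtain ⟨z', hz'⟩ := hclaim m le_rfl
  refine ⟨z', fun i hi => ?_⟩
  have hival : 0 < i.val := Nat.pos_of_ne_zero (fun h => hi (Fin.ext h))
  have hile : i.val ≤ m := by have := i.isLt; omega
  rw [← gv_fin f i]
  exact hz' i.val (by omega) hile

/-- Surjectivity: every element of `ker β` is congruent modulo `im α` to a lift. -/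
lemma exists_lift (hβ : IsMultFn ends β) (hC : IsChain ends f e)
    (hconn : ∀ i, IsConnecting ends (e i)) (hβm : ∀ i, β (f i) = m)
    (hα : ∀ i, mfMatrix ends β (f i) (f i) = -2) (y : V → ℤ) (hy : betaHom β y = 0) :
    ∃ x : CtrVert ends (univ.image e) → ℤ, betaHom (ctrFn ends (univ.image e) β) x = 0 ∧
      ∃ z' : V → ℤ, liftAt ends (univ.image e) (f 0) x = y + (mfMatrix ends β).mulVec z' := by
  have hconst := hconst_of ends β f e hC hβm
  obtain ⟨z', hz'⟩ := exists_kill ends β f e hβ hC hconn hβm hα y
  refine ⟨pushV ends (univ.image e) (y + (mfMatrix ends β).mulVec z'), ?_, z', ?_⟩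
  · rw [betaHom_pushV ends (univ.image e) β hconst, map_add, hy, betaHom_mulVec ends β hβ,
      add_zero]
  · exact liftAt_pushV ends f e hC _ hz'

/-- `liftAt` is compatible with the linear forms. -/
lemma betaHom_liftAt (hC : IsChain ends f e) (hβm : ∀ i, β (f i) = m)
    (x : CtrVert ends (univ.image e) → ℤ) :
    betaHom β (liftAt ends (univ.image e) (f 0) x) = betaHom (ctrFn ends (univ.image e) β) x := by
  rw [← betaHom_pushV ends (univ.image e) β (hconst_of ends β f e hC hβm),
    pushV_liftAt ends f e hC]

end Main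

end Groth.Agent.Lib.Helper75.ChainContract

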