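import Mathlib
import Groth.Prelude

/-!
# Morphisms from an integral proper scheme over an algebraically closed field to an affine scheme
are constant.
-/

set_option autoImplicit false
universe u
open CategoryTheory AlgebraicGeometry

namespace Groth.Agent.Lib.Helper75.ConstAffine

/-- global functions on an integral universally closed scheme over an algebraically closed field
are constants. -/
theorem appTop_surjective (k : Type u) [Field k] [IsAlgClosed k] {X : Scheme.{u}}
    (f : X ⟶ Spec (CommRingCat.of k)) [IsIntegral X] [UniversallyClosed f] :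
    Function.Surjective f.appTop := by
  let F := (Scheme.ΓSpecIso (CommRingCat.of k)).inv ≫ f.appTop
  have hF : F.hom.IsIntegral := by
    apply RingHom.isIntegral_respectsIso.2
      (e := (Scheme.ΓSpecIso (CommRingCat.of k)).symm.commRingCatIsoToRingEquiv)
    exact isIntegral_appTop_of_universallyClosed f
  have hbij := IsAlgClosed.ringHom_bijective_of_isIntegral (k := k) F.hom hF
  intro s
  obtain ⟨c, hc⟩ := hbij.2 s
  exact ⟨(Scheme.ΓSpecIso (CommRingCat.of k)).inv c, hc⟩

theorem eq_comp_of_isAffine (k : Type u) [Field k] [IsAlgClosed k] {X Z : Scheme.{u}}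
    (f : X ⟶ Spec (CommRingCat.of k)) (σ : Spec (CommRingCat.of k) ⟶ X) (hσ : σ ≫ f = 𝟙 _)
    [IsIntegral X] [UniversallyClosed f] [IsAffine Z] (φ : X ⟶ Z) : φ = f ≫ σ ≫ φ := by
  apply ext_of_isAffine
  ext a
  rw [Scheme.Hom.comp_appTop, Scheme.Hom.comp_appTop]
  obtain ⟨c, hc⟩ := appTop_surjective k f (φ.appTop a)
  have h1 : σ.appTop (f.appTop c) = c := by
    have := congrArg (fun g => g.appTop c) hσ
    simp only [Scheme.Hom.comp_appTop] at this
    rw [CommRingCat.comp_apply] at this
    rw [this]
    simp
  change φ.appTop a = f.appTop (σ.appTop (φ.appTop a))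
  rw [← hc, h1]

end Groth.Agent.Lib.Helper75.ConstAffine
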