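import Mathlib
import Groth.Agent.Lib.Helper89.Crimp

/-!
# Crimps of double covers (helper75)

`B` an `R`-algebra with basis `{1, w}`, `w * w = c`.  Subalgebras of full rank over a DVR `R`.
-/

set_option autoImplicit false
set_option linter.unusedSectionVars false
universe u v

namespace Groth.Agent.Lib.Helper75.CrimpDouble
open Groth.Agent.Lib.Helper89

section Discr
variable {R : Type*} [CommRing R] {B : Type*} [CommRing B] [Algebra R B]

/-- discriminant of a basis `{1, w}` with `w * w = c` -/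
theorem discr_one_w (bt : Module.Basis (Fin 2) R B) (w : B) (c : R) (h0 : bt 0 = 1)
    (h1 : bt 1 = w) (hw : w * w = algebraMap R B c) : Algebra.discr R bt = 4 * c := by
  have r1 : bt.repr w = Finsupp.single 1 1 := by rw [← h1, bt.repr_self]
  have rc : ∀ r : R, bt.repr (algebraMap R B r) = Finsupp.single 0 r := by
    intro r
    rw [Algebra.algebraMap_eq_smul_one, ← h0, map_smul, bt.repr_self, Finsupp.smul_single,
      smul_eq_mul, mul_one]
  have t1 : ∀ r : R, Algebra.trace R B (algebraMap R B r) = 2 * r := by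
    intro r
    rw [Algebra.trace_algebraMap_of_basis bt, Fintype.card_fin, nsmul_eq_mul]
    norm_num
  have tw : Algebra.trace R B w = 0 := by
    rw [Algebra.trace_eq_matrix_trace bt, Matrix.trace_fin_two, Algebra.leftMulMatrix_eq_repr_mul,
      Algebra.leftMulMatrix_eq_repr_mul, h0, h1, mul_one, hw, r1, rc]
    simp
  rw [Algebra.discr_def, Matrix.det_fin_two]
  simp only [Algebra.traceMatrix_apply, Algebra.traceForm_apply, h0, h1, mul_one, one_mul, hw, tw]
  have := t1 1
  rw [map_one] at this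
  rw [this, t1]
  ring

end Discr


section Structure
variable {R : Type*} [CommRing R] [IsDomain R] {B : Type*} [CommRing B] [Algebra R B]
  (bt : Module.Basis (Fin 2) R B) (w : B) (c : R)

include bt in
theorem repr_decomp (h0 : bt 0 = 1) (h1 : bt 1 = w) (s : B) :
    s = bt.repr s 0 • (1 : B) + bt.repr s 1 • w := by
  conv_lhs => rw [← bt.sum_repr s, Fin.sum_univ_two, h0, h1]

theorem repr_one (h0 : bt 0 = 1) : bt.repr (1 : B) = Finsupp.single 0 1 := by
  rw [← h0, bt.repr_self]

theorem repr_w (h1 : bt 1 = w) : bt.repr w = Finsupp.single 1 1 := by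
  rw [← h1, bt.repr_self]

/-- membership in a subalgebra of the given shape -/
theorem mem_shape_iff (h0 : bt 0 = 1) (h1 : bt 1 = w) (a : R) (s : B) :
    s ∈ Submodule.span R {(1 : B)} ⊔ Ideal.span {a} • (⊤ : Submodule R B) ↔ a ∣ bt.repr s 1 := by
  rw [Submodule.ideal_span_singleton_smul]
  constructor
  · intro hs
    obtain ⟨x, hx, z, hz, rfl⟩ := Submodule.mem_sup.mp hs
    obtain ⟨r, rfl⟩ := Submodule.mem_span_singleton.mp hx
    obtain ⟨y, -, rfl⟩ := (Submodule.mem_smul_pointwise_iff_exists _ _ _).mp hz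
    refine ⟨bt.repr y 1, ?_⟩
    rw [map_add, map_smul, map_smul, repr_one bt h0]
    simp
  · rintro ⟨r, hr⟩
    rw [repr_decomp bt w h0 h1 s, hr, mul_smul]
    refine Submodule.add_mem_sup (Submodule.smul_mem _ _ (Submodule.mem_span_singleton_self _)) ?_
    exact Submodule.smul_mem_pointwise_smul _ _ _ Submodule.mem_top

/-- the basis `{1, a • w}` of a subalgebra of the given shape, and its discriminant -/
theorem exists_basis_of_shape (h0 : bt 0 = 1) (h1 : bt 1 = w) (hw : w * w = algebraMap R B c)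
    (S : Subalgebra R B) (a : R) (ha : a ≠ 0)
    (hS : Subalgebra.toSubmodule S =
      Submodule.span R {(1 : B)} ⊔ Ideal.span {a} • (⊤ : Submodule R B)) :
    ∃ bS : Module.Basis (Fin 2) R S, ((bS 0 : S) : B) = 1 ∧ ((bS 1 : S) : B) = a • w ∧
      Algebra.discr R bS = a ^ 2 * (4 * c) := by
  have hmem : ∀ s : B, s ∈ S ↔ a ∣ bt.repr s 1 := by
    intro s
    rw [← mem_shape_iff bt w h0 h1 a s, ← hS]
    rfl
  have haw : a • w ∈ S := by
    rw [hmem, map_smul, repr_w bt w h1]
    simp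
  let v : Fin 2 → S := ![⟨1, S.one_mem⟩, ⟨a • w, haw⟩]
  have hli : LinearIndependent R v := by
    rw [Fintype.linearIndependent_iff]
    intro g hg
    have hg' := congrArg (fun s : S => bt.repr (s : B)) hg
    simp only [Fin.sum_univ_two, v, Matrix.cons_val_zero, Matrix.cons_val_one,
      Subalgebra.coe_add, Subalgebra.coe_smul, Subalgebra.coe_zero, map_add,
      map_smul, map_zero, repr_one bt h0, repr_w bt w h1] at hg'
    have e0 := DFunLike.congr_fun hg' 0
    have e1 := DFunLike.congr_fun hg' 1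
    simp at e0 e1
    intro i
    fin_cases i
    · exact e0
    · rcases e1 with e1 | e1
      · exact e1
      · exact absurd e1 ha
  have hsp : ⊤ ≤ Submodule.span R (Set.range v) := by
    rintro ⟨s, hs⟩ -
    obtain ⟨r, hr⟩ := (hmem s).mp hs
    have : (⟨s, hs⟩ : S) = bt.repr s 0 • v 0 + r • v 1 := by
      apply Subtype.ext
      simp only [v, Matrix.cons_val_zero, Matrix.cons_val_one, Subalgebra.coe_add,
        Subalgebra.coe_smul]
      conv_lhs => rw [repr_decomp bt w h0 h1 s, hr]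
      rw [smul_smul, mul_comm]
    rw [this]
    exact Submodule.add_mem _ (Submodule.smul_mem _ _ (Submodule.subset_span ⟨0, rfl⟩))
      (Submodule.smul_mem _ _ (Submodule.subset_span ⟨1, rfl⟩))
  let bS : Module.Basis (Fin 2) R S := Module.Basis.mk hli hsp
  have hb0 : bS 0 = v 0 := Module.Basis.mk_apply hli hsp 0
  have hb1 : bS 1 = v 1 := Module.Basis.mk_apply hli hsp 1
  refine ⟨bS, by rw [hb0]; rfl, by rw [hb1]; rfl, ?_⟩
  rw [discr_subalgebra S bS bt, discr_one_w bt w c h0 h1 hw]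
  congr 2
  rw [Matrix.det_fin_two]
  simp only [LinearMap.toMatrix_apply, hb0, hb1]
  have e0 : (S.val.toLinearMap (v 0) : B) = 1 := rfl
  have e1 : (S.val.toLinearMap (v 1) : B) = a • w := rfl
  rw [e0, e1, map_smul, repr_one bt h0, repr_w bt w h1]
  simp


/-- a subalgebra with a basis of size 2 has the shape `R·1 + ϖ^n B` -/
theorem shape_of_basis (h0 : bt 0 = 1) (h1 : bt 1 = w) (ϖ : R)
    (hideal : ∀ J : Ideal R, J ≠ ⊥ → ∃ n : ℕ, J = Ideal.span {ϖ ^ n})
    (S : Subalgebra R B) (bS : Module.Basis (Fin 2) R S) :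
    ∃ n : ℕ, Subalgebra.toSubmodule S =
      Submodule.span R {(1 : B)} ⊔ Ideal.span {ϖ ^ n} • (⊤ : Submodule R B) := by
  let J : Ideal R := (Subalgebra.toSubmodule S).comap (LinearMap.toSpanSingleton R B w)
  have hJ : ∀ r : R, r ∈ J ↔ r • w ∈ S := fun r => Iff.rfl
  have hrepr : ∀ s ∈ S, bt.repr s 1 ∈ J := by
    intro s hs
    rw [hJ]
    have e := repr_decomp bt w h0 h1 s
    have : bt.repr s 1 • w = s - bt.repr s 0 • (1 : B) := by
      rw [eq_sub_iff_add_eq, add_comm]; exact e.symm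
    rw [this]
    exact S.sub_mem hs (S.smul_mem S.one_mem _)
  have hJne : J ≠ ⊥ := by
    intro hbot
    have hdet := toMatrix_det_ne_zero_of_injective bS bt S.val.toLinearMap Subtype.val_injective
    apply hdet
    apply Matrix.det_eq_zero_of_row_eq_zero 1
    intro j
    rw [LinearMap.toMatrix_apply]
    have := hrepr (bS j : B) (bS j).2
    rw [hbot] at this
    exact this
  obtain ⟨n, hn⟩ := hideal J hJne
  refine ⟨n, ?_⟩
  ext s
  rw [mem_shape_iff bt w h0 h1 (ϖ ^ n) s]
  constructor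
  · intro hs
    have := hrepr s hs
    rw [hn] at this
    exact Ideal.mem_span_singleton.mp this
  · intro hs
    have hmemJ : bt.repr s 1 ∈ J := by rw [hn]; exact Ideal.mem_span_singleton.mpr hs
    rw [hJ] at hmemJ
    change s ∈ S
    rw [repr_decomp bt w h0 h1 s]
    exact S.add_mem (S.smul_mem S.one_mem _) hmemJ

/-- classification of crimps: discriminant ideals -/
theorem crimp_iff (h0 : bt 0 = 1) (h1 : bt 1 = w) (hw : w * w = algebraMap R B c) (ϖ : R)
    (hϖ : ϖ ≠ 0)
    (hideal : ∀ J : Ideal R, J ≠ ⊥ → ∃ n : ℕ, J = Ideal.span {ϖ ^ n})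
    (S : Subalgebra R B) (I : Ideal R) :
    (∃ bS : Module.Basis (Fin 2) R S, Ideal.span {Algebra.discr R bS} = I) ↔
    ∃ n : ℕ, I = Ideal.span {ϖ ^ (2 * n) * (4 * c)} ∧ Subalgebra.toSubmodule S =
      Submodule.span R {(1 : B)} ⊔ Ideal.span {ϖ ^ n} • (⊤ : Submodule R B) := by
  constructor
  · rintro ⟨bS, rfl⟩
    obtain ⟨n, hn⟩ := shape_of_basis bt w h0 h1 ϖ hideal S bS
    refine ⟨n, ?_, hn⟩
    obtain ⟨bS', -, -, hd⟩ := exists_basis_of_shape bt w c h0 h1 hw S (ϖ ^ n) (pow_ne_zero _ hϖ) hn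
    rw [discr_basis_change bS' bS, hd, ← pow_mul, mul_comm n 2]
    rw [Ideal.span_singleton_eq_span_singleton]
    have hu : IsUnit (bS'.det bS) := Module.Basis.isUnit_det bS' bS
    exact associated_unit_mul_left _ _ (hu.pow 2)
  · rintro ⟨n, rfl, hn⟩
    obtain ⟨bS', -, -, hd⟩ := exists_basis_of_shape bt w c h0 h1 hw S (ϖ ^ n) (pow_ne_zero _ hϖ) hn
    refine ⟨bS', ?_⟩
    rw [hd, ← pow_mul, mul_comm n 2]

/-- the algebra of the given shape is `R[y]/(y^2 - a^2 c)` -/
theorem nonempty_algEquiv (h0 : bt 0 = 1) (h1 : bt 1 = w) (hw : w * w = algebraMap R B c)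
    (S : Subalgebra R B) (a : R) (ha : a ≠ 0)
    (hS : Subalgebra.toSubmodule S =
      Submodule.span R {(1 : B)} ⊔ Ideal.span {a} • (⊤ : Submodule R B)) :
    Nonempty (S ≃ₐ[R] AdjoinRoot (Polynomial.X ^ 2 - Polynomial.C (a ^ 2 * c))) := by
  obtain ⟨bS, hb0, hb1, -⟩ := exists_basis_of_shape bt w c h0 h1 hw S a ha hS
  have hb0' : bS 0 = 1 := Subtype.ext hb0
  set y : S := bS 1 with hy
  have hyy : y * y = algebraMap R S (a ^ 2 * c) := by
    apply Subtype.ext
    rw [Subalgebra.coe_mul, hb1, smul_mul_smul_comm, hw, Subalgebra.coe_algebraMap,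
      Algebra.smul_def, ← map_mul, pow_two]
  have hroot : Polynomial.eval₂ (Algebra.ofId R S : R →+* S) y
      (Polynomial.X ^ 2 - Polynomial.C (a ^ 2 * c)) = 0 := by
    rw [Polynomial.eval₂_sub, Polynomial.eval₂_pow, Polynomial.eval₂_X, Polynomial.eval₂_C,
      pow_two, hyy]
    exact sub_self _
  let φ : AdjoinRoot (Polynomial.X ^ 2 - Polynomial.C (a ^ 2 * c)) →ₐ[R] S :=
    AdjoinRoot.liftAlgHom _ (Algebra.ofId R S) y hroot
  have hφroot : φ (AdjoinRoot.root _) = y := AdjoinRoot.liftAlgHom_root _ _ _ _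
  have hmonic : (Polynomial.X ^ 2 - Polynomial.C (a ^ 2 * c) : Polynomial R).Monic :=
    Polynomial.monic_X_pow_sub_C _ (by norm_num)
  have hinj : Function.Injective φ := by
    rw [injective_iff_map_eq_zero]
    intro z hz
    obtain ⟨g, rfl⟩ := AdjoinRoot.mk_surjective z
    have hdeg := Polynomial.degree_modByMonic_lt g hmonic
    rw [Polynomial.degree_X_pow_sub_C (by norm_num)] at hdeg
    have hdeg' : (g %ₘ (Polynomial.X ^ 2 - Polynomial.C (a ^ 2 * c))).degree ≤ 1 := by
      by_cases hq : g %ₘ (Polynomial.X ^ 2 - Polynomial.C (a ^ 2 * c)) = 0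
      · rw [hq, Polynomial.degree_zero]; exact bot_le
      · rw [Polynomial.degree_eq_natDegree hq] at hdeg ⊢
        have h2 : (g %ₘ (Polynomial.X ^ 2 - Polynomial.C (a ^ 2 * c))).natDegree < 2 := by
          exact_mod_cast hdeg
        exact_mod_cast Nat.le_of_lt_succ h2
    have hg : AdjoinRoot.mk (Polynomial.X ^ 2 - Polynomial.C (a ^ 2 * c)) g =
        AdjoinRoot.mk _ (g %ₘ (Polynomial.X ^ 2 - Polynomial.C (a ^ 2 * c))) := by
      rw [AdjoinRoot.mk_eq_mk, Polynomial.modByMonic_eq_sub_mul_div g, sub_sub_cancel]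
      exact dvd_mul_right _ _
    rw [hg] at hz ⊢
    rw [Polynomial.eq_X_add_C_of_degree_le_one hdeg'] at hz ⊢
    set p1 := (g %ₘ (Polynomial.X ^ 2 - Polynomial.C (a ^ 2 * c))).coeff 1
    set p0 := (g %ₘ (Polynomial.X ^ 2 - Polynomial.C (a ^ 2 * c))).coeff 0
    have hz' : p0 • bS 0 + p1 • bS 1 = 0 := by
      rw [hb0', ← hy, ← hz]
      change _ = Polynomial.eval₂ (Algebra.ofId R S : R →+* S) y _
      rw [Polynomial.eval₂_add, Polynomial.eval₂_mul, Polynomial.eval₂_C, Polynomial.eval₂_C,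
        Polynomial.eval₂_X, Algebra.smul_def, Algebra.smul_def, mul_one, add_comm]
      rfl
    have hli := bS.linearIndependent
    rw [Fintype.linearIndependent_iff] at hli
    have := hli ![p0, p1] (by simpa [Fin.sum_univ_two] using hz')
    have e0 := this 0
    have e1 := this 1
    simp at e0 e1
    rw [e0, e1]
    simp
  have hsurj : Function.Surjective φ := by
    intro s
    have hs := bS.sum_repr s
    rw [Fin.sum_univ_two, hb0', ← hy] at hs
    refine ⟨bS.repr s 0 • 1 + bS.repr s 1 • AdjoinRoot.root _, ?_⟩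
    rw [map_add, map_smul, map_smul, map_one, hφroot, hs]
  exact ⟨(AlgEquiv.ofBijective φ ⟨hinj, hsurj⟩).symm⟩

end Structure

end Groth.Agent.Lib.Helper75.CrimpDouble
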