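import Mathlib
import Groth.Agent.Lib.Helper75.CrimpDouble

/-!
# Power-series facts for crimps (helper75)
-/

set_option autoImplicit false
universe u

namespace Groth.Agent.Lib.Helper75.CrimpPS

variable {k : Type u} [Field k]

theorem hideal (J : Ideal (PowerSeries k)) (hJ : J ≠ ⊥) :
    ∃ n : ℕ, J = Ideal.span {(PowerSeries.X : PowerSeries k) ^ n} :=
  IsDiscreteValuationRing.ideal_eq_span_pow_irreducible hJ PowerSeries.X_prime.irreducible

theorem X_ne_zero' : (PowerSeries.X : PowerSeries k) ≠ 0 := PowerSeries.X_ne_zero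

theorem span_X_pow_eq_iff (u : PowerSeries k) (hu : IsUnit u) (a b : ℕ) :
    Ideal.span {(PowerSeries.X : PowerSeries k) ^ a} =
      Ideal.span {(PowerSeries.X : PowerSeries k) ^ b * u} ↔ a = b := by
  constructor
  · intro h
    rw [Ideal.span_singleton_eq_span_singleton] at h
    obtain ⟨v, hv⟩ := h
    have h1 := congrArg PowerSeries.order hv
    rw [PowerSeries.order_mul, PowerSeries.order_X_pow, PowerSeries.order_mul,
      PowerSeries.order_X_pow, PowerSeries.order_zero_of_unit hu,
      PowerSeries.order_zero_of_unit v.isUnit, add_zero, add_zero] at h1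
    exact_mod_cast h1
  · rintro rfl
    rw [Ideal.span_singleton_eq_span_singleton]
    exact (associated_mul_unit_left _ _ hu).symm

variable [CharZero k]

theorem isUnit_four : IsUnit (4 : PowerSeries k) := by
  have : (4 : PowerSeries k) = PowerSeries.C (4 : k) := by rw [map_ofNat]
  rw [this]
  exact (IsUnit.mk0 (4 : k) (by norm_num)).map PowerSeries.C

theorem exists_half : ∃ h : PowerSeries k, 2 * h = 1 := by
  refine ⟨PowerSeries.C (2⁻¹ : k), ?_⟩
  have : (2 : PowerSeries k) = PowerSeries.C (2 : k) := by rw [map_ofNat]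
  rw [this, ← map_mul, mul_inv_cancel₀ (by norm_num : (2 : k) ≠ 0), map_one]

end Groth.Agent.Lib.Helper75.CrimpPS
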