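import Mathlib

/-!
# Length over an augmented algebra equals dimension (helper75)

Let `A` be a commutative `k`-algebra with an ideal `𝔪` such that `A = k + 𝔪`.  If `V` is an
`A`-module, finite-dimensional over `k`, on which some power of `𝔪` acts by zero, then
`length_A V = dim_k V`.
-/

universe u v w

namespace Groth.Agent.Lib.Helper75

/-- The quotient `M1 / (M1 ∩ M2)` of submodules.  (Stated over an abstract ring so that instance
resolution succeeds when it is later used over a subalgebra.) -/
abbrev SubQ {R M : Type*} [Ring R] [AddCommGroup M] [Module R M] (M1 M2 : Submodule R M) : Type _ :=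
  ↥M1 ⧸ M2.comap M1.subtype

/-- A `k`-linear surjection from `M1` with kernel `M1 ∩ M2` identifies `SubQ M1 M2` with its
target. -/
theorem subQ_equiv_of_surjective {k R M W : Type*} [Field k] [Ring R] [AddCommGroup M] [Module R M]
    [Module k M] [SMul k R] [IsScalarTower k R M] [AddCommGroup W] [Module k W]
    (M1 M2 : Submodule R M) (φ : ↥M1 →ₗ[k] W) (hφ : Function.Surjective φ)
    (hker : LinearMap.ker φ = (M2.comap M1.subtype).restrictScalars k) :
    Nonempty (SubQ M1 M2 ≃ₗ[k] W) := by
  let e1 := φ.quotKerEquivOfSurjective hφ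
  let e2 := Submodule.quotEquivOfEq _ _ hker
  let e3 := Submodule.Quotient.restrictScalarsEquiv k (M2.comap M1.subtype)
  exact ⟨e3.symm.trans (e2.symm.trans e1)⟩

end Groth.Agent.Lib.Helper75

namespace Groth.Agent.Lib.Helper75.LenDim

variable {k : Type u} {A : Type v} [Field k] [CommRing A] [Algebra k A] (𝔪 : Ideal A)

theorem length_eq_finrank_aux (h𝔪 : ∀ a : A, ∃ c : k, a - algebraMap k A c ∈ 𝔪) :
    ∀ (d : ℕ) (V : Type w) [AddCommGroup V] [Module k V] [Module A V] [IsScalarTower k A V]
      [Module.Finite k V],
      (∃ N : ℕ, ∀ a ∈ 𝔪 ^ N, ∀ v : V, a • v = 0) → Module.finrank k V = d →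
        Module.length A V = d := by
  intro d
  induction d with
  | zero =>
    intro V _ _ _ _ _ _ hd
    have : Subsingleton V := Module.finrank_zero_iff.mp hd
    rw [Module.length_eq_zero]
    rfl
  | succ d ih =>
    intro V _ _ _ _ _ hnil hd
    classical
    have hnt : Nontrivial V := Module.nontrivial_of_finrank_pos (R := k) (by omega)
    -- a socle element
    obtain ⟨v, hv0, hvm⟩ : ∃ v : V, v ≠ 0 ∧ ∀ b ∈ 𝔪, b • v = 0 := by
      have hN0 : ¬ (∀ a ∈ 𝔪 ^ 0, ∀ v : V, a • v = 0) := by
        intro h
        obtain ⟨w, hw⟩ := exists_ne (0 : V)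
        apply hw
        have := h 1 (by simp) w
        simpa using this
      have hfind := Nat.find_spec hnil
      have hpos : 0 < Nat.find hnil := by
        rcases Nat.eq_zero_or_pos (Nat.find hnil) with h | h
        · rw [h] at hfind; exact absurd hfind hN0
        · exact h
      have hmin := Nat.find_min hnil (Nat.sub_lt hpos Nat.one_pos)
      push Not at hmin
      obtain ⟨a, ha, w, haw⟩ := hmin
      refine ⟨a • w, haw, ?_⟩
      intro b hb
      rw [smul_smul]
      apply hfind
      have : Nat.find hnil = (Nat.find hnil - 1) + 1 := by omega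
      rw [this, pow_succ']
      exact Ideal.mul_mem_mul hb ha
    have hsmul : ∀ a : A, ∃ c : k, a • v = c • v := by
      intro a
      obtain ⟨c, hc⟩ := h𝔪 a
      refine ⟨c, ?_⟩
      have h1 := hvm _ hc
      rw [sub_smul, sub_eq_zero, algebraMap_smul] at h1
      exact h1
    let L : Submodule A V := Submodule.span A {v}
    have hLmem : ∀ x : V, x ∈ L ↔ ∃ c : k, x = c • v := by
      intro x
      constructor
      · intro hx
        obtain ⟨a, rfl⟩ := Submodule.mem_span_singleton.mp hx
        exact hsmul a
      · rintro ⟨c, rfl⟩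
        rw [← algebraMap_smul A c v]
        exact Submodule.smul_mem _ _ (Submodule.subset_span rfl)
    have hLk : L.restrictScalars k = Submodule.span k {v} := by
      ext x
      rw [Submodule.restrictScalars_mem, hLmem, Submodule.mem_span_singleton]
      constructor
      · rintro ⟨c, rfl⟩; exact ⟨c, rfl⟩
      · rintro ⟨c, rfl⟩; exact ⟨c, rfl⟩
    -- L is simple
    have hLsimple : IsSimpleModule A L := by
      rw [isSimpleModule_iff_toSpanSingleton_surjective]
      refine ⟨⟨⟨⟨v, Submodule.subset_span rfl⟩, 0, ?_⟩⟩, ?_⟩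
      · intro h
        exact hv0 (congrArg Subtype.val h)
      · rintro ⟨m, hm⟩ hm0 ⟨y, hy⟩
        obtain ⟨c, rfl⟩ := (hLmem m).mp hm
        obtain ⟨c', rfl⟩ := (hLmem y).mp hy
        have hc0 : c ≠ 0 := by
          rintro rfl
          apply hm0
          ext
          simp
        refine ⟨algebraMap k A (c' * c⁻¹), ?_⟩
        ext
        change algebraMap k A (c' * c⁻¹) • (c • v) = c' • v
        rw [algebraMap_smul, smul_smul, mul_assoc, inv_mul_cancel₀ hc0, mul_one]
    have hLlen : Module.length A L = 1 := Module.length_eq_one_iff.mpr hLsimple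
    -- the quotient
    have hq : Module.length A (V ⧸ L) = d := by
      apply ih (V ⧸ L)
      · obtain ⟨N, hN⟩ := hnil
        refine ⟨N, ?_⟩
        intro a ha x
        obtain ⟨x, rfl⟩ := Submodule.Quotient.mk_surjective _ x
        rw [← Submodule.Quotient.mk_smul, hN a ha x, Submodule.Quotient.mk_zero]
      · have h1 := Submodule.finrank_quotient_add_finrank (L.restrictScalars k)
        have h2 : Module.finrank k (L.restrictScalars k) = 1 := by
          rw [hLk]
          exact finrank_span_singleton hv0
        have h3 : Module.finrank k (V ⧸ L.restrictScalars k) = Module.finrank k (V ⧸ L) :=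
          (Submodule.Quotient.restrictScalarsEquiv k L).finrank_eq
        omega
    have hadd := Module.length_eq_add_of_exact L.subtype L.mkQ L.injective_subtype
      L.mkQ_surjective (LinearMap.exact_subtype_mkQ L)
    rw [hadd, hLlen, hq]
    push_cast
    rw [add_comm]

/-- `length_A V = dim_k V` for a finite-dimensional `A`-module on which the augmentation ideal
acts nilpotently. -/
theorem length_eq_finrank (h𝔪 : ∀ a : A, ∃ c : k, a - algebraMap k A c ∈ 𝔪)
    (V : Type w) [AddCommGroup V] [Module k V] [Module A V] [IsScalarTower k A V]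
    [Module.Finite k V] (hnil : ∃ N : ℕ, ∀ a ∈ 𝔪 ^ N, ∀ v : V, a • v = 0) :
    Module.length A V = Module.finrank k V :=
  length_eq_finrank_aux 𝔪 h𝔪 _ V hnil rfl

end Groth.Agent.Lib.Helper75.LenDim
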