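import Mathlib
import Groth.Agent.Lib.Helper75.LenDim

/-!
# Endomorphisms of an overring modulo multiplications (helper75)

If `R → B` is a map of commutative rings and `x ∈ R` is a nonzerodivisor on `B` with `x B ⊆ R`,
then every `R`-linear endomorphism of `B` is a multiplication, so `End_R(B) / R ≃ B / R`.
Also: `SubQ M1 M2 ≃ M ⧸ M2` when `M1 = ⊤`.
-/

namespace Groth.Agent.Lib.Helper75.EndQuot

open Groth.Agent.Lib.Helper75

section top

variable {R M : Type*} [Ring R] [AddCommGroup M] [Module R M]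

theorem subQ_top_equiv (M1 M2 : Submodule R M) (h : M1 = ⊤) :
    Nonempty (SubQ M1 M2 ≃ₗ[R] (M ⧸ M2)) := by
  refine ⟨Submodule.Quotient.equiv (M2.comap M1.subtype) M2 (LinearEquiv.ofTop M1 h) ?_⟩
  ext m
  constructor
  · rintro ⟨y, hy, rfl⟩
    exact hy
  · intro hm
    refine ⟨⟨m, h ▸ Submodule.mem_top⟩, hm, rfl⟩

end top

section endo

variable {R B : Type*} [CommRing R] [CommRing B] [Module R B] (ι : R →+* B)
  (hsmul : ∀ (r : R) (b : B), r • b = ι r * b)

include hsmul in
theorem end_quot_equiv (x : R) (hx : ∀ b : B, ι x * b = 0 → b = 0)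
    (hxB : ∀ b : B, ∃ r : R, ι r = ι x * b) :
    Nonempty (((B →ₗ[R] B) ⧸
        LinearMap.range (Algebra.lsmul R R B : R →ₐ[R] Module.End R B).toLinearMap) ≃ₗ[R]
      (B ⧸ LinearMap.range (LinearMap.toSpanSingleton R B 1))) := by
  -- evaluation at 1
  let Ψ : (B →ₗ[R] B) →ₗ[R] B :=
    { toFun := fun φ => φ 1
      map_add' := fun _ _ => rfl
      map_smul' := fun _ _ => rfl }
  -- every endomorphism is multiplication by φ 1
  have hmul : ∀ (φ : B →ₗ[R] B) (s : B), φ s = s * φ 1 := by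
    intro φ s
    obtain ⟨r, hr⟩ := hxB s
    have h1 : ι x * φ s = ι x * (s * φ 1) := by
      calc ι x * φ s = φ (x • s) := by rw [map_smul, hsmul]
        _ = φ (r • (1 : B)) := by rw [hsmul, hsmul, hr, mul_one]
        _ = ι x * (s * φ 1) := by rw [map_smul, hsmul, hr, mul_assoc]
    have h2 : ι x * (φ s - s * φ 1) = 0 := by rw [mul_sub, h1, sub_self]
    exact sub_eq_zero.mp (hx _ h2)
  have hinj : Function.Injective Ψ := by
    rw [injective_iff_map_eq_zero]
    intro φ hφ
    ext s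
    rw [hmul φ s]
    change s * Ψ φ = 0
    rw [hφ, mul_zero]
  have hsurj : Function.Surjective Ψ := by
    intro g
    refine ⟨{ toFun := fun s => s * g
              map_add' := fun s t => add_mul s t g
              map_smul' := fun r s => by
                simp only [RingHom.id_apply, hsmul, mul_assoc] }, ?_⟩
    change (1 : B) * g = g
    rw [one_mul]
  let E : (B →ₗ[R] B) ≃ₗ[R] B := LinearEquiv.ofBijective Ψ ⟨hinj, hsurj⟩
  refine ⟨Submodule.Quotient.equiv _ _ E ?_⟩
  ext b
  constructor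
  · rintro ⟨φ, ⟨r, rfl⟩, rfl⟩
    refine ⟨r, ?_⟩
    change r • (1 : B) = (Algebra.lsmul R R B r) 1
    simp
  · rintro ⟨r, rfl⟩
    refine ⟨Algebra.lsmul R R B r, ⟨r, rfl⟩, ?_⟩
    change (Algebra.lsmul R R B r) 1 = r • (1 : B)
    simp

end endo

end Groth.Agent.Lib.Helper75.EndQuot
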