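import Groth.Agent.Lib.Helper5.ExtAdjunction

/-!
# Functoriality of `Ext.mapExactFunctor` in the functor

For abelian categories with enough injectives in the source:
* `mapExactFunctor_naturality`: a natural transformation `τ : F ⟶ G` of exact functors is compatible
  with the action on `Ext`-classes.
* `mapExactFunctor_id`: the identity functor acts as the identity.
* `mapExactFunctor_comp_functor`: `F ⋙ G` acts as the composite.
-/

universe w w' w'' v v' v'' u u' u''

namespace Groth.Agent.Lib.Helper75.ExtFunctoriality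

open CategoryTheory Abelian Limits

variable {C : Type u} [Category.{v} C] [Abelian C] [HasExt.{w} C] [EnoughInjectives C]
  {D : Type u'} [Category.{v'} D] [Abelian D] [HasExt.{w'} D]
  {E : Type u''} [Category.{v''} E] [Abelian E] [HasExt.{w''} E]

/-- Naturality of `mapExactFunctor` with respect to a natural transformation of exact functors. -/
lemma mapExactFunctor_naturality {F G : C ⥤ D}
    [F.Additive] [PreservesFiniteLimits F] [PreservesFiniteColimits F]
    [G.Additive] [PreservesFiniteLimits G] [PreservesFiniteColimits G]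
    (τ : F ⟶ G) {X Y : C} {n : ℕ} (e : Ext.{w} X Y n) :
    (e.mapExactFunctor F).comp (Ext.mk₀ (τ.app Y)) (add_zero n) =
      (Ext.mk₀ (τ.app X)).comp (e.mapExactFunctor G) (zero_add n) := by
  refine Groth.Agent.Lib.Helper5.ext_induction (C := C)
    (P := fun {X Y : C} {n : ℕ} (e : Ext.{w} X Y n) =>
      (e.mapExactFunctor F).comp (Ext.mk₀ (τ.app Y)) (add_zero n) =
        (Ext.mk₀ (τ.app X)).comp (e.mapExactFunctor G) (zero_add n)) ?_ ?_ ?_ e
  · intro X Y f
    rw [Ext.mapExactFunctor_mk₀, Ext.mapExactFunctor_mk₀, Ext.mk₀_comp_mk₀, Ext.mk₀_comp_mk₀]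
    congr 1
    exact τ.naturality f
  · intro X Y Z a b c α β h hα hβ
    rw [Ext.mapExactFunctor_comp, Ext.mapExactFunctor_comp, Ext.comp_assoc_of_third_deg_zero, hβ,
      ← Ext.comp_assoc_of_second_deg_zero, hα]
    exact Ext.comp_assoc _ _ _ _ _ (by lia)
  · intro S hS
    rw [Ext.mapExactFunctor_extClass F hS, Ext.mapExactFunctor_extClass G hS]
    let φ : S.map F ⟶ S.map G :=
      { τ₁ := τ.app S.X₁
        τ₂ := τ.app S.X₂
        τ₃ := τ.app S.X₃
        comm₁₂ := (τ.naturality S.f).symm
        comm₂₃ := (τ.naturality S.g).symm }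
    exact ShortComplex.ShortExact.extClass_naturality _ _ φ

/-- The identity functor acts as the identity on `Ext`-classes. -/
lemma mapExactFunctor_id {X Y : C} {n : ℕ} (e : Ext.{w} X Y n) :
    e.mapExactFunctor (𝟭 C) = e := by
  refine Groth.Agent.Lib.Helper5.ext_induction (C := C)
    (P := fun {X Y : C} {n : ℕ} (e : Ext.{w} X Y n) => e.mapExactFunctor (𝟭 C) = e) ?_ ?_ ?_ e
  · intro X Y f
    rw [Ext.mapExactFunctor_mk₀]
    rfl
  · intro X Y Z a b c α β h hα hβ
    rw [Ext.mapExactFunctor_comp, hα, hβ]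
  · intro S hS
    rw [Ext.mapExactFunctor_extClass (𝟭 C) hS]
    rfl

/-- The composite of two exact functors acts as the composite on `Ext`-classes. -/
lemma mapExactFunctor_comp_functor (F : C ⥤ D) (G : D ⥤ E)
    [F.Additive] [PreservesFiniteLimits F] [PreservesFiniteColimits F]
    [G.Additive] [PreservesFiniteLimits G] [PreservesFiniteColimits G]
    [PreservesFiniteLimits (F ⋙ G)] [PreservesFiniteColimits (F ⋙ G)]
    {X Y : C} {n : ℕ} (e : Ext.{w} X Y n) :
    e.mapExactFunctor (F ⋙ G) = (e.mapExactFunctor F).mapExactFunctor G := by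
  refine Groth.Agent.Lib.Helper5.ext_induction (C := C)
    (P := fun {X Y : C} {n : ℕ} (e : Ext.{w} X Y n) =>
      e.mapExactFunctor (F ⋙ G) = (e.mapExactFunctor F).mapExactFunctor G) ?_ ?_ ?_ e
  · intro X Y f
    rw [Ext.mapExactFunctor_mk₀, Ext.mapExactFunctor_mk₀, Ext.mapExactFunctor_mk₀]
    rfl
  · intro X Y Z a b c α β h hα hβ
    rw [Ext.mapExactFunctor_comp, Ext.mapExactFunctor_comp, Ext.mapExactFunctor_comp, hα, hβ]
  · intro S hS
    rw [Ext.mapExactFunctor_extClass (F ⋙ G) hS]
    have h1 : hS.extClass.mapExactFunctor F = (hS.map_of_exact F).extClass :=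
      Ext.mapExactFunctor_extClass F hS
    have h2 : ((hS.map_of_exact F).extClass).mapExactFunctor G =
        ((hS.map_of_exact F).map_of_exact G).extClass :=
      Ext.mapExactFunctor_extClass G _
    have h3 : (hS.extClass.mapExactFunctor F).mapExactFunctor G =
        ((hS.map_of_exact F).map_of_exact G).extClass :=
      (congrArg (Ext.mapExactFunctor G (X := F.obj S.X₃) (Y := F.obj S.X₁) (n := 1)) h1).trans h2
    rw [h3]
    rfl

end Groth.Agent.Lib.Helper75.ExtFunctoriality
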