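import Mathlib
import Groth.Agent.Lib.Helper75.ExtPres
import Groth.Agent.Lib.Helper75.LenDim

/-!
# `Ext¹` of modules generated by monomials over a subring of `k⟦X⟧` containing `X^c k⟦X⟧` (helper75)

`A` is a commutative ring acting on `k⟦X⟧` through an injective ring map `ι : A → k⟦X⟧` whose
image contains `X ^ c * k⟦X⟧`.  For `M = A + ∑ A X^{a_j}` and an `A`-submodule `N` of `k⟦X⟧`,

`∑_j length (H_j / X^c N) = length (N / N') + length Ext¹_A(M, N)`

where `N' = {n ∈ N | X^{a_j} n ∈ N ∀ j}` and the `H_j` describe `Hom_A(K, N)` for the syzygy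
module `K`, provided the latter is a product (hypothesis `hH`).
-/

universe u
open CategoryTheory PowerSeries

namespace Groth.Agent.Lib.Helper75.ExtMono

open Groth.Agent.Lib.Helper75

variable {k : Type u} [Field k] {A : Type u} [CommRing A] [Module A (PowerSeries k)]
  (ι : A →+* PowerSeries k) (hsmul : ∀ (a : A) (f : PowerSeries k), a • f = ι a * f)
  {r : ℕ} (a : Fin r → ℕ)

/-- The presentation `A × A^r → k⟦X⟧`, `(x₀, y) ↦ x₀ + ∑ y_j X^{a_j}`. -/
noncomputable def pi0 : (A × (Fin r → A)) →ₗ[A] PowerSeries k :=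
  LinearMap.coprod (LinearMap.toSpanSingleton A (PowerSeries k) 1)
    (Fintype.linearCombination A (fun j => (X : PowerSeries k) ^ (a j)))

include hsmul in
lemma pi0_apply (x : A × (Fin r → A)) :
    pi0 (k := k) a x = ι x.1 + ∑ j, ι (x.2 j) * X ^ (a j) := by
  simp only [pi0, LinearMap.coprod_apply, LinearMap.toSpanSingleton_apply,
    Fintype.linearCombination_apply, hsmul, mul_one]

lemma range_pi0 :
    LinearMap.range (pi0 (k := k) (A := A) a) =
      Submodule.span A (insert (1 : PowerSeries k) (Set.range fun j => (X : PowerSeries k) ^ (a j))) := by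
  rw [pi0, LinearMap.range_coprod, Fintype.range_linearCombination,
    LinearMap.range_toSpanSingleton, Set.insert_eq, Submodule.span_union]

variable (hinj : Function.Injective ι) (c : ℕ) (hc : ∀ f : PowerSeries k, ∃ b : A, ι b = X ^ c * f)

/-- an element of `A` mapping to `X ^ c * f`. -/
noncomputable def lift (f : PowerSeries k) : A := Classical.choose (hc f)

omit [Module A (PowerSeries k)] in
lemma ι_lift (f : PowerSeries k) : ι (lift ι c hc f) = X ^ c * f := Classical.choose_spec (hc f)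

/-- The elements `w_j = (-X^{c + a_j}, X^c e_j)` of the syzygy module. -/
noncomputable def w (j : Fin r) : LinearMap.ker (pi0 (k := k) (A := A) a) :=
  ⟨(-(lift ι c hc (X ^ (a j))), Pi.single j (lift ι c hc 1)), by
    classical
    rw [LinearMap.mem_ker, pi0_apply ι hsmul]
    simp only [map_neg, ι_lift]
    rw [Finset.sum_eq_single j]
    · rw [Pi.single_eq_same, ι_lift, mul_one]; ring
    · intro i _ hij
      rw [Pi.single_eq_of_ne hij, map_zero, zero_mul]
    · intro h; exact absurd (Finset.mem_univ j) h⟩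

include hinj in
lemma key_identity (κ : LinearMap.ker (pi0 (k := k) (A := A) a)) :
    lift ι c hc 1 • κ = ∑ j, (κ : A × (Fin r → A)).2 j • w ι hsmul a c hc j := by
  classical
  apply Subtype.ext
  have hκ : ι (κ : A × (Fin r → A)).1 + ∑ j, ι ((κ : A × (Fin r → A)).2 j) * X ^ (a j) = 0 := by
    have := κ.2
    rw [LinearMap.mem_ker, pi0_apply ι hsmul] at this
    exact this
  rw [Submodule.coe_smul, Submodule.coe_sum]
  apply Prod.ext
  · simp only [Prod.smul_fst, Prod.fst_sum, Submodule.coe_smul, w, smul_eq_mul]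
    apply hinj
    rw [map_mul, map_sum, ι_lift, mul_one]
    have h2 : ∀ j, ι ((κ : A × (Fin r → A)).2 j * -lift ι c hc (X ^ (a j))) =
        - (X ^ c * (ι ((κ : A × (Fin r → A)).2 j) * X ^ (a j))) := by
      intro j
      rw [map_mul, map_neg, ι_lift]; ring
    rw [Finset.sum_congr rfl (fun j _ => h2 j), Finset.sum_neg_distrib, ← Finset.mul_sum]
    have : ι (κ : A × (Fin r → A)).1 = - ∑ j, ι ((κ : A × (Fin r → A)).2 j) * X ^ (a j) :=
      eq_neg_of_add_eq_zero_left hκ
    rw [this]; ring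
  · ext i
    simp only [Prod.smul_snd, Prod.snd_sum, Submodule.coe_smul, w, Pi.smul_apply, smul_eq_mul,
      Finset.sum_apply]
    rw [Finset.sum_eq_single i]
    · rw [Pi.single_eq_same, mul_comm]
    · intro j _ hji
      rw [Pi.single_eq_of_ne hji.symm, mul_zero]
    · intro h; exact absurd (Finset.mem_univ i) h

variable (N : Submodule A (PowerSeries k))

include hinj in
/-- The basic formula: `X^c φ(κ) = ∑ y_j φ(w_j)`. -/
lemma X_pow_mul_apply (φ : LinearMap.ker (pi0 (k := k) (A := A) a) →ₗ[A] ↥N)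
    (κ : LinearMap.ker (pi0 (k := k) (A := A) a)) :
    X ^ c * (φ κ : PowerSeries k) =
      ∑ j, ι ((κ : A × (Fin r → A)).2 j) * (φ (w ι hsmul a c hc j) : PowerSeries k) := by
  have h1 : (φ (lift ι c hc 1 • κ) : PowerSeries k) = X ^ c * (φ κ : PowerSeries k) := by
    rw [map_smul, Submodule.coe_smul, hsmul, ι_lift, mul_one]
  rw [← h1, key_identity ι hsmul a hinj c hc κ, map_sum, Submodule.coe_sum]
  apply Finset.sum_congr rfl
  intro j _
  rw [map_smul, Submodule.coe_smul, hsmul]

variable (Nc N' : Submodule A (PowerSeries k)) (H : Fin r → Submodule A (PowerSeries k))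
  (hNc : ∀ f, f ∈ Nc ↔ ∃ n ∈ N, f = X ^ c * n)
  (hN' : ∀ f, f ∈ N' ↔ f ∈ N ∧ ∀ j, X ^ (a j) * f ∈ N)
  (hH : ∀ h : Fin r → PowerSeries k, (∀ j, h j ∈ H j) ↔
    ((∀ j, h j ∈ N) ∧ ∀ κ ∈ LinearMap.ker (pi0 (k := k) (A := A) a),
      ∑ j, ι (κ.2 j) * h j ∈ Nc))

/-- The evaluation map `Hom(K, N) → ∏ H_j`. -/
noncomputable def ev :
    (LinearMap.ker (pi0 (k := k) (A := A) a) →ₗ[A] ↥N) →ₗ[A] (∀ j : Fin r, ↥(H j)) where
  toFun φ := fun j => ⟨(φ (w ι hsmul a c hc j) : PowerSeries k), by
    have := (hH (fun j => (φ (w ι hsmul a c hc j) : PowerSeries k))).mpr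
      ⟨fun j => (φ _).2, fun κ hκ => by
        rw [← X_pow_mul_apply ι hsmul a hinj c hc N φ ⟨κ, hκ⟩, hNc]
        exact ⟨_, (φ _).2, rfl⟩⟩
    exact this j⟩
  map_add' φ ψ := by
    ext j
    simp
  map_smul' b φ := by
    ext j
    simp

lemma ev_apply (φ : LinearMap.ker (pi0 (k := k) (A := A) a) →ₗ[A] ↥N) (j : Fin r) :
    ((ev ι hsmul a hinj c hc N Nc H hNc hH φ j : ↥(H j)) : PowerSeries k) =
      (φ (w ι hsmul a c hc j) : PowerSeries k) := rfl

lemma X_pow_mul_cancel {f g : PowerSeries k} (h : X ^ c * f = X ^ c * g) : f = g :=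
  mul_left_cancel₀ (pow_ne_zero c X_ne_zero) h

lemma ev_injective : Function.Injective (ev ι hsmul a hinj c hc N Nc H hNc hH) := by
  rw [injective_iff_map_eq_zero]
  intro φ hφ
  apply LinearMap.ext
  intro κ
  apply Subtype.ext
  rw [LinearMap.zero_apply, Submodule.coe_zero]
  apply X_pow_mul_cancel (k := k) c
  rw [mul_zero]
  rw [X_pow_mul_apply ι hsmul a hinj c hc N φ κ]
  have : ∀ j, (φ (w ι hsmul a c hc j) : PowerSeries k) = 0 := by
    intro j
    have := congrFun hφ j
    rw [← ev_apply ι hsmul a hinj c hc N Nc H hNc hH φ j, this]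
    rfl
  simp [this]

lemma ev_surjective : Function.Surjective (ev ι hsmul a hinj c hc N Nc H hNc hH) := by
  classical
  intro h
  have hh := (hH (fun j => (h j : PowerSeries k))).mp (fun j => (h j).2)
  have hex : ∀ κ : LinearMap.ker (pi0 (k := k) (A := A) a), ∃ n : ↥N,
      X ^ c * (n : PowerSeries k) = ∑ j, ι ((κ : A × (Fin r → A)).2 j) * (h j : PowerSeries k) := by
    intro κ
    obtain ⟨n, hn, hn'⟩ := (hNc _).mp (hh.2 κ.1 κ.2)
    exact ⟨⟨n, hn⟩, hn'.symm⟩
  choose φ hφ using hex
  let Φ : LinearMap.ker (pi0 (k := k) (A := A) a) →ₗ[A] ↥N :=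
    { toFun := φ
      map_add' := fun κ κ' => by
        apply Subtype.ext
        apply X_pow_mul_cancel (k := k) c
        rw [Submodule.coe_add, mul_add, hφ, hφ, hφ, ← Finset.sum_add_distrib]
        apply Finset.sum_congr rfl
        intro j _
        simp only [Submodule.coe_add, Prod.snd_add, Pi.add_apply, map_add]
        ring
      map_smul' := fun b κ => by
        apply Subtype.ext
        apply X_pow_mul_cancel (k := k) c
        rw [RingHom.id_apply, Submodule.coe_smul, hsmul, mul_left_comm, hφ, hφ, Finset.mul_sum]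
        apply Finset.sum_congr rfl
        intro j _
        simp only [Submodule.coe_smul, Prod.smul_snd, Pi.smul_apply, smul_eq_mul, map_mul]
        ring }
  refine ⟨Φ, ?_⟩
  funext j
  apply Subtype.ext
  rw [ev_apply]
  apply X_pow_mul_cancel (k := k) c
  change X ^ c * (φ (w ι hsmul a c hc j) : PowerSeries k) = _
  rw [hφ]
  rw [Finset.sum_eq_single j]
  · simp only [w]
    rw [Pi.single_eq_same, ι_lift, mul_one]
  · intro i _ hij
    simp only [w]
    rw [Pi.single_eq_of_ne hij, map_zero, zero_mul]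
  · intro h; exact absurd (Finset.mem_univ j) h

/-- `Hom_A(K, N) ≃ ∏ H_j`. -/
noncomputable def evEquiv :
    (LinearMap.ker (pi0 (k := k) (A := A) a) →ₗ[A] ↥N) ≃ₗ[A] (∀ j : Fin r, ↥(H j)) :=
  LinearEquiv.ofBijective (ev ι hsmul a hinj c hc N Nc H hNc hH)
    ⟨ev_injective ι hsmul a hinj c hc N Nc H hNc hH, ev_surjective ι hsmul a hinj c hc N Nc H hNc hH⟩

/-- Restriction of maps `A × A^r → N` to the syzygy module. -/
noncomputable abbrev restr : ((A × (Fin r → A)) →ₗ[A] ↥N) →ₗ[A]
    (LinearMap.ker (pi0 (k := k) (A := A) a) →ₗ[A] ↥N) :=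
  LinearMap.lcomp A ↥N (LinearMap.ker (pi0 (k := k) (A := A) a)).subtype

lemma ev_restr (ψ : (A × (Fin r → A)) →ₗ[A] ↥N) (j : Fin r) :
    ((ev ι hsmul a hinj c hc N Nc H hNc hH (restr a N ψ) j : ↥(H j)) : PowerSeries k) =
      X ^ c * ((ψ (0, Pi.single j 1) : PowerSeries k) - X ^ (a j) * (ψ (1, 0) : PowerSeries k)) := by
  classical
  rw [ev_apply]
  change (ψ ((w ι hsmul a c hc j : LinearMap.ker (pi0 (k := k) (A := A) a)) : A × (Fin r → A)) :
    PowerSeries k) = _
  have h1 : ((w ι hsmul a c hc j : LinearMap.ker (pi0 (k := k) (A := A) a)) : A × (Fin r → A)) =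
      (-(lift ι c hc (X ^ (a j)))) • ((1 : A), (0 : Fin r → A)) +
        (lift ι c hc 1) • ((0 : A), (Pi.single j 1 : Fin r → A)) := by
    simp only [w]
    apply Prod.ext
    · simp
    · ext i
      by_cases hij : i = j
      · subst hij; simp
      · simp [Pi.single_eq_of_ne hij]
  rw [h1, map_add, map_smul, map_smul, Submodule.coe_add, Submodule.coe_smul, Submodule.coe_smul,
    hsmul, hsmul, map_neg, ι_lift, ι_lift]
  ring

include ι hsmul hinj c hc hNc hN' hH in
/-- The main formula. -/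
theorem main :
    ∑ j, Module.length A (SubQ (H j) Nc) =
      Module.length A (SubQ N N') +
        Module.length A (Abelian.Ext (ModuleCat.of A ↥(LinearMap.range (pi0 (k := k) (A := A) a)))
          (ModuleCat.of A ↥N) 1) := by
  classical
  obtain ⟨eExt⟩ := ExtPres.ext_one_equiv (N := ↥N)
    (LinearMap.ker (pi0 (k := k) (A := A) a)).subtype (pi0 (k := k) (A := A) a).rangeRestrict
    (Submodule.injective_subtype _) (LinearMap.surjective_rangeRestrict _)
    (by rw [Submodule.range_subtype, LinearMap.ker_rangeRestrict])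
  let E := evEquiv ι hsmul a hinj c hc N Nc H hNc hH
  have hE : ∀ φ j, ((E φ j : ↥(H j)) : PowerSeries k) =
      ((ev ι hsmul a hinj c hc N Nc H hNc hH φ j : ↥(H j)) : PowerSeries k) := fun _ _ => rfl
  -- a map vanishing at (1,0) restricts into T'
  have hvan : ∀ ψ : (A × (Fin r → A)) →ₗ[A] ↥N, ψ (1, 0) = 0 →
      ∀ j, E (restr a N ψ) j ∈ Nc.comap (H j).subtype := by
    intro ψ hψ j
    rw [Submodule.mem_comap, Submodule.subtype_apply, hE, ev_restr, hψ, hNc]
    refine ⟨_, (ψ (0, Pi.single j 1)).2, ?_⟩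
    simp
  -- the map θ
  let θ : ↥N →ₗ[A] (LinearMap.ker (pi0 (k := k) (A := A) a) →ₗ[A] ↥N) :=
    restr a N ∘ₗ (LinearMap.lcomp A ↥N (LinearMap.fst A A (Fin r → A))) ∘ₗ
      (LinearMap.ringLmapEquivSelf A A ↥N).symm.toLinearMap
  have hθ : ∀ n₀ : ↥N, θ n₀ = restr a N
      ((LinearMap.toSpanSingleton A ↥N n₀) ∘ₗ LinearMap.fst A A (Fin r → A)) := by
    intro n₀
    apply LinearMap.ext
    intro κ
    simp [θ]
  have key := ExtPres.length_combine (A := A)
    (Hom := (LinearMap.ker (pi0 (k := k) (A := A) a) →ₗ[A] ↥N)) (N₁ := ↥N)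
    (Vj := fun j => ↥(H j)) E (LinearMap.range (restr a N))
    (fun j => Nc.comap (H j).subtype) ?_ θ ?_ ?_ (N'.comap N.subtype) ?_
  · rw [← eExt.length_eq] at key
    exact key
  · -- T' ≤ Rg
    intro φ hφ
    have hex : ∀ j, ∃ n : ↥N,
        ((ev ι hsmul a hinj c hc N Nc H hNc hH φ j : ↥(H j)) : PowerSeries k) =
          X ^ c * (n : PowerSeries k) := by
      intro j
      have := hφ j
      rw [Submodule.mem_comap, Submodule.subtype_apply, hE] at this
      obtain ⟨n, hn, hn'⟩ := (hNc _).mp this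
      exact ⟨⟨n, hn⟩, hn'⟩
    choose n hn using hex
    refine ⟨(Fintype.linearCombination A n) ∘ₗ LinearMap.snd A A (Fin r → A), ?_⟩
    apply ev_injective ι hsmul a hinj c hc N Nc H hNc hH
    funext j
    apply Subtype.ext
    rw [ev_restr, hn j]
    congr 1
    simp [Fintype.linearCombination_apply, Pi.single_apply]
  · intro n₀
    rw [hθ]
    exact LinearMap.mem_range_self _ _
  · rintro _ ⟨ψ, rfl⟩
    refine ⟨ψ (1, 0), ?_⟩
    rw [hθ]
    have h1 : (restr a N) ψ - (restr a N)
        (LinearMap.toSpanSingleton A (↥N) (ψ (1, 0)) ∘ₗ LinearMap.fst A A (Fin r → A)) =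
        restr a N (ψ - LinearMap.toSpanSingleton A (↥N) (ψ (1, 0)) ∘ₗ
          LinearMap.fst A A (Fin r → A)) := LinearMap.ext fun κ => rfl
    rw [h1]
    apply hvan
    simp
  · intro n₀
    rw [hθ, Submodule.mem_comap, hN']
    constructor
    · intro h
      refine ⟨n₀.2, fun j => ?_⟩
      have := h j
      rw [Submodule.mem_comap, Submodule.subtype_apply, hE, ev_restr, hNc] at this
      obtain ⟨n, hn, hn'⟩ := this
      have h4 := X_pow_mul_cancel (k := k) c hn'
      simp only [LinearMap.comp_apply, LinearMap.fst_apply, LinearMap.toSpanSingleton_apply,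
        zero_smul, one_smul, Submodule.coe_zero, zero_sub] at h4
      have h5 : X ^ (a j) * (n₀ : PowerSeries k) = -n := by rw [← h4]; ring
      rw [Submodule.subtype_apply, h5]
      exact N.neg_mem hn
    · rintro ⟨_, h⟩ j
      rw [Submodule.mem_comap, Submodule.subtype_apply, hE, ev_restr, hNc]
      refine ⟨-(X ^ (a j) * (n₀ : PowerSeries k)), N.neg_mem (h j), ?_⟩
      simp only [LinearMap.comp_apply, LinearMap.fst_apply, LinearMap.toSpanSingleton_apply,
        zero_smul, one_smul, Submodule.coe_zero, zero_sub]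

end Groth.Agent.Lib.Helper75.ExtMono
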