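import Mathlib
import Groth.Agent.Lib.Helper75.ExtPres
import Groth.Agent.Lib.Helper75.LenDim

/-!
# `Ext¹` of modules `A + ∑ A g_j` over a subring of an overring `B` containing `xc B` (helper75)

Generalisation of `ExtMono` from `k⟦X⟧` to an abstract commutative ring `B`: `A` acts on `B`
through an injective ring map `ι : A → B`, `xc ∈ B` is a nonzerodivisor with `xc B ⊆ ι A`.  For
`M = A + ∑ A g_j ⊆ B` and an `A`-submodule `N` of `B`,

`∑_j length (H_j / xc N) = length (N / N') + length Ext¹_A(M, N)`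

where `N' = {n ∈ N | g_j n ∈ N ∀ j}` and the `H_j` describe `Hom_A(K, N)` for the syzygy
module `K`, provided the latter is a product (hypothesis `hH`).
-/

universe u
open CategoryTheory

namespace Groth.Agent.Lib.Helper75.ExtMonoB

open Groth.Agent.Lib.Helper75

variable {B : Type u} [CommRing B] {A : Type u} [CommRing A] [Module A B]
  (ι : A →+* B) (hsmul : ∀ (a : A) (f : B), a • f = ι a * f)
  {r : ℕ} (g : Fin r → B)

/-- The presentation `A × A^r → k⟦X⟧`, `(x₀, y) ↦ x₀ + ∑ y_j X^{a_j}`. -/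
noncomputable def pi0 : (A × (Fin r → A)) →ₗ[A] B :=
  LinearMap.coprod (LinearMap.toSpanSingleton A (B) 1)
    (Fintype.linearCombination A g)

include hsmul in
lemma pi0_apply (x : A × (Fin r → A)) :
    pi0 (B := B) g x = ι x.1 + ∑ j, ι (x.2 j) * g j := by
  simp only [pi0, LinearMap.coprod_apply, LinearMap.toSpanSingleton_apply,
    Fintype.linearCombination_apply, hsmul, mul_one]

lemma range_pi0 :
    LinearMap.range (pi0 (B := B) (A := A) g) =
      Submodule.span A (insert (1 : B) (Set.range g)) := by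
  rw [pi0, LinearMap.range_coprod, Fintype.range_linearCombination,
    LinearMap.range_toSpanSingleton, Set.insert_eq, Submodule.span_union]

variable (hinj : Function.Injective ι) (xc : B) (hxc : ∀ f f' : B, xc * f = xc * f' → f = f')
  (hc : ∀ f : B, ∃ b : A, ι b = xc * f)

/-- an element of `A` mapping to `xc * f`. -/
noncomputable def lift (f : B) : A := Classical.choose (hc f)

omit [Module A (B)] in
lemma ι_lift (f : B) : ι (lift ι xc hc f) = xc * f := Classical.choose_spec (hc f)

/-- The elements `w_j = (-X^{c + a_j}, X^c e_j)` of the syzygy module. -/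
noncomputable def w (j : Fin r) : LinearMap.ker (pi0 (B := B) (A := A) g) :=
  ⟨(-(lift ι xc hc (g j)), Pi.single j (lift ι xc hc 1)), by
    classical
    rw [LinearMap.mem_ker, pi0_apply ι hsmul]
    simp only [map_neg, ι_lift]
    rw [Finset.sum_eq_single j]
    · rw [Pi.single_eq_same, ι_lift, mul_one]; ring
    · intro i _ hij
      rw [Pi.single_eq_of_ne hij, map_zero, zero_mul]
    · intro h; exact absurd (Finset.mem_univ j) h⟩

include hinj in
lemma key_identity (κ : LinearMap.ker (pi0 (B := B) (A := A) g)) :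
    lift ι xc hc 1 • κ = ∑ j, (κ : A × (Fin r → A)).2 j • w ι hsmul g xc hc j := by
  classical
  apply Subtype.ext
  have hκ : ι (κ : A × (Fin r → A)).1 + ∑ j, ι ((κ : A × (Fin r → A)).2 j) * g j = 0 := by
    have := κ.2
    rw [LinearMap.mem_ker, pi0_apply ι hsmul] at this
    exact this
  rw [Submodule.coe_smul, Submodule.coe_sum]
  apply Prod.ext
  · simp only [Prod.smul_fst, Prod.fst_sum, Submodule.coe_smul, w, smul_eq_mul]
    apply hinj
    rw [map_mul, map_sum, ι_lift, mul_one]
    have h2 : ∀ j, ι ((κ : A × (Fin r → A)).2 j * -lift ι xc hc (g j)) =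
        - (xc * (ι ((κ : A × (Fin r → A)).2 j) * g j)) := by
      intro j
      rw [map_mul, map_neg, ι_lift]; ring
    rw [Finset.sum_congr rfl (fun j _ => h2 j), Finset.sum_neg_distrib, ← Finset.mul_sum]
    have : ι (κ : A × (Fin r → A)).1 = - ∑ j, ι ((κ : A × (Fin r → A)).2 j) * g j :=
      eq_neg_of_add_eq_zero_left hκ
    rw [this]; ring
  · ext i
    simp only [Prod.smul_snd, Prod.snd_sum, Submodule.coe_smul, w, Pi.smul_apply, smul_eq_mul,
      Finset.sum_apply]
    rw [Finset.sum_eq_single i]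
    · rw [Pi.single_eq_same, mul_comm]
    · intro j _ hji
      rw [Pi.single_eq_of_ne hji.symm, mul_zero]
    · intro h; exact absurd (Finset.mem_univ i) h

variable (N : Submodule A (B))

include hinj in
/-- The basic formula: `X^c φ(κ) = ∑ y_j φ(w_j)`. -/
lemma X_pow_mul_apply (φ : LinearMap.ker (pi0 (B := B) (A := A) g) →ₗ[A] ↥N)
    (κ : LinearMap.ker (pi0 (B := B) (A := A) g)) :
    xc * (φ κ : B) =
      ∑ j, ι ((κ : A × (Fin r → A)).2 j) * (φ (w ι hsmul g xc hc j) : B) := by
  have h1 : (φ (lift ι xc hc 1 • κ) : B) = xc * (φ κ : B) := by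
    rw [map_smul, Submodule.coe_smul, hsmul, ι_lift, mul_one]
  rw [← h1, key_identity ι hsmul g hinj xc hc κ, map_sum, Submodule.coe_sum]
  apply Finset.sum_congr rfl
  intro j _
  rw [map_smul, Submodule.coe_smul, hsmul]

variable (Nc N' : Submodule A (B)) (H : Fin r → Submodule A (B))
  (hNc : ∀ f, f ∈ Nc ↔ ∃ n ∈ N, f = xc * n)
  (hN' : ∀ f, f ∈ N' ↔ f ∈ N ∧ ∀ j, g j * f ∈ N)
  (hH : ∀ h : Fin r → B, (∀ j, h j ∈ H j) ↔
    ((∀ j, h j ∈ N) ∧ ∀ κ ∈ LinearMap.ker (pi0 (B := B) (A := A) g),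
      ∑ j, ι (κ.2 j) * h j ∈ Nc))

/-- The evaluation map `Hom(K, N) → ∏ H_j`. -/
noncomputable def ev :
    (LinearMap.ker (pi0 (B := B) (A := A) g) →ₗ[A] ↥N) →ₗ[A] (∀ j : Fin r, ↥(H j)) where
  toFun φ := fun j => ⟨(φ (w ι hsmul g xc hc j) : B), by
    have := (hH (fun j => (φ (w ι hsmul g xc hc j) : B))).mpr
      ⟨fun j => (φ _).2, fun κ hκ => by
        rw [← X_pow_mul_apply ι hsmul g hinj xc hc N φ ⟨κ, hκ⟩, hNc]
        exact ⟨_, (φ _).2, rfl⟩⟩
    exact this j⟩
  map_add' φ ψ := by
    ext j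
    simp
  map_smul' b φ := by
    ext j
    simp

lemma ev_apply (φ : LinearMap.ker (pi0 (B := B) (A := A) g) →ₗ[A] ↥N) (j : Fin r) :
    ((ev ι hsmul g hinj xc hc N Nc H hNc hH φ j : ↥(H j)) : B) =
      (φ (w ι hsmul g xc hc j) : B) := rfl



include hxc in
lemma ev_injective : Function.Injective (ev ι hsmul g hinj xc hc N Nc H hNc hH) := by
  rw [injective_iff_map_eq_zero]
  intro φ hφ
  apply LinearMap.ext
  intro κ
  apply Subtype.ext
  rw [LinearMap.zero_apply, Submodule.coe_zero]
  apply hxc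
  rw [mul_zero]
  rw [X_pow_mul_apply ι hsmul g hinj xc hc N φ κ]
  have : ∀ j, (φ (w ι hsmul g xc hc j) : B) = 0 := by
    intro j
    have := congrFun hφ j
    rw [← ev_apply ι hsmul g hinj xc hc N Nc H hNc hH φ j, this]
    rfl
  simp [this]

include hxc in
lemma ev_surjective : Function.Surjective (ev ι hsmul g hinj xc hc N Nc H hNc hH) := by
  classical
  intro h
  have hh := (hH (fun j => (h j : B))).mp (fun j => (h j).2)
  have hex : ∀ κ : LinearMap.ker (pi0 (B := B) (A := A) g), ∃ n : ↥N,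
      xc * (n : B) = ∑ j, ι ((κ : A × (Fin r → A)).2 j) * (h j : B) := by
    intro κ
    obtain ⟨n, hn, hn'⟩ := (hNc _).mp (hh.2 κ.1 κ.2)
    exact ⟨⟨n, hn⟩, hn'.symm⟩
  choose φ hφ using hex
  let Φ : LinearMap.ker (pi0 (B := B) (A := A) g) →ₗ[A] ↥N :=
    { toFun := φ
      map_add' := fun κ κ' => by
        apply Subtype.ext
        apply hxc
        rw [Submodule.coe_add, mul_add, hφ, hφ, hφ, ← Finset.sum_add_distrib]
        apply Finset.sum_congr rfl
        intro j _
        simp only [Submodule.coe_add, Prod.snd_add, Pi.add_apply, map_add]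
        ring
      map_smul' := fun b κ => by
        apply Subtype.ext
        apply hxc
        rw [RingHom.id_apply, Submodule.coe_smul, hsmul, mul_left_comm, hφ, hφ, Finset.mul_sum]
        apply Finset.sum_congr rfl
        intro j _
        simp only [Submodule.coe_smul, Prod.smul_snd, Pi.smul_apply, smul_eq_mul, map_mul]
        ring }
  refine ⟨Φ, ?_⟩
  funext j
  apply Subtype.ext
  rw [ev_apply]
  apply hxc
  change xc * (φ (w ι hsmul g xc hc j) : B) = _
  rw [hφ]
  rw [Finset.sum_eq_single j]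
  · simp only [w]
    rw [Pi.single_eq_same, ι_lift, mul_one]
  · intro i _ hij
    simp only [w]
    rw [Pi.single_eq_of_ne hij, map_zero, zero_mul]
  · intro h; exact absurd (Finset.mem_univ j) h

include hxc in
/-- `Hom_A(K, N) ≃ ∏ H_j`. -/
noncomputable def evEquiv :
    (LinearMap.ker (pi0 (B := B) (A := A) g) →ₗ[A] ↥N) ≃ₗ[A] (∀ j : Fin r, ↥(H j)) :=
  LinearEquiv.ofBijective (ev ι hsmul g hinj xc hc N Nc H hNc hH)
    ⟨ev_injective ι hsmul g hinj xc hxc hc N Nc H hNc hH, ev_surjective ι hsmul g hinj xc hxc hc N Nc H hNc hH⟩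

/-- Restriction of maps `A × A^r → N` to the syzygy module. -/
noncomputable abbrev restr : ((A × (Fin r → A)) →ₗ[A] ↥N) →ₗ[A]
    (LinearMap.ker (pi0 (B := B) (A := A) g) →ₗ[A] ↥N) :=
  LinearMap.lcomp A ↥N (LinearMap.ker (pi0 (B := B) (A := A) g)).subtype

lemma ev_restr (ψ : (A × (Fin r → A)) →ₗ[A] ↥N) (j : Fin r) :
    ((ev ι hsmul g hinj xc hc N Nc H hNc hH (restr g N ψ) j : ↥(H j)) : B) =
      xc * ((ψ (0, Pi.single j 1) : B) - g j * (ψ (1, 0) : B)) := by
  classical
  rw [ev_apply]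
  change (ψ ((w ι hsmul g xc hc j : LinearMap.ker (pi0 (B := B) (A := A) g)) : A × (Fin r → A)) :
    B) = _
  have h1 : ((w ι hsmul g xc hc j : LinearMap.ker (pi0 (B := B) (A := A) g)) : A × (Fin r → A)) =
      (-(lift ι xc hc (g j))) • ((1 : A), (0 : Fin r → A)) +
        (lift ι xc hc 1) • ((0 : A), (Pi.single j 1 : Fin r → A)) := by
    simp only [w]
    apply Prod.ext
    · simp
    · ext i
      by_cases hij : i = j
      · subst hij; simp
      · simp [Pi.single_eq_of_ne hij]
  rw [h1, map_add, map_smul, map_smul, Submodule.coe_add, Submodule.coe_smul, Submodule.coe_smul,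
    hsmul, hsmul, map_neg, ι_lift, ι_lift]
  ring

include ι hsmul hinj xc hxc hc hNc hN' hH in
/-- The main formula. -/
theorem main :
    ∑ j, Module.length A (SubQ (H j) Nc) =
      Module.length A (SubQ N N') +
        Module.length A (Abelian.Ext (ModuleCat.of A ↥(LinearMap.range (pi0 (B := B) (A := A) g)))
          (ModuleCat.of A ↥N) 1) := by
  classical
  obtain ⟨eExt⟩ := ExtPres.ext_one_equiv (N := ↥N)
    (LinearMap.ker (pi0 (B := B) (A := A) g)).subtype (pi0 (B := B) (A := A) g).rangeRestrict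
    (Submodule.injective_subtype _) (LinearMap.surjective_rangeRestrict _)
    (by rw [Submodule.range_subtype, LinearMap.ker_rangeRestrict])
  let E := evEquiv ι hsmul g hinj xc hxc hc N Nc H hNc hH
  have hE : ∀ φ j, ((E φ j : ↥(H j)) : B) =
      ((ev ι hsmul g hinj xc hc N Nc H hNc hH φ j : ↥(H j)) : B) := fun _ _ => rfl
  -- a map vanishing at (1,0) restricts into T'
  have hvan : ∀ ψ : (A × (Fin r → A)) →ₗ[A] ↥N, ψ (1, 0) = 0 →
      ∀ j, E (restr g N ψ) j ∈ Nc.comap (H j).subtype := by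
    intro ψ hψ j
    rw [Submodule.mem_comap, Submodule.subtype_apply, hE, ev_restr, hψ, hNc]
    refine ⟨_, (ψ (0, Pi.single j 1)).2, ?_⟩
    simp
  -- the map θ
  let θ : ↥N →ₗ[A] (LinearMap.ker (pi0 (B := B) (A := A) g) →ₗ[A] ↥N) :=
    restr g N ∘ₗ (LinearMap.lcomp A ↥N (LinearMap.fst A A (Fin r → A))) ∘ₗ
      (LinearMap.ringLmapEquivSelf A A ↥N).symm.toLinearMap
  have hθ : ∀ n₀ : ↥N, θ n₀ = restr g N
      ((LinearMap.toSpanSingleton A ↥N n₀) ∘ₗ LinearMap.fst A A (Fin r → A)) := by
    intro n₀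
    apply LinearMap.ext
    intro κ
    simp [θ]
  have key := ExtPres.length_combine (A := A)
    (Hom := (LinearMap.ker (pi0 (B := B) (A := A) g) →ₗ[A] ↥N)) (N₁ := ↥N)
    (Vj := fun j => ↥(H j)) E (LinearMap.range (restr g N))
    (fun j => Nc.comap (H j).subtype) ?_ θ ?_ ?_ (N'.comap N.subtype) ?_
  · rw [← eExt.length_eq] at key
    exact key
  · -- T' ≤ Rg
    intro φ hφ
    have hex : ∀ j, ∃ n : ↥N,
        ((ev ι hsmul g hinj xc hc N Nc H hNc hH φ j : ↥(H j)) : B) =
          xc * (n : B) := by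
      intro j
      have := hφ j
      rw [Submodule.mem_comap, Submodule.subtype_apply, hE] at this
      obtain ⟨n, hn, hn'⟩ := (hNc _).mp this
      exact ⟨⟨n, hn⟩, hn'⟩
    choose n hn using hex
    refine ⟨(Fintype.linearCombination A n) ∘ₗ LinearMap.snd A A (Fin r → A), ?_⟩
    apply ev_injective ι hsmul g hinj xc hxc hc N Nc H hNc hH
    funext j
    apply Subtype.ext
    rw [ev_restr, hn j]
    congr 1
    simp [Fintype.linearCombination_apply, Pi.single_apply]
  · intro n₀
    rw [hθ]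
    exact LinearMap.mem_range_self _ _
  · rintro _ ⟨ψ, rfl⟩
    refine ⟨ψ (1, 0), ?_⟩
    rw [hθ]
    have h1 : (restr g N) ψ - (restr g N)
        (LinearMap.toSpanSingleton A (↥N) (ψ (1, 0)) ∘ₗ LinearMap.fst A A (Fin r → A)) =
        restr g N (ψ - LinearMap.toSpanSingleton A (↥N) (ψ (1, 0)) ∘ₗ
          LinearMap.fst A A (Fin r → A)) := LinearMap.ext fun κ => rfl
    rw [h1]
    apply hvan
    simp
  · intro n₀
    rw [hθ, Submodule.mem_comap, hN']
    constructor
    · intro h
      refine ⟨n₀.2, fun j => ?_⟩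
      have := h j
      rw [Submodule.mem_comap, Submodule.subtype_apply, hE, ev_restr, hNc] at this
      obtain ⟨n, hn, hn'⟩ := this
      have h4 := hxc _ _ hn'
      simp only [LinearMap.comp_apply, LinearMap.fst_apply, LinearMap.toSpanSingleton_apply,
        zero_smul, one_smul, Submodule.coe_zero, zero_sub] at h4
      have h5 : g j * (n₀ : B) = -n := by rw [← h4]; ring
      rw [Submodule.subtype_apply, h5]
      exact N.neg_mem hn
    · rintro ⟨_, h⟩ j
      rw [Submodule.mem_comap, Submodule.subtype_apply, hE, ev_restr, hNc]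
      refine ⟨-(g j * (n₀ : B)), N.neg_mem (h j), ?_⟩
      simp only [LinearMap.comp_apply, LinearMap.fst_apply, LinearMap.toSpanSingleton_apply,
        zero_smul, one_smul, Submodule.coe_zero, zero_sub]

end Groth.Agent.Lib.Helper75.ExtMonoB
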