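import Mathlib
import Groth.Agent.S0591
import Groth.Agent.S9218
import Groth.Agent.Lib.Helper93.DirectedUnionSpec
import Groth.Agent.Lib.Helper67.ZetaPts

/-!
# Points of group schemes of finite type over an algebraic closure of a finite field are torsion
(helper75)

`k` a field of characteristic `p` in which every element satisfies `x ^ p ^ n = x` for some
`n ≥ 1` (so `k` is the directed union of its finite subfields `B n = {x | x ^ p ^ n = x}`).  A group
scheme `A` of finite presentation over `k` descends, as a scheme, to some finite subfield (S0591),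
right translation by a `k`-point `a` descends to an endomorphism `r` of the model `Y` (S9218), the
unit point descends to a point with values in a finite subfield `F`, and the orbit of that point
under `r` in the finite set `Y(F)` (helper67) must repeat.
-/

set_option autoImplicit false
universe u
open CategoryTheory CategoryTheory.Limits AlgebraicGeometry MonoidalCategory CartesianMonoidalCategory
  MonObj

namespace Groth.Agent.Lib.Helper75.FinFieldTors

section Subfields

variable (p : ℕ) [Fact p.Prime] (k : Type u) [Field k] [CharP k p]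

/-- the algebra structure of `k` over (a lift of) its prime field -/
@[reducible] noncomputable def alg : Algebra (ULift.{u} (ZMod p)) k :=
  ((ZMod.castHom (dvd_refl p) k).comp
    (ULift.ringEquiv : ULift.{u} (ZMod p) ≃+* ZMod p).toRingHom).toAlgebra

attribute [local instance] alg

omit [Fact p.Prime] [CharP k p] in
theorem pow_iter {x : k} {n : ℕ} (hx : x ^ p ^ n = x) (m : ℕ) : x ^ p ^ (n * m) = x := by
  induction m with
  | zero => simp
  | succ m ih => rw [Nat.mul_succ, pow_add, pow_mul, ih, hx]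

/-- the subfield `{x | x ^ p ^ n = x}` as a subalgebra -/
noncomputable def B (n : ℕ) : Subalgebra (ULift.{u} (ZMod p)) k where
  carrier := {x | x ^ p ^ n = x}
  mul_mem' := fun {a b} ha hb => by
    simp only [Set.mem_ofPred_eq] at ha hb ⊢
    rw [mul_pow, ha, hb]
  one_mem' := one_pow _
  add_mem' := fun {a b} ha hb => by
    simp only [Set.mem_ofPred_eq] at ha hb ⊢
    rw [add_pow_char_pow, ha, hb]
  zero_mem' := zero_pow (pow_pos (Fact.out : p.Prime).pos n).ne'
  algebraMap_mem' := fun r => by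
    show (algebraMap (ULift.{u} (ZMod p)) k r) ^ p ^ n = algebraMap (ULift.{u} (ZMod p)) k r
    rw [← map_pow]
    congr 1
    apply ULift.ext
    show (r.down) ^ p ^ n = r.down
    exact ZMod.pow_card_pow _

theorem mem_B {n : ℕ} {x : k} : x ∈ B p k n ↔ x ^ p ^ n = x := Iff.rfl

theorem B_le_mul (n m : ℕ) : B p k n ≤ B p k (n * m) := fun _ hx => pow_iter p k hx m

theorem B_le_mul' (n m : ℕ) : B p k m ≤ B p k (n * m) := by
  rw [mul_comm]
  exact B_le_mul p k m n

theorem finite_B {n : ℕ} (hn : 0 < n) : Finite (B p k n) := by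
  classical
  have hp : 1 < p := (Fact.out : p.Prime).one_lt
  have hpn : 1 < p ^ n := Nat.one_lt_pow hn.ne' hp
  have hf : (Polynomial.X ^ p ^ n - Polynomial.X : Polynomial k) ≠ 0 :=
    FiniteField.X_pow_card_sub_X_ne_zero k hpn
  have hfin := Polynomial.finite_setOfPred_isRoot hf
  refine Set.Finite.subset hfin ?_ |>.to_subtype
  intro x hx
  simp only [Set.mem_ofPred_eq, Polynomial.IsRoot.def, Polynomial.eval_sub, Polynomial.eval_pow,
    Polynomial.eval_X]
  rw [(mem_B p k).1 hx, sub_self]

/-- the family of finite subfields -/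
def T : Set (Subalgebra (ULift.{u} (ZMod p)) k) := {S | ∃ n, 0 < n ∧ S = B p k n}

theorem directedOn_T : DirectedOn (· ≤ ·) (T p k) := by
  rintro _ ⟨n, hn, rfl⟩ _ ⟨m, hm, rfl⟩
  exact ⟨B p k (n * m), ⟨n * m, Nat.mul_pos hn hm, rfl⟩, B_le_mul p k n m, B_le_mul' p k n m⟩

theorem cover_T (halg : ∀ x : k, ∃ n : ℕ, 0 < n ∧ x ^ (p ^ n) = x) (c : k) :
    ∃ S ∈ T p k, c ∈ S := by
  obtain ⟨n, hn, h⟩ := halg c
  exact ⟨B p k n, ⟨n, hn, rfl⟩, h⟩

end Subfields


section Iter

variable {C : Type*} [Category C]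

/-- iterates of an endomorphism -/
def iter {X : C} (f : X ⟶ X) : ℕ → (X ⟶ X)
  | 0 => 𝟙 X
  | n + 1 => iter f n ≫ f

theorem iter_zero {X : C} (f : X ⟶ X) : iter f 0 = 𝟙 X := rfl

theorem iter_succ {X : C} (f : X ⟶ X) (n : ℕ) : iter f (n + 1) = iter f n ≫ f := rfl

theorem iter_comm {X Y : C} (f : X ⟶ X) (g : Y ⟶ Y) (s : X ⟶ Y) (h : s ≫ g = f ≫ s) (n : ℕ) :
    s ≫ iter g n = iter f n ≫ s := by
  induction n with
  | zero => simp [iter_zero]
  | succ n ih => rw [iter_succ, iter_succ, ← Category.assoc, ih, Category.assoc, h, Category.assoc]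

end Iter

section Translate

variable {S : Scheme.{u}} (A : Over S) [GrpObj A] (a : 𝟙_ (Over S) ⟶ A)

/-- right translation by the point `a` -/
noncomputable def Ra : A ⟶ A := lift (𝟙 A) (toUnit A ≫ a) ≫ μ[A]

theorem comp_Ra (x : 𝟙_ (Over S) ⟶ A) : x ≫ Ra A a = x * a := by
  rw [Ra, ← Category.assoc, comp_lift, Category.comp_id, ← Category.assoc,
    toUnit_unique (x ≫ toUnit A) (𝟙 _), Category.id_comp, Hom.mul_def]

theorem pow_left (n : ℕ) : (a ^ n).left = η[A].left ≫ iter (Ra A a).left n := by
  induction n with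
  | zero =>
    rw [pow_zero, iter_zero, Category.comp_id]
    rfl
  | succ n ih =>
    rw [pow_succ, ← comp_Ra, Over.comp_left, ih, iter_succ, Category.assoc]

end Translate


section Up

variable {R₀ K : Type*} [CommRing R₀] [CommRing K] [Algebra R₀ K]

/-- a larger subalgebra viewed as a subalgebra over a smaller one -/
def up (S S' : Subalgebra R₀ K) (h : S ≤ S') : Subalgebra S K :=
  { S'.toSubsemiring with algebraMap_mem' := fun b => h b.2 }

theorem mem_up {S S' : Subalgebra R₀ K} (h : S ≤ S') {x : K} : x ∈ up S S' h ↔ x ∈ S' := Iff.rfl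

end Up

section Main

open Groth.Agent.Lib.Helper93

variable (p : ℕ) [Fact p.Prime] (k : Type u) [Field k] [CharP k p]

attribute [local instance] alg

theorem isOfFinOrder_point (halg : ∀ x : k, ∃ n : ℕ, 0 < n ∧ x ^ (p ^ n) = x)
    (A : Over (Spec (CommRingCat.of k))) [GrpObj A] [LocallyOfFiniteType A.hom]
    [QuasiCompact A.hom] [QuasiSeparated A.hom]
    (a : 𝟙_ (Over (Spec (CommRingCat.of k))) ⟶ A) : IsOfFinOrder a := by
  classical
  have hdirT := directedOn_T p k
  have hcovT := cover_T p k halg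
  have : Nonempty (T p k) := by
    obtain ⟨S, hS, -⟩ := hcovT 0
    exact ⟨⟨S, hS⟩⟩
  have : IsDirected (T p k) (· ≤ ·) := ⟨fun a b => by
    obtain ⟨c, hc, h1, h2⟩ := hdirT a.1 a.2 b.1 b.2
    exact ⟨⟨c, hc⟩, h1, h2⟩⟩
  let D : (T p k)ᵒᵖ ⥤ Scheme.{u} := (DirectedUnionSpec.diag (T p k)).op ⋙ Scheme.Spec
  let c : Cone D := Scheme.Spec.mapCone (DirectedUnionSpec.cocone (T p k)).op
  have hc : IsLimit c := isLimitOfPreserves Scheme.Spec (DirectedUnionSpec.isColimitCocone hdirT hcovT).op
  have haff : ∀ (i j : (T p k)ᵒᵖ) (h : i ⟶ j), IsAffineHom (D.map h) := fun i j h => by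
    change IsAffineHom (Spec.map _)
    infer_instance
  have hcomp : ∀ i : (T p k)ᵒᵖ, CompactSpace (D.obj i) := fun i => by
    change CompactSpace (Spec (CommRingCat.of i.unop.1))
    infer_instance
  have hqs : ∀ i : (T p k)ᵒᵖ, QuasiSeparatedSpace (D.obj i) := fun i => by
    change QuasiSeparatedSpace (Spec (CommRingCat.of i.unop.1))
    infer_instance
  have hlfp : LocallyOfFinitePresentation A.hom :=
    LocallyOfFinitePresentation.iff_locallyOfFiniteType.2 inferInstance
  let f' : A.left ⟶ c.pt := A.hom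
  have hf'1 : LocallyOfFinitePresentation f' := hlfp
  have hf'2 : QuasiCompact f' := inferInstanceAs (QuasiCompact A.hom)
  have hf'3 : QuasiSeparated f' := inferInstanceAs (QuasiSeparated A.hom)
  obtain ⟨i, Xi, fi, g, hfi1, hfi2, hfi3, hpb⟩ := Groth.Agent.S0591.result D c hc A.left f'
  have hXi1 : CompactSpace Xi := QuasiCompact.compactSpace_of_compactSpace fi
  have hXi2 : QuasiSeparatedSpace Xi := quasiSeparatedSpace_of_quasiSeparated fi
  -- descend right translation by `a`
  let R : A.left ⟶ A.left := (Ra A a).left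
  have hR : R ≫ f' = f' := Over.w (Ra A a)
  obtain ⟨j, φ, fj, sX, sY, h1, h2, h3, h4, h5, h6⟩ :=
    Groth.Agent.S9218.result D c hc i fi fi g f' hpb g f' hpb R hR
  have hsXY : sX = sY := by
    apply pullback.hom_ext
    · rw [h2, h4]
    · rw [h3, h5]
  subst hsXY
  -- the model `Y` over the finite field `B_j`
  have hpbY : IsPullback sX f' (pullback.snd fi (D.map φ)) (c.π.app j) := by
    have hbig : IsPullback (sX ≫ pullback.fst fi (D.map φ)) f' fi (c.π.app j ≫ D.map φ) := by
      rw [h2, c.w φ]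
      exact hpb
    exact IsPullback.of_right hbig h3 (IsPullback.of_hasPullback fi (D.map φ))
  have hcomm : ∀ n : ℕ, sX ≫ iter fj n = iter R n ≫ sX := iter_comm R fj sX h6
  -- the unit point
  let e₀ : Spec (CommRingCat.of k) ⟶ pullback fi (D.map φ) := η[A].left ≫ sX
  have he₀ : e₀ ≫ pullback.snd fi (D.map φ) = c.π.app j := by
    show (η[A].left ≫ sX) ≫ pullback.snd fi (D.map φ) = c.π.app j
    rw [Category.assoc, h3, ← Category.assoc]
    have : η[A].left ≫ f' = 𝟙 _ := Over.w η[A]
    rw [this]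
    exact Category.id_comp _
  -- descend the unit point to a finite subfield
  obtain ⟨nj, hnj, hBj⟩ := j.unop.2
  let Bj : Subalgebra (ULift.{u} (ZMod p)) k := j.unop.1
  have hle : ∀ n : ℕ, Bj ≤ B p k (nj * n) := fun n => by
    show j.unop.1 ≤ B p k (nj * n)
    rw [hBj]
    exact B_le_mul p k nj n
  let Sf : ULift.{u} ℕ+ → Subalgebra Bj k := fun n => up Bj (B p k (nj * n.down)) (hle _)
  have hSdir : Directed (· ≤ ·) Sf := by
    intro n m
    refine ⟨⟨n.down * m.down⟩, ?_, ?_⟩
    · intro x hx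
      have hx' : x ∈ B p k (nj * n.down) := hx
      show x ∈ B p k (nj * ((n.down * m.down : ℕ+) : ℕ))
      rw [PNat.mul_coe, ← _root_.mul_assoc]
      exact B_le_mul p k _ _ hx'
    · intro x hx
      have hx' : x ∈ B p k (nj * m.down) := hx
      show x ∈ B p k (nj * ((n.down * m.down : ℕ+) : ℕ))
      rw [PNat.mul_coe, _root_.mul_comm (n.down : ℕ), ← _root_.mul_assoc]
      exact B_le_mul p k _ _ hx'
  have hScov : ∀ x : k, ∃ n, x ∈ Sf n := by
    intro x
    obtain ⟨n, hn, hx⟩ := halg x
    refine ⟨⟨⟨n, hn⟩⟩, ?_⟩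
    show x ∈ B p k (nj * n)
    exact B_le_mul' p k nj n hx
  let y : pullback fi (D.map φ) ⟶ Spec (CommRingCat.of Bj) := pullback.snd fi (D.map φ)
  have hfi4 : LocallyOfFiniteType fi := inferInstance
  have hy1 : LocallyOfFiniteType y := inferInstanceAs (LocallyOfFiniteType (pullback.snd fi (D.map φ)))
  have hy2 : QuasiCompact y := inferInstanceAs (QuasiCompact (pullback.snd fi (D.map φ)))
  obtain ⟨n₀, g', hg'1, hg'2⟩ := DirectedUnionSpec.exists_hom_from_subalgebra Bj k Sf hSdir hScov
    (pullback fi (D.map φ)) y e₀ he₀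
  -- finiteness of `Y(F)`
  have hFfin : Finite (Sf n₀) := finite_B p k (n := nj * n₀.down) (Nat.mul_pos hnj n₀.down.pos)
  have hBjfin : Finite Bj := by
    show Finite j.unop.1
    rw [hBj]
    exact finite_B p k hnj
  let _ : Field Bj := (Finite.isField_of_domain Bj).toField
  let _ : Field (Sf n₀) := (Finite.isField_of_domain (Sf n₀)).toField
  have hfinpts : Finite (Spec (CommRingCat.of (Sf n₀)) ⟶ pullback fi (D.map φ)) :=
    Groth.Agent.Lib.Helper67.finite_points_finField (k := Bj) y (Sf n₀)
  obtain ⟨s, t, hst, heq⟩ := Finite.exists_ne_map_eq_of_infinite (fun n : ℕ => g' ≫ iter fj n)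
  have heq' : g' ≫ iter fj s = g' ≫ iter fj t := heq
  -- transfer to `A`
  have key : ∀ n : ℕ, (a ^ n).left ≫ sX =
      Spec.map (CommRingCat.ofHom (Sf n₀).val.toRingHom) ≫ g' ≫ iter fj n := by
    intro n
    rw [pow_left, Category.assoc, ← hcomm n, ← Category.assoc, ← Category.assoc, hg'2]
  have hpow : a ^ s = a ^ t := by
    apply Over.OverMorphism.ext
    apply hpbY.hom_ext
    · rw [key, key, heq']
    · exact (Over.w (a ^ s)).trans (Over.w (a ^ t)).symm
  by_contra hno
  exact hst (injective_pow_iff_not_isOfFinOrder.2 hno hpow)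

end Main

end Groth.Agent.Lib.Helper75.FinFieldTors
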