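import Mathlib

/-!
# Lifting linear maps commuting with semilinear endomorphisms

Let `σ : W →+* W`, `P₁`, `P₂` be `W`-modules with `σ`-semilinear endomorphisms `F₁`, `F₂`, and assume
`F₁` carries a basis `b₁` to a basis.  The operator `U α = F₂ α F₁⁻¹` on `Hom(P₁, P₂)` is additive,
its fixed points are the maps commuting with `F`, and it is nilpotent on maps with values in `𝔠 P₂`
when a power of `σ` kills `𝔠`.  (Zink, *The display of a formal p-divisible group*, Lemma 42.)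
-/

set_option autoImplicit false
universe u v w z

namespace Groth.Agent.Lib.Helper75.FrobSemilinearLift

open Module

variable {W : Type u} [CommRing W] {σ : W →+* W}
  {P₁ : Type v} [AddCommGroup P₁] [Module W P₁] {P₂ : Type w} [AddCommGroup P₂] [Module W P₂]
  {ι₁ : Type z} (b₁ : Basis ι₁ W P₁) (F₁ : P₁ →ₛₗ[σ] P₁) (F₂ : P₂ →ₛₗ[σ] P₂)
  (hF₁ : LinearIndependent W (fun i => F₁ (b₁ i)) ∧
    Submodule.span W (Set.range fun i => F₁ (b₁ i)) = ⊤)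

/-- the basis `F₁ ∘ b₁` -/
noncomputable def c₁ : Basis ι₁ W P₁ := Basis.mk hF₁.1 hF₁.2.ge

include hF₁ in
lemma c₁_apply (i : ι₁) : c₁ b₁ F₁ hF₁ i = F₁ (b₁ i) := by
  simp [c₁]

/-- the operator `α ↦ F₂ α F₁⁻¹` -/
noncomputable def U : (P₁ →ₗ[W] P₂) →+ (P₁ →ₗ[W] P₂) where
  toFun α := (c₁ b₁ F₁ hF₁).constr W (fun j => F₂ (α (b₁ j)))
  map_zero' := by
    apply (c₁ b₁ F₁ hF₁).ext
    intro j
    simp
  map_add' α β := by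
    apply (c₁ b₁ F₁ hF₁).ext
    intro j
    simp

lemma U_apply_basis (α : P₁ →ₗ[W] P₂) (j : ι₁) :
    U b₁ F₁ F₂ hF₁ α (F₁ (b₁ j)) = F₂ (α (b₁ j)) := by
  rw [← c₁_apply b₁ F₁ hF₁ j]
  simp [U]

lemma U_apply_F (α : P₁ →ₗ[W] P₂) (x : P₁) :
    U b₁ F₁ F₂ hF₁ α (F₁ x) = F₂ (α x) := by
  have h : (U b₁ F₁ F₂ hF₁ α).comp F₁ = F₂.comp α := by
    apply b₁.ext
    intro j
    simp only [LinearMap.comp_apply]
    exact U_apply_basis b₁ F₁ F₂ hF₁ α j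
  exact LinearMap.congr_fun h x

lemma U_eq_self_iff (α : P₁ →ₗ[W] P₂) :
    U b₁ F₁ F₂ hF₁ α = α ↔ ∀ x, F₂ (α x) = α (F₁ x) := by
  constructor
  · intro h x
    rw [← U_apply_F b₁ F₁ F₂ hF₁ α x, h]
  · intro h
    apply (c₁ b₁ F₁ hF₁).ext
    intro j
    rw [c₁_apply, U_apply_F, h]

lemma F₂_mem (𝔡 : Ideal W) {y : P₂} (hy : y ∈ (𝔡 • ⊤ : Submodule W P₂)) :
    F₂ y ∈ (Ideal.map σ 𝔡 • ⊤ : Submodule W P₂) := by
  refine Submodule.smul_induction_on (p := fun y => F₂ y ∈ (Ideal.map σ 𝔡 • ⊤ : Submodule W P₂))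
    hy ?_ ?_
  · intro r hr n _
    rw [map_smulₛₗ]
    exact Submodule.smul_mem_smul (Ideal.mem_map_of_mem σ hr) Submodule.mem_top
  · intro x y hx hy
    rw [map_add]
    exact Submodule.add_mem _ hx hy

lemma U_mem (𝔡 : Ideal W) (α : P₁ →ₗ[W] P₂) (hα : ∀ x, α x ∈ (𝔡 • ⊤ : Submodule W P₂)) (x : P₁) :
    U b₁ F₁ F₂ hF₁ α x ∈ (Ideal.map σ 𝔡 • ⊤ : Submodule W P₂) := by
  change (c₁ b₁ F₁ hF₁).constr W (fun j => F₂ (α (b₁ j))) x ∈ _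
  rw [Basis.constr_apply]
  apply Submodule.finsuppSum_mem
  intro j _
  exact Submodule.smul_mem _ _ (F₂_mem F₂ 𝔡 (hα (b₁ j)))

/-- iterates of `U` -/
lemma iterate_U_mem (𝔠 : Ideal W) (α : P₁ →ₗ[W] P₂) (hα : ∀ x, α x ∈ (𝔠 • ⊤ : Submodule W P₂))
    (k : ℕ) (x : P₁) :
    (U b₁ F₁ F₂ hF₁)^[k] α x ∈ (Ideal.map (σ ^ k) 𝔠 • ⊤ : Submodule W P₂) := by
  induction k generalizing x with
  | zero =>
    have h0 : Ideal.map (σ ^ 0) 𝔠 = 𝔠 := by rw [pow_zero, RingHom.one_def, Ideal.map_id]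
    rw [h0]
    exact hα x
  | succ k ih =>
    rw [Function.iterate_succ_apply']
    have := U_mem b₁ F₁ F₂ hF₁ (Ideal.map (σ ^ k) 𝔠) _ ih x
    rwa [Ideal.map_map, ← RingHom.mul_def, ← pow_succ'] at this

lemma iterate_U_eq_zero (𝔠 : Ideal W) (K : ℕ) (hK : ∀ y ∈ 𝔠, σ^[K] y = 0)
    (α : P₁ →ₗ[W] P₂) (hα : ∀ x, α x ∈ (𝔠 • ⊤ : Submodule W P₂)) :
    (U b₁ F₁ F₂ hF₁)^[K] α = 0 := by
  ext x
  have h := iterate_U_mem b₁ F₁ F₂ hF₁ 𝔠 α hα K x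
  have h0 : Ideal.map (σ ^ K) 𝔠 = ⊥ := by
    rw [Ideal.map_eq_bot_iff_le_ker]
    intro y hy
    rw [RingHom.mem_ker, RingHom.coe_pow]
    exact hK y hy
  rw [h0, Submodule.bot_smul, Submodule.mem_bot] at h
  rw [h, LinearMap.zero_apply]

lemma iterate_U_mem_of_stable (𝔠 : Ideal W) (h𝔠 : ∀ y ∈ 𝔠, σ y ∈ 𝔠)
    (α : P₁ →ₗ[W] P₂) (hα : ∀ x, α x ∈ (𝔠 • ⊤ : Submodule W P₂)) (k : ℕ) (x : P₁) :
    (U b₁ F₁ F₂ hF₁)^[k] α x ∈ (𝔠 • ⊤ : Submodule W P₂) := by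
  have hle : Ideal.map σ 𝔠 ≤ 𝔠 := Ideal.map_le_iff_le_comap.mpr fun y hy => h𝔠 y hy
  induction k generalizing x with
  | zero => simpa using hα x
  | succ k ih =>
    rw [Function.iterate_succ_apply']
    exact Submodule.smul_mono hle le_rfl (U_mem b₁ F₁ F₂ hF₁ 𝔠 _ ih x)

include b₁ hF₁ in
/-- **Existence.** -/
theorem exists_lift (𝔠 : Ideal W) (h𝔠 : ∀ y ∈ 𝔠, σ y ∈ 𝔠) (K : ℕ) (hK : ∀ y ∈ 𝔠, σ^[K] y = 0)
    (α₀ : P₁ →ₗ[W] P₂)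
    (hα₀ : ∀ x : P₁, F₂ (α₀ x) - α₀ (F₁ x) ∈ (𝔠 • ⊤ : Submodule W P₂)) :
    ∃ α : P₁ →ₗ[W] P₂, (∀ x : P₁, α x - α₀ x ∈ (𝔠 • ⊤ : Submodule W P₂)) ∧
      ∀ x : P₁, F₂ (α x) = α (F₁ x) := by
  set β : P₁ →ₗ[W] P₂ := U b₁ F₁ F₂ hF₁ α₀ - α₀ with hβ
  have hβmem : ∀ x, β x ∈ (𝔠 • ⊤ : Submodule W P₂) := by
    intro x
    have hx : x ∈ Submodule.span W (Set.range fun i => F₁ (b₁ i)) := by
      rw [hF₁.2]; trivial
    induction hx using Submodule.span_induction with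
    | mem y hy =>
      obtain ⟨j, rfl⟩ := hy
      rw [hβ, LinearMap.sub_apply, U_apply_F]
      exact hα₀ (b₁ j)
    | zero => rw [map_zero]; exact Submodule.zero_mem _
    | add x y _ _ hx hy => rw [map_add]; exact Submodule.add_mem _ hx hy
    | smul c x _ hx => rw [map_smul]; exact Submodule.smul_mem _ _ hx
  set T : ℕ → (P₁ →ₗ[W] P₂) := fun n => (U b₁ F₁ F₂ hF₁)^[n] β with hT
  have hTK : T K = 0 := iterate_U_eq_zero b₁ F₁ F₂ hF₁ 𝔠 K hK β hβmem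
  have hTsucc : ∀ n, U b₁ F₁ F₂ hF₁ (T n) = T (n + 1) := by
    intro n
    simp only [hT]
    rw [Function.iterate_succ_apply']
  refine ⟨α₀ + ∑ n ∈ Finset.range K, T n, ?_, ?_⟩
  · intro x
    rw [LinearMap.add_apply, add_sub_cancel_left, LinearMap.sum_apply]
    apply Submodule.sum_mem
    intro n _
    exact iterate_U_mem_of_stable b₁ F₁ F₂ hF₁ 𝔠 h𝔠 β hβmem n x
  · rw [← U_eq_self_iff b₁ F₁ F₂ hF₁]
    rw [map_add, map_sum]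
    simp only [hTsucc]
    have h1 : ∑ n ∈ Finset.range K, T (n + 1) = ∑ n ∈ Finset.range K, T n - T 0 + T K := by
      have h2 := Finset.sum_range_succ T K
      have h3 := Finset.sum_range_succ' T K
      rw [h2] at h3
      rw [eq_sub_of_add_eq h3.symm]
      abel
    have hT0 : T 0 = β := rfl
    rw [h1, hTK, hT0, hβ]
    abel

include b₁ hF₁ in
/-- **Uniqueness.** -/
theorem eq_zero_of_comm (𝔠 : Ideal W) (K : ℕ) (hK : ∀ y ∈ 𝔠, σ^[K] y = 0)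
    (γ : P₁ →ₗ[W] P₂) (hγ : ∀ x, γ x ∈ (𝔠 • ⊤ : Submodule W P₂))
    (hγF : ∀ x, F₂ (γ x) = γ (F₁ x)) : γ = 0 := by
  have hU : U b₁ F₁ F₂ hF₁ γ = γ := (U_eq_self_iff b₁ F₁ F₂ hF₁ γ).mpr hγF
  have h1 : (U b₁ F₁ F₂ hF₁)^[K] γ = γ := Function.iterate_fixed hU K
  rw [← h1]
  exact iterate_U_eq_zero b₁ F₁ F₂ hF₁ 𝔠 K hK γ hγ

end Groth.Agent.Lib.Helper75.FrobSemilinearLift
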