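import Mathlib

/-!
# Gluing sections of the structure sheaf along a basis-like family of opens (helper75)
-/

set_option autoImplicit false
universe u
open CategoryTheory AlgebraicGeometry Opposite TopologicalSpace

namespace Groth.Agent.Lib.Helper75.GlueSec

/-- Sections `s i` on opens `W i` covering `Z`, compatible with restriction along a relation `R`
(`R k i → W k ≤ W i`) that is fine enough (`W i ⊓ W j` is covered by the `W k` with `R k i`, `R k j`),
glue to a global section. -/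
theorem exists_glue_sections {Z : Scheme.{u}} {ι : Type*} (W : ι → Z.Opens)
    (hcov : ∀ z : Z, ∃ i, z ∈ W i) (R : ι → ι → Prop) (hR : ∀ k i, R k i → W k ≤ W i)
    (hbasis : ∀ i j (z : Z), z ∈ W i → z ∈ W j → ∃ k, z ∈ W k ∧ R k i ∧ R k j)
    (s : ∀ i, Γ(Z, W i))
    (hres : ∀ i k (h : R k i), (Z.presheaf.map (homOfLE (hR k i h)).op).hom (s i) = s k) :
    ∃ β : Γ(Z, ⊤), ∀ i, (Z.presheaf.map (homOfLE (le_top : W i ≤ ⊤)).op).hom β = s i := by
  have hcompat : TopCat.Presheaf.IsCompatible Z.sheaf.1 W s := by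
    intro i j
    let κ := {k : ι // R k i ∧ R k j}
    let V : κ → Z.Opens := fun k => W k.1
    have hV : ∀ k : κ, V k ≤ W i ⊓ W j := fun k => le_inf (hR _ _ k.2.1) (hR _ _ k.2.2)
    apply TopCat.Sheaf.eq_of_locally_eq' Z.sheaf V (W i ⊓ W j) (fun k => homOfLE (hV k))
    · intro z hz
      obtain ⟨k, hzk, hki, hkj⟩ := hbasis i j z hz.1 hz.2
      exact Opens.mem_iSup.mpr ⟨⟨k, hki, hkj⟩, hzk⟩
    · intro k
      change (Z.presheaf.map (homOfLE (hV k)).op).hom
          ((Z.presheaf.map (Opens.infLELeft (W i) (W j)).op).hom (s i)) =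
        (Z.presheaf.map (homOfLE (hV k)).op).hom
          ((Z.presheaf.map (Opens.infLERight (W i) (W j)).op).hom (s j))
      rw [← CommRingCat.comp_apply, ← CommRingCat.comp_apply, ← Functor.map_comp,
        ← Functor.map_comp]
      exact (hres i k.1 k.2.1).trans (hres j k.1 k.2.2).symm
  obtain ⟨β, hβ, -⟩ := TopCat.Sheaf.existsUnique_gluing' Z.sheaf W ⊤
    (fun i => homOfLE le_top) (fun z _ => by
      obtain ⟨i, hi⟩ := hcov z
      exact Opens.mem_iSup.mpr ⟨i, hi⟩) s hcompat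
  exact ⟨β, hβ⟩

/-- A section vanishing on a cover vanishes. -/
theorem eq_zero_of_forall_res {Z : Scheme.{u}} {ι : Type*} (W : ι → Z.Opens)
    (hcov : ∀ z : Z, ∃ i, z ∈ W i) (β : Γ(Z, ⊤))
    (h : ∀ i, (Z.presheaf.map (homOfLE (le_top : W i ≤ ⊤)).op).hom β = 0) : β = 0 := by
  apply TopCat.Sheaf.eq_of_locally_eq' Z.sheaf W ⊤ (fun i => homOfLE le_top)
  · intro z _
    obtain ⟨i, hi⟩ := hcov z
    exact Opens.mem_iSup.mpr ⟨i, hi⟩
  · intro i
    change (Z.presheaf.map (homOfLE (le_top : W i ≤ ⊤)).op).hom β =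
      (Z.presheaf.map (homOfLE (le_top : W i ≤ ⊤)).op).hom 0
    rw [h i, map_zero]

end Groth.Agent.Lib.Helper75.GlueSec
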