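import Groth.Prelude.Def_W4c2conddiscmodels
import Mathlib.Tactic
import Mathlib.Algebra.Field.Rat
import Mathlib.RingTheory.Coprime.Lemmas
import Mathlib.RingTheory.Int.Basic

/-!
# Hirzebruch–Jung continued fractions: numerators and denominators (helper75)
-/

set_option autoImplicit false

namespace Groth.Agent.Lib.Helper75

/-- numerator / denominator pair of the HJ fraction `[b i, …, b (i+len-1)]`
(the empty fraction is `1/0`). -/
def hjND (b : ℕ → ℤ) : ℕ → ℕ → ℤ × ℤ
  | _, 0 => (1, 0)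
  | i, (len + 1) =>
    (b i * (hjND b (i + 1) len).1 - (hjND b (i + 1) len).2, (hjND b (i + 1) len).1)

theorem hjND_zero (b : ℕ → ℤ) (i : ℕ) : hjND b i 0 = (1, 0) := by
  cases i <;> rfl

theorem hjND_succ (b : ℕ → ℤ) (i len : ℕ) :
    hjND b i (len + 1) =
      (b i * (hjND b (i + 1) len).1 - (hjND b (i + 1) len).2, (hjND b (i + 1) len).1) := by
  cases i <;> rfl

theorem hjND_pos (b : ℕ → ℤ) : ∀ (len i : ℕ), (∀ j, i ≤ j → j < i + len → 2 ≤ b j) →
    0 ≤ (hjND b i len).2 ∧ (hjND b i len).2 < (hjND b i len).1 := by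
  intro len
  induction len with
  | zero => intro i _; rw [hjND_zero]; simp
  | succ len ih =>
    intro i h
    have h' := ih (i + 1) (fun j h1 h2 => h j (by omega) (by omega))
    have hb : 2 ≤ b i := h i le_rfl (by omega)
    rw [hjND_succ]
    constructor
    · exact le_trans h'.1 h'.2.le
    · simp only
      nlinarith [h'.1, h'.2]

theorem hjND_coprime (b : ℕ → ℤ) : ∀ (len i : ℕ),
    IsCoprime (hjND b i len).1 (hjND b i len).2 := by
  intro len
  induction len with
  | zero => intro i; rw [hjND_zero]; exact isCoprime_one_left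
  | succ len ih =>
    intro i
    rw [hjND_succ]
    simp only
    have h := ih (i + 1)
    have h2 : IsCoprime (-(hjND b (i + 1) len).2) (hjND b (i + 1) len).1 := h.symm.neg_left
    have h3 := h2.add_mul_left_left (b i)
    have e : b i * (hjND b (i + 1) len).1 - (hjND b (i + 1) len).2 =
        -(hjND b (i + 1) len).2 + (hjND b (i + 1) len).1 * b i := by ring
    rw [e]
    exact h3

theorem hjVal_eq (b : ℕ → ℤ) : ∀ (len i : ℕ), (∀ j, i ≤ j → j < i + len → 2 ≤ b j) →
    HJFrac.hjVal ((List.range len).map fun j => b (j + i)) =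
      ((hjND b i len).1 : ℚ) / ((hjND b i len).2 : ℚ) := by
  intro len
  induction len with
  | zero => intro i _; rw [hjND_zero]; simp [HJFrac.hjVal]
  | succ len ih =>
    intro i h
    have h' : ∀ j, i + 1 ≤ j → j < i + 1 + len → 2 ≤ b j := fun j h1 h2 => h j (by omega) (by omega)
    have hpos := hjND_pos b len (i + 1) h'
    have hN : ((hjND b (i + 1) len).1 : ℚ) ≠ 0 := by
      have : 0 < (hjND b (i + 1) len).1 := lt_of_le_of_lt hpos.1 hpos.2
      exact_mod_cast this.ne'
    rw [List.range_succ_eq_map, List.map_cons, List.map_map, hjND_succ]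
    simp only [HJFrac.hjVal, zero_add]
    have hlist : (List.range len).map ((fun j => b (j + i)) ∘ Nat.succ) =
        (List.range len).map (fun j => b (j + (i + 1))) := by
      apply List.map_congr_left
      intro j _
      simp only [Function.comp]
      congr 1
      omega
    rw [hlist, ih (i + 1) h', inv_div]
    push_cast
    field_simp

/-- identification of numerator and denominator with a fraction in lowest terms -/
theorem eq_of_div_eq {n r : ℕ} {N D : ℤ} (hr : 0 < r) (hcop : Nat.Coprime r n)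
    (hD : 0 < D) (hN : 0 < N) (hND : IsCoprime N D) (h : (n : ℚ) / r = (N : ℚ) / (D : ℚ)) :
    N = n ∧ D = r := by
  have hr' : (r : ℚ) ≠ 0 := by exact_mod_cast hr.ne'
  have hD' : (D : ℚ) ≠ 0 := by exact_mod_cast hD.ne'
  have hcross : (n : ℤ) * D = N * r := by
    have : (n : ℚ) * D = N * r := by
      field_simp at h
      linarith
    exact_mod_cast this
  have hcop' : IsCoprime (n : ℤ) (r : ℤ) := by
    rw [Int.isCoprime_iff_gcd_eq_one]
    simpa [Int.gcd_natCast_natCast] using hcop.symm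
  have h1 : (n : ℤ) ∣ N := by
    have : (n : ℤ) ∣ N * r := ⟨D, hcross.symm⟩
    exact hcop'.dvd_of_dvd_mul_right this
  have h2 : N ∣ (n : ℤ) := by
    have : N ∣ (n : ℤ) * D := ⟨r, hcross⟩
    exact hND.dvd_of_dvd_mul_right this
  have hn0 : (0 : ℤ) ≤ n := Int.natCast_nonneg n
  have hNn : N = n := Int.dvd_antisymm hN.le hn0 h2 h1
  refine ⟨hNn, ?_⟩
  rw [hNn] at hcross
  have hnpos : (n : ℤ) ≠ 0 := by
    rw [← hNn]; exact hN.ne'
  exact mul_left_cancel₀ hnpos hcross

/-- the auxiliary solution `ν` of the tridiagonal system: `ν j` is the denominator of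
`[b j, …, b l]` (so `ν 0 = n`, `ν 1 = r`, `ν l = 1`, `ν (l+1) = 0`). -/
def nu (b : ℕ → ℤ) (l j : ℕ) : ℤ := (hjND b j (l + 1 - j)).2

theorem nu_last (b : ℕ → ℤ) (l : ℕ) : nu b l (l + 1) = 0 := by
  unfold nu
  rw [Nat.sub_self, hjND_zero]

theorem nu_l (b : ℕ → ℤ) (l : ℕ) : nu b l l = 1 := by
  unfold nu
  rw [show l + 1 - l = 0 + 1 by omega, hjND_succ, hjND_zero]

theorem nu_zero (b : ℕ → ℤ) (l : ℕ) : nu b l 0 = (hjND b 1 l).1 := by
  unfold nu
  rw [show l + 1 - 0 = l + 1 by omega, hjND_succ]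

theorem nu_one (b : ℕ → ℤ) (l : ℕ) : nu b l 1 = (hjND b 1 l).2 := by
  unfold nu
  rw [show l + 1 - 1 = l by omega]

theorem nu_rec (b : ℕ → ℤ) (l j : ℕ) (h1 : 1 ≤ j) (h2 : j ≤ l) :
    b j * nu b l j = nu b l (j - 1) + nu b l (j + 1) := by
  obtain ⟨i, rfl⟩ : ∃ i, j = i + 1 := ⟨j - 1, by omega⟩
  obtain ⟨k, rfl⟩ : ∃ k, l = i + 1 + k := ⟨l - (i + 1), by omega⟩
  unfold nu
  rw [show i + 1 + k + 1 - (i + 1) = k + 1 by omega, show i + 1 - 1 = i by omega,
    show i + 1 + k + 1 - i = (k + 1) + 1 by omega, show i + 1 + k + 1 - (i + 1 + 1) = k by omega,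
    hjND_succ b i (k + 1), hjND_succ b (i + 1) k]
  simp only
  ring

/-- the Wronskian of `μ` and `ν` is constant -/
theorem wronskian (b : ℕ → ℤ) (l : ℕ) (μ : ℕ → ℤ)
    (hsys : ∀ i, 1 ≤ i → i ≤ l → b i * μ i = μ (i - 1) + μ (i + 1)) :
    ∀ i, i ≤ l → μ i * nu b l (i + 1) - μ (i + 1) * nu b l i = μ 0 * nu b l 1 - μ 1 * nu b l 0 := by
  intro i
  induction i with
  | zero => intro _; rfl
  | succ i ih =>
    intro hi
    rw [← ih (by omega)]
    have e1 := hsys (i + 1) (by omega) hi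
    have e2 := nu_rec b l (i + 1) (by omega) hi
    simp only [Nat.add_sub_cancel] at e1 e2
    have e1' : μ (i + 1 + 1) = b (i + 1) * μ (i + 1) - μ i := by linarith
    have e2' : nu b l (i + 1 + 1) = b (i + 1) * nu b l (i + 1) - nu b l i := by linarith
    rw [e1', e2']
    ring

/-- the key identity `n μ₁ = r m₂ + m₁` and the values of `ν` -/
theorem key (l : ℕ) (hl : 1 ≤ l) (b : ℕ → ℤ) (hb : ∀ i, 1 ≤ i → i ≤ l → 2 ≤ b i)
    (n r : ℕ) (hr : 0 < r) (hcop : Nat.Coprime r n)
    (hhj : (n : ℚ) / r = HJFrac.hjVal ((List.range l).map fun i => b (i + 1))) :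
    nu b l 0 = n ∧ nu b l 1 = r := by
  have hb' : ∀ j, 1 ≤ j → j < 1 + l → 2 ≤ b j := fun j h1 h2 => hb j h1 (by omega)
  have hval := hjVal_eq b l 1 hb'
  rw [hval] at hhj
  have hpos := hjND_pos b l 1 hb'
  have hDpos : 0 < (hjND b 1 l).2 := by
    obtain ⟨k, rfl⟩ : ∃ k, l = k + 1 := ⟨l - 1, by omega⟩
    rw [hjND_succ]
    simp only
    have := hjND_pos b k 2 (fun j h1 h2 => hb j (by omega) (by omega))
    exact lt_of_le_of_lt this.1 this.2
  have := eq_of_div_eq hr hcop hDpos (lt_trans hDpos hpos.2) (hjND_coprime b l 1) hhj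
  rw [nu_zero, nu_one]
  exact this

end Groth.Agent.Lib.Helper75
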