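import Groth.Prelude.Def_HRes
import Groth.Agent.Lib.Helper75.ExtFunctoriality

/-!
# Coherence of `HRes.pullConst` and the identity / composition laws of `HRes.pull`
-/

universe u
open CategoryTheory AlgebraicGeometry Limits Abelian

namespace Groth.Agent.Lib.Helper75.HResCoh

variable (K : Precoverage Scheme.{u}) {S T T' : Scheme.{u}} (f : T ⟶ S) (g : T' ⟶ T)

/-- Characterisation of `(pullConst K f M).inv` on sections, after the unit of sheafification. -/
lemma pullConst_inv_app (M : AddCommGrpCat.{u + 1}) (U : (Over T)ᵒᵖ) :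
    (toSheafify (QuotSh.J K T) ((Functor.const (Over T)ᵒᵖ).obj M)).app U ≫
      (HRes.pullConst K f M).inv.hom.app U =
    (toSheafify (QuotSh.J K S) ((Functor.const (Over S)ᵒᵖ).obj M)).app ((Over.map f).op.obj U) := by
  have h1 := Functor.toSheafify_pullbackSheafificationCompatibility (Over.map f)
    AddCommGrpCat.{u + 1} (QuotSh.J K T) (QuotSh.J K S) ((Functor.const _).obj M)
  exact congr_app h1 U

/-- `pullConst` along the identity is the inverse of `overMapPullbackId`. -/
lemma coh_id (S : Scheme.{u}) (M : AddCommGrpCat.{u + 1}) :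
    (HRes.pullConst K (𝟙 S) M).inv ≫
      (K.toGrothendieck.overMapPullbackId AddCommGrpCat.{u + 1} S).hom.app
        ((constantSheaf (QuotSh.J K S) AddCommGrpCat.{u + 1}).obj M) = 𝟙 _ := by
  apply Sheaf.hom_ext
  apply sheafify_hom_ext _ _ _ (ObjectProperty.FullSubcategory.property _)
  apply NatTrans.ext
  funext U
  change (toSheafify (QuotSh.J K S) ((Functor.const (Over S)ᵒᵖ).obj M)).app U ≫
      (HRes.pullConst K (𝟙 S) M).inv.hom.app U ≫
    ((K.toGrothendieck.overMapPullbackId AddCommGrpCat.{u + 1} S).hom.app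
        ((constantSheaf (QuotSh.J K S) AddCommGrpCat.{u + 1}).obj M)).hom.app U =
    (toSheafify (QuotSh.J K S) ((Functor.const (Over S)ᵒᵖ).obj M)).app U ≫ 𝟙 _
  have e1 := pullConst_inv_app K (𝟙 S) M U
  refine Eq.trans (Category.assoc _ _ _).symm ?_
  refine Eq.trans (congrArg (fun t => t ≫ _) e1) ?_
  rw [GrothendieckTopology.overMapPullbackId_hom_app_hom_app]
  have h3 := (toSheafify (QuotSh.J K S) ((Functor.const (Over S)ᵒᵖ).obj M)).naturality
    ((Over.mapId S).inv.app (Opposite.unop U)).op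
  erw [← h3]
  simp <;> rfl

/-- `pullConst` is compatible with composition of morphisms. -/
lemma coh_comp (M : AddCommGrpCat.{u + 1}) :
    (HRes.pullConst K g M).inv ≫
      (BigSite.pullBig K g AddCommGrpCat.{u + 1}).map (HRes.pullConst K f M).inv ≫
      (K.toGrothendieck.overMapPullbackComp AddCommGrpCat.{u + 1} g f).hom.app
        ((constantSheaf (QuotSh.J K S) AddCommGrpCat.{u + 1}).obj M) =
      (HRes.pullConst K (g ≫ f) M).inv := by
  apply Sheaf.hom_ext
  apply sheafify_hom_ext _ _ _ (ObjectProperty.FullSubcategory.property _)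
  apply NatTrans.ext
  funext U
  change (toSheafify (QuotSh.J K T') ((Functor.const (Over T')ᵒᵖ).obj M)).app U ≫
      (HRes.pullConst K g M).inv.hom.app U ≫
      (HRes.pullConst K f M).inv.hom.app ((Over.map g).op.obj U) ≫
      ((K.toGrothendieck.overMapPullbackComp AddCommGrpCat.{u + 1} g f).hom.app
        ((constantSheaf (QuotSh.J K S) AddCommGrpCat.{u + 1}).obj M)).hom.app U =
    (toSheafify (QuotSh.J K T') ((Functor.const (Over T')ᵒᵖ).obj M)).app U ≫
      (HRes.pullConst K (g ≫ f) M).inv.hom.app U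
  have e1 := pullConst_inv_app K g M U
  have e2 := pullConst_inv_app K f M ((Over.map g).op.obj U)
  have e3 := pullConst_inv_app K (g ≫ f) M U
  rw [e3]
  refine Eq.trans (Category.assoc _ _ _).symm ?_
  refine Eq.trans (congrArg (fun t => t ≫ _) e1) ?_
  refine Eq.trans (Category.assoc _ _ _).symm ?_
  refine Eq.trans (congrArg (fun t => t ≫ _) e2) ?_
  rw [GrothendieckTopology.overMapPullbackComp_hom_app_hom_app]
  have h3 := (toSheafify (QuotSh.J K S) ((Functor.const (Over S)ᵒᵖ).obj M)).naturality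
    ((Over.mapComp g f).hom.app (Opposite.unop U)).op
  erw [← h3]
  simp <;> rfl

/-- Identity law for `HRes.pull`. -/
theorem pull_id (S : Scheme.{u}) (F : BigSite.Ab K S) (n : ℕ) (x : BigSite.H K S F n) :
    Sheaf.H.map ((K.toGrothendieck.overMapPullbackId AddCommGrpCat.{u + 1} S).hom.app F) n
      (HRes.pull K (𝟙 S) F n x) = x := by
  rw [HRes.pull_apply, Sheaf.H.map_apply, Ext.comp_assoc_of_third_deg_zero]
  have h1 := Groth.Agent.Lib.Helper75.ExtFunctoriality.mapExactFunctor_naturality
    (K.toGrothendieck.overMapPullbackId AddCommGrpCat.{u + 1} S).hom x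
  have h2 := Groth.Agent.Lib.Helper75.ExtFunctoriality.mapExactFunctor_id x
  rw [h1, ← Ext.comp_assoc_of_second_deg_zero, Ext.mk₀_comp_mk₀, h2, coh_id, Ext.mk₀_id_comp]

/-- Composition law for `HRes.pull`. -/
theorem pull_comp (F : BigSite.Ab K S) (n : ℕ) (x : BigSite.H K S F n) :
    HRes.pull K (g ≫ f) F n x =
      Sheaf.H.map ((K.toGrothendieck.overMapPullbackComp AddCommGrpCat.{u + 1} g f).hom.app F) n
        (HRes.pull K g ((BigSite.pullBig K f AddCommGrpCat.{u + 1}).obj F) n
          (HRes.pull K f F n x)) := by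
  rw [HRes.pull_apply, HRes.pull_apply, HRes.pull_apply, Sheaf.H.map_apply,
    Ext.mapExactFunctor_comp, Ext.mapExactFunctor_mk₀]
  have h1 := Groth.Agent.Lib.Helper75.ExtFunctoriality.mapExactFunctor_naturality
    (K.toGrothendieck.overMapPullbackComp AddCommGrpCat.{u + 1} g f).hom x
  have h2 := Groth.Agent.Lib.Helper75.ExtFunctoriality.mapExactFunctor_comp_functor
    (BigSite.pullBig K f AddCommGrpCat.{u + 1}) (BigSite.pullBig K g AddCommGrpCat.{u + 1}) x
  rw [← h2, Ext.comp_assoc_of_third_deg_zero, Ext.comp_assoc_of_third_deg_zero, h1,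
    ← Ext.comp_assoc_of_second_deg_zero, ← Ext.comp_assoc_of_second_deg_zero,
    Ext.mk₀_comp_mk₀, Ext.mk₀_comp_mk₀, Category.assoc, coh_comp]

end Groth.Agent.Lib.Helper75.HResCoh
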