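import Mathlib

/-!
# The Hochschild–Deligne formula `(f y)^p = f^p y^p + c y` in characteristic `p`

* `ad_iterate_prime`: in a ring with `p = 0`, `(ad a)^p = ad (a^p)`.
* `leibniz_iterate_prime`, `derivation_iterate_leibniz`: the `p`-th iterate of a derivation of a
  commutative ring with `p = 0` satisfies the Leibniz rule.
* `T`, `Q`: the skew-polynomial expansion `(f y)^n = ∑ c_{n,k} y^k`, with `pow_eq_eval₂`.
* `coeff_Q_eq_zero`: in characteristic `p`, the middle coefficients of `(f y)^p` vanish
  (tested on `B[X]` with the derivation extending `D` by `X ↦ 1`).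
* `hochschild_deligne`: the formula.
-/

namespace Groth.Agent.Lib.Helper75.Hochschild
open Polynomial

section AdPow
variable {S : Type*} [Ring S] (p : ℕ) [Fact p.Prime]

/-- In a ring with `p = 0`, the `p`-th iterate of `ad a` is `ad (a ^ p)`. -/
theorem ad_iterate_prime (hp : (p : S) = 0) (a x : S) :
    (fun z => a * z - z * a)^[p] x = a ^ p * x - x * a ^ p := by
  set L : Module.End ℤ S := LinearMap.mulLeft ℤ a with hL
  set R : Module.End ℤ S := LinearMap.mulRight ℤ a with hR
  have hLR : Commute L R := LinearMap.commute_mulLeft_right a a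
  have hcomm : Commute (L - R) R := hLR.sub_left (Commute.refl R)
  have hp0 : ((p : ℕ) : Module.End ℤ S) = 0 := by
    ext z
    rw [Module.End.natCast_apply, nsmul_eq_mul, hp, zero_mul, LinearMap.zero_apply]
  have h1 := hcomm.add_pow_prime_eq (Fact.out : p.Prime)
  rw [sub_add_cancel, hp0] at h1
  simp only [zero_mul, add_zero] at h1
  have h2 : (L - R) ^ p = L ^ p - R ^ p := eq_sub_of_add_eq h1.symm
  have hLn : ∀ n : ℕ, ∀ z, (L ^ n) z = a ^ n * z := by
    intro n
    induction n with
    | zero => intro z; simp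
    | succ n ih => intro z; rw [pow_succ', Module.End.mul_apply, ih, hL, LinearMap.mulLeft_apply,
        pow_succ', mul_assoc]
  have hRn : ∀ n : ℕ, ∀ z, (R ^ n) z = z * a ^ n := by
    intro n
    induction n with
    | zero => intro z; simp
    | succ n ih => intro z; rw [pow_succ', Module.End.mul_apply, ih, hR, LinearMap.mulRight_apply,
        pow_succ, mul_assoc]
  have h3 : (fun z => a * z - z * a) = ⇑(L - R) := by
    funext z
    simp [hL, hR]
  rw [h3, ← Module.End.pow_apply, h2, LinearMap.sub_apply, hLn, hRn]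

end AdPow

section IterLeibniz
variable {B : Type*} [CommRing B] (p : ℕ) [Fact p.Prime]

/-- In a commutative ring with `p = 0`, the `p`-th iterate of an additive map satisfying the
Leibniz rule satisfies the Leibniz rule. -/
theorem leibniz_iterate_prime (hp : (p : B) = 0) (a : Module.End ℤ B)
    (ha : ∀ g h : B, a (g * h) = a g * h + g * a h) (g h : B) :
    (a ^ p) (g * h) = (a ^ p) g * h + g * (a ^ p) h := by
  have hp0 : ((p : ℕ) : Module.End ℤ B) = 0 := by
    ext z
    rw [Module.End.natCast_apply, nsmul_eq_mul, hp, zero_mul, LinearMap.zero_apply]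
  have had : ∀ n : ℕ, (fun z : Module.End ℤ B => a * z - z * a)^[n] (LinearMap.mulLeft ℤ g) =
      LinearMap.mulLeft ℤ ((a ^ n) g) := by
    intro n
    induction n with
    | zero => simp
    | succ n ih =>
      rw [Function.iterate_succ_apply', ih]
      ext z
      simp only [LinearMap.sub_apply, Module.End.mul_apply, LinearMap.mulLeft_apply, ha, pow_succ']
      ring
  have h1 := ad_iterate_prime p hp0 a (LinearMap.mulLeft ℤ g)
  rw [had p] at h1
  have h2 := LinearMap.congr_fun h1 h
  simp only [LinearMap.sub_apply, Module.End.mul_apply, LinearMap.mulLeft_apply] at h2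
  rw [h2]; ring

end IterLeibniz

section DerIter
variable {B : Type*} [CommRing B] (p : ℕ) [Fact p.Prime]

/-- The `p`-th iterate of a derivation of a commutative ring with `p = 0` satisfies the Leibniz
rule. -/
theorem derivation_iterate_leibniz (hp : (p : B) = 0) (D : Derivation ℤ B B) (g h : B) :
    (⇑D)^[p] (g * h) = (⇑D)^[p] g * h + g * (⇑D)^[p] h := by
  have := leibniz_iterate_prime p hp (D : B →ₗ[ℤ] B)
    (fun g h => by
      change D (g * h) = D g * h + g * D h
      rw [Derivation.leibniz, smul_eq_mul, smul_eq_mul]; ring) g h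
  rw [Module.End.pow_apply, Module.End.pow_apply, Module.End.pow_apply] at this
  exact this

end DerIter

section Expansion
variable {B : Type*} [CommRing B] (D : Derivation ℤ B B) (f : B)

/-- The operator `P ↦ f • (P * X + D(P))` on `B[X]` (left multiplication by `f X` in the
skew polynomial ring `B[X; D]`). -/
noncomputable def T (P : B[X]) : B[X] :=
  letI : Differential B := ⟨D⟩
  f • (P * X + Differential.mapCoeffs P)

theorem coeff_T_zero (P : B[X]) : (T D f P).coeff 0 = f * D (P.coeff 0) := by
  let _ : Differential B := ⟨D⟩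
  change (f • (P * X + Differential.mapCoeffs P)).coeff 0 = _
  rw [coeff_smul, coeff_add, mul_coeff_zero, coeff_X_zero, mul_zero, zero_add,
    Differential.coeff_mapCoeffs, smul_eq_mul]
  rfl

theorem coeff_T_succ (P : B[X]) (k : ℕ) :
    (T D f P).coeff (k + 1) = f * (P.coeff k + D (P.coeff (k + 1))) := by
  let _ : Differential B := ⟨D⟩
  change (f • (P * X + Differential.mapCoeffs P)).coeff (k + 1) = _
  rw [coeff_smul, coeff_add, coeff_mul_X, Differential.coeff_mapCoeffs, smul_eq_mul]
  rfl

/-- The polynomial `(f X)^n` of the skew polynomial ring. -/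
noncomputable def Q (n : ℕ) : B[X] := (T D f)^[n] 1

theorem Q_zero : Q D f 0 = 1 := rfl

theorem Q_succ (n : ℕ) : Q D f (n + 1) = T D f (Q D f n) :=
  Function.iterate_succ_apply' _ _ _

theorem coeff_Q_of_lt (n : ℕ) : ∀ k, n < k → (Q D f n).coeff k = 0 := by
  induction n with
  | zero =>
    intro k hk
    rw [Q_zero, coeff_one, if_neg (by omega)]
  | succ n ih =>
    intro k hk
    obtain ⟨k, rfl⟩ : ∃ j, k = j + 1 := ⟨k - 1, by omega⟩
    rw [Q_succ, coeff_T_succ, ih k (by omega), ih (k + 1) (by omega), map_zero, add_zero, mul_zero]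

theorem coeff_Q_zero (n : ℕ) : (Q D f (n + 1)).coeff 0 = 0 := by
  induction n with
  | zero =>
    rw [Q_succ, coeff_T_zero, Q_zero, coeff_one_zero, Derivation.map_one_eq_zero, mul_zero]
  | succ n ih =>
    rw [Q_succ, coeff_T_zero, ih, map_zero, mul_zero]

theorem coeff_Q_self (n : ℕ) : (Q D f n).coeff n = f ^ n := by
  induction n with
  | zero => rw [Q_zero, coeff_one_zero, pow_zero]
  | succ n ih =>
    rw [Q_succ, coeff_T_succ, ih, coeff_Q_of_lt D f n (n + 1) (by omega), map_zero, add_zero,
      pow_succ']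

theorem natDegree_Q_le (n : ℕ) : (Q D f n).natDegree ≤ n :=
  natDegree_le_iff_coeff_eq_zero.mpr (coeff_Q_of_lt D f n)

variable {R : Type*} [Ring R] (ι : B →+* R) (y : R)

theorem mul_eval₂ (h : ∀ b, y * ι b = ι b * y + ι (D b)) (P : B[X]) :
    ι f * y * eval₂ ι y P = eval₂ ι y (T D f P) := by
  let _ : Differential B := ⟨D⟩
  change _ = eval₂ ι y (f • (P * X + Differential.mapCoeffs P))
  rw [eval₂_smul, mul_assoc]
  congr 1
  induction P using Polynomial.induction_on' with
  | add P₁ P₂ h₁ h₂ =>
    rw [eval₂_add, mul_add, h₁, h₂, add_mul, map_add, ← eval₂_add]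
    congr 1; abel
  | monomial n b =>
    rw [eval₂_add, monomial_mul_X, Differential.mapCoeffs_monomial, eval₂_monomial,
      eval₂_monomial, eval₂_monomial, ← mul_assoc, h b, add_mul, pow_succ', mul_assoc]
    rfl

theorem pow_eq_eval₂ (h : ∀ b, y * ι b = ι b * y + ι (D b)) (n : ℕ) :
    (ι f * y) ^ n = eval₂ ι y (Q D f n) := by
  induction n with
  | zero => rw [pow_zero, Q_zero, eval₂_one]
  | succ n ih => rw [pow_succ', ih, mul_eval₂ D f ι y h, Q_succ]

end Expansion

section Vanish
variable {B : Type*} [CommRing B]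

theorem iterate_implicitDeriv_X_pow [Differential B] (n k : ℕ) :
    (⇑(Differential.implicitDeriv (1 : B[X])))^[k] (X ^ n) =
      (n.descFactorial k) • (X : B[X]) ^ (n - k) := by
  induction k with
  | zero => simp
  | succ k ih =>
    rw [Function.iterate_succ_apply', ih, map_nsmul, Derivation.leibniz_pow,
      Differential.implicitDeriv_X, smul_eq_mul, mul_one, smul_smul, Nat.descFactorial_succ,
      mul_comm, Nat.sub_sub]

theorem coeff_zero_iterate_implicitDeriv_X_pow [Differential B] (n k : ℕ) :
    ((⇑(Differential.implicitDeriv (1 : B[X])))^[k] (X ^ n)).coeff 0 =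
      if k = n then (n.factorial : B) else 0 := by
  rw [iterate_implicitDeriv_X_pow, coeff_smul, coeff_X_pow]
  rcases lt_trichotomy k n with h | h | h
  · rw [if_neg (by omega), if_neg (by omega), smul_zero]
  · subst h
    rw [if_pos (by omega), if_pos rfl, Nat.descFactorial_self, nsmul_eq_mul, mul_one]
  · rw [Nat.descFactorial_eq_zero_iff_lt.mpr h, zero_smul, if_neg (by omega)]

end Vanish


section Key
variable {B : Type*} [CommRing B] (D : Derivation ℤ B B) (f : B) (p : ℕ) [Fact p.Prime]

theorem factorial_mul_coeff_Q (hp : (p : B) = 0) (k : ℕ) (h2 : 2 ≤ k) (hk : k ≤ p) :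
    (Q D f p).coeff k * (k.factorial : B) = 0 := by
  let _ : Differential B := ⟨D⟩
  set δ : Derivation ℤ B[X] B[X] := Differential.implicitDeriv 1 with hδ
  let ι : B →+* Module.End ℤ B[X] := (Algebra.lmul ℤ B[X]).toRingHom.comp C
  let y : Module.End ℤ B[X] := δ.toLinearMap
  have hι : ∀ b h, ι b h = C b * h := fun b h => rfl
  have hy : ∀ h, y h = δ h := fun h => rfl
  have hrel : ∀ b, y * ι b = ι b * y + ι (D b) := by
    intro b
    ext1 h
    rw [LinearMap.add_apply, Module.End.mul_apply, Module.End.mul_apply, hι, hι, hι, hy, hy,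
      Derivation.leibniz, hδ, Differential.implicitDeriv_C, smul_eq_mul, smul_eq_mul, mul_comm h]
    rfl
  have hexp := pow_eq_eval₂ D f ι y hrel p
  have hleib : ∀ g h, (ι f * y) (g * h) = (ι f * y) g * h + g * (ι f * y) h := by
    intro g h
    rw [Module.End.mul_apply, Module.End.mul_apply, Module.End.mul_apply, hι, hι, hι, hy, hy, hy,
      Derivation.leibniz, smul_eq_mul, smul_eq_mul]
    ring
  have hpX : ((p : ℕ) : B[X]) = 0 := by rw [← C_eq_natCast, hp, C_0]
  have hL := leibniz_iterate_prime p hpX (ι f * y) hleib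
  have key : (((ι f * y) ^ p) (X ^ k)).coeff 0 = 0 := by
    obtain ⟨j, rfl⟩ : ∃ j, k = (j + 1) + 1 := ⟨k - 2, by omega⟩
    rw [pow_succ' X (j + 1), hL, coeff_add, mul_coeff_zero, coeff_X_mul_zero, coeff_X_pow,
      if_neg (by omega), mul_zero, add_zero]
  rw [hexp, eval₂_eq_sum_range' ι (Nat.lt_succ_of_le (natDegree_Q_le D f p)),
    LinearMap.sum_apply, finsetSum_coeff] at key
  rw [Finset.sum_eq_single k] at key
  · rw [Module.End.mul_apply, hι, Module.End.pow_apply, coeff_C_mul] at key
    have := coeff_zero_iterate_implicitDeriv_X_pow (B := B) k k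
    rw [if_pos rfl] at this
    rw [← key]
    congr 1
    exact this.symm
  · intro i _ hik
    rw [Module.End.mul_apply, hι, Module.End.pow_apply, coeff_C_mul]
    have := coeff_zero_iterate_implicitDeriv_X_pow (B := B) k i
    rw [if_neg hik] at this
    change _ * ((⇑δ)^[i] (X ^ k)).coeff 0 = 0
    rw [this, mul_zero]
  · intro hk'
    exact absurd (Finset.mem_range.mpr (Nat.lt_succ_of_le hk)) hk'

theorem coeff_Q_eq_zero (hp : (p : B) = 0) (k : ℕ) (h2 : 2 ≤ k) (hk : k < p) :
    (Q D f p).coeff k = 0 := by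
  have h1 := factorial_mul_coeff_Q D f p hp k h2 hk.le
  have hcop : Nat.Coprime k.factorial p := by
    rw [Nat.coprime_comm, (Fact.out : p.Prime).coprime_iff_not_dvd,
      (Fact.out : p.Prime).dvd_factorial]
    omega
  obtain ⟨a, b, hab⟩ := Nat.isCoprime_iff_coprime.mpr hcop
  have h3 : ((a : B) * (k.factorial : B) + (b : B) * (p : B)) = 1 := by
    have := congrArg (Int.cast : ℤ → B) hab
    push_cast at this
    exact this
  rw [hp, mul_zero, add_zero] at h3
  calc (Q D f p).coeff k = (Q D f p).coeff k * ((a : B) * (k.factorial : B)) := by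
        rw [h3, mul_one]
    _ = (a : B) * ((Q D f p).coeff k * (k.factorial : B)) := by ring
    _ = 0 := by rw [h1, mul_zero]

/-- Closed form of `Q D f p` in characteristic `p`. -/
theorem Q_prime_eq (hp : (p : B) = 0) :
    Q D f p = C (f ^ p) * X ^ p + C ((Q D f p).coeff 1) * X := by
  have hp2 : 2 ≤ p := (Fact.out : p.Prime).two_le
  ext k
  rw [coeff_add, coeff_C_mul, coeff_C_mul, coeff_X_pow, coeff_X]
  rcases Nat.lt_or_ge k 2 with hk | hk
  · interval_cases k
    · obtain ⟨n, rfl⟩ : ∃ n, p = n + 1 := ⟨p - 1, by omega⟩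
      rw [coeff_Q_zero, if_neg (by omega), if_neg (by omega), mul_zero, mul_zero, add_zero]
    · rw [if_neg (by omega), if_pos rfl, mul_zero, zero_add, mul_one]
  · rcases lt_trichotomy k p with h | h | h
    · rw [coeff_Q_eq_zero D f p hp k hk h, if_neg (by omega), if_neg (by omega), mul_zero,
        mul_zero, add_zero]
    · subst h
      rw [coeff_Q_self, if_pos rfl, if_neg (by omega), mul_one, mul_zero, add_zero]
    · rw [coeff_Q_of_lt D f p k h, if_neg (by omega), if_neg (by omega), mul_zero, mul_zero,
        add_zero]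

/-- **Hochschild–Deligne formula.**  Let `B` be a commutative ring with `p = 0`, `D` a derivation
of `B`, and `y` an element of a ring `R` receiving `B` with `[y, b] = D b`.  Then
`(f y)^p = f^p y^p + c y`, where `c ∈ B` depends only on `(B, D, f)`. -/
theorem hochschild_deligne (hp : (p : B) = 0) {R : Type*} [Ring R] (ι : B →+* R) (y : R)
    (h : ∀ b, y * ι b = ι b * y + ι (D b)) :
    (ι f * y) ^ p = ι (f ^ p) * y ^ p + ι ((Q D f p).coeff 1) * y := by
  rw [pow_eq_eval₂ D f ι y h p]
  conv_lhs => rw [Q_prime_eq D f p hp]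
  rw [eval₂_add, eval₂_mul_X, eval₂_C, C_mul_X_pow_eq_monomial, eval₂_monomial]

end Key

end Groth.Agent.Lib.Helper75.Hochschild
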