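import Mathlib

/-!
# Base change of sections along a free extension, for arbitrary / quasi-compact opens (helper75)

Mathlib's `pushoutSection` lemmas need quasi-separatedness.  When `Γ(T, U_T)` is a *free*
`Γ(S, U_S)`-module (e.g. `S = Spec k`), `Γ(X, U_X) ⊗ Γ(T, U_T) ⟶ Γ(X ×ₛ T, ...)` is injective for
every open `U_X` (`mono_pushoutSection_of_free`) and bijective for `U_X` quasi-compact
(`isIso_pushoutSection_of_free`).
-/

set_option autoImplicit false
set_option linter.style.haveILetI false
set_option linter.unusedSectionVars false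

open TensorProduct CategoryTheory CategoryTheory.Limits AlgebraicGeometry

universe u

namespace Groth.Agent.Lib.Helper75.SectionsBC

/-- joint injectivity is preserved by tensoring with a free module. -/
lemma lTensor_jointly_injective {R : Type*} [CommRing R] {M : Type*} [AddCommGroup M] [Module R M]
    [Module.Free R M] {N : Type*} [AddCommGroup N] [Module R N] {ι : Type*}
    {P : ι → Type*} [∀ i, AddCommGroup (P i)] [∀ i, Module R (P i)]
    (r : ∀ i, N →ₗ[R] P i) (hr : ∀ n : N, (∀ i, r i n = 0) → n = 0)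
    (t : M ⊗[R] N) (ht : ∀ i, (r i).lTensor M t = 0) : t = 0 := by
  let ℬ := Module.Free.chooseBasis R M
  have key : ∀ (i : ι) (t : M ⊗[R] N),
      TensorProduct.equivFinsuppOfBasisLeft ℬ ((r i).lTensor M t) =
        (TensorProduct.equivFinsuppOfBasisLeft ℬ t).mapRange (r i) (map_zero _) := by
    intro i t
    induction t using TensorProduct.induction_on with
    | zero => simp
    | tmul m n =>
      rw [LinearMap.lTensor_tmul, TensorProduct.equivFinsuppOfBasisLeft_apply_tmul,
        TensorProduct.equivFinsuppOfBasisLeft_apply_tmul]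
      ext j
      simp
    | add x y hx hy =>
      rw [map_add, map_add, hx, hy, map_add]
      ext j
      simp
  apply (TensorProduct.equivFinsuppOfBasisLeft ℬ).injective
  rw [map_zero]
  ext j
  apply hr
  intro i
  have := congrArg (fun φ => φ j) (key i t)
  simp only [ht i, map_zero, Finsupp.coe_zero, Pi.zero_apply, Finsupp.mapRange_apply] at this
  exact this.symm

variable {X Y S T : Scheme.{u}} {f : T ⟶ S} {g : Y ⟶ X} {iX : X ⟶ S} {iY : Y ⟶ T}
  (H : IsPullback g iY iX f)
  {US : S.Opens} {UT : T.Opens}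
  {UX : X.Opens} (hUST : UT ≤ f ⁻¹ᵁ US) (hUSX : UX ≤ iX ⁻¹ᵁ US)
  {UY : Y.Opens} (hUY : UY = g ⁻¹ᵁ UX ⊓ iY ⁻¹ᵁ UT)

set_option backward.isDefEq.respectTransparency false in
lemma mono_pushoutSection_of_free (hUS : IsAffineOpen US) (hUT : IsAffineOpen UT)
    (hfree : letI := (f.appLE US UT hUST).hom.toAlgebra; Module.Free Γ(S, US) Γ(T, UT)) :
    Mono (pushoutSection H hUST hUSX hUY) := by
  classical
  algebraize [(iX.appLE US UX hUSX).hom, (f.appLE US UT hUST).hom]
  let ι := {V : X.affineOpens // V.1 ≤ UX}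
  have hle (V : ι) : V.1.1 ≤ iX ⁻¹ᵁ US := V.2.trans hUSX
  let (V : ι) := (iX.appLE US V.1.1 (hle V)).hom.toAlgebra
  let ψ (V : ι) : Γ(X, UX) →ₐ[Γ(S, US)] Γ(X, V.1.1) :=
    ⟨(X.presheaf.map (homOfLE V.2).op).hom, fun r ↦ by
      dsimp [RingHom.algebraMap_toAlgebra]
      simp only [← CommRingCat.comp_apply, Scheme.Hom.appLE_map]⟩
  have hψ : ∀ s : Γ(X, UX), (∀ V, ψ V s = 0) → s = 0 := by
    intro s hs
    refine TopCat.Sheaf.eq_of_locally_eq' X.sheaf (fun V : ι => V.1.1) UX
      (fun V => homOfLE V.2) ?_ s 0 ?_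
    · intro x hx
      obtain ⟨_, ⟨V, hV, rfl⟩, hxV, hVU⟩ :=
        X.isBasis_affineOpens.exists_subset_of_mem_open hx UX.isOpen
      exact TopologicalSpace.Opens.mem_iSup.mpr ⟨⟨⟨V, hV⟩, hVU⟩, hxV⟩
    · intro V
      rw [map_zero]
      exact hs V
  let e : pushout (iX.appLE US UX hUSX) (f.appLE US UT hUST) ≅
      .of (Γ(T, UT) ⊗[Γ(S, US)] Γ(X, UX)) :=
    (CommRingCat.isPushout_tensorProduct _ _ _).flip.isoPushout.symm
  let eV (V : ι) : pushout (iX.appLE US V.1.1 (hle V)) (f.appLE US UT hUST) ≅
      .of (Γ(T, UT) ⊗[Γ(S, US)] Γ(X, V.1.1)) :=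
    (CommRingCat.isPushout_tensorProduct _ _ _).flip.isoPushout.symm
  have hleY (V : ι) : g ⁻¹ᵁ V.1.1 ⊓ iY ⁻¹ᵁ UT ≤ UY := by
    rw [hUY]; gcongr; exact V.2
  let ρY (V : ι) : Γ(Y, UY) →+* Γ(Y, g ⁻¹ᵁ V.1.1 ⊓ iY ⁻¹ᵁ UT) :=
    (Y.presheaf.map (homOfLE (hleY V)).op).hom
  have claim (V : ι) : ((ρY V).comp (pushoutSection H hUST hUSX hUY).hom).comp e.inv.hom =
      ((pushoutSection H hUST (hle V) rfl).hom.comp (eV V).inv.hom).comp
        (Algebra.TensorProduct.map (AlgHom.id Γ(T, UT) Γ(T, UT)) (ψ V)).toRingHom := by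
    have H₁ : e.inv.hom.comp Algebra.TensorProduct.includeLeftRingHom =
        (pushout.inr (C := CommRingCat) _ _).hom :=
      congr($((CommRingCat.isPushout_tensorProduct _ _ _).flip.inr_isoPushout_hom).hom)
    have H₁V : (eV V).inv.hom.comp Algebra.TensorProduct.includeLeftRingHom =
        (pushout.inr (C := CommRingCat) _ _).hom :=
      congr($((CommRingCat.isPushout_tensorProduct _ _ _).flip.inr_isoPushout_hom).hom)
    have H₂ : e.inv.hom.comp Algebra.TensorProduct.includeRight.toRingHom =
        (pushout.inl (C := CommRingCat) _ _).hom :=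
      congr($((CommRingCat.isPushout_tensorProduct _ _ _).flip.inl_isoPushout_hom).hom)
    have H₂V : (eV V).inv.hom.comp Algebra.TensorProduct.includeRight.toRingHom =
        (pushout.inl (C := CommRingCat) _ _).hom :=
      congr($((CommRingCat.isPushout_tensorProduct _ _ _).flip.inl_isoPushout_hom).hom)
    ext1
    · have e1 : (Algebra.TensorProduct.map (AlgHom.id Γ(T, UT) Γ(T, UT)) (ψ V)).toRingHom.comp
          Algebra.TensorProduct.includeLeftRingHom = Algebra.TensorProduct.includeLeftRingHom := by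
        ext b; simp
      simp only [RingHom.comp_assoc, H₁, e1, H₁V]
      ext b
      simp [ρY, ← CategoryTheory.comp_apply, pushoutSection]
    · have e1 : (Algebra.TensorProduct.map (AlgHom.id Γ(T, UT) Γ(T, UT)) (ψ V)).toRingHom.comp
          Algebra.TensorProduct.includeRight.toRingHom =
          Algebra.TensorProduct.includeRight.toRingHom.comp (ψ V).toRingHom := by
        ext b; simp
      simp only [RingHom.comp_assoc, H₂, e1]
      rw [← RingHom.comp_assoc _ _ (eV V).inv.hom, H₂V]
      ext b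
      have hL : pushout.inl _ _ ≫ pushoutSection H hUST hUSX hUY ≫
          Y.presheaf.map (homOfLE (hleY V)).op =
          g.appLE UX (g ⁻¹ᵁ V.1.1 ⊓ iY ⁻¹ᵁ UT)
            (inf_le_left.trans (g.preimage_mono V.2)) := by
        rw [pushout.inl_desc_assoc, Scheme.Hom.appLE_map]
      have hR : X.presheaf.map (homOfLE V.2).op ≫ pushout.inl _ _ ≫
          pushoutSection H hUST (hle V) rfl =
          g.appLE UX (g ⁻¹ᵁ V.1.1 ⊓ iY ⁻¹ᵁ UT)
            (inf_le_left.trans (g.preimage_mono V.2)) := by
        rw [pushout.inl_desc, Scheme.Hom.map_appLE]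
      exact (congr($(hL).hom b)).trans (congr($(hR).hom b)).symm
  simp_rw [@ConcreteCategory.mono_iff_injective_of_preservesPullback]
  rw [injective_iff_map_eq_zero]
  intro x hx
  have hy : e.hom.hom x = 0 := by
    refine lTensor_jointly_injective (M := Γ(T, UT)) (fun V => (ψ V).toLinearMap) hψ _ ?_
    intro V
    have hiso : IsIso (pushoutSection H hUST (hle V) rfl) :=
      isIso_pushoutSection_of_isAffineOpen H hUST _ rfl hUS hUT V.1.2
    have h1 := congr($(claim V) (e.hom.hom x))
    have h2 : e.inv.hom (e.hom.hom x) = x := by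
      rw [← CommRingCat.comp_apply, e.hom_inv_id]; rfl
    simp only [RingHom.comp_apply, h2] at h1
    rw [show (pushoutSection H hUST hUSX hUY).hom x = 0 from hx, map_zero] at h1
    have h3 : Function.Injective ((pushoutSection H hUST (hle V) rfl).hom.comp (eV V).inv.hom) := by
      have : IsIso ((eV V).inv ≫ pushoutSection H hUST (hle V) rfl) := inferInstance
      exact ((ConcreteCategory.isIso_iff_bijective _).mp this).1
    apply h3
    rw [map_zero]
    rw [RingHom.comp_apply]
    convert h1.symm using 3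
    induction e.hom.hom x using TensorProduct.induction_on with
    | zero => simp
    | tmul b n => simp
    | add a b ha hb => simp [ha, hb]
  have : x = e.inv.hom (e.hom.hom x) := by
    rw [← CommRingCat.comp_apply, e.hom_inv_id]; rfl
  rw [this, hy, map_zero]

set_option backward.isDefEq.respectTransparency false in
lemma isIso_pushoutSection_of_free (hUS : IsAffineOpen US) (hUT : IsAffineOpen UT)
    (hfree : letI := (f.appLE US UT hUST).hom.toAlgebra; Module.Free Γ(S, US) Γ(T, UT))
    (hUX : IsCompact (X := X) UX) :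
    IsIso (pushoutSection H hUST hUSX hUY) := by
  obtain ⟨I, hI, e⟩ := isCompact_iff_finite_and_eq_biUnion_affineOpens.mp hUX
  have hIUX (i : I) : i.1 ≤ UX := by rw [e]; intro i; aesop
  have := hI.to_subtype
  have hflat : (f.appLE US UT hUST).hom.Flat := by
    letI := (f.appLE US UT hUST).hom.toAlgebra
    have : Module.Free Γ(S, US) Γ(T, UT) := hfree
    exact (inferInstance : Module.Flat Γ(S, US) Γ(T, UT))
  exact isIso_pushoutSection_of_iSup_eq H hUST hUSX hUY (fun i : I ↦ i)
    (by rwa [iSup_subtype, eq_comm])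
    (fun i ↦ isIso_pushoutSection_of_isAffineOpen _ _ _ _ hUS hUT i.1.2)
    (fun i j ↦ mono_pushoutSection_of_free _ _ _ _ hUS hUT hfree) hflat

end Groth.Agent.Lib.Helper75.SectionsBC
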