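import Mathlib
import Groth.Agent.Lib.Helper75.SectionsBC
import Groth.Agent.Lib.Helper58.HomMon

/-!
# The scheme of morphisms to an affine scheme, from a quasi-compact scheme with finite-dimensional
global functions over a field (helper75)

* `bijective_comp_of_isIso_appTop`: morphisms to an affine scheme only see global sections.
* `isIso_appTop_of_free`: base change of a `Γ`-isomorphism along an affine `T` with `Γ(T)` free over
  the (affine) base is a `Γ`-isomorphism (sources only quasi-compact).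
* `existsUnique_of_affine`: Zariski gluing of the universal property of a Hom-scheme.
* `exists_homScheme`: the main theorem.
-/

set_option autoImplicit false
set_option linter.style.haveILetI false
set_option linter.unusedSectionVars false

open CategoryTheory CategoryTheory.Limits AlgebraicGeometry MonoidalCategory
  CartesianMonoidalCategory

universe u

namespace Groth.Agent.Lib.Helper75.HomAffFin

lemma bijective_comp_of_isIso_appTop {T₁ T₂ Z : Scheme.{u}} [IsAffine Z] (u : T₁ ⟶ T₂)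
    [IsIso u.appTop] : Function.Bijective (fun h : T₂ ⟶ Z => u ≫ h) := by
  constructor
  · intro h₁ h₂ e
    apply ext_of_isAffine
    have := congrArg Scheme.Hom.appTop e
    simp only [Scheme.Hom.comp_appTop] at this
    exact (cancel_mono u.appTop).mp this
  · intro h₁
    refine ⟨T₂.toSpecΓ ≫ Spec.map (h₁.appTop ≫ inv u.appTop) ≫ Z.isoSpec.inv, ?_⟩
    simp only
    rw [Scheme.toSpecΓ_naturality_assoc, ← Spec.map_comp_assoc, Category.assoc, IsIso.inv_hom_id,
      Category.comp_id, ← Scheme.toSpecΓ_naturality_assoc, Scheme.toSpecΓ_isoSpec_inv,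
      Category.comp_id]

lemma appLE_top_top {X Y : Scheme.{u}} (f : X ⟶ Y) (h : (⊤ : X.Opens) ≤ f ⁻¹ᵁ ⊤) :
    f.appLE ⊤ ⊤ h = f.appTop := by
  rw [Scheme.Hom.appTop, Scheme.Hom.app_eq_appLE]
  rfl

lemma top_le_preimage_top {X Y : Scheme.{u}} (f : X ⟶ Y) : (⊤ : X.Opens) ≤ f ⁻¹ᵁ ⊤ :=
  (Scheme.Hom.preimage_top f).ge

open Groth.Agent.Lib.Helper75.SectionsBC in
lemma isIso_appTop_of_free {B X X' T Y Y' : Scheme.{u}} [IsAffine B] [IsAffine T]
    [CompactSpace X] [CompactSpace X']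
    (x : X ⟶ B) (x' : X' ⟶ B) (a : X ⟶ X') (ha : a ≫ x' = x) [IsIso a.appTop]
    (t : T ⟶ B)
    (hfree : letI := t.appTop.hom.toAlgebra; Module.Free Γ(B, ⊤) Γ(T, ⊤))
    {g : Y ⟶ X} {iY : Y ⟶ T} (H : IsPullback g iY x t)
    {g' : Y' ⟶ X'} {iY' : Y' ⟶ T} (H' : IsPullback g' iY' x' t)
    (u : Y ⟶ Y') (hu1 : u ≫ g' = g ≫ a) (hu2 : u ≫ iY' = iY) : IsIso u.appTop := by
  have hUY : (⊤ : Y.Opens) = g ⁻¹ᵁ ⊤ ⊓ iY ⁻¹ᵁ ⊤ := by simp
  have hUY' : (⊤ : Y'.Opens) = g' ⁻¹ᵁ ⊤ ⊓ iY' ⁻¹ᵁ ⊤ := by simp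
  have hfree' : letI := (t.appLE ⊤ ⊤ (top_le_preimage_top t)).hom.toAlgebra;
      Module.Free Γ(B, ⊤) Γ(T, ⊤) := by
    rw [appLE_top_top]; exact hfree
  have P₁ : IsPushout x.appTop t.appTop g.appTop iY.appTop := by
    have := (isIso_pushoutSection_iff H (US := ⊤) (UT := ⊤) (UX := ⊤) (top_le_preimage_top t)
      (top_le_preimage_top x) hUY).mp
      (isIso_pushoutSection_of_free H _ _ hUY (isAffineOpen_top B) (isAffineOpen_top T)
        hfree' isCompact_univ)
    rwa [appLE_top_top, appLE_top_top, appLE_top_top, appLE_top_top] at this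
  have P₂ : IsPushout x'.appTop t.appTop g'.appTop iY'.appTop := by
    have := (isIso_pushoutSection_iff H' (US := ⊤) (UT := ⊤) (UX := ⊤) (top_le_preimage_top t)
      (top_le_preimage_top x') hUY').mp
      (isIso_pushoutSection_of_free H' _ _ hUY' (isAffineOpen_top B) (isAffineOpen_top T)
        hfree' isCompact_univ)
    rwa [appLE_top_top, appLE_top_top, appLE_top_top, appLE_top_top] at this
  have P₁' : IsPushout x'.appTop t.appTop (a.appTop ≫ g.appTop) iY.appTop := by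
    refine IsPushout.of_iso P₁ (Iso.refl _) (asIso a.appTop).symm (Iso.refl _) (Iso.refl _)
      ?_ ?_ ?_ ?_
    · simp only [Iso.symm_hom, asIso_inv, Iso.refl_hom, Category.id_comp, IsIso.comp_inv_eq]
      rw [← Scheme.Hom.comp_appTop, ha]
    · simp
    · simp
    · simp
  have : u.appTop = (P₂.isoIsPushout _ _ P₁').hom := by
    apply P₂.hom_ext
    · rw [IsPushout.inl_isoIsPushout_hom, ← Scheme.Hom.comp_appTop, hu1, Scheme.Hom.comp_appTop]
    · rw [IsPushout.inr_isoIsPushout_hom, ← Scheme.Hom.comp_appTop, hu2]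
  rw [this]
  infer_instance

lemma free_of_isField {R M : Type*} [CommRing R] [AddCommGroup M] [Module R M] (h : IsField R) :
    Module.Free R M := by
  letI := h.toField
  exact Module.Free.of_divisionRing R M

section Glue

variable {B : Scheme.{u}} {X M Z : Over B} (ev : X ⊗ M ⟶ Z)

/-- Zariski gluing of the universal property of a Hom-scheme: it suffices to test affine `S`. -/
theorem existsUnique_of_affine
    (h : ∀ (S : Over B), IsAffine S.left → ∀ f : X ⊗ S ⟶ Z, ∃! g : S ⟶ M, (X ◁ g) ≫ ev = f)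
    (S : Over B) (f : X ⊗ S ⟶ Z) : ∃! g : S ⟶ M, (X ◁ g) ≫ ev = f := by
  let 𝒰 := S.left.affineCover
  let Si (i : 𝒰.I₀) : Over B := Over.mk (𝒰.f i ≫ S.hom)
  let ιi (i : 𝒰.I₀) : Si i ⟶ S := Over.homMk (𝒰.f i) rfl
  have hSi (i : 𝒰.I₀) : IsAffine (Si i).left := by
    change IsAffine (𝒰.X i); infer_instance
  choose g hg₀ hgu₀ using fun i => h (Si i) (hSi i) ((X ◁ ιi i) ≫ f)
  have hg : ∀ i, (X ◁ g i) ≫ ev = (X ◁ ιi i) ≫ f := hg₀
  have hgu : ∀ i (y : Si i ⟶ M), (X ◁ y) ≫ ev = (X ◁ ιi i) ≫ f → y = g i := hgu₀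
  have hcompat : ∀ i j, pullback.fst (𝒰.f i) (𝒰.f j) ≫ (g i).left =
      pullback.snd (𝒰.f i) (𝒰.f j) ≫ (g j).left := by
    intro i j
    let 𝒱 := (pullback (𝒰.f i) (𝒰.f j)).affineCover
    refine 𝒱.hom_ext _ _ fun w => ?_
    let Wo : Over B := Over.mk (𝒱.f w ≫ pullback.fst (𝒰.f i) (𝒰.f j) ≫ 𝒰.f i ≫ S.hom)
    have hWo : IsAffine Wo.left := by change IsAffine (𝒱.X w); infer_instance
    let θ₁ : Wo ⟶ Si i := Over.homMk (𝒱.f w ≫ pullback.fst (𝒰.f i) (𝒰.f j)) (by simp [Wo, Si])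
    let θ₂ : Wo ⟶ Si j := Over.homMk (𝒱.f w ≫ pullback.snd (𝒰.f i) (𝒰.f j)) (by
      simp only [Wo, Si, Over.mk_hom, Category.assoc]
      rw [pullback.condition_assoc])
    have hθ : θ₁ ≫ ιi i = θ₂ ≫ ιi j := by
      ext
      simp only [θ₁, θ₂, ιi, Over.comp_left, Over.homMk_left, Category.assoc]
      rw [pullback.condition]
    obtain ⟨a, -, hau₀⟩ := h Wo hWo ((X ◁ (θ₁ ≫ ιi i)) ≫ f)
    have hau : ∀ y : Wo ⟶ M, (X ◁ y) ≫ ev = (X ◁ (θ₁ ≫ ιi i)) ≫ f → y = a := hau₀
    have h1 : θ₁ ≫ g i = a := hau _ (by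
      rw [MonoidalCategory.whiskerLeft_comp, Category.assoc, hg,
        MonoidalCategory.whiskerLeft_comp, Category.assoc])
    have h2 : θ₂ ≫ g j = a := hau _ (by
      rw [MonoidalCategory.whiskerLeft_comp, Category.assoc, hg, hθ,
        MonoidalCategory.whiskerLeft_comp, Category.assoc])
    have := congrArg (fun φ => φ.left) (h1.trans h2.symm)
    simpa only [θ₁, θ₂, Over.comp_left, Over.homMk_left, Category.assoc] using this
  let gl : S.left ⟶ M.left := 𝒰.glueMorphisms (fun i => (g i).left) hcompat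
  have hgl (i : 𝒰.I₀) : 𝒰.f i ≫ gl = (g i).left := 𝒰.ι_glueMorphisms _ _ i
  have hglw : gl ≫ M.hom = S.hom := by
    refine 𝒰.hom_ext _ _ fun i => ?_
    rw [reassoc_of% hgl i, Over.w (g i)]
    rfl
  let G : S ⟶ M := Over.homMk gl hglw
  have hG (i : 𝒰.I₀) : ιi i ≫ G = g i := by
    ext
    simp only [ιi, G, Over.comp_left, Over.homMk_left]
    exact hgl i
  have hcover : ∀ (φ ψ : X ⊗ S ⟶ Z), (∀ i, (X ◁ ιi i) ≫ φ = (X ◁ ιi i) ≫ ψ) → φ = ψ := by
    intro φ ψ hφψ
    ext
    refine Scheme.Cover.hom_ext (Scheme.Pullback.openCoverOfRight 𝒰 X.hom S.hom) _ _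
      fun (i : 𝒰.I₀) => ?_
    have := congrArg (fun φ => φ.left) (hφψ i)
    simp only [Over.comp_left, Over.whiskerLeft_left] at this
    exact this
  refine ⟨G, ?_, ?_⟩
  · refine hcover _ _ fun i => ?_
    rw [← Category.assoc, ← MonoidalCategory.whiskerLeft_comp, hG, hg]
  · intro G' hG'
    ext
    refine 𝒰.hom_ext _ _ fun i => ?_
    have h1 : ιi i ≫ G' = g i := hgu i _ (by
      rw [MonoidalCategory.whiskerLeft_comp, Category.assoc, hG'])
    have := congrArg (fun φ => φ.left) (h1.trans (hG i).symm)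
    simpa only [ιi, Over.comp_left, Over.homMk_left] using this

end Glue

section Main

variable {k : Type u} [Field k] (X : Over (Spec (CommRingCat.of k)))

/-- the affinisation `Spec Γ(X, 𝒪_X)` of `X`, as a `k`-scheme. -/
noncomputable def Xa : Over (Spec (CommRingCat.of k)) :=
  Over.mk (Spec.map ((Scheme.ΓSpecIso (CommRingCat.of k)).inv ≫ X.hom.appTop))

/-- the canonical morphism `X ⟶ Spec Γ(X, 𝒪_X)` over `k`. -/
noncomputable def α : X ⟶ Xa X :=
  Over.homMk X.left.toSpecΓ (by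
    change X.left.toSpecΓ ≫ Spec.map ((Scheme.ΓSpecIso (CommRingCat.of k)).inv ≫ X.hom.appTop) = _
    rw [Spec.map_comp, ← Scheme.toSpecΓ_naturality_assoc, toSpecΓ_SpecMap_ΓSpecIso_inv,
      Category.comp_id])

instance : IsAffine (Xa X).left := by
  change IsAffine (Spec _); infer_instance

instance : IsIso (α X).left.appTop := by
  change IsIso X.left.toSpecΓ.appTop
  rw [Scheme.toSpecΓ_appTop]; infer_instance

lemma isFinLocFree_Xa
    (hfin : (X.hom.appTop.hom.comp (Scheme.ΓSpecIso (CommRingCat.of k)).inv.hom).Finite) :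
    Mor2.IsFinLocFree (Xa X).hom := by
  have hfin' : ((Scheme.ΓSpecIso (CommRingCat.of k)).inv ≫ X.hom.appTop).hom.Finite := hfin
  refine ⟨(IsFinite.SpecMap_iff _).mpr hfin', (Flat.SpecMap_iff).mpr ?_,
    (LocallyOfFinitePresentation.SpecMap_iff _).mpr ?_⟩
  · letI := ((Scheme.ΓSpecIso (CommRingCat.of k)).inv ≫ X.hom.appTop).hom.toAlgebra
    exact (inferInstance : Module.Flat k Γ(X.left, ⊤))
  · exact RingHom.FinitePresentation.of_finiteType.mp hfin'.finiteType

variable [CompactSpace X.left]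

lemma isIso_whiskerRight_appTop (S : Over (Spec (CommRingCat.of k))) [IsAffine S.left] :
    IsIso ((α X ▷ S).left).appTop := by
  have hfield : IsField Γ(Spec (CommRingCat.of k), ⊤) :=
    MulEquiv.isField (Field.toIsField k)
      (Scheme.ΓSpecIso (CommRingCat.of k)).commRingCatIsoToRingEquiv.toMulEquiv
  exact isIso_appTop_of_free X.hom (Xa X).hom (α X).left (Over.w (α X)) S.hom
    (by letI := S.hom.appTop.hom.toAlgebra; exact free_of_isField hfield)
    (IsPullback.of_hasPullback X.hom S.hom)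
    (IsPullback.of_hasPullback (Xa X).hom S.hom) (α X ▷ S).left
    (Over.whiskerRight_left_fst _) (Over.whiskerRight_left_snd _)

lemma existsUnique_factor (Z : Over (Spec (CommRingCat.of k))) [IsAffine Z.left]
    (S : Over (Spec (CommRingCat.of k))) [IsAffine S.left] (f : X ⊗ S ⟶ Z) :
    ∃! f' : Xa X ⊗ S ⟶ Z, (α X ▷ S) ≫ f' = f := by
  have := isIso_whiskerRight_appTop X S
  have hbZ := bijective_comp_of_isIso_appTop (Z := Z.left) (α X ▷ S).left
  have hbk := bijective_comp_of_isIso_appTop (Z := Spec (CommRingCat.of k)) (α X ▷ S).left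
  obtain ⟨h, hh⟩ := hbZ.2 f.left
  have hw : h ≫ Z.hom = (Xa X ⊗ S).hom := by
    apply hbk.1
    change (α X ▷ S).left ≫ h ≫ Z.hom = (α X ▷ S).left ≫ (Xa X ⊗ S).hom
    rw [Over.w (α X ▷ S)]
    have : (α X ▷ S).left ≫ h = f.left := hh
    rw [reassoc_of% this, Over.w f]
  refine ⟨Over.homMk h hw, ?_, ?_⟩
  · ext
    exact hh
  · intro f'' hf''
    ext
    apply hbZ.1
    change (α X ▷ S).left ≫ f''.left = (α X ▷ S).left ≫ h
    have h1 : (α X ▷ S).left ≫ h = f.left := hh
    rw [h1, ← hf'']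
    rfl

/-- The scheme of morphisms from a quasi-compact `k`-scheme with finite-dimensional global
functions to an affine `k`-scheme. -/
theorem exists_homScheme
    (hfin : (X.hom.appTop.hom.comp (Scheme.ΓSpecIso (CommRingCat.of k)).inv.hom).Finite)
    (Z : Over (Spec (CommRingCat.of k))) [IsAffine Z.left] :
    ∃ (M : Over (Spec (CommRingCat.of k))) (_ : IsAffine M.left) (ev : X ⊗ M ⟶ Z),
      (∀ (S : Over (Spec (CommRingCat.of k))) (f : X ⊗ S ⟶ Z),
        ∃! g : S ⟶ M, (X ◁ g) ≫ ev = f) ∧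
      (LocallyOfFiniteType Z.hom → LocallyOfFiniteType M.hom) := by
  have : IsAffineHom Z.hom := inferInstance
  obtain ⟨M, ev₀, hMaff, hlft, -, huniv⟩ :=
    Groth.Agent.Lib.Helper58.HomMon.exists_homScheme (Xa X) Z (isFinLocFree_Xa X hfin)
  have hM : IsAffine M.left := isAffine_of_isAffineHom M.hom
  refine ⟨M, hM, (α X ▷ M) ≫ ev₀, ?_, hlft⟩
  apply existsUnique_of_affine
  intro S hS f
  obtain ⟨f', hf', huf'⟩ := existsUnique_factor X Z S f
  obtain ⟨g, hg, hug⟩ := huniv S f'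
  refine ⟨g, ?_, ?_⟩
  · change (X ◁ g) ≫ (α X ▷ M) ≫ ev₀ = f
    rw [← Category.assoc, MonoidalCategory.whisker_exchange, Category.assoc]
    have : (Xa X ◁ g) ≫ ev₀ = f' := hg
    rw [this, hf']
  · intro g' hg'
    apply hug
    apply huf'
    rw [← Category.assoc, ← MonoidalCategory.whisker_exchange, Category.assoc]
    exact hg'

end Main

end Groth.Agent.Lib.Helper75.HomAffFin
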