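import Groth.Agent.Lib.Helper75.ArtinReesHomology
import Mathlib.RingTheory.Finiteness.Cardinality
import Mathlib.LinearAlgebra.Isomorphisms
import Mathlib.LinearAlgebra.Finsupp.LinearCombination
import Mathlib.RingTheory.Noetherian.Basic

/-!
# `Hom(M, N / I^n N)` via a finite presentation of `M` (S7136)
-/

set_option autoImplicit false
universe u

namespace Groth.Agent.Lib.Helper75.HomQuotientSystems

section pi

variable {A : Type u} [CommRing A] {ι : Type} [Fintype ι] [DecidableEq ι]

lemma mem_smul_top_pi (J : Ideal A) {N : Type u} [AddCommGroup N] [Module A N] (y : ι → N) :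
    y ∈ J • (⊤ : Submodule A (ι → N)) ↔ ∀ i, y i ∈ J • (⊤ : Submodule A N) := by
  constructor
  · intro h i
    refine Submodule.smul_induction_on (p := fun y => y i ∈ J • (⊤ : Submodule A N)) h ?_ ?_
    · intro a ha v _
      exact Submodule.smul_mem_smul ha Submodule.mem_top
    · intro x y hx hy
      exact add_mem hx hy
  · intro h
    have h1 : y = ∑ i, (LinearMap.single A (fun _ : ι => N) i) (y i) := by
      ext j
      simp [Finset.sum_apply, Pi.single_apply]
    rw [h1]
    refine Submodule.sum_mem _ fun i _ => ?_
    have h2 : (LinearMap.single A (fun _ : ι => N) i) (y i) ∈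
        Submodule.map (LinearMap.single A (fun _ : ι => N) i) (J • ⊤) :=
      Submodule.mem_map_of_mem (h i)
    rw [Submodule.map_smul''] at h2
    exact Submodule.smul_mono le_rfl le_top h2

end pi

section pres

variable {A : Type u} [CommRing A] {M : Type u} [AddCommGroup M] [Module A M]
  {r s : ℕ} (π : (Fin r → A) →ₗ[A] M)
  (g : Fin s → (Fin r → A))

/-- the relation map `X^r → X^s`. -/
def beta (X : Type u) [AddCommGroup X] [Module A X] : (Fin r → X) →ₗ[A] (Fin s → X) where
  toFun x j := ∑ i, g j i • x i
  map_add' x y := by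
    ext j
    simp [smul_add, Finset.sum_add_distrib]
  map_smul' a x := by
    ext j
    simp [Finset.smul_sum, smul_comm a]

lemma beta_apply (X : Type u) [AddCommGroup X] [Module A X] (x : Fin r → X) (j : Fin s) :
    beta g X x j = ∑ i, g j i • x i := rfl

/-- evaluation at the images of the standard basis vectors. -/
def ev (X : Type u) [AddCommGroup X] [Module A X] : (M →ₗ[A] X) →ₗ[A] (Fin r → X) where
  toFun φ i := φ (π (Pi.single i 1))
  map_add' _ _ := rfl
  map_smul' _ _ := rfl

lemma ev_apply (X : Type u) [AddCommGroup X] [Module A X] (φ : M →ₗ[A] X) (i : Fin r) :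
    ev π X φ i = φ (π (Pi.single i 1)) := rfl

lemma apply_pi (X : Type u) [AddCommGroup X] [Module A X] (φ : M →ₗ[A] X) (v : Fin r → A) :
    φ (π v) = ∑ i, v i • ev π X φ i := by
  have h1 : v = ∑ i, v i • (Pi.single i 1 : Fin r → A) := by
    ext j
    simp [Finset.sum_apply, Pi.single_apply]
  conv_lhs => rw [h1]
  simp only [map_sum, map_smul, ev_apply]

variable (hπ : Function.Surjective π)

include hπ in
lemma ev_injective (X : Type u) [AddCommGroup X] [Module A X] :
    Function.Injective (ev π X) := by
  intro φ φ' h
  ext m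
  obtain ⟨v, rfl⟩ := hπ m
  rw [apply_pi, apply_pi, h]

variable (hg : Submodule.span A (Set.range g) = LinearMap.ker π)

include hg in
lemma beta_ev (X : Type u) [AddCommGroup X] [Module A X] (φ : M →ₗ[A] X) :
    beta g X (ev π X φ) = 0 := by
  ext j
  rw [beta_apply, ← apply_pi]
  have : g j ∈ LinearMap.ker π := by
    rw [← hg]
    exact Submodule.subset_span ⟨j, rfl⟩
  rw [LinearMap.mem_ker.mp this, map_zero]
  rfl

include hg in
lemma ker_le (X : Type u) [AddCommGroup X] [Module A X] (x : Fin r → X) (hx : beta g X x = 0) :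
    LinearMap.ker π ≤ LinearMap.ker (Fintype.linearCombination A x) := by
  rw [← hg, Submodule.span_le]
  rintro _ ⟨j, rfl⟩
  change Fintype.linearCombination A x (g j) = 0
  rw [Fintype.linearCombination_apply]
  have := congrFun hx j
  rwa [beta_apply] at this

/-- the homomorphism `M → X` attached to a solution of the relations. -/
noncomputable def lift (X : Type u) [AddCommGroup X] [Module A X] (x : Fin r → X)
    (hx : beta g X x = 0) : M →ₗ[A] X :=
  ((LinearMap.ker π).liftQ (Fintype.linearCombination A x) (ker_le π g hg X x hx)) ∘ₗ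
    (π.quotKerEquivOfSurjective hπ).symm.toLinearMap

lemma lift_pi (X : Type u) [AddCommGroup X] [Module A X] (x : Fin r → X)
    (hx : beta g X x = 0) (v : Fin r → A) :
    lift π g hπ hg X x hx (π v) = ∑ i, v i • x i := by
  unfold lift
  rw [LinearMap.comp_apply, LinearEquiv.coe_coe, LinearMap.quotKerEquivOfSurjective_symm_apply,
    Submodule.liftQ_apply, Fintype.linearCombination_apply]

lemma ev_lift (X : Type u) [AddCommGroup X] [Module A X] (x : Fin r → X)
    (hx : beta g X x = 0) : ev π X (lift π g hπ hg X x hx) = x := by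
  ext i
  rw [ev_apply, lift_pi]
  simp [Pi.single_apply]

end pres

end Groth.Agent.Lib.Helper75.HomQuotientSystems
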