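import Mathlib
import Groth.Prelude
import Groth.Agent.Lib.Helper75.ActionMk
import Groth.Agent.Lib.Helper75.AAExt
import Groth.Agent.Lib.Helper75.AARigidity
import Groth.Agent.Lib.Helper41.PointsPullback2
import Groth.Agent.Lib.Helper41.FppfPoints

/-!
# Principal bundles over abelian varieties trivialized by an anti-affine extension
-/

set_option autoImplicit false
universe u
open CategoryTheory CategoryTheory.Limits MonoidalCategory CartesianMonoidalCategory MonObj GrpObj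
  AlgebraicGeometry

namespace Groth.Agent.Lib.Helper75.HomogBundle

open Groth.Agent.Lib.Helper75.ActionMk

section General

variable {S : Scheme.{u}} {G X A : Over S} [GrpObj G]
  (a : AlgGrp.Action G X) (π : X ⟶ A)

theorem act_comp_π (hinv : a.act ≫ π = snd G X ≫ π) {T : Over S} (g : T ⟶ G) (x : T ⟶ X) :
    (lift g x ≫ a.act) ≫ π = x ≫ π := by
  rw [Category.assoc, hinv, lift_snd_assoc]

theorem exists_act_eq (hcart : IsPullback (snd G X) a.act π π) {T : Over S} (x₁ x₂ : T ⟶ X)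
    (h : x₁ ≫ π = x₂ ≫ π) : ∃ g : T ⟶ G, lift g x₁ ≫ a.act = x₂ := by
  refine ⟨hcart.lift x₁ x₂ h ≫ fst G X, ?_⟩
  have e : lift (hcart.lift x₁ x₂ h ≫ fst G X) x₁ = hcart.lift x₁ x₂ h := by
    apply CartesianMonoidalCategory.hom_ext
    · rw [lift_fst]
    · rw [lift_snd, hcart.lift_fst]
  rw [e, hcart.lift_snd]

theorem act_cancel (hcart : IsPullback (snd G X) a.act π π) {T : Over S} (g g' : T ⟶ G)
    (x : T ⟶ X) (h : lift g x ≫ a.act = lift g' x ≫ a.act) : g = g' := by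
  have e : lift g x = lift g' x := by
    apply hcart.hom_ext
    · rw [lift_snd, lift_snd]
    · exact h
  have := congrArg (fun t => t ≫ fst G X) e
  simpa using this

variable {E Hk : Over S} [GrpObj A] [GrpObj E] (φ : E ⟶ A) [IsMonHom φ]
  (hh : Hk ⟶ E) (σ : E ⟶ X)

/-- the cocycle comparing `σ(h e)` and `σ(e)` -/
theorem exists_cocycle (hcart : IsPullback (snd G X) a.act π π) (hk : AlgGrp.IsKernel hh φ)
    (hσ : σ ≫ π = φ) :
    ∃ c : E ⊗ Hk ⟶ G, ∀ (T : Over S) (e : T ⟶ E) (h : T ⟶ Hk),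
      lift (lift e h ≫ c) (e ≫ σ) ≫ a.act = ((h ≫ hh) * e) ≫ σ := by
  have hk' : IsPullback hh (toUnit Hk) φ η[A] := hk
  have hhφ : hh ≫ φ = 1 := by rw [hk'.w, Hom.one_def]
  have h0 : (fst E Hk ≫ σ) ≫ π = (((snd E Hk ≫ hh) * fst E Hk) ≫ σ) ≫ π := by
    rw [Category.assoc, Category.assoc, hσ, mul_comp, Category.assoc, hhφ, comp_one, _root_.one_mul]
  obtain ⟨c, hc⟩ := exists_act_eq a π hcart _ _ h0
  refine ⟨c, fun T e h => ?_⟩
  have := congrArg (fun t => lift e h ≫ t) hc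
  simp only [← Category.assoc, comp_lift, lift_fst, comp_mul, lift_snd] at this
  exact this

end General

section Field

variable {k : Type u} [Field k] {G X A E Hk : Over (Spec (CommRingCat.of k))} [GrpObj G]
  (a : AlgGrp.Action G X) (π : X ⟶ A) [GrpObj A] [GrpObj E] (φ : E ⟶ A) [IsMonHom φ]
  (hh : Hk ⟶ E) (σ : E ⟶ X)

/-- when `E` is anti-affine and `G` is affine the cocycle does not depend on `e`. -/
theorem exists_cocycle_const [IsAffine G.left] [LocallyOfFiniteType E.hom] [QuasiCompact E.hom]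
    (hE : Function.Bijective ((Scheme.ΓSpecIso (CommRingCat.of k)).inv ≫ E.hom.appTop).hom)
    (hcart : IsPullback (snd G X) a.act π π) (hk : AlgGrp.IsKernel hh φ)
    (hσ : σ ≫ π = φ) :
    ∃ gam : Hk ⟶ G, ∀ (T : Over (Spec (CommRingCat.of k))) (e : T ⟶ E) (h : T ⟶ Hk),
      lift (h ≫ gam) (e ≫ σ) ≫ a.act = ((h ≫ hh) * e) ≫ σ := by
  obtain ⟨c, hc⟩ := exists_cocycle a π φ hh σ hcart hk hσ
  have hcomp : CompactSpace E.left := (quasiCompact_iff_compactSpace E.hom).mp inferInstance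
  have hN : IsLocallyNoetherian E.left := LocallyOfFiniteType.isLocallyNoetherian E.hom
  have hqs : QuasiSeparatedSpace E.left := inferInstance
  have haE := Groth.Agent.Lib.Helper75.AARigidity.isIso_appTop_of_bijective E.hom hE
  have hflat : Flat Hk.hom := inferInstance
  let s : Hk.left ⟶ pullback E.hom Hk.hom := (lift (toUnit Hk ≫ η[E]) (𝟙 Hk)).left
  have hs : s ≫ pullback.snd E.hom Hk.hom = 𝟙 Hk.left := by
    have : (lift (toUnit Hk ≫ η[E]) (𝟙 Hk) ≫ snd E Hk).left = (𝟙 Hk : Hk ⟶ Hk).left := by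
      rw [lift_snd]
    exact this
  have key0 := Groth.Agent.Lib.Helper75.AAExt.eq_snd_comp_of_isAffine E.hom Hk.hom haE s hs c.left
  have key : c = snd E Hk ≫ lift (toUnit Hk ≫ η[E]) (𝟙 Hk) ≫ c := by
    ext
    exact key0
  refine ⟨lift (toUnit Hk ≫ η[E]) (𝟙 Hk) ≫ c, fun T e h => ?_⟩
  rw [← hc T e h]
  congr 2
  conv_rhs => rw [key]
  rw [lift_snd_assoc]

end Field

section Descent

variable {k : Type u} [Field k] {G X A E Hk : Over (Spec (CommRingCat.of k))} [GrpObj G]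
  (a : AlgGrp.Action G X) (π : X ⟶ A) [GrpObj A] [GrpObj E] (φ : E ⟶ A) [IsMonHom φ]
  (hh : Hk ⟶ E) (σ : E ⟶ X)

/-- the trivialization `G × E → X`, `(g, e) ↦ g · σ(e)` -/
noncomputable def triv : G ⊗ E ⟶ X := (G ◁ σ) ≫ a.act

omit [GrpObj A] [GrpObj E] in
theorem lift_triv {T : Over (Spec (CommRingCat.of k))} (g : T ⟶ G) (e : T ⟶ E) :
    lift g e ≫ triv a σ = lift g (e ≫ σ) ≫ a.act := by
  unfold triv
  rw [← Category.assoc, lift_whiskerLeft]

omit [GrpObj A] [GrpObj E] [GrpObj G] in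
theorem eq_lift (T : Over (Spec (CommRingCat.of k))) (w : T ⟶ G ⊗ E) :
    w = lift (w ≫ fst G E) (w ≫ snd G E) := by
  apply CartesianMonoidalCategory.hom_ext
  · rw [lift_fst]
  · rw [lift_snd]

omit [GrpObj A] [GrpObj E] in
/-- `G × E = X ×_A E` -/
theorem isPullback_triv (hinv : a.act ≫ π = snd G X ≫ π)
    (hcart : IsPullback (snd G X) a.act π π) (hσ : σ ≫ π = φ) :
    IsPullback (triv a σ) (snd G E) π φ := by
  apply Groth.Agent.Lib.Helper41.PointsPullback2.isPullback_of_existsUnique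
  · unfold triv
    rw [Category.assoc, hinv, whiskerLeft_snd_assoc, hσ]
  · intro T x e hxe
    have h0 : (e ≫ σ) ≫ π = x ≫ π := by rw [Category.assoc, hσ, hxe]
    obtain ⟨g, hg⟩ := exists_act_eq a π hcart _ _ h0
    refine ⟨lift g e, ⟨?_, lift_snd _ _⟩, ?_⟩
    · rw [lift_triv, hg]
    · rintro m ⟨hm1, hm2⟩
      rw [eq_lift T m, hm2]
      congr 1
      apply act_cancel a π hcart _ _ (e ≫ σ)
      rw [hg, ← hm1]
      conv_rhs => rw [eq_lift T m, lift_triv, hm2]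

/-- right translation by a rational point -/
noncomputable def rtr (e₀ : 𝟙_ (Over (Spec (CommRingCat.of k))) ⟶ E) : E ⟶ E :=
  lift (𝟙 E) (toUnit E ≫ e₀) ≫ μ[E]

omit [GrpObj A] in
theorem comp_rtr (e₀ : 𝟙_ (Over (Spec (CommRingCat.of k))) ⟶ E)
    {T : Over (Spec (CommRingCat.of k))} (e : T ⟶ E) :
    e ≫ rtr e₀ = e * (toUnit T ≫ e₀) := by
  unfold rtr
  rw [← Category.assoc, comp_lift, Category.comp_id, ← Category.assoc,
    toUnit_unique (e ≫ toUnit E) (toUnit T), Hom.mul_def]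

/-- the descent condition for translating along `e₀` -/
theorem descent_cond [IsAffine G.left] [LocallyOfFiniteType E.hom] [QuasiCompact E.hom]
    (hE : Function.Bijective ((Scheme.ΓSpecIso (CommRingCat.of k)).inv ≫ E.hom.appTop).hom)
    (hinv : a.act ≫ π = snd G X ≫ π)
    (hcart : IsPullback (snd G X) a.act π π) (hk : AlgGrp.IsKernel hh φ)
    (hσ : σ ≫ π = φ) (e₀ : 𝟙_ (Over (Spec (CommRingCat.of k))) ⟶ E)
    {Z : Over (Spec (CommRingCat.of k))} (w₁ w₂ : Z ⟶ G ⊗ E)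
    (hw : w₁ ≫ triv a σ = w₂ ≫ triv a σ) :
    w₁ ≫ (G ◁ rtr e₀) ≫ triv a σ = w₂ ≫ (G ◁ rtr e₀) ≫ triv a σ := by
  obtain ⟨gam, hgam⟩ := exists_cocycle_const a π φ hh σ hE hcart hk hσ
  have hk' : IsPullback hh (toUnit Hk) φ η[A] := hk
  obtain ⟨g₁, hg₁⟩ : ∃ g₁, g₁ = w₁ ≫ fst G E := ⟨_, rfl⟩
  obtain ⟨g₂, hg₂⟩ : ∃ g₂, g₂ = w₂ ≫ fst G E := ⟨_, rfl⟩
  obtain ⟨e₁, he₁⟩ : ∃ e₁, e₁ = w₁ ≫ snd G E := ⟨_, rfl⟩
  obtain ⟨e₂, he₂⟩ : ∃ e₂, e₂ = w₂ ≫ snd G E := ⟨_, rfl⟩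
  have hw₁ : w₁ = lift g₁ e₁ := by rw [hg₁, he₁]; exact eq_lift Z w₁
  have hw₂ : w₂ = lift g₂ e₂ := by rw [hg₂, he₂]; exact eq_lift Z w₂
  rw [hw₁, hw₂, lift_triv, lift_triv] at hw
  -- same image in `A`
  have hφ : e₁ ≫ φ = e₂ ≫ φ := by
    have := congrArg (fun t => t ≫ π) hw
    simp only [act_comp_π a π hinv, Category.assoc, hσ] at this
    exact this
  have h1 : (e₂ * e₁⁻¹) ≫ φ = toUnit Z ≫ η[A] := by
    rw [mul_comp, GrpObj.inv_comp, hφ, mul_inv_cancel, Hom.one_def]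
  obtain ⟨h, hh'⟩ : ∃ h : Z ⟶ Hk, h ≫ hh = e₂ * e₁⁻¹ :=
    ⟨hk'.lift _ _ h1, hk'.lift_fst _ _ h1⟩
  have he₂' : e₂ = (h ≫ hh) * e₁ := by rw [hh', inv_mul_cancel_right]
  -- compare the group components
  have hg : g₁ = g₂ * (h ≫ gam) := by
    apply act_cancel a π hcart _ _ (e₁ ≫ σ)
    rw [hw, act_mul, hgam, ← he₂']
  -- conclude
  rw [hw₁, hw₂, ← Category.assoc, ← Category.assoc, lift_whiskerLeft, lift_whiskerLeft, lift_triv,
    lift_triv, comp_rtr, comp_rtr, he₂', _root_.mul_assoc, ← hgam, ← act_mul, ← hg]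

end Descent

end Groth.Agent.Lib.Helper75.HomogBundle
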