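import Mathlib
import Groth.Prelude.Def_KZero
import Groth.Agent.Lib.Helper85.HS.Core
import Groth.Agent.Lib.Helper16.KZeroPID

/-!
# Hilbert–Serre for classes in `K'₀(A)` (helper75)

`EvChoose r f`: the function `f : ℕ → G` to an abelian group is eventually
`n ↦ ∑_{i<r} C(n,i) • a_i`; calculus (`sub`, `shift`, `of_diff`).

`k0_hilbert_serre`: for `S` a Noetherian `A`-algebra generated by `x 0, …, x (D-1)` and `M` a
finite `S`-module graded by `A`-submodules `ℳ i` with `x j • ℳ i ⊆ ℳ (i+1)`, every `ℳ i` is a
finite `A`-module and `i ↦ [ℳ i] ∈ K'₀(A)` is `EvChoose D`.  Built on helper85's `GrData`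
kernel/cokernel induction and helper16's `KZeroPID.cl_of_exact`.
-/

set_option autoImplicit false
set_option linter.style.haveILetI false
universe u

namespace Groth.Agent.Lib.Helper75.K0Hilbert

open Groth.Agent.Lib.Helper85.HS Groth.Agent.Lib.Helper16 DirectSum

section EvChoose

variable {G : Type*} [AddCommGroup G]

/-- `f` is eventually `n ↦ ∑_{i<r} C(n,i) • a i`. -/
def EvChoose (r : ℕ) (f : ℕ → G) : Prop :=
  ∃ (a : ℕ → G) (N : ℕ), ∀ n, N ≤ n → f n = ∑ i ∈ Finset.range r, (n.choose i) • a i

theorem EvChoose.of_eventually_zero (r : ℕ) {f : ℕ → G} (N : ℕ) (h : ∀ n, N ≤ n → f n = 0) :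
    EvChoose r f :=
  ⟨fun _ => 0, N, fun n hn => by rw [h n hn]; simp⟩

theorem EvChoose.congr {r : ℕ} {f g : ℕ → G} (h : EvChoose r f) (N : ℕ)
    (hfg : ∀ n, N ≤ n → g n = f n) : EvChoose r g := by
  obtain ⟨a, N', ha⟩ := h
  exact ⟨a, max N N', fun n hn => by
    rw [hfg n (le_trans (le_max_left _ _) hn), ha n (le_trans (le_max_right _ _) hn)]⟩

theorem EvChoose.sub {r : ℕ} {f g : ℕ → G} (hf : EvChoose r f) (hg : EvChoose r g) :
    EvChoose r (fun n => f n - g n) := by
  obtain ⟨a, N, ha⟩ := hf
  obtain ⟨b, N', hb⟩ := hg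
  refine ⟨fun i => a i - b i, max N N', fun n hn => ?_⟩
  dsimp only
  rw [ha n (le_trans (le_max_left _ _) hn), hb n (le_trans (le_max_right _ _) hn),
    ← Finset.sum_sub_distrib]
  exact Finset.sum_congr rfl fun i _ => (smul_sub _ _ _).symm

theorem sum_choose_succ (a : ℕ → G) (n r : ℕ) :
    ∑ i ∈ Finset.range (r + 1), ((n + 1).choose i) • a i =
      ∑ i ∈ Finset.range (r + 1), (n.choose i) • a i +
        ∑ i ∈ Finset.range r, (n.choose i) • a (i + 1) := by
  rw [Finset.sum_range_succ', Finset.sum_range_succ' (fun i => (n.choose i) • a i)]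
  have : ∀ i ∈ Finset.range r, ((n + 1).choose (i + 1)) • a (i + 1) =
      (n.choose i) • a (i + 1) + (n.choose (i + 1)) • a (i + 1) := fun i _ => by
    rw [Nat.choose_succ_succ, add_smul]
  rw [Finset.sum_congr rfl this, Finset.sum_add_distrib, Nat.choose_zero_right,
    Nat.choose_zero_right]
  abel

theorem EvChoose.shift {r : ℕ} {f : ℕ → G} (hf : EvChoose r f) :
    EvChoose r (fun n => f (n + 1)) := by
  obtain ⟨a, N, ha⟩ := hf
  cases r with
  | zero =>
    exact ⟨a, N, fun n hn => by dsimp only; rw [ha (n + 1) (by omega)]; simp⟩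
  | succ r =>
    refine ⟨fun i => a i + (if i < r then a (i + 1) else 0), N, fun n hn => ?_⟩
    dsimp only
    rw [ha (n + 1) (by omega), sum_choose_succ]
    simp only [smul_add, Finset.sum_add_distrib]
    congr 1
    rw [Finset.sum_range_succ, if_neg (lt_irrefl r), smul_zero, add_zero]
    exact Finset.sum_congr rfl fun i hi => by rw [if_pos (Finset.mem_range.mp hi)]

theorem EvChoose.of_diff {r : ℕ} {f : ℕ → G} (h : EvChoose r (fun n => f (n + 1) - f n)) :
    EvChoose (r + 1) f := by
  obtain ⟨b, N, hb⟩ := h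
  set g : ℕ → G := fun n => ∑ i ∈ Finset.range r, (n.choose (i + 1)) • b i with hg
  have hgs : ∀ n, g (n + 1) = g n + ∑ i ∈ Finset.range r, (n.choose i) • b i := by
    intro n
    simp only [hg]
    rw [← Finset.sum_add_distrib]
    exact Finset.sum_congr rfl fun i _ => by rw [Nat.choose_succ_succ, add_smul, add_comm]
  have key : ∀ n, N ≤ n → f n = (f N - g N) + g n := by
    intro n hn
    induction n, hn using Nat.le_induction with
    | base => abel
    | succ n hn ih =>
      have h1 : f (n + 1) - f n = ∑ i ∈ Finset.range r, (n.choose i) • b i := hb n hn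
      have h2 : f (n + 1) = f n + ∑ i ∈ Finset.range r, (n.choose i) • b i := by
        rw [← h1]; abel
      rw [h2, ih, hgs]; abel
  refine ⟨fun i => match i with | 0 => f N - g N | (i + 1) => b i, N, fun n hn => ?_⟩
  rw [key n hn, Finset.sum_range_succ']
  simp only [Nat.choose_zero_right, one_smul, hg]
  abel

end EvChoose

section main

variable {A : Type u} [CommRing A] {S : Type u} [CommRing S] [Algebra A S] {D : ℕ} (x : Fin D → S)

section pieces

variable {x}
variable {M : Type u} [AddCommGroup M] [Module S M] [Module A M] [IsScalarTower A S M]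
  {ℳ : ℕ → Submodule A M}

/-- pieces of a graded module which is finite over `A` are finite over `A` -/
theorem piece_finite_of_finite (h : GrData (⊥ : Ideal A) x M ℳ) [Module.Finite A M] (i : ℕ) :
    Module.Finite A (ℳ i) := by
  classical
  letI := h.isInternal.chooseDecomposition
  let pr : M →ₗ[A] ℳ i := (DirectSum.component A ℕ (fun i => ℳ i) i) ∘ₗ
    (DirectSum.decomposeLinearEquiv ℳ).toLinearMap
  have hpr : ∀ m, pr m = (decompose ℳ m) i := fun m => rfl
  refine Module.Finite.of_surjective pr ?_
  rintro ⟨m, hm⟩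
  refine ⟨m, Subtype.ext ?_⟩
  rw [hpr, decompose_of_mem_same ℳ hm]

/-- pieces of a graded module which is finite over `A` eventually vanish -/
theorem eventually_bot_of_finite (h : GrData (⊥ : Ideal A) x M ℳ) [Module.Finite A M] :
    ∃ N : ℕ, ∀ i, N ≤ i → ℳ i = ⊥ := by
  classical
  letI := h.isInternal.chooseDecomposition
  obtain ⟨G, hG⟩ := (Module.Finite.fg_top : (⊤ : Submodule A M).FG)
  refine ⟨(G.sup fun g => (decompose ℳ g).support.sup id) + 1, fun i hi => ?_⟩
  let pr : M →ₗ[A] ℳ i := (DirectSum.component A ℕ (fun i => ℳ i) i) ∘ₗ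
    (DirectSum.decomposeLinearEquiv ℳ).toLinearMap
  have hpr : ∀ m, pr m = (decompose ℳ m) i := fun m => rfl
  have hker : Submodule.span A (G : Set M) ≤ LinearMap.ker pr := by
    rw [Submodule.span_le]
    intro g hg
    rw [SetLike.mem_coe, LinearMap.mem_ker, hpr]
    by_contra hne
    have hmem : i ∈ (decompose ℳ g).support := DFinsupp.mem_support_iff.mpr hne
    have h1 : i ≤ (decompose ℳ g).support.sup id := Finset.le_sup (f := id) hmem
    have h2 : (decompose ℳ g).support.sup id ≤ G.sup fun g => (decompose ℳ g).support.sup id :=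
      Finset.le_sup (f := fun g => (decompose ℳ g).support.sup id) hg
    omega
  rw [hG] at hker
  rw [eq_bot_iff]
  intro m hm
  have h0 : pr m = 0 := hker Submodule.mem_top
  rw [hpr] at h0
  have := decompose_of_mem_same ℳ hm
  rw [h0] at this
  rw [Submodule.mem_bot, ← this]
  rfl

end pieces

variable (hx : Algebra.adjoin A (Set.range x) = ⊤)

/-- the class of the `i`-th graded piece in `K'₀(A)` -/
noncomputable def clPiece {M : Type u} [AddCommGroup M] [Module A M] (ℳ : ℕ → Submodule A M)
    (i : ℕ) : KZero.K0sub (KZeroPID.FinP A) := KZeroPID.cl A (ℳ i)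

variable [IsNoetherianRing S]

include hx in
/-- **Hilbert–Serre in `K'₀(A)`** -/
theorem k0_hilbert_serre : ∀ (d : ℕ), d ≤ D → ∀ (M : Type u) [AddCommGroup M] [Module S M]
    [Module A M] [IsScalarTower A S M] [Module.Finite S M] (ℳ : ℕ → Submodule A M),
    GrData (⊥ : Ideal A) x M ℳ → (∀ j : Fin D, d ≤ j.val → ∀ m : M, x j • m = 0) →
    (∀ i, Module.Finite A (ℳ i)) ∧ EvChoose d (clPiece ℳ) := by
  intro d
  induction d with
  | zero =>
    intro _ M _ _ _ _ _ ℳ h hkill
    have hkill' : ∀ (j : Fin D) (m : M), x j • m = 0 := fun j m => hkill j (Nat.zero_le _) m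
    -- `M` is finite over `A`
    obtain ⟨G, hG⟩ := (Module.Finite.fg_top : (⊤ : Submodule S M).FG)
    have hspan : Submodule.span A (G : Set M) = ⊤ := by
      rw [eq_top_iff]
      rintro m -
      have hm : m ∈ Submodule.span S (G : Set M) := hG ▸ Submodule.mem_top
      induction hm using Submodule.span_induction with
      | mem m hm => exact Submodule.subset_span hm
      | zero => exact Submodule.zero_mem _
      | add m m' _ _ hm hm' => exact Submodule.add_mem _ hm hm'
      | smul s m _ hm =>
        obtain ⟨a, ha⟩ := exists_smul_eq_of_kill x hx hkill' s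
        rw [ha]
        exact Submodule.smul_mem _ a hm
    haveI : Module.Finite A M := ⟨⟨G, hspan⟩⟩
    obtain ⟨N, hN⟩ := eventually_bot_of_finite h
    refine ⟨fun i => piece_finite_of_finite h i, EvChoose.of_eventually_zero 0 N fun i hi => ?_⟩
    haveI : Subsingleton (ℳ i) := Submodule.subsingleton_iff_eq_bot.mpr (hN i hi)
    exact KZeroPID.cl_of_subsingleton (ℳ i)
  | succ d ih =>
    intro hd M _ _ _ _ _ ℳ h hkill
    set j₀ : Fin D := ⟨d, hd⟩ with hj₀
    set y : S := x j₀ with hy_def
    have hy : ∀ i, ∀ m ∈ ℳ i, y • m ∈ ℳ (i + 1) := fun i m hm => h.shift j₀ i m hm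
    haveI : IsNoetherian S M := isNoetherian_of_isNoetherianRing_of_finite S M
    haveI : Module.Finite S (LinearMap.ker (LinearMap.lsmul S M y)) :=
      Module.IsNoetherian.finite S _
    have hkillK : ∀ j : Fin D, d ≤ j.val →
        ∀ k : LinearMap.ker (LinearMap.lsmul S M y), x j • k = 0 := by
      rintro j hj ⟨m, hm⟩
      apply Subtype.ext
      show x j • m = 0
      rcases Nat.eq_or_lt_of_le hj with hjd | hjd
      · have : j = j₀ := Fin.ext hjd.symm
        rw [this]
        exact hm
      · exact hkill j hjd m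
    have hkillC : ∀ j : Fin D, d ≤ j.val →
        ∀ c : M ⧸ LinearMap.range (LinearMap.lsmul S M y), x j • c = 0 := by
      intro j hj c
      obtain ⟨m, rfl⟩ := (LinearMap.range (LinearMap.lsmul S M y)).mkQ_surjective c
      rw [← map_smul, Submodule.mkQ_apply, Submodule.Quotient.mk_eq_zero]
      rcases Nat.eq_or_lt_of_le hj with hjd | hjd
      · have : j = j₀ := Fin.ext hjd.symm
        rw [this]
        exact ⟨m, rfl⟩
      · rw [hkill j hjd m]
        exact Submodule.zero_mem _
    obtain ⟨finK, evK⟩ := ih (Nat.le_of_succ_le hd) _ (kerPiece ℳ y) (h.ker y hy) hkillK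
    obtain ⟨finC, evC⟩ := ih (Nat.le_of_succ_le hd) _ (cokerPiece ℳ y) (h.coker y hy) hkillC
    -- finiteness of the image of multiplication by `y` on the pieces
    have hfin : ∀ i, Module.Finite A (ℳ i) := by
      intro i
      induction i with
      | zero =>
        haveI := finC 0
        exact Module.Finite.equiv (LinearEquiv.ofBijective (toCoker ℳ y 0)
          ⟨h.toCoker_zero_injective y hy, toCoker_surjective y 0⟩).symm
      | succ i ihi =>
        haveI := ihi
        haveI := finC (i + 1)
        haveI : Module.Finite A (LinearMap.range (mulMap ℳ y hy i)) :=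
          Module.Finite.range (mulMap ℳ y hy i)
        have hker : LinearMap.ker (toCoker ℳ y (i + 1)) = LinearMap.range (mulMap ℳ y hy i) :=
          (LinearMap.exact_iff.mp (h.exact_mulMap_toCoker y hy i))
        haveI : Module.Finite A (LinearMap.ker (toCoker ℳ y (i + 1))) := by
          rw [hker]; infer_instance
        haveI : Module.Finite A (↥(ℳ (i + 1)) ⧸ LinearMap.ker (toCoker ℳ y (i + 1))) :=
          Module.Finite.equiv
            ((toCoker ℳ y (i + 1)).quotKerEquivOfSurjective (toCoker_surjective y (i + 1))).symm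
        exact Module.Finite.of_submodule_quotient (LinearMap.ker (toCoker ℳ y (i + 1)))
    refine ⟨hfin, EvChoose.of_diff ?_⟩
    refine (evC.shift.sub evK).congr 0 fun i _ => ?_
    -- the relation `[ℳ (i+1)] - [ℳ i] = [C (i+1)] - [K i]`
    haveI := hfin i
    haveI := hfin (i + 1)
    haveI := finK i
    haveI := finC (i + 1)
    haveI : Module.Finite A (LinearMap.range (mulMap ℳ y hy i)) :=
      Module.Finite.range (mulMap ℳ y hy i)
    have e1 : KZeroPID.cl A (ℳ i) =
        KZeroPID.cl A (kerPiece ℳ y i) + KZeroPID.cl A (LinearMap.range (mulMap ℳ y hy i)) := by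
      refine KZeroPID.cl_of_exact (kerIncl ℳ y i) (mulMap ℳ y hy i).rangeRestrict
        (kerIncl_injective y i) (mulMap ℳ y hy i).surjective_rangeRestrict ?_
      rw [LinearMap.exact_iff, LinearMap.ker_rangeRestrict]
      exact LinearMap.exact_iff.mp (exact_kerIncl_mulMap y hy i)
    have e2 : KZeroPID.cl A (ℳ (i + 1)) =
        KZeroPID.cl A (LinearMap.range (mulMap ℳ y hy i)) +
          KZeroPID.cl A (cokerPiece ℳ y (i + 1)) := by
      refine KZeroPID.cl_of_exact (LinearMap.range (mulMap ℳ y hy i)).subtype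
        (toCoker ℳ y (i + 1)) (Submodule.injective_subtype _) (toCoker_surjective y (i + 1)) ?_
      rw [LinearMap.exact_iff, Submodule.range_subtype]
      exact LinearMap.exact_iff.mp (h.exact_mulMap_toCoker y hy i)
    show clPiece ℳ (i + 1) - clPiece ℳ i =
      clPiece (cokerPiece ℳ y) (i + 1) - clPiece (kerPiece ℳ y) i
    unfold clPiece
    rw [e1, e2]
    abel

end main

end Groth.Agent.Lib.Helper75.K0Hilbert
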