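import Mathlib.LinearAlgebra.Matrix.Rank
import Mathlib.LinearAlgebra.Matrix.ToLin
import Mathlib.LinearAlgebra.Quotient.Basic
import Mathlib.Algebra.GCDMonoid.Finset
import Mathlib.Algebra.GCDMonoid.Nat
import Mathlib.SetTheory.Cardinal.Finite
import Mathlib.LinearAlgebra.Pi
import Mathlib.GroupTheory.Index
import Mathlib.Data.ZMod.QuotientGroup
import Mathlib.RingTheory.PrincipalIdealDomain
import Mathlib.Data.Int.NatAbs

/-!
# Index computations for sublattices of `ℤⁿ` (helper75)
-/

set_option autoImplicit false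

open Finset

namespace Groth.Agent.Lib.Helper75

/-- The cardinality of a subquotient of `ℤⁿ` as a relative index. -/
theorem card_quot_comap {n : ℕ} (K P : Submodule ℤ (Fin n → ℤ)) :
    Nat.card (K ⧸ P.comap K.subtype) = P.toAddSubgroup.relIndex K.toAddSubgroup := rfl

/-- The abstract index computation: for `D` injective, `S` surjective onto `ℤ` and `D(H₁) ≤ ker S`,
`[ker(SD) : H₁] · [G : im D] = [ℤ : im(SD)] · [ker S : D(H₁)]`. -/
theorem index_core {G : Type*} [AddCommGroup G] (D : G →+ G) (hD : Function.Injective D)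
    (S : G →+ ℤ) (hS : Function.Surjective S) (H₁ : AddSubgroup G) (hH : H₁.map D ≤ S.ker) :
    H₁.relIndex (S.comp D).ker * D.range.index =
      (S.comp D).range.index * (H₁.map D).relIndex S.ker := by
  have h1 : (H₁.map D).relIndex ((S.comp D).ker.map D) = H₁.relIndex (S.comp D).ker :=
    AddSubgroup.relIndex_map_map_of_injective H₁ _ hD
  have h2 : (S.comp D).ker.map D = S.ker ⊓ D.range := by
    ext y
    constructor
    · rintro ⟨x, hx, rfl⟩
      exact ⟨hx, x, rfl⟩
    · rintro ⟨hy, x, rfl⟩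
      exact ⟨x, hy, rfl⟩
  have h3 : H₁.map D ≤ S.ker ⊓ D.range := le_inf hH (by
    rintro _ ⟨x, _, rfl⟩
    exact ⟨x, rfl⟩)
  have h4 : (H₁.map D).relIndex (S.ker ⊓ D.range) * (S.ker ⊓ D.range).relIndex S.ker =
      (H₁.map D).relIndex S.ker := AddSubgroup.relIndex_mul_relIndex _ _ _ h3 inf_le_left
  have h5 : (S.ker ⊓ D.range).relIndex S.ker = D.range.relIndex S.ker :=
    AddSubgroup.inf_relIndex_left _ _
  have h6 : D.range.relIndex (S.ker ⊔ D.range) = D.range.relIndex S.ker :=
    AddSubgroup.relIndex_sup_right _ _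
  have h7 : D.range.relIndex (S.ker ⊔ D.range) * (S.ker ⊔ D.range).index = D.range.index :=
    AddSubgroup.relIndex_mul_index le_sup_right
  have h8 : (S.ker ⊔ D.range).index = (S.comp D).range.index := by
    have : S.ker ⊔ D.range = ((S.comp D).range).comap S := by
      rw [← AddMonoidHom.map_range, AddSubgroup.comap_map_eq, sup_comm]
    rw [this, AddSubgroup.index_comap_of_surjective _ hS]
  rw [← h1, h2, ← h4, h5, ← h7, h6, h8]
  ring

/-- The sum-of-coordinates map. -/
noncomputable def sumL (n : ℕ) : (Fin n → ℤ) →ₗ[ℤ] ℤ :=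
  ∑ i : Fin n, (LinearMap.proj i : (Fin n → ℤ) →ₗ[ℤ] ℤ)

theorem sumL_apply {n : ℕ} (x : Fin n → ℤ) : sumL n x = ∑ i, x i := by
  simp [sumL, LinearMap.sum_apply]

theorem diagL_apply {n : ℕ} (δ : Fin n → ℤ) (x : Fin n → ℤ) (i : Fin n) :
    Matrix.mulVecLin (Matrix.diagonal δ) x i = δ i * x i := by
  simp [Matrix.mulVec_diagonal]

theorem diagL_injective {n : ℕ} (δ : Fin n → ℤ) (hδ : ∀ i, δ i ≠ 0) :
    Function.Injective (Matrix.mulVecLin (Matrix.diagonal δ)) := by
  intro x y hxy
  funext i
  have := congrFun hxy i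
  rw [diagL_apply, diagL_apply] at this
  exact mul_left_cancel₀ (hδ i) this

theorem sumL_surjective {n : ℕ} (hn : 0 < n) : Function.Surjective (sumL n) := by
  intro c
  refine ⟨Pi.single ⟨0, hn⟩ c, ?_⟩
  rw [sumL_apply, Finset.sum_pi_single']
  simp

/-- The index of the image of a diagonal matrix. -/
theorem index_range_diagL {n : ℕ} (δ : Fin n → ℤ) :
    (Matrix.mulVecLin (Matrix.diagonal δ)).toAddMonoidHom.range.index = (∏ i, δ i).natAbs := by
  have h : (Matrix.mulVecLin (Matrix.diagonal δ)).toAddMonoidHom.range =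
      AddSubgroup.pi Set.univ (fun i => AddSubgroup.zmultiples (δ i)) := by
    ext y
    rw [AddSubgroup.mem_pi]
    constructor
    · rintro ⟨x, rfl⟩ i _
      rw [Int.mem_zmultiples_iff]
      exact ⟨x i, diagL_apply δ x i⟩
    · intro hy
      have hy' : ∀ i, ∃ c, y i = δ i * c := fun i =>
        Int.mem_zmultiples_iff.mp (hy i (Set.mem_univ i))
      choose x hx using hy'
      refine ⟨x, ?_⟩
      funext i
      rw [hx i]
      exact diagL_apply δ x i
  rw [h, AddSubgroup.index_pi]
  simp_rw [Int.index_zmultiples]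
  exact (map_prod Int.natAbsHom δ Finset.univ).symm

/-- The image of `x ↦ Σ δ_i x_i` is generated by the gcd of the `δ_i`. -/
theorem index_range_sumL_diagL {n : ℕ} (δ : Fin n → ℤ) :
    (((sumL n).toAddMonoidHom.comp
      (Matrix.mulVecLin (Matrix.diagonal δ)).toAddMonoidHom).range.index : ℤ) = univ.gcd δ := by
  have h : ((sumL n).toAddMonoidHom.comp
      (Matrix.mulVecLin (Matrix.diagonal δ)).toAddMonoidHom).range =
      AddSubgroup.zmultiples (univ.gcd δ) := by
    ext y
    rw [Int.mem_zmultiples_iff]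
    constructor
    · rintro ⟨x, rfl⟩
      change univ.gcd δ ∣ sumL n (Matrix.mulVecLin (Matrix.diagonal δ) x)
      rw [sumL_apply]
      refine Finset.dvd_sum fun i _ => ?_
      rw [diagL_apply]
      exact Dvd.dvd.mul_right (Finset.gcd_dvd (Finset.mem_univ i)) _
    · rintro ⟨c, rfl⟩
      obtain ⟨g, hg⟩ := Finset.gcd_eq_sum_mul univ δ
      refine ⟨fun i => g i * c, ?_⟩
      change sumL n (Matrix.mulVecLin (Matrix.diagonal δ) fun i => g i * c) = _
      rw [sumL_apply, hg, Finset.sum_mul]
      refine Finset.sum_congr rfl fun i _ => ?_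
      rw [diagL_apply]
      ring
  rw [h, Int.index_zmultiples, Int.natCast_natAbs, Int.abs_eq_normalize, Finset.normalize_gcd]

end Groth.Agent.Lib.Helper75
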