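import Groth.Agent.Lib.Helper75.LatIndex
import Mathlib.LinearAlgebra.Dimension.RankNullity
import Mathlib.LinearAlgebra.Dimension.Localization
import Mathlib.LinearAlgebra.Dimension.Free
import Mathlib.LinearAlgebra.FreeModule.PID

/-!
# Index computations for sublattices of `ℤⁿ`, II (helper75)
-/

set_option autoImplicit false
open Finset

namespace Groth.Agent.Lib.Helper75

/-- The kernel of an integer matrix of rank `n - 1` is generated by one vector. -/
theorem exists_ker_eq_span {n : ℕ} (hn : 0 < n) (A : Matrix (Fin n) (Fin n) ℤ)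
    (hA : A.rank = n - 1) :
    ∃ v : Fin n → ℤ, v ≠ 0 ∧ ∀ x, Matrix.mulVecLin A x = 0 ↔ ∃ c : ℤ, x = c • v := by
  have h1 : Module.finrank ℤ (LinearMap.range A.mulVecLin) +
      Module.finrank ℤ (LinearMap.ker A.mulVecLin) = n := by
    rw [← A.mulVecLin.quotKerEquivRange.finrank_eq]
    have := Submodule.finrank_quotient_add_finrank (LinearMap.ker A.mulVecLin)
    rw [this]
    simp
  have h2 : Module.finrank ℤ (LinearMap.ker A.mulVecLin) = 1 := by
    have : Module.finrank ℤ (LinearMap.range A.mulVecLin) = n - 1 := hA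
    omega
  let b := Module.finBasisOfFinrankEq ℤ (LinearMap.ker A.mulVecLin) h2
  refine ⟨(b 0 : Fin n → ℤ), ?_, fun x => ⟨fun hx => ?_, ?_⟩⟩
  · intro h0
    exact b.ne_zero 0 (Subtype.ext h0)
  · have hx' : x ∈ LinearMap.ker A.mulVecLin := hx
    refine ⟨b.repr ⟨x, hx'⟩ 0, ?_⟩
    have := b.sum_repr ⟨x, hx'⟩
    rw [Fin.sum_univ_one] at this
    have h3 := congrArg Subtype.val this
    simpa using h3.symm
  · rintro ⟨c, rfl⟩
    rw [map_smul]
    have : Matrix.mulVecLin A (b 0 : Fin n → ℤ) = 0 := (b 0).2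
    rw [this, smul_zero]

end Groth.Agent.Lib.Helper75

namespace Groth.Agent.Lib.Helper75

theorem relIndex_range_diag_ker {n : ℕ} (hn : 0 < n) (δ' : Fin n → ℤ) (hδ' : ∀ i, δ' i ≠ 0)
    (A : Matrix (Fin n) (Fin n) ℤ) (hA : A.rank = n - 1)
    (hker : Matrix.mulVecLin A δ' = 0) :
    (Matrix.mulVecLin (Matrix.diagonal δ')).toAddMonoidHom.range.relIndex
      (Matrix.mulVecLin A).toAddMonoidHom.ker = (univ.gcd δ').natAbs := by
  classical
  obtain ⟨v, hv0, hv⟩ := exists_ker_eq_span hn A hA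
  obtain ⟨m, hm⟩ := (hv δ').mp hker
  have i0 : Fin n := ⟨0, hn⟩
  have hδv : ∀ i, δ' i = m * v i := fun i => by rw [hm]; rfl
  have hm0 : m ≠ 0 := by
    rintro rfl
    exact hδ' i0 (by rw [hδv]; simp)
  have hvi : ∀ i, v i ≠ 0 := by
    intro i h
    exact hδ' i (by rw [hδv, h, mul_zero])
  -- `v` is primitive
  have hgv : univ.gcd v = 1 := by
    obtain ⟨w, hw, -⟩ := Finset.extract_gcd v (univ_nonempty_iff.mpr ⟨i0⟩)
    set G := univ.gcd v with hG
    have hG0 : G ≠ 0 := by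
      intro h
      rw [Finset.gcd_eq_zero_iff] at h
      exact hvi i0 (h i0 (mem_univ _))
    have hvw : v = G • w := by
      funext i
      rw [hw i (mem_univ _)]
      rfl
    have hAw : Matrix.mulVecLin A w = 0 := by
      have h1 : Matrix.mulVecLin A v = 0 := (hv v).mpr ⟨1, (one_smul _ _).symm⟩
      rw [hvw, map_smul] at h1
      exact (smul_eq_zero.mp h1).resolve_left hG0
    obtain ⟨t, ht⟩ := (hv w).mp hAw
    have hwi : w i0 ≠ 0 := by
      intro h
      exact hvi i0 (by rw [hw i0 (mem_univ _), h, mul_zero])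
    have h1 : w i0 = t * (G * w i0) := by
      have h := congrFun ht i0
      have h' : (t • v) i0 = t * v i0 := rfl
      rw [h', hw i0 (mem_univ _)] at h
      exact h
    have h2 : t * G = 1 := by
      have : (t * G) * w i0 = 1 * w i0 := by rw [one_mul]; rw [mul_assoc]; exact h1.symm
      exact mul_right_cancel₀ hwi this
    have hGnonneg : 0 ≤ G := Int.nonneg_of_normalize_eq_self (Finset.normalize_gcd)
    have hGunit : IsUnit G := IsUnit.of_mul_eq_one t (by rw [mul_comm]; exact h2)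
    rcases Int.isUnit_iff.mp hGunit with h | h
    · exact h
    · omega
  have hgδ : (univ.gcd δ').natAbs = m.natAbs := by
    have : univ.gcd δ' = normalize m * univ.gcd v := by
      rw [← Finset.gcd_mul_left]
      exact Finset.gcd_congr rfl fun i _ => hδv i
    rw [this, hgv, mul_one, ← Int.abs_eq_normalize, Int.natAbs_abs]
  rw [hgδ]
  -- the comparison with `ℤ`
  set f : ℤ →+ (Fin n → ℤ) := zmultiplesHom (Fin n → ℤ) v with hf
  have hfapp : ∀ t : ℤ, f t = t • v := fun t => rfl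
  have hfinj : Function.Injective f := by
    intro s t hst
    have := congrFun hst i0
    rw [hfapp, hfapp] at this
    exact mul_right_cancel₀ (hvi i0) this
  have hK : (Matrix.mulVecLin A).toAddMonoidHom.ker = (⊤ : AddSubgroup ℤ).map f := by
    ext x
    constructor
    · intro hx
      obtain ⟨c, rfl⟩ := (hv x).mp hx
      exact ⟨c, trivial, rfl⟩
    · rintro ⟨c, -, rfl⟩
      exact (hv _).mpr ⟨c, rfl⟩
  have hRK : (Matrix.mulVecLin (Matrix.diagonal δ')).toAddMonoidHom.range ⊓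
      (Matrix.mulVecLin A).toAddMonoidHom.ker = (AddSubgroup.zmultiples m).map f := by
    ext x
    constructor
    · rintro ⟨⟨y, rfl⟩, hx⟩
      obtain ⟨c, hc⟩ := (hv _).mp hx
      refine ⟨c, Int.mem_zmultiples_iff.mpr ?_, hc.symm⟩
      have h1 := congrFun hc i0
      change Matrix.mulVecLin (Matrix.diagonal δ') y i0 = c * v i0 at h1
      rw [diagL_apply, hδv, mul_assoc] at h1
      have : m * v i0 ∣ c * v i0 := ⟨y i0, by rw [← h1]; ring⟩
      exact (mul_dvd_mul_iff_right (hvi i0)).mp this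
    · rintro ⟨c, hc, rfl⟩
      obtain ⟨e, rfl⟩ := Int.mem_zmultiples_iff.mp hc
      refine ⟨⟨fun _ => e, ?_⟩, (hv _).mpr ⟨m * e, rfl⟩⟩
      funext i
      change Matrix.mulVecLin (Matrix.diagonal δ') (fun _ => e) i = (m * e) * v i
      rw [diagL_apply, hδv]
      ring
  rw [← AddSubgroup.inf_relIndex_right, hRK, hK,
    AddSubgroup.relIndex_map_map_of_injective _ _ hfinj, AddSubgroup.relIndex_top_right,
    Int.index_zmultiples]

end Groth.Agent.Lib.Helper75

namespace Groth.Agent.Lib.Helper75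

/-- Second step: `[ker S : im(DA)] · |det D'| = d' · [ker S : im(D A D')]`. -/
theorem index_step2 {n : ℕ} (hn : 0 < n) (δ δ' : Fin n → ℤ) (hδ : ∀ i, δ i ≠ 0)
    (hδ' : ∀ i, δ' i ≠ 0) (A : Matrix (Fin n) (Fin n) ℤ) (hA : A.rank = n - 1)
    (hSDA : (sumL n) ∘ₗ (Matrix.mulVecLin (Matrix.diagonal δ)) ∘ₗ (Matrix.mulVecLin A) = 0)
    (hker : Matrix.mulVecLin A δ' = 0) :
    (LinearMap.range ((Matrix.mulVecLin (Matrix.diagonal δ)) ∘ₗ
        (Matrix.mulVecLin A))).toAddSubgroup.relIndex (LinearMap.ker (sumL n)).toAddSubgroup *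
      (∏ i, δ' i).natAbs =
    (univ.gcd δ').natAbs *
      (LinearMap.range ((Matrix.mulVecLin (Matrix.diagonal δ)) ∘ₗ (Matrix.mulVecLin A) ∘ₗ
        (Matrix.mulVecLin (Matrix.diagonal δ')))).toAddSubgroup.relIndex
          (LinearMap.ker (sumL n)).toAddSubgroup := by
  set Dℓ := Matrix.mulVecLin (Matrix.diagonal δ) with hDℓ
  set D'ℓ := Matrix.mulVecLin (Matrix.diagonal δ') with hD'ℓ
  set Aℓ := Matrix.mulVecLin A with hAℓ
  set B : (Fin n → ℤ) →+ (Fin n → ℤ) := (Dℓ ∘ₗ Aℓ).toAddMonoidHom with hB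
  set K₂ := (LinearMap.ker (sumL n)).toAddSubgroup with hK₂
  have hI₁ : (LinearMap.range (Dℓ ∘ₗ Aℓ)).toAddSubgroup = (⊤ : AddSubgroup (Fin n → ℤ)).map B := by
    ext y
    constructor
    · rintro ⟨x, rfl⟩
      exact ⟨x, trivial, rfl⟩
    · rintro ⟨x, -, rfl⟩
      exact ⟨x, rfl⟩
  have hI₂ : (LinearMap.range (Dℓ ∘ₗ Aℓ ∘ₗ D'ℓ)).toAddSubgroup =
      (D'ℓ.toAddMonoidHom.range).map B := by
    ext y
    constructor
    · rintro ⟨x, rfl⟩
      exact ⟨D'ℓ x, ⟨x, rfl⟩, rfl⟩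
    · rintro ⟨_, ⟨x, rfl⟩, rfl⟩
      exact ⟨x, rfl⟩
  have hle₁ : (⊤ : AddSubgroup (Fin n → ℤ)).map B ≤ K₂ := by
    rintro _ ⟨x, -, rfl⟩
    exact LinearMap.congr_fun hSDA x
  have hle₂ : (D'ℓ.toAddMonoidHom.range).map B ≤ (⊤ : AddSubgroup (Fin n → ℤ)).map B :=
    AddSubgroup.map_mono le_top
  have hkerB : B.ker = Aℓ.toAddMonoidHom.ker := by
    ext x
    constructor
    · intro hx
      have hx' : Dℓ (Aℓ x) = 0 := hx
      have : Dℓ (Aℓ x) = Dℓ 0 := by rw [hx', map_zero]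
      exact diagL_injective δ hδ this
    · intro hx
      have hx' : Aℓ x = 0 := hx
      change Dℓ (Aℓ x) = 0
      rw [hx', map_zero]
  have h1 := AddSubgroup.relIndex_mul_relIndex _ _ _ hle₂ hle₁
  have h2 : ((D'ℓ.toAddMonoidHom.range).map B).relIndex ((⊤ : AddSubgroup (Fin n → ℤ)).map B) =
      (Aℓ.toAddMonoidHom.ker ⊔ D'ℓ.toAddMonoidHom.range).index := by
    rw [AddSubgroup.relIndex_map_map, hkerB, top_sup_eq, AddSubgroup.relIndex_top_right, sup_comm]
  have h3 : D'ℓ.toAddMonoidHom.range.relIndex (Aℓ.toAddMonoidHom.ker ⊔ D'ℓ.toAddMonoidHom.range) *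
      (Aℓ.toAddMonoidHom.ker ⊔ D'ℓ.toAddMonoidHom.range).index = D'ℓ.toAddMonoidHom.range.index :=
    AddSubgroup.relIndex_mul_index le_sup_right
  have h4 : D'ℓ.toAddMonoidHom.range.relIndex (Aℓ.toAddMonoidHom.ker ⊔ D'ℓ.toAddMonoidHom.range) =
      D'ℓ.toAddMonoidHom.range.relIndex Aℓ.toAddMonoidHom.ker :=
    AddSubgroup.relIndex_sup_right _ _
  have h5 := relIndex_range_diag_ker hn δ' hδ' A hA hker
  have h6 := index_range_diagL δ'
  rw [hI₁, hI₂, ← h6, ← h3, h4, h5, ← h2, ← h1]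
  ring

end Groth.Agent.Lib.Helper75
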