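import Mathlib

/-!
# Choosing minimal generating families from spanning sets over a local ring

* `exists_linearIndependent_of_span_eq_top`: greedy choice of linearly independent vectors from
  spanning sets.
* `exists_span_eq_top_of_forall_span_eq_top`: over a local ring, if `L` is generated by `M`
  elements and by no fewer, and `S i` (`i : Fin M`) are sets each generating `L`, then one can
  choose `v i ∈ S i` generating `L`.
-/

set_option autoImplicit false
universe u v

namespace Groth.Agent.Lib.Helper75.LocalGenerators

open Module Submodule TensorProduct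

theorem exists_linearIndependent_of_span_eq_top {K : Type u} {V : Type v} [Field K]
    [AddCommGroup V] [Module K V] [FiniteDimensional K V] :
    ∀ (n : ℕ) (S : Fin n → Set V), (∀ i, span K (S i) = ⊤) → n ≤ finrank K V →
      ∃ v : Fin n → V, (∀ i, v i ∈ S i) ∧ LinearIndependent K v := by
  intro n
  induction n with
  | zero =>
    intro S _ _
    exact ⟨fun i => i.elim0, fun i => i.elim0, linearIndependent_empty_type⟩
  | succ n ih =>
    intro S hS hn
    obtain ⟨v, hv, hli⟩ := ih (fun i => S i.castSucc) (fun i => hS _) (by omega)
    have hne : span K (Set.range v) ≠ ⊤ := by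
      intro h
      have h1 : finrank K (span K (Set.range v)) = n := by
        rw [finrank_span_eq_card hli, Fintype.card_fin]
      rw [h, finrank_top] at h1
      omega
    have hex : ∃ x ∈ S (Fin.last n), x ∉ span K (Set.range v) := by
      by_contra hcon
      push Not at hcon
      apply hne
      rw [eq_top_iff, ← hS (Fin.last n)]
      exact span_le.mpr hcon
    obtain ⟨x, hxS, hx⟩ := hex
    refine ⟨Fin.snoc v x, ?_, linearIndependent_finSnoc.mpr ⟨hli, hx⟩⟩
    intro i
    refine Fin.lastCases ?_ (fun j => ?_) i
    · simpa using hxS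
    · simpa using hv j

variable {R : Type u} [CommRing R] [IsLocalRing R] {L : Type v} [AddCommGroup L] [Module R L]
  [Module.Finite R L]

theorem exists_span_eq_top_of_forall_span_eq_top (M : ℕ)
    (hgen : ∃ s : Fin M → L, span R (Set.range s) = ⊤)
    (hmin : ∀ s : Finset L, span R (s : Set L) = ⊤ → M ≤ s.card)
    (S : Fin M → Set L) (hS : ∀ i, span R (S i) = ⊤) :
    ∃ v : Fin M → L, (∀ i, v i ∈ S i) ∧ span R (Set.range v) = ⊤ := by
  classical
  let κ := IsLocalRing.ResidueField R
  let V := κ ⊗[R] L
  let τ : L →ₗ[R] V := TensorProduct.mk R κ L 1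
  have hτ : Function.Surjective τ :=
    TensorProduct.mk_surjective R L κ Ideal.Quotient.mk_surjective
  -- forward direction
  have hfwd : ∀ T : Set L, span R T = ⊤ → span κ (τ '' T) = ⊤ := by
    intro T hT
    have h1 : span R (τ '' T) = ⊤ := by
      rw [← Submodule.map_span, hT, Submodule.map_top, LinearMap.range_eq_top.mpr hτ]
    apply (Submodule.restrictScalars_eq_top_iff R κ V).mp
    rw [eq_top_iff, ← h1]
    exact Submodule.span_le_restrictScalars R κ _
  have hbwd : ∀ (v : Fin M → L), span κ (Set.range (τ ∘ v)) = ⊤ → span R (Set.range v) = ⊤ := by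
    intro v hv
    rw [← IsLocalRing.map_tensorProduct_mk_eq_top, Submodule.map_span,
      ← Submodule.restrictScalars_span R κ Ideal.Quotient.mk_surjective,
      Submodule.restrictScalars_eq_top_iff, ← Set.range_comp]
    exact hv
  -- dimension count
  have hle : finrank κ V ≤ M := by
    obtain ⟨s, hs⟩ := hgen
    have h1 := hfwd _ hs
    rw [← Set.range_comp] at h1
    have h2 : finrank κ (span κ (Set.range (τ ∘ s))) ≤ Fintype.card (Fin M) :=
      finrank_range_le_card _
    rw [h1, finrank_top, Fintype.card_fin] at h2
    exact h2
  have hge : M ≤ finrank κ V := by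
    let b := Module.finBasis κ V
    choose f hf using fun i => hτ (b i)
    have h1 : span R (Set.range f) = ⊤ :=
      IsLocalRing.span_eq_top_of_tmul_eq_basis f b hf
    have h2 := hmin (Finset.univ.image f) (by simpa using h1)
    calc M ≤ (Finset.univ.image f).card := h2
      _ ≤ (Finset.univ : Finset (Fin (finrank κ V))).card := Finset.card_image_le
      _ = finrank κ V := by simp
  obtain ⟨w, hw, hli⟩ := exists_linearIndependent_of_span_eq_top (K := κ) (V := V) M
    (fun i => τ '' S i) (fun i => hfwd _ (hS i)) hge
  choose v hvS hv using hw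
  refine ⟨v, hvS, hbwd v ?_⟩
  have h3 : τ ∘ v = w := funext hv
  rw [h3]
  exact hli.span_eq_top_of_card_eq_finrank' (by rw [Fintype.card_fin]; omega)

end Groth.Agent.Lib.Helper75.LocalGenerators
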