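import Mathlib.Order.Basic
import Mathlib.Data.Set.Image
import Mathlib.Tactic

/-!
# Mittag-Leffler systems of sets indexed by `ℕ` have compatible families
-/

set_option autoImplicit false
universe v

namespace Groth.Agent.Lib.Helper75.MLSystems

/-- A Mittag-Leffler inverse system of types indexed by `ℕ`, given elements `ι k : H k` at every level,
admits a compatible family whose level-`0` term is the image of some `ι k`. -/
theorem exists_compatible {H : ℕ → Type v} (t : ∀ n k : ℕ, n ≤ k → H k → H n)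
    (t_id : ∀ n (x : H n), t n n le_rfl x = x)
    (t_comp : ∀ (n m k : ℕ) (h1 : n ≤ m) (h2 : m ≤ k) (x : H k),
      t n m h1 (t m k h2 x) = t n k (h1.trans h2) x)
    (ML : ∀ n : ℕ, ∃ m : ℕ, n ≤ m ∧ ∀ (k : ℕ) (hmk : m ≤ k) (hnm : n ≤ m) (ψ : H m),
      ∃ ψ' : H k, t n k (hnm.trans hmk) ψ' = t n m hnm ψ)
    (ι : ∀ k, H k) :
    ∃ x : ∀ n, H n, (∀ (n k : ℕ) (h : n ≤ k), t n k h (x k) = x n) ∧
      ∃ k : ℕ, x 0 = t 0 k (Nat.zero_le k) (ι k) := by
  choose m hm hML using ML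
  -- stable images
  let E : ∀ n, Set (H n) := fun n => Set.range (t n (m n) (hm n))
  have Esurj : ∀ n, ∀ x ∈ E n, ∃ x' ∈ E (n + 1), t n (n + 1) (Nat.le_succ n) x' = x := by
    rintro n _ ⟨y, rfl⟩
    obtain ⟨y', hy'⟩ := hML n (max (m n) (m (n + 1))) (le_max_left _ _) (hm n) y
    have h1 : n + 1 ≤ max (m n) (m (n + 1)) := (hm (n + 1)).trans (le_max_right _ _)
    refine ⟨t (n + 1) _ h1 y', ?_, ?_⟩
    · refine ⟨t (m (n + 1)) _ (le_max_right _ _) y', ?_⟩
      rw [t_comp]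
    · rw [t_comp, hy']
  let seq : ∀ n, {x : H n // x ∈ E n} := fun n =>
    Nat.rec (motive := fun n => {x : H n // x ∈ E n}) ⟨t 0 (m 0) (hm 0) (ι (m 0)), ⟨_, rfl⟩⟩
      (fun n p => ⟨(Esurj n p.1 p.2).choose, (Esurj n p.1 p.2).choose_spec.1⟩) n
  have hseq : ∀ n, t n (n + 1) (Nat.le_succ n) (seq (n + 1)).1 = (seq n).1 := by
    intro n
    exact (Esurj n (seq n).1 (seq n).2).choose_spec.2
  refine ⟨fun n => (seq n).1, ?_, m 0, rfl⟩
  intro n k h
  induction k, h using Nat.le_induction with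
  | base => exact t_id n _
  | succ k hnk ih =>
    rw [← t_comp n k (k + 1) hnk (Nat.le_succ k), hseq k]
    exact ih

end Groth.Agent.Lib.Helper75.MLSystems
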