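import Groth.Agent.Lib.Helper75.RigidityGrp

set_option autoImplicit false
universe u
open CategoryTheory MonoidalCategory CartesianMonoidalCategory MonObj GrpObj AlgebraicGeometry

namespace Groth.Agent.Lib.Helper75.Rigidity

/-- Decomposition of a pointed map from a product into a separated group scheme. -/
theorem prod_decomp (K : Type u) [Field K] (V W C : Over (Spec (CommRingCat.of K)))
    [IsProper V.hom] [GeometricallyIntegral V.hom]
    [LocallyOfFiniteType W.hom] [GeometricallyIntegral W.hom]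
    [GrpObj C] [IsSeparated C.hom]
    (v₀ : 𝟙_ (Over (Spec (CommRingCat.of K))) ⟶ V) (w₀ : 𝟙_ (Over (Spec (CommRingCat.of K))) ⟶ W)
    (h : V ⊗ W ⟶ C) (h0 : lift v₀ w₀ ≫ h = η[C]) :
    h = (fst V W ≫ lift (𝟙 V) (toUnit V ≫ w₀) ≫ h) * (snd V W ≫ lift (toUnit W ≫ v₀) (𝟙 W) ≫ h) := by
  obtain ⟨a, ha⟩ : ∃ a : V ⟶ C, a = lift (𝟙 V) (toUnit V ≫ w₀) ≫ h := ⟨_, rfl⟩
  obtain ⟨b, hb⟩ : ∃ b : W ⟶ C, b = lift (toUnit W ≫ v₀) (𝟙 W) ≫ h := ⟨_, rfl⟩
  rw [← ha, ← hb]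
  have e1 : w₀ ≫ lift (toUnit W ≫ v₀) (𝟙 W) = lift v₀ w₀ := by
    rw [comp_lift, Category.comp_id, ← Category.assoc, toUnit_unique (w₀ ≫ toUnit W) (𝟙 _),
      Category.id_comp]
  have e2 : v₀ ≫ lift (𝟙 V) (toUnit V ≫ w₀) = lift v₀ w₀ := by
    rw [comp_lift, Category.comp_id, ← Category.assoc, toUnit_unique (v₀ ≫ toUnit V) (𝟙 _),
      Category.id_comp]
  have hw₀b : w₀ ≫ b = η[C] := by
    rw [hb, ← Category.assoc, e1, h0]
  have hv₀a : v₀ ≫ a = η[C] := by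
    rw [ha, ← Category.assoc, e2, h0]
  have hδ : (fst V W ≫ a)⁻¹ * h * (snd V W ≫ b)⁻¹ = toUnit (V ⊗ W) ≫ η[C] := by
    apply rigidity_field K V W C _ v₀ w₀ η[C]
    · rw [comp_mul, comp_mul, GrpObj.comp_inv, GrpObj.comp_inv, lift_fst_assoc, Category.id_comp,
        lift_snd_assoc, Category.assoc, hw₀b, ← ha, inv_mul_cancel, _root_.one_mul,
        ← Hom.one_def, inv_one]
    · rw [comp_mul, comp_mul, GrpObj.comp_inv, GrpObj.comp_inv, lift_fst_assoc,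
        lift_snd_assoc, Category.id_comp, Category.assoc, hv₀a, ← hb, ← Hom.one_def, inv_one,
        _root_.one_mul, mul_inv_cancel]
  rw [← Hom.one_def] at hδ
  have h1 : (fst V W ≫ a)⁻¹ * h = snd V W ≫ b := by
    rw [← mul_inv_eq_one]; exact hδ
  rw [← h1, mul_inv_cancel_left]

/-- Images of the two factors of a product of an abelian variety and a group variety commute. -/
theorem commute_fst_snd (K : Type u) [Field K] (A B C : Over (Spec (CommRingCat.of K)))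
    [GrpObj A] [IsProper A.hom] [GeometricallyIntegral A.hom]
    [GrpObj B] [LocallyOfFiniteType B.hom] [GeometricallyIntegral B.hom]
    [GrpObj C] [IsSeparated C.hom]
    (h₁ : A ⟶ C) (h₂ : B ⟶ C) (hh₁ : η[A] ≫ h₁ = η[C]) (hh₂ : η[B] ≫ h₂ = η[C]) :
    (fst A B ≫ h₁) * (snd A B ≫ h₂) = (snd A B ≫ h₂) * (fst A B ≫ h₁) := by
  have hκ : (fst A B ≫ h₁) * (snd A B ≫ h₂) * (fst A B ≫ h₁)⁻¹ * (snd A B ≫ h₂)⁻¹
      = toUnit (A ⊗ B) ≫ η[C] := by
    apply rigidity_field K A B C _ η[A] η[B] η[C]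
    · rw [comp_mul, comp_mul, comp_mul, GrpObj.comp_inv, GrpObj.comp_inv, lift_fst_assoc,
        Category.id_comp, lift_snd_assoc, Category.assoc, hh₂, ← Hom.one_def, inv_one,
        _root_.mul_one, _root_.mul_one, mul_inv_cancel]
    · rw [comp_mul, comp_mul, comp_mul, GrpObj.comp_inv, GrpObj.comp_inv, lift_fst_assoc,
        lift_snd_assoc, Category.id_comp, Category.assoc, hh₁, ← Hom.one_def, inv_one,
        _root_.one_mul, _root_.mul_one, mul_inv_cancel]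
  rw [← Hom.one_def] at hκ
  rw [mul_inv_eq_one, mul_inv_eq_iff_eq_mul] at hκ
  exact hκ

section cat

variable {D : Type*} [Category D] [CartesianMonoidalCategory D] [BraidedCategory D]

theorem isMonHom_mul_of_commute (A B G : D) [MonObj A] [MonObj B] [GrpObj G]
    (h₁ : A ⟶ G) (h₂ : B ⟶ G) [IsMonHom h₁] [IsMonHom h₂]
    (hc : (fst A B ≫ h₁) * (snd A B ≫ h₂) = (snd A B ≫ h₂) * (fst A B ≫ h₁)) :
    IsMonHom ((fst A B ≫ h₁) * (snd A B ≫ h₂)) := by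
  constructor
  · rw [comp_mul, IsMonHom.one_hom, MonObj.one_eq_one, _root_.one_mul]
    rw [← MonObj.one_eq_one]
    exact IsMonHom.one_hom _
  · obtain ⟨a, ha⟩ : ∃ a : A ⊗ B ⟶ G, a = fst A B ≫ h₁ := ⟨_, rfl⟩
    obtain ⟨b, hb⟩ : ∃ b : A ⊗ B ⟶ G, b = snd A B ≫ h₂ := ⟨_, rfl⟩
    have hamon : IsMonHom a := by rw [ha]; infer_instance
    have hbmon : IsMonHom b := by rw [hb]; infer_instance
    rw [← ha, ← hb] at hc ⊢
    have hR : ((a * b) ⊗ₘ (a * b)) ≫ μ[G] =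
        (fst (A ⊗ B) (A ⊗ B) ≫ (a * b)) * (snd (A ⊗ B) (A ⊗ B) ≫ (a * b)) := by
      rw [MonObj.mul_eq_mul G, comp_mul, tensorHom_fst, tensorHom_snd]
    have hL : μ[A ⊗ B] ≫ (a * b) =
        ((fst (A ⊗ B) (A ⊗ B) ≫ a) * (snd (A ⊗ B) (A ⊗ B) ≫ a)) *
          ((fst (A ⊗ B) (A ⊗ B) ≫ b) * (snd (A ⊗ B) (A ⊗ B) ≫ b)) := by
      rw [MonObj.mul_eq_mul (A ⊗ B), comp_mul, mul_comp, mul_comp]
    show μ[A ⊗ B] ≫ (a * b) = ((a * b) ⊗ₘ (a * b)) ≫ μ[G]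
    rw [hR, hL, comp_mul, comp_mul]
    have hq := congr(lift (snd (A ⊗ B) (A ⊗ B) ≫ fst A B) (fst (A ⊗ B) (A ⊗ B) ≫ snd A B) ≫ $hc)
    rw [comp_mul, comp_mul, ha, hb, lift_fst_assoc, lift_snd_assoc, Category.assoc, Category.assoc,
      ← ha, ← hb] at hq
    rw [_root_.mul_assoc, _root_.mul_assoc, ← _root_.mul_assoc _ (fst (A ⊗ B) (A ⊗ B) ≫ b), hq,
      _root_.mul_assoc]

end cat

end Groth.Agent.Lib.Helper75.Rigidity
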