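import Mathlib
import Groth.Prelude
import Groth.Agent.Lib.Helper75.MaxAbSub
import Groth.Agent.Lib.Helper75.GeomImage
import Groth.Agent.Lib.Helper75.RigidityProd
import Groth.Agent.Lib.Helper14.SchImageGroup
import Groth.Agent.Lib.Helper14.GrpSepQCa
import Groth.Agent.Lib.Helper41.GeomRedSep
import Groth.Agent.Lib.Helper41.SepPoints3

/-!
# The maximal abelian subvariety of a commutative group scheme locally of finite type over a field
-/

set_option autoImplicit false
universe u
open CategoryTheory CategoryTheory.Limits MonoidalCategory CartesianMonoidalCategory MonObj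
  AlgebraicGeometry

namespace Groth.Agent.Lib.Helper75.MaxAbSub

variable {k : Type u} [Field k]

/-- An abelian variety (proper, geometrically reduced, connected group scheme) is geometrically
integral. -/
theorem geometricallyIntegral_of_abVar (A : Over (Spec (CommRingCat.of k))) [GrpObj A]
    [IsProper A.hom] [GeometricallyReduced A.hom] [ConnectedSpace ↥A.left] :
    GeometricallyIntegral A.hom := by
  have hsub : Subsingleton (Spec (CommRingCat.of k)) :=
    inferInstanceAs (Subsingleton (PrimeSpectrum k))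
  have h1 : GeometricallyIrreducible A.hom := by
    apply Groth.Agent.Lib.Helper14.GrpSepQC.geometricallyIrreducible_of_connected_fibres
    intro s
    have : A.hom ⁻¹' {s} = Set.univ := by
      ext x
      simp only [Set.mem_preimage, Set.mem_singleton_iff, Set.mem_univ, iff_true]
      exact Subsingleton.elim _ _
    rw [this]
    exact isConnected_univ
  exact GeometricallyIntegral.of_geometricallyReduced_of_geometricallyIrreducible A.hom

/-- The product of two abelian varieties is an abelian variety. -/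
theorem abVar_tensor (A₁ A₂ : Over (Spec (CommRingCat.of k))) [GrpObj A₁] [GrpObj A₂]
    [IsProper A₁.hom] [GeometricallyReduced A₁.hom] [ConnectedSpace ↥A₁.left]
    [IsProper A₂.hom] [GeometricallyReduced A₂.hom] [ConnectedSpace ↥A₂.left] :
    IsProper (A₁ ⊗ A₂).hom ∧ GeometricallyReduced (A₁ ⊗ A₂).hom ∧
      ConnectedSpace ↥(A₁ ⊗ A₂).left := by
  have hsub : Subsingleton (Spec (CommRingCat.of k)) :=
    inferInstanceAs (Subsingleton (PrimeSpectrum k))
  have hi1 : GeometricallyIntegral A₁.hom := geometricallyIntegral_of_abVar A₁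
  have hi2 : GeometricallyIntegral A₂.hom := geometricallyIntegral_of_abVar A₂
  refine ⟨?_, Groth.Agent.Lib.Helper41.GeomRedSep.geometricallyReduced_tensor A₁ A₂, ?_⟩
  · change IsProper (pullback.fst A₁.hom A₂.hom ≫ A₁.hom)
    infer_instance
  · have hflat : Flat A₁.hom := inferInstance
    have huo : UniversallyOpen A₁.hom := inferInstance
    have hint2 : IsIntegral A₂.left := GeometricallyIntegral.isIntegral_of_subsingleton A₂.hom
    have hN2 : IsLocallyNoetherian A₂.left := LocallyOfFiniteType.isLocallyNoetherian A₂.hom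
    have hint : IsIntegral (pullback A₁.hom A₂.hom) := inferInstance
    change ConnectedSpace ↥(pullback A₁.hom A₂.hom)
    infer_instance

/-- the unit point of a group scheme over a field -/
noncomputable def ept (G : Over (Spec (CommRingCat.of k))) [GrpObj G] : ↥G.left :=
  η[G].left ((⊥ : PrimeSpectrum k) : ↥(𝟙_ (Over (Spec (CommRingCat.of k)))).left)

/-- `x` is the generic point of the image of a homomorphism from an abelian variety. -/
def IsAbGen (G : Over (Spec (CommRingCat.of k))) [GrpObj G] (x : ↥G.left) : Prop :=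
  ∃ (A : Over (Spec (CommRingCat.of k))) (_ : GrpObj A) (φ : A ⟶ G), IsProper A.hom ∧
    GeometricallyReduced A.hom ∧ ConnectedSpace ↥A.left ∧ IsMonHom φ ∧
    closure {x} = Set.range φ.left

theorem isProper_left (A G : Over (Spec (CommRingCat.of k))) [GrpObj G] [IsProper A.hom]
    (φ : A ⟶ G) : IsProper φ.left := by
  have hsep : IsSeparated G.hom := Groth.Agent.Lib.Helper41.SepPoints3.isSeparated_of_field G
  have : IsProper (φ.left ≫ G.hom) := by rw [Over.w φ]; infer_instance
  exact IsProper.of_comp φ.left G.hom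

theorem exists_isAbGen (A G : Over (Spec (CommRingCat.of k))) [GrpObj A] [GrpObj G]
    [IsProper A.hom] [GeometricallyReduced A.hom] [ConnectedSpace ↥A.left]
    (φ : A ⟶ G) [IsMonHom φ] :
    ∃ x : ↥G.left, IsAbGen G x ∧ closure {x} = Set.range φ.left := by
  have hirr : IrreducibleSpace ↥A.left :=
    Groth.Agent.Lib.Helper70.GrpConnC.irreducibleSpace_of_connectedSpace A
  have hp : IsProper φ.left := isProper_left A G φ
  have hξ : closure {genericPoint ↥A.left} = Set.univ := (genericPoint_spec (α := ↥A.left)).def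
  have hcl : closure {φ.left (genericPoint ↥A.left)} = Set.range φ.left := by
    rw [← Set.image_singleton,
      IsClosedMap.closure_image_eq_of_continuous φ.left.isClosedMap φ.left.continuous, hξ,
      Set.image_univ]
  exact ⟨_, ⟨A, inferInstance, φ, inferInstance, inferInstance, inferInstance, inferInstance, hcl⟩,
    hcl⟩

theorem IsAbGen.specializes {G : Over (Spec (CommRingCat.of k))} [GrpObj G] {x : ↥G.left}
    (h : IsAbGen G x) : x ⤳ ept G := by
  obtain ⟨A, _, φ, _, _, _, hφ, hx⟩ := h
  rw [specializes_iff_mem_closure, hx]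
  refine ⟨η[A].left ((⊥ : PrimeSpectrum k) : ↥(𝟙_ (Over (Spec (CommRingCat.of k)))).left), ?_⟩
  have := congrArg (fun t => t.left ((⊥ : PrimeSpectrum k) :
    ↥(𝟙_ (Over (Spec (CommRingCat.of k)))).left)) (IsMonHom.one_hom (f := φ))
  exact this

theorem IsAbGen.directed {G : Over (Spec (CommRingCat.of k))} [GrpObj G] [IsCommMonObj G]
    {x y : ↥G.left} (hx : IsAbGen G x) (hy : IsAbGen G y) :
    ∃ z, IsAbGen G z ∧ z ⤳ x ∧ z ⤳ y := by
  obtain ⟨A₁, _, φ₁, _, _, _, hφ₁, hx⟩ := hx
  obtain ⟨A₂, _, φ₂, _, _, _, hφ₂, hy⟩ := hy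
  obtain ⟨h1, h2, h3⟩ := abVar_tensor A₁ A₂
  have hcomm : (fst A₁ A₂ ≫ φ₁) * (snd A₁ A₂ ≫ φ₂) = (snd A₁ A₂ ≫ φ₂) * (fst A₁ A₂ ≫ φ₁) :=
    mul_comm _ _
  have hmon : IsMonHom ((fst A₁ A₂ ≫ φ₁) * (snd A₁ A₂ ≫ φ₂)) :=
    Groth.Agent.Lib.Helper75.Rigidity.isMonHom_mul_of_commute A₁ A₂ G φ₁ φ₂ hcomm
  obtain ⟨z, hz, hzr⟩ := exists_isAbGen (A₁ ⊗ A₂) G ((fst A₁ A₂ ≫ φ₁) * (snd A₁ A₂ ≫ φ₂))
  have e1 : lift (𝟙 A₁) (toUnit A₁ ≫ η[A₂]) ≫ ((fst A₁ A₂ ≫ φ₁) * (snd A₁ A₂ ≫ φ₂)) = φ₁ := by
    rw [comp_mul, lift_fst_assoc, lift_snd_assoc, Category.id_comp, Category.assoc,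
      IsMonHom.one_hom, ← Hom.one_def, _root_.mul_one]
  have e2 : lift (toUnit A₂ ≫ η[A₁]) (𝟙 A₂) ≫ ((fst A₁ A₂ ≫ φ₁) * (snd A₁ A₂ ≫ φ₂)) = φ₂ := by
    rw [comp_mul, lift_fst_assoc, lift_snd_assoc, Category.id_comp, Category.assoc,
      IsMonHom.one_hom, ← Hom.one_def, _root_.one_mul]
  refine ⟨z, hz, ?_, ?_⟩
  · rw [specializes_iff_mem_closure, hzr]
    have : x ∈ Set.range φ₁.left := by rw [← hx]; exact subset_closure rfl
    obtain ⟨a, rfl⟩ := this
    refine ⟨(lift (𝟙 A₁) (toUnit A₁ ≫ η[A₂])).left a, ?_⟩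
    have := congrArg (fun t => t.left a) e1
    exact this
  · rw [specializes_iff_mem_closure, hzr]
    have : y ∈ Set.range φ₂.left := by rw [← hy]; exact subset_closure rfl
    obtain ⟨a, rfl⟩ := this
    refine ⟨(lift (toUnit A₂ ≫ η[A₁]) (𝟙 A₂)).left a, ?_⟩
    have := congrArg (fun t => t.left a) e2
    exact this

/-- **The maximal abelian subvariety** of a commutative group scheme locally of finite type
over a field. -/
theorem exists_maximal (G : Over (Spec (CommRingCat.of k))) [GrpObj G] [IsCommMonObj G]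
    [LocallyOfFiniteType G.hom] :
    ∃ (M : Over (Spec (CommRingCat.of k))) (_ : GrpObj M) (i : M ⟶ G), IsMonHom i ∧
      IsClosedImmersion i.left ∧ IsProper M.hom ∧ GeometricallyIntegral M.hom ∧
      ∀ (A : Over (Spec (CommRingCat.of k))) [GrpObj A] [IsProper A.hom]
        [GeometricallyReduced A.hom] [ConnectedSpace ↥A.left]
        (φ : A ⟶ G), IsMonHom φ → ∃ ψ : A ⟶ M, ψ ≫ i = φ := by
  have hsub : Subsingleton (Spec (CommRingCat.of k)) :=
    inferInstanceAs (Subsingleton (PrimeSpectrum k))
  have hN : IsLocallyNoetherian G.left := LocallyOfFiniteType.isLocallyNoetherian G.hom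
  have hsepG : IsSeparated G.hom := Groth.Agent.Lib.Helper41.SepPoints3.isSeparated_of_field G
  have hne : {x | IsAbGen G x}.Nonempty := by
    have h0 : IsProper (𝟙_ (Over (Spec (CommRingCat.of k)))).hom := by
      change IsProper (𝟙 (Spec (CommRingCat.of k)))
      infer_instance
    have h1 : GeometricallyReduced (𝟙_ (Over (Spec (CommRingCat.of k)))).hom := by
      change GeometricallyReduced (𝟙 (Spec (CommRingCat.of k)))
      refine ⟨fun K _ y Z fst' snd' h => ?_⟩
      have hiso : IsIso snd' := MorphismProperty.of_isPullback (P := .isomorphisms Scheme) h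
        (inferInstanceAs (IsIso (𝟙 (Spec (CommRingCat.of k)))))
      exact isReduced_of_isOpenImmersion snd'
    have h2 : ConnectedSpace ↥(𝟙_ (Over (Spec (CommRingCat.of k)))).left := by
      change ConnectedSpace ↥(Spec (CommRingCat.of k))
      infer_instance
    obtain ⟨x, hx, -⟩ := exists_isAbGen (𝟙_ _) G η[G]
    exact ⟨x, hx⟩
  obtain ⟨x₀, hx₀, hmax⟩ := exists_generic_of_directed (ept G) {x | IsAbGen G x} hne
    (fun x hx => IsAbGen.specializes hx) (fun x hx y hy => IsAbGen.directed hx hy)
  obtain ⟨A₀, hA₀, φ₀, hp₀, hr₀, hc₀, hφ₀, hx₀r⟩ := hx₀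
  have hpφ₀ : IsProper φ₀.left := isProper_left A₀ G φ₀
  have hqc : QuasiCompact φ₀.left := inferInstance
  obtain ⟨M, hM, i, f', hi, hf', hfac, hcl, hdom, hqc', hsurj, -, -, -⟩ :=
    Groth.Agent.Lib.Helper14.exists_grpObj_image φ₀
  have hri : Set.range i.left = Set.range φ₀.left := by
    rw [← hfac]
    change Set.range i.left = Set.range (f'.left ≫ i.left)
    rw [Scheme.Hom.comp_base, TopCat.coe_comp, Set.range_comp, f'.left.surjective.range_eq,
      Set.image_univ]
  have hi0 : GeometricallyIntegral A₀.hom := geometricallyIntegral_of_abVar A₀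
  refine ⟨M, hM, i, hi, hcl, ?_, ?_, ?_⟩
  · have e : M.hom = i.left ≫ G.hom := (Over.w i).symm
    have hlft : LocallyOfFiniteType M.hom := by rw [e]; infer_instance
    have hsep : IsSeparated M.hom := by rw [e]; infer_instance
    have huc : UniversallyClosed M.hom := by
      have : UniversallyClosed (f'.left ≫ M.hom) := by rw [Over.w f']; infer_instance
      exact UniversallyClosed.of_comp_surjective f'.left M.hom
    have hqcM : QuasiCompact M.hom := inferInstance
    exact {}
  · exact Groth.Agent.Lib.Helper75.GeomImage.geometricallyIntegral_of_surjective A₀.hom M.hom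
      f'.left (Over.w f')
  · intro A _ _ _ _ φ hφ
    obtain ⟨x, hx, hxr⟩ := exists_isAbGen A G φ
    have hspec : x₀ ⤳ x := hmax x hx
    have hsubset : Set.range φ.left ⊆ Set.range i.left := by
      rw [← hxr, hri, ← hx₀r]
      exact closure_minimal (Set.singleton_subset_iff.mpr (specializes_iff_mem_closure.mp hspec))
        isClosed_closure
    have hiA : GeometricallyIntegral A.hom := geometricallyIntegral_of_abVar A
    have hintA : IsIntegral A.left := GeometricallyIntegral.isIntegral_of_subsingleton A.hom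
    have hred : IsReduced A.left := inferInstance
    obtain ⟨l, hl⟩ := exists_lift_of_isReduced i.left φ.left hsubset
    refine ⟨Over.homMk l ?_, ?_⟩
    · rw [← Over.w i, ← Category.assoc, hl, Over.w φ]
    · ext
      exact hl

end Groth.Agent.Lib.Helper75.MaxAbSub
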