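import Mathlib
import Groth.Agent.Lib.Helper75.LenDim

/-!
# Monomial submodules of `k⟦X⟧` over a monomial subalgebra (helper75)

`A ⊆ k⟦X⟧` is a subalgebra described by a set of exponents `Γ`
(`f ∈ A ↔ all exponents of f lie in Γ`).  For a set `E` of exponents stable under adding `Γ`,
`monoMod A hA E hE` is the `A`-submodule of the series supported in `E`.  We compute colon
conditions, shifts, spans of monomials and lengths of quotients in terms of exponent sets.
-/

universe u

namespace Groth.Agent.Lib.Helper75.MonoSeries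

open PowerSeries

variable {k : Type u} [Field k]

/-- `f` is supported in `E`. -/
def Supp (f : PowerSeries k) (E : Set ℕ) : Prop := ∀ n, coeff n f ≠ 0 → n ∈ E

lemma supp_iff (f : PowerSeries k) (E : Set ℕ) : Supp f E ↔ ∀ n, n ∉ E → coeff n f = 0 := by
  constructor
  · intro h n hn
    by_contra h0
    exact hn (h n h0)
  · intro h n hn
    by_contra h0
    exact hn (h n h0)

lemma supp_zero (E : Set ℕ) : Supp (0 : PowerSeries k) E := by
  intro n hn; simp at hn

lemma Supp.add {f g : PowerSeries k} {E : Set ℕ} (hf : Supp f E) (hg : Supp g E) :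
    Supp (f + g) E := by
  rw [supp_iff] at *
  intro n hn
  rw [map_add, hf n hn, hg n hn, add_zero]

lemma Supp.neg {f : PowerSeries k} {E : Set ℕ} (hf : Supp f E) : Supp (-f) E := by
  rw [supp_iff] at *
  intro n hn
  rw [map_neg, hf n hn, neg_zero]

lemma Supp.sub {f g : PowerSeries k} {E : Set ℕ} (hf : Supp f E) (hg : Supp g E) :
    Supp (f - g) E := by
  rw [sub_eq_add_neg]; exact hf.add hg.neg

lemma Supp.smul {f : PowerSeries k} {E : Set ℕ} (hf : Supp f E) (c : k) : Supp (c • f) E := by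
  rw [supp_iff] at *
  intro n hn
  rw [coeff_smul, hf n hn, smul_zero]

lemma Supp.mono {f : PowerSeries k} {E E' : Set ℕ} (hf : Supp f E) (h : E ⊆ E') : Supp f E' :=
  fun n hn => h (hf n hn)

lemma exists_of_coeff_mul_ne_zero (f g : PowerSeries k) (n : ℕ) (h : coeff n (f * g) ≠ 0) :
    ∃ i j, i + j = n ∧ coeff i f ≠ 0 ∧ coeff j g ≠ 0 := by
  rw [coeff_mul] at h
  obtain ⟨⟨i, j⟩, hij, hne⟩ := Finset.exists_ne_zero_of_sum_ne_zero h
  exact ⟨i, j, Finset.HasAntidiagonal.mem_antidiagonal.mp hij, left_ne_zero_of_mul hne, right_ne_zero_of_mul hne⟩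

lemma Supp.mul {f g : PowerSeries k} {E E' E'' : Set ℕ} (hf : Supp f E) (hg : Supp g E')
    (h : ∀ i ∈ E, ∀ j ∈ E', i + j ∈ E'') : Supp (f * g) E'' := by
  intro n hn
  obtain ⟨i, j, rfl, hi, hj⟩ := exists_of_coeff_mul_ne_zero f g n hn
  exact h i (hf i hi) j (hg j hj)

lemma supp_X_pow (e : ℕ) (E : Set ℕ) : Supp ((X : PowerSeries k) ^ e) E ↔ e ∈ E := by
  constructor
  · intro h
    apply h
    simp [coeff_X_pow]
  · intro h n hn
    rw [coeff_X_pow] at hn
    split_ifs at hn with h1
    · rw [h1]; exact h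
    · exact absurd rfl hn

lemma supp_one (E : Set ℕ) : Supp (1 : PowerSeries k) E ↔ 0 ∈ E := by
  rw [← pow_zero (X : PowerSeries k), supp_X_pow]

lemma supp_C (c : k) {E : Set ℕ} (h0 : 0 ∈ E) : Supp (C c : PowerSeries k) E := by
  intro n hn
  rw [coeff_C] at hn
  split_ifs at hn with h1
  · rw [h1]; exact h0
  · exact absurd rfl hn

/-- shifting: `X ^ c * f` is supported in `c + E`. -/
lemma supp_X_pow_mul (c : ℕ) (f : PowerSeries k) (E : Set ℕ) :
    Supp (X ^ c * f) {e | c ≤ e ∧ e - c ∈ E} ↔ Supp f E := by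
  constructor
  · intro h n hn
    have := h (n + c) (by rw [mul_comm, coeff_mul_X_pow]; exact hn)
    simpa using this.2
  · intro h n hn
    rw [coeff_X_pow_mul'] at hn
    split_ifs at hn with h1
    · exact ⟨h1, h _ hn⟩
    · exact absurd rfl hn

/-- A series supported in `{e | c ≤ e ∧ e - c ∈ E}` is `X ^ c` times a series supported in `E`. -/
lemma exists_eq_X_pow_mul (c : ℕ) (f : PowerSeries k) (E : Set ℕ)
    (hf : Supp f {e | c ≤ e ∧ e - c ∈ E}) : ∃ g : PowerSeries k, Supp g E ∧ f = X ^ c * g := by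
  have hdvd : (X : PowerSeries k) ^ c ∣ f := by
    rw [X_pow_dvd_iff]
    intro m hm
    by_contra h0
    have := (hf m h0).1
    omega
  obtain ⟨g, rfl⟩ := hdvd
  exact ⟨g, (supp_X_pow_mul c g E).mp hf, rfl⟩

/-- The colon condition for monomial modules. -/
lemma colon_iff (EW E' : Set ℕ) (h : PowerSeries k) :
    (∀ y : PowerSeries k, Supp y EW → Supp (y * h) E') ↔
      Supp h {e | ∀ w ∈ EW, w + e ∈ E'} := by
  constructor
  · intro H e he w hw
    have h1 := H (X ^ w) ((supp_X_pow w EW).mpr hw)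
    apply h1
    rw [coeff_X_pow_mul', if_pos (Nat.le_add_right w e), Nat.add_sub_cancel_left]
    exact he
  · intro H y hy
    exact hy.mul H (fun i hi j hj => hj i hi)

section modules

variable (A : Subalgebra k (PowerSeries k)) {Γ : Set ℕ} (hA : ∀ f, f ∈ A ↔ Supp f Γ)

include hA in
lemma zero_mem_Γ : 0 ∈ Γ := by
  have h1 : (1 : PowerSeries k) ∈ A := A.one_mem
  exact (supp_one Γ).mp ((hA 1).mp h1)

/-- The `A`-submodule of the series supported in `E`. -/
def monoMod (E : Set ℕ) (hE : ∀ γ ∈ Γ, ∀ e ∈ E, γ + e ∈ E) : Submodule A (PowerSeries k) where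
  carrier := {f | Supp f E}
  add_mem' := fun hf hg => hf.add hg
  zero_mem' := supp_zero E
  smul_mem' := fun a f hf => by
    change Supp ((a : PowerSeries k) * f) E
    exact ((hA a).mp a.2).mul hf hE

@[simp] lemma mem_monoMod (E : Set ℕ) (hE : ∀ γ ∈ Γ, ∀ e ∈ E, γ + e ∈ E) (f : PowerSeries k) :
    f ∈ monoMod A hA E hE ↔ Supp f E := Iff.rfl

lemma monoMod_le (E E' : Set ℕ) (hE : ∀ γ ∈ Γ, ∀ e ∈ E, γ + e ∈ E)
    (hE' : ∀ γ ∈ Γ, ∀ e ∈ E', γ + e ∈ E') (h : E ⊆ E') :
    monoMod A hA E hE ≤ monoMod A hA E' hE' := fun _ hf => Supp.mono hf h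

/-- The span of finitely many monomials is the monomial module on `Γ + S`. -/
lemma span_monomials (S : Set ℕ) (hS : S.Finite)
    (hE : ∀ γ ∈ Γ, ∀ e ∈ {e | ∃ s ∈ S, ∃ γ ∈ Γ, e = γ + s}, γ + e ∈ {e | ∃ s ∈ S, ∃ γ ∈ Γ, e = γ + s}) :
    Submodule.span A ((fun s : ℕ => (X : PowerSeries k) ^ s) '' S) =
      monoMod A hA {e | ∃ s ∈ S, ∃ γ ∈ Γ, e = γ + s} hE := by
  classical
  apply le_antisymm
  · rw [Submodule.span_le]
    rintro _ ⟨s, hs, rfl⟩
    change Supp _ _
    rw [supp_X_pow]
    exact ⟨s, hs, 0, zero_mem_Γ A hA, by simp⟩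
  · intro f hf
    change Supp f _ at hf
    -- choose for each exponent a generator
    have hch : ∀ e : ℕ, ∃ s : ℕ, coeff e f ≠ 0 → (s ∈ S ∧ ∃ γ ∈ Γ, e = γ + s) := by
      intro e
      by_cases he : coeff e f = 0
      · exact ⟨0, fun h => absurd he h⟩
      · obtain ⟨s, hs, γ, hγ, rfl⟩ := hf e he
        exact ⟨s, fun _ => ⟨hs, γ, hγ, rfl⟩⟩
    choose σ hσ using hch
    let fs : ℕ → PowerSeries k := fun s =>
      PowerSeries.mk (fun m => if σ (m + s) = s then coeff (m + s) f else 0)
    have hfsA : ∀ s, fs s ∈ A := by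
      intro s
      rw [hA]
      intro m hm
      simp only [fs, coeff_mk] at hm
      split_ifs at hm with h1
      · obtain ⟨_, γ, hγ, hγe⟩ := hσ (m + s) hm
        rw [h1] at hγe
        have : m = γ := by omega
        rw [this]; exact hγ
      · exact absurd rfl hm
    have hsum : f = ∑ s ∈ hS.toFinset, fs s * X ^ s := by
      ext n
      rw [map_sum]
      simp only [coeff_mul_X_pow', fs, coeff_mk]
      by_cases hn : coeff n f = 0
      · rw [hn]
        symm
        apply Finset.sum_eq_zero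
        intro s _
        split_ifs with h1 h2
        · rw [Nat.sub_add_cancel h1, hn]
        · rfl
        · rfl
      · obtain ⟨hσS, γ, hγ, hγe⟩ := hσ n hn
        rw [Finset.sum_eq_single (σ n)]
        · have h1 : σ n ≤ n := by omega
          rw [if_pos h1, Nat.sub_add_cancel h1, if_pos rfl]
        · intro s _ hs
          split_ifs with h1 h2
          · rw [Nat.sub_add_cancel h1] at h2
            exact absurd h2.symm hs
          · rfl
          · rfl
        · intro h
          exact absurd (hS.mem_toFinset.mpr hσS) h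
    rw [hsum]
    apply Submodule.sum_mem
    intro s hs
    have : fs s * X ^ s = (⟨fs s, hfsA s⟩ : A) • (X : PowerSeries k) ^ s := rfl
    rw [this]
    exact Submodule.smul_mem _ _ (Submodule.subset_span ⟨s, hS.mem_toFinset.mp hs, rfl⟩)

end modules

section length

variable (A : Subalgebra k (PowerSeries k)) {Γ : Set ℕ} (hA : ∀ f, f ∈ A ↔ Supp f Γ)

/-- The augmentation ideal of `A`. -/
noncomputable def aug : Ideal A := RingHom.ker ((constantCoeff (R := k)).comp (A.val : A →+* PowerSeries k))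

lemma mem_aug (a : A) : a ∈ aug A ↔ constantCoeff (a : PowerSeries k) = 0 := by
  rw [aug, RingHom.mem_ker]; rfl

lemma aug_spec (a : A) : ∃ c : k, a - algebraMap k A c ∈ aug A := by
  refine ⟨constantCoeff (a : PowerSeries k), ?_⟩
  rw [mem_aug]
  have : ((a - algebraMap k A (constantCoeff (a : PowerSeries k)) : A) : PowerSeries k) =
      (a : PowerSeries k) - C (constantCoeff (a : PowerSeries k)) := rfl
  rw [this, map_sub, constantCoeff_C, sub_self]

lemma X_pow_dvd_of_mem_aug_pow (N : ℕ) : ∀ a ∈ aug A ^ N, (X : PowerSeries k) ^ N ∣ (a : PowerSeries k) := by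
  induction N with
  | zero => intro a _; simp
  | succ N ih =>
    intro a ha
    rw [pow_succ'] at ha
    refine Submodule.mul_induction_on ha ?_ ?_
    · intro b hb c hc
      have h1 : (X : PowerSeries k) ∣ (b : PowerSeries k) := by
        rw [X_dvd_iff]; exact (mem_aug A b).mp hb
      have h2 := ih c hc
      rw [pow_succ']
      exact mul_dvd_mul h1 h2
    · intro b c hb hc
      exact dvd_add hb hc

variable (E1 E2 : Set ℕ) (hE1 : ∀ γ ∈ Γ, ∀ e ∈ E1, γ + e ∈ E1)
  (hE2 : ∀ γ ∈ Γ, ∀ e ∈ E2, γ + e ∈ E2)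

/-- The coefficient map to functions on `E1 \ E2`. -/
noncomputable def coeffMap : ↥(monoMod A hA E1 hE1) →ₗ[k] (↥(E1 \ E2) → k) where
  toFun f := fun s => coeff (s : ℕ) (f : PowerSeries k)
  map_add' f g := by ext s; simp
  map_smul' c f := by
    ext s
    change coeff (s : ℕ) (c • (f : PowerSeries k)) = c • coeff (s : ℕ) (f : PowerSeries k)
    rw [coeff_smul]

@[simp] lemma coeffMap_apply (f : ↥(monoMod A hA E1 hE1)) (s : ↥(E1 \ E2)) :
    coeffMap A hA E1 E2 hE1 f s = coeff (s : ℕ) (f : PowerSeries k) := rfl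

lemma coeffMap_surjective : Function.Surjective (coeffMap A hA E1 E2 hE1) := by
  classical
  intro g
  refine ⟨⟨PowerSeries.mk (fun n => if h : n ∈ E1 \ E2 then g ⟨n, h⟩ else 0), ?_⟩, ?_⟩
  · change Supp _ _
    intro n hn
    rw [coeff_mk] at hn
    split_ifs at hn with h1
    · exact h1.1
    · exact absurd rfl hn
  · ext s
    rw [coeffMap_apply, coeff_mk, dif_pos s.2]

lemma ker_coeffMap :
    LinearMap.ker (coeffMap A hA E1 E2 hE1) =
      ((monoMod A hA E2 hE2).comap (monoMod A hA E1 hE1).subtype).restrictScalars k := by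
  ext f
  rw [LinearMap.mem_ker, Submodule.restrictScalars_mem, Submodule.mem_comap]
  change _ ↔ Supp (f : PowerSeries k) E2
  constructor
  · intro h n hn
    by_contra hn2
    have hn1 : n ∈ E1 := f.2 n hn
    have := congrFun h ⟨n, hn1, hn2⟩
    exact hn this
  · intro h
    ext s
    change coeff (s : ℕ) (f : PowerSeries k) = 0
    by_contra h0
    exact s.2.2 (h _ h0)

/-- The length of a quotient of monomial modules is the number of exponents in the
difference. -/
theorem length_quot (hfin : (E1 \ E2).Finite) :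
    Module.length A (SubQ (monoMod A hA E1 hE1) (monoMod A hA E2 hE2)) =
      ((E1 \ E2).ncard : ℕ∞) := by
  classical
  have : Fintype ↥(E1 \ E2) := hfin.fintype
  -- the k-linear equivalence with functions
  obtain ⟨e⟩ := subQ_equiv_of_surjective (k := k) (monoMod A hA E1 hE1) (monoMod A hA E2 hE2)
    (coeffMap A hA E1 E2 hE1) (coeffMap_surjective A hA E1 E2 hE1)
    (ker_coeffMap A hA E1 E2 hE1 hE2)
  have : Module.Finite k (SubQ (monoMod A hA E1 hE1) (monoMod A hA E2 hE2)) :=
    Module.Finite.equiv e.symm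
  have hfr : Module.finrank k (SubQ (monoMod A hA E1 hE1) (monoMod A hA E2 hE2)) =
      (E1 \ E2).ncard := by
    rw [e.finrank_eq, Module.finrank_fintype_fun_eq_card, Set.ncard_eq_toFinset_card',
      Set.toFinset_card]
  rw [← hfr]
  apply LenDim.length_eq_finrank (aug A) (aug_spec A)
  -- nilpotency
  obtain ⟨B, hB⟩ := hfin.bddAbove
  refine ⟨B + 1, ?_⟩
  intro a ha v
  obtain ⟨⟨g, hg⟩, rfl⟩ := Submodule.Quotient.mk_surjective _ v
  rw [← Submodule.Quotient.mk_smul, Submodule.Quotient.mk_eq_zero, Submodule.mem_comap]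
  change Supp ((a : PowerSeries k) * g) E2
  have hdvd := X_pow_dvd_of_mem_aug_pow A (B + 1) a ha
  have hsupp1 : Supp ((a : PowerSeries k) * g) E1 := ((hA a).mp a.2).mul hg hE1
  intro n hn
  by_contra hn2
  have hnB : n ≤ B := hB ⟨hsupp1 n hn, hn2⟩
  have hdvd' : (X : PowerSeries k) ^ (B + 1) ∣ (a : PowerSeries k) * g := Dvd.dvd.mul_right hdvd g
  rw [X_pow_dvd_iff] at hdvd'
  exact hn (hdvd' n (by omega))

end length

end Groth.Agent.Lib.Helper75.MonoSeries
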