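import Mathlib
import Groth.Agent.Lib.Helper75.ExtMono
import Groth.Agent.Lib.Helper75.MonoSeries

/-!
# `Ext¹` lengths for monomial modules over monomial curve rings (helper75)

Instantiation of `ExtMono.main` for a monomial subalgebra `A ⊆ k⟦X⟧` (exponent set `Γ ⊇ [c, ∞)`)
and monomial modules: the length of `Ext¹_A(A + ∑ A X^{a_j}, N)` is a difference of cardinalities
of exponent sets.
-/

universe u
open CategoryTheory PowerSeries

namespace Groth.Agent.Lib.Helper75.MonoExt

open Groth.Agent.Lib.Helper75 Groth.Agent.Lib.Helper75.MonoSeries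

variable {k : Type u} [Field k]

/-- `Supp (X ^ c * f) E ↔ Supp f {e | c + e ∈ E}`. -/
lemma supp_X_pow_mul' (c : ℕ) (f : PowerSeries k) (E : Set ℕ) :
    Supp (X ^ c * f) E ↔ Supp f {e | c + e ∈ E} := by
  constructor
  · intro h n hn
    apply h
    rw [coeff_X_pow_mul', if_pos (Nat.le_add_right c n), Nat.add_sub_cancel_left]
    exact hn
  · intro h n hn
    rw [coeff_X_pow_mul'] at hn
    split_ifs at hn with h1
    · have := h _ hn
      change c + (n - c) ∈ E at this
      rwa [Nat.add_sub_cancel' h1] at this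
    · exact absurd rfl hn

/-- The shifted exponent set `c + E`. -/
def shift (c : ℕ) (E : Set ℕ) : Set ℕ := {e | c ≤ e ∧ e - c ∈ E}

lemma enat_eq_sub {x y : ℕ} {l : ℕ∞} (h : (x : ℕ∞) = (y : ℕ∞) + l) : l = ((x - y : ℕ) : ℕ∞) := by
  have hl : l ≠ ⊤ := by
    rintro rfl
    simp at h
  obtain ⟨m, rfl⟩ := ENat.ne_top_iff_exists.mp hl
  have : x = y + m := by exact_mod_cast h
  rw [this, Nat.add_sub_cancel_left]

variable (A : Subalgebra k (PowerSeries k)) {Γ : Set ℕ} (hA : ∀ f, f ∈ A ↔ Supp f Γ)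

include hA in
lemma Γ_add : ∀ γ ∈ Γ, ∀ γ' ∈ Γ, γ + γ' ∈ Γ := by
  intro γ hγ γ' hγ'
  have h1 : (X : PowerSeries k) ^ γ ∈ A := (hA _).mpr ((supp_X_pow γ Γ).mpr hγ)
  have h2 : (X : PowerSeries k) ^ γ' ∈ A := (hA _).mpr ((supp_X_pow γ' Γ).mpr hγ')
  have := A.mul_mem h1 h2
  rw [← pow_add] at this
  exact (supp_X_pow _ Γ).mp ((hA _).mp this)

lemma shift_closed (c : ℕ) (E : Set ℕ) (hE : ∀ γ ∈ Γ, ∀ e ∈ E, γ + e ∈ E) :
    ∀ γ ∈ Γ, ∀ e ∈ shift c E, γ + e ∈ shift c E := by
  rintro γ hγ e ⟨h1, h2⟩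
  refine ⟨by omega, ?_⟩
  have : γ + e - c = γ + (e - c) := by omega
  rw [this]; exact hE γ hγ _ h2

variable (c : ℕ) (hcΓ : ∀ e, c ≤ e → e ∈ Γ)

include hA hcΓ in
lemma hc_of (f : PowerSeries k) : ∃ b : A, (A.val : A →+* PowerSeries k) b = X ^ c * f := by
  have : X ^ c * f ∈ A := by
    rw [hA]
    intro n hn
    rw [coeff_X_pow_mul'] at hn
    split_ifs at hn with h1
    · exact hcΓ n h1
    · exact absurd rfl hn
  exact ⟨⟨_, this⟩, rfl⟩

variable {r : ℕ} (a : Fin r → ℕ) (EN : Set ℕ) (hEN : ∀ γ ∈ Γ, ∀ e ∈ EN, γ + e ∈ EN)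

/-- The exponent set of `N' = {n ∈ N | X^{a_j} n ∈ N}`. -/
def EN' : Set ℕ := {e | e ∈ EN ∧ ∀ j, a j + e ∈ EN}

include hEN in
lemma EN'_closed : ∀ γ ∈ Γ, ∀ e ∈ EN' a EN, γ + e ∈ EN' a EN := by
  rintro γ hγ e ⟨h1, h2⟩
  refine ⟨hEN γ hγ e h1, fun j => ?_⟩
  have : a j + (γ + e) = γ + (a j + e) := by omega
  rw [this]; exact hEN γ hγ _ (h2 j)

include hcΓ in
/-- The monomial form of the main formula. -/
theorem monoMain (cN : ℕ) (htail : ∀ e, cN ≤ e → e ∈ EN)
    (EH : Fin r → Set ℕ) (hEH : ∀ j, ∀ γ ∈ Γ, ∀ e ∈ EH j, γ + e ∈ EH j)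
    (hH : ∀ h : Fin r → PowerSeries k, (∀ j, Supp (h j) (EH j)) ↔
      ((∀ j, Supp (h j) EN) ∧ ∀ κ ∈ LinearMap.ker (ExtMono.pi0 (k := k) (A := ↥A) a),
        Supp (∑ j, ((κ.2 j : ↥A) : PowerSeries k) * h j) (shift c EN))) :
    ((∑ j, (EH j \ shift c EN).ncard : ℕ) : ℕ∞) =
      ((EN \ EN' a EN).ncard : ℕ∞) +
        Module.length A (Abelian.Ext
          (ModuleCat.of A ↥(Submodule.span A
            (insert (1 : PowerSeries k) (Set.range fun j => (X : PowerSeries k) ^ (a j)))))
          (ModuleCat.of A ↥(monoMod A hA EN hEN)) 1) := by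
  have hmain := ExtMono.main (k := k) (A := ↥A) (A.val : A →+* PowerSeries k) (fun _ _ => rfl) a
    Subtype.val_injective c (hc_of A hA c hcΓ) (monoMod A hA EN hEN)
    (monoMod A hA (shift c EN) (shift_closed c EN hEN))
    (monoMod A hA (EN' a EN) (EN'_closed a EN hEN))
    (fun j => monoMod A hA (EH j) (hEH j)) ?_ ?_ ?_
  · rw [ExtMono.range_pi0] at hmain
    have hfin2 : (EN \ EN' a EN).Finite := by
      apply (Set.finite_lt_nat cN).subset
      rintro e ⟨_, he2⟩
      by_contra hlt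
      simp only [Set.mem_ofPred_eq, not_lt] at hlt
      apply he2
      exact ⟨htail e hlt, fun j => htail _ (by omega)⟩
    have hfin1 : ∀ j, (EH j \ shift c EN).Finite := by
      intro j
      apply (Set.finite_lt_nat (c + cN)).subset
      rintro e ⟨_, he2⟩
      by_contra hlt
      simp only [Set.mem_ofPred_eq, not_lt] at hlt
      apply he2
      exact ⟨by omega, htail _ (by omega)⟩
    rw [length_quot A hA EN (EN' a EN) hEN (EN'_closed a EN hEN) hfin2] at hmain
    have h3 : ∀ j, Module.length A (SubQ (monoMod A hA (EH j) (hEH j))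
        (monoMod A hA (shift c EN) (shift_closed c EN hEN))) = ((EH j \ shift c EN).ncard : ℕ∞) :=
      fun j => length_quot A hA (EH j) (shift c EN) (hEH j) (shift_closed c EN hEN) (hfin1 j)
    rw [Finset.sum_congr rfl (fun j _ => h3 j)] at hmain
    rw [← hmain, Nat.cast_sum]
  · intro f
    rw [mem_monoMod]
    constructor
    · intro hf
      obtain ⟨g, hg, rfl⟩ := exists_eq_X_pow_mul c f EN hf
      exact ⟨g, hg, rfl⟩
    · rintro ⟨n, hn, rfl⟩
      exact (supp_X_pow_mul c n EN).mpr hn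
  · intro f
    simp only [mem_monoMod]
    constructor
    · intro hf
      refine ⟨fun n hn => (hf n hn).1, fun j => ?_⟩
      rw [supp_X_pow_mul']
      intro n hn
      exact (hf n hn).2 j
    · rintro ⟨h1, h2⟩ n hn
      refine ⟨h1 n hn, fun j => ?_⟩
      have := (supp_X_pow_mul' (a j) f EN).mp (h2 j) n hn
      exact this
  · intro h
    simp only [mem_monoMod]
    exact hH h

lemma supp_inter (f : PowerSeries k) (E E' : Set ℕ) :
    Supp f {e | e ∈ E ∧ e ∈ E'} ↔ Supp f E ∧ Supp f E' := by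
  constructor
  · intro h
    exact ⟨fun n hn => (h n hn).1, fun n hn => (h n hn).2⟩
  · rintro ⟨h1, h2⟩ n hn
    exact ⟨h1 n hn, h2 n hn⟩

section one

variable (a₁ : ℕ)

/-- exponents of `J = (A : X^a)`. -/
def EJ (Γ : Set ℕ) (a₁ : ℕ) : Set ℕ := {w | w ∈ Γ ∧ a₁ + w ∈ Γ}

/-- exponents of `H = {h ∈ N | J h ⊆ X^c N}`. -/
def EH1 (Γ : Set ℕ) (c a₁ : ℕ) (EN : Set ℕ) : Set ℕ :=
  {e | e ∈ EN ∧ e ∈ {e | ∀ w ∈ EJ Γ a₁, w + e ∈ shift c EN}}

include hEN in
lemma EH1_closed : ∀ γ ∈ Γ, ∀ e ∈ EH1 Γ c a₁ EN, γ + e ∈ EH1 Γ c a₁ EN := by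
  rintro γ hγ e ⟨h1, h2⟩
  refine ⟨hEN γ hγ e h1, fun w hw => ?_⟩
  have : w + (γ + e) = γ + (w + e) := by omega
  rw [this]
  exact shift_closed c EN hEN γ hγ _ (h2 w hw)

include hcΓ in
/-- The two-generator case. -/
theorem monoMain1 (cN : ℕ) (htail : ∀ e, cN ≤ e → e ∈ EN) :
    (((EH1 Γ c a₁ EN) \ shift c EN).ncard : ℕ∞) =
      ((EN \ {e | e ∈ EN ∧ a₁ + e ∈ EN}).ncard : ℕ∞) +
        Module.length A (Abelian.Ext
          (ModuleCat.of A ↥(Submodule.span A ({1, (X : PowerSeries k) ^ a₁} : Set (PowerSeries k))))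
          (ModuleCat.of A ↥(monoMod A hA EN hEN)) 1) := by
  have h := monoMain A hA c hcΓ (fun _ : Fin 1 => a₁) EN hEN cN htail
    (fun _ => EH1 Γ c a₁ EN) (fun _ => EH1_closed c EN hEN a₁) ?_
  · have h1 : (insert (1 : PowerSeries k) (Set.range fun _ : Fin 1 => (X : PowerSeries k) ^ a₁)) =
        ({1, (X : PowerSeries k) ^ a₁} : Set (PowerSeries k)) := by
      rw [Set.range_const]
    have h2 : EN' (fun _ : Fin 1 => a₁) EN = {e | e ∈ EN ∧ a₁ + e ∈ EN} := by
      ext e
      simp [EN']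
    rw [h1, h2] at h
    rw [← h]
    simp
  · intro h
    constructor
    · intro hh
      refine ⟨fun j => ((supp_inter _ _ _).mp (hh j)).1, ?_⟩
      intro κ hκ
      rw [Fin.sum_univ_one]
      have hκ' := hκ
      rw [LinearMap.mem_ker, ExtMono.pi0_apply (A.val : A →+* PowerSeries k) (fun _ _ => rfl),
        Fin.sum_univ_one] at hκ'
      have hy : Supp ((κ.2 0 : ↥A) : PowerSeries k) (EJ Γ a₁) := by
        have h1 : Supp ((κ.2 0 : ↥A) : PowerSeries k) Γ := (hA _).mp (κ.2 0).2
        have h2 : Supp (X ^ a₁ * ((κ.2 0 : ↥A) : PowerSeries k)) Γ := by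
          have h3 : X ^ a₁ * ((κ.2 0 : ↥A) : PowerSeries k) = -((κ.1 : ↥A) : PowerSeries k) := by
            have : ((κ.1 : ↥A) : PowerSeries k) + ((κ.2 0 : ↥A) : PowerSeries k) * X ^ a₁ = 0 := hκ'
            rw [mul_comm]
            exact eq_neg_of_add_eq_zero_right this
          rw [h3]
          exact ((hA _).mp κ.1.2).neg
        rw [supp_X_pow_mul'] at h2
        exact (supp_inter _ _ _).mpr ⟨h1, h2⟩
      exact (colon_iff (EJ Γ a₁) (shift c EN) (h 0)).mpr ((supp_inter _ _ _).mp (hh 0)).2 _ hy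
    · rintro ⟨h1, h2⟩ j
      have hj : j = 0 := Subsingleton.elim _ _
      subst hj
      refine (supp_inter _ _ _).mpr ⟨h1 0, ?_⟩
      rw [← colon_iff]
      intro y hy
      have hy1 : y ∈ A := (hA y).mpr ((supp_inter _ _ _).mp hy).1
      have hy2 : X ^ a₁ * y ∈ A := by
        rw [hA, supp_X_pow_mul']
        exact ((supp_inter _ _ _).mp hy).2
      have hκ : ((-⟨X ^ a₁ * y, hy2⟩ : ↥A), (fun _ : Fin 1 => (⟨y, hy1⟩ : ↥A))) ∈
          LinearMap.ker (ExtMono.pi0 (k := k) (A := ↥A) (fun _ : Fin 1 => a₁)) := by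
        rw [LinearMap.mem_ker, ExtMono.pi0_apply (A.val : A →+* PowerSeries k) (fun _ _ => rfl),
          Fin.sum_univ_one]
        change -(X ^ a₁ * y) + y * X ^ a₁ = 0
        ring
      have := h2 _ hκ
      rw [Fin.sum_univ_one] at this
      exact this

end one

section Rn

/-- exponents of `N° = {h | k⟦X⟧ h ⊆ N}`. -/
def ENo (EN : Set ℕ) : Set ℕ := {e | ∀ w ∈ (Set.univ : Set ℕ), w + e ∈ EN}

omit hEN in
lemma ENo_closed : ∀ γ ∈ Γ, ∀ e ∈ ENo EN, γ + e ∈ ENo EN := by
  intro γ _ e he w _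
  have : w + (γ + e) = (w + γ) + e := by omega
  rw [this]
  exact he (w + γ) (Set.mem_univ _)

lemma supp_sum {ι' : Type*} (s : Finset ι') (f : ι' → PowerSeries k) (E : Set ℕ)
    (h : ∀ i ∈ s, Supp (f i) E) : Supp (∑ i ∈ s, f i) E := by
  classical
  induction s using Finset.induction_on with
  | empty => simpa using supp_zero E
  | insert i s hi ih =>
    rw [Finset.sum_insert hi]
    exact (h i (Finset.mem_insert_self i s)).add
      (ih fun j hj => h j (Finset.mem_insert_of_mem hj))

variable (n : ℕ) (hΓn : ∀ e, e ∈ Γ ↔ e = 0 ∨ n ≤ e)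
  (ha : Function.Injective a) (ha0 : ∀ j, 0 < a j) (han : ∀ j, a j < n)

include hΓn ha ha0 han in
/-- The case `A = k + X^n k⟦X⟧`. -/
theorem monoMainRn (cN : ℕ) (htail : ∀ e, cN ≤ e → e ∈ EN) :
    ((r * ((ENo EN) \ shift n EN).ncard : ℕ) : ℕ∞) =
      ((EN \ EN' a EN).ncard : ℕ∞) +
        Module.length A (Abelian.Ext
          (ModuleCat.of A ↥(Submodule.span A
            (insert (1 : PowerSeries k) (Set.range fun j => (X : PowerSeries k) ^ (a j)))))
          (ModuleCat.of A ↥(monoMod A hA EN hEN)) 1) := by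
  classical
  have hcΓ : ∀ e, n ≤ e → e ∈ Γ := fun e he => (hΓn e).mpr (Or.inr he)
  have h := monoMain A hA n hcΓ a EN hEN cN htail
    (fun _ => ENo EN) (fun _ => ENo_closed EN) ?_
  · rw [← h]
    simp
  · intro h
    constructor
    · intro hh
      refine ⟨fun j m hm => ?_, ?_⟩
      · have := hh j m hm 0 (Set.mem_univ _)
        simpa using this
      · intro κ hκ
        rw [LinearMap.mem_ker, ExtMono.pi0_apply (A.val : A →+* PowerSeries k) (fun _ _ => rfl)]
          at hκ
        replace hκ : ((κ.1 : ↥A) : PowerSeries k) +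
            ∑ j, ((κ.2 j : ↥A) : PowerSeries k) * X ^ (a j) = 0 := hκ
        -- the constant coefficients of the `κ.2 j` vanish
        have hconst : ∀ j, Supp ((κ.2 j : ↥A) : PowerSeries k) {w | n ≤ w} := by
          intro j m hm
          have hmΓ : m ∈ Γ := (hA _).mp (κ.2 j).2 m hm
          rcases (hΓn m).mp hmΓ with h0 | h0
          · exfalso
            subst h0
            have h1 := congrArg (coeff (a j)) hκ
            rw [map_add, map_sum, map_zero] at h1
            have h2 : coeff (a j) ((κ.1 : ↥A) : PowerSeries k) = 0 := by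
              by_contra hne
              have := (hΓn _).mp ((hA _).mp κ.1.2 (a j) hne)
              have := ha0 j
              have := han j
              omega
            rw [h2, zero_add, Finset.sum_eq_single j] at h1
            · rw [coeff_mul_X_pow', if_pos le_rfl, Nat.sub_self] at h1
              exact hm h1
            · intro i _ hij
              rw [coeff_mul_X_pow']
              split_ifs with h3
              · by_contra hne
                have := (hΓn _).mp ((hA _).mp (κ.2 i).2 _ hne)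
                have := han j
                have : a j = a i := by omega
                exact hij (ha this).symm
              · rfl
            · intro hj; exact absurd (Finset.mem_univ j) hj
          · exact h0
        apply supp_sum
        intro j _
        refine (hconst j).mul (hh j) ?_
        intro w hw e he
        refine ⟨by simp only [Set.mem_ofPred_eq] at hw; omega, ?_⟩
        have h4 : w + e - n = (w - n) + e := by
          simp only [Set.mem_ofPred_eq] at hw; omega
        rw [h4]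
        exact he _ (Set.mem_univ _)
    · rintro ⟨_, h2⟩ j
      change Supp (h j) {e | ∀ w ∈ (Set.univ : Set ℕ), w + e ∈ EN}
      rw [← colon_iff]
      intro y _
      have hy1 : X ^ n * y ∈ A := by
        rw [hA]
        intro m hm
        rw [coeff_X_pow_mul'] at hm
        split_ifs at hm with h1
        · exact hcΓ m h1
        · exact absurd rfl hm
      have hy2 : X ^ n * y * X ^ (a j) ∈ A := by
        rw [hA]
        intro m hm
        rw [mul_assoc, coeff_X_pow_mul'] at hm
        split_ifs at hm with h1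
        · exact hcΓ m h1
        · exact absurd rfl hm
      have hκ : ((-⟨X ^ n * y * X ^ (a j), hy2⟩ : ↥A),
          (Pi.single j (⟨X ^ n * y, hy1⟩ : ↥A) : Fin r → ↥A)) ∈
          LinearMap.ker (ExtMono.pi0 (k := k) (A := ↥A) a) := by
        rw [LinearMap.mem_ker, ExtMono.pi0_apply (A.val : A →+* PowerSeries k) (fun _ _ => rfl)]
        dsimp only
        rw [Finset.sum_eq_single j]
        · rw [Pi.single_eq_same]
          change -(X ^ n * y * X ^ (a j)) + X ^ n * y * X ^ (a j) = 0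
          ring
        · intro i _ hij
          rw [Pi.single_eq_of_ne hij]
          simp
        · intro hj; exact absurd (Finset.mem_univ j) hj
      have h3 := h2 _ hκ
      dsimp only at h3
      rw [Finset.sum_eq_single j] at h3
      · rw [Pi.single_eq_same] at h3
        change Supp (X ^ n * y * h j) (shift n EN) at h3
        rw [mul_assoc] at h3
        exact (supp_X_pow_mul n (y * h j) EN).mp h3
      · intro i _ hij
        rw [Pi.single_eq_of_ne hij]
        simp
      · intro hj; exact absurd (Finset.mem_univ j) hj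

end Rn

section counting

lemma ncard_Icc (a b : ℕ) : (Set.Icc a b).ncard = b + 1 - a := by
  rw [← Finset.coe_Icc, Set.ncard_coe_finset, Nat.card_Icc]

lemma ncard_Ico (a b : ℕ) : (Set.Ico a b).ncard = b - a := by
  rw [← Finset.coe_Ico, Set.ncard_coe_finset, Nat.card_Ico]

lemma ncard_Ioo (a b : ℕ) : (Set.Ioo a b).ncard = b - a - 1 := by
  rw [← Finset.coe_Ioo, Set.ncard_coe_finset, Nat.card_Ioo]

end counting

end Groth.Agent.Lib.Helper75.MonoExt
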