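import Mathlib
import Groth.Agent.Lib.Helper9.SHSquare.SHDVR
import Groth.Agent.Lib.Helper9.SHSquare.FS
import Groth.Agent.Lib.Helper9.HensK.Strict
import Groth.Agent.Lib.Helper50.GeomReduced

/-!
# Strict henselization of an unramified extension of DVRs (helper75)

If `R ⊆ A` is a local extension of discrete valuation rings of ramification index one with
geometrically reduced residue extension, so is `R ⊆ Aˢʰ`.
-/

set_option autoImplicit false
set_option linter.style.haveILetI false
set_option linter.unusedSectionVars false
universe u
open IsLocalRing Groth.Agent.Lib.Helper9

namespace Groth.Agent.Lib.Helper75.NeronCrit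

/-- A separable algebraic field extension is geometrically reduced. -/
theorem isGeometricallyReduced_of_isSeparable (k E : Type u) [Field k] [Field E] [Algebra k E]
    [Algebra.IsSeparable k E] : Algebra.IsGeometricallyReduced k E := by
  rw [Algebra.isGeometricallyReduced_field_iff]
  exact Groth.Agent.Lib.Helper50.isReduced_tensor_of_isSeparable

section SH

variable (R : Type u) [CommRing R] [IsDomain R] [IsDiscreteValuationRing R]
  (A : Type u) [CommRing A] [IsDomain A] [IsDiscreteValuationRing A] [Algebra R A]
  [IsLocalHom (algebraMap R A)]
  (S : Type u) [CommRing S] [IsLocalRing S] [Algebra A S] [IsLocalHom (algebraMap A S)]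
  [Hensel.IsStrictHenselization A S] [Algebra R S] [IsScalarTower R A S]

include A in
theorem isLocalHom_of_tower : IsLocalHom (algebraMap R S) := by
  rw [IsScalarTower.algebraMap_eq R A S]
  infer_instance

include A in
theorem map_maximalIdeal_sh
    (hm : (maximalIdeal R).map (algebraMap R A) = maximalIdeal A) :
    (maximalIdeal R).map (algebraMap R S) = maximalIdeal S := by
  rw [IsScalarTower.algebraMap_eq R A S, ← Ideal.map_map, hm,
    HensK.map_maximalIdeal_of_isStrictHenselization A S]

theorem isGeometricallyReduced_sh [IsLocalHom (algebraMap R S)]
    (hg : Algebra.IsGeometricallyReduced (ResidueField R) (ResidueField A)) :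
    Algebra.IsGeometricallyReduced (ResidueField R) (ResidueField S) := by
  haveI hsep : IsSepClosure (ResidueField A) (ResidueField S) :=
    Hensel.IsStrictHenselization.isSepClosure
  haveI : Algebra.IsSeparable (ResidueField A) (ResidueField S) := hsep.separable
  haveI : Algebra.IsGeometricallyReduced (ResidueField A) (ResidueField S) :=
    isGeometricallyReduced_of_isSeparable _ _
  exact SHSquare.isGeometricallyReduced_trans (ResidueField R) (ResidueField A) (ResidueField S)

end SH

end Groth.Agent.Lib.Helper75.NeronCrit
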