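import Mathlib
import Groth.Agent.Lib.Helper75.NeronCritA
import Groth.Agent.Lib.Helper14.FpqcExt
import Groth.Agent.S3844
import Groth.Agent.Lib.Helper69.DvrIso
import Groth.Agent.Lib.Helper26.NeronTorsor

/-!
# Extending points over unramified extensions of DVRs by descent from the strict henselization
(helper75)
-/

set_option autoImplicit false
set_option linter.style.haveILetI false
set_option linter.unusedSectionVars false
universe u
open CategoryTheory CategoryTheory.Limits AlgebraicGeometry IsLocalRing Groth.Agent.Lib.Helper9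

namespace Groth.Agent.Lib.Helper75.NeronCrit

/-- A nonempty open of an integral scheme is schematically dense. -/
theorem isSchematicallyDense_of_isIntegral {X : Scheme.{u}} [IsIntegral X] (U : X.Opens)
    (hU : (U : Set X).Nonempty) : CInt.IsSchematicallyDense U := by
  intro V
  by_cases hV : (V : Set X).Nonempty
  · have hne : ((V : Set X) ∩ (U : Set X)).Nonempty :=
      nonempty_preirreducible_inter V.isOpen U.isOpen hV hU
    obtain ⟨x, hx⟩ := hne
    exact map_injective_of_isIntegral X (homOfLE (inf_le_left : V ⊓ U ≤ V)) (H := ⟨⟨x, hx⟩⟩)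
  · have hbot : V = ⊥ := by
      ext x
      simp only [TopologicalSpace.Opens.coe_bot, Set.mem_empty_iff_false, iff_false]
      exact fun hx => hV ⟨x, hx⟩
    subst hbot
    intro a b _
    exact Subsingleton.elim a b

/-- Faithfully flat descent of an extension of a generic point over a DVR. -/
theorem descent_dvr (A : Type u) [CommRing A] [IsDomain A] [IsDiscreteValuationRing A]
    (S : Type u) [CommRing S] [IsDomain S] [Algebra A S] [Module.FaithfullyFlat A S]
    {B G : Scheme.{u}} (pA : Spec (CommRingCat.of A) ⟶ B) (pG : G ⟶ B) [IsSeparated pG]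
    (ι : FractionRing A →+* FractionRing S)
    (hι : ι.comp (algebraMap A (FractionRing A)) =
      (algebraMap S (FractionRing S)).comp (algebraMap A S))
    (x : Spec (CommRingCat.of (FractionRing A)) ⟶ G)
    (hx : x ≫ pG = Spec.map (CommRingCat.ofHom (algebraMap A (FractionRing A))) ≫ pA)
    (y' : Spec (CommRingCat.of S) ⟶ G)
    (hy'1 : y' ≫ pG = Spec.map (CommRingCat.ofHom (algebraMap A S)) ≫ pA)
    (hy'2 : Spec.map (CommRingCat.ofHom (algebraMap S (FractionRing S))) ≫ y' =
      Spec.map (CommRingCat.ofHom ι) ≫ x) :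
    ∃ y : Spec (CommRingCat.of A) ⟶ G, y ≫ pG = pA ∧
      Spec.map (CommRingCat.ofHom (algebraMap A (FractionRing A))) ≫ y = x := by
  let f : Spec (CommRingCat.of S) ⟶ Spec (CommRingCat.of A) :=
    Spec.map (CommRingCat.ofHom (algebraMap A S))
  let jA : Spec (CommRingCat.of (FractionRing A)) ⟶ Spec (CommRingCat.of A) :=
    Spec.map (CommRingCat.ofHom (algebraMap A (FractionRing A)))
  let jS : Spec (CommRingCat.of (FractionRing S)) ⟶ Spec (CommRingCat.of S) :=
    Spec.map (CommRingCat.ofHom (algebraMap S (FractionRing S)))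
  have hsq : jS ≫ f = Spec.map (CommRingCat.ofHom ι) ≫ jA := by
    simp only [jS, f, jA, ← Spec.map_comp, ← CommRingCat.ofHom_comp, hι]
  have hfs := (flat_and_surjective_SpecMap_iff (CommRingCat.ofHom (algebraMap A S))).mpr
    (by
      rw [CommRingCat.hom_ofHom, RingHom.faithfullyFlat_algebraMap_iff]
      infer_instance)
  haveI : Flat f := hfs.1
  haveI : Surjective f := hfs.2
  haveI : IsOpenImmersion jA := Groth.Agent.Lib.Helper69.DvrIso.isOpenImmersion_genPt A
  let U : (Spec (CommRingCat.of A)).Opens := jA.opensRange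
  let g : U.toScheme ⟶ G := jA.isoOpensRange.inv ≫ x
  have hgU : jA.isoOpensRange.inv ≫ jA = U.ι := Scheme.Hom.isoOpensRange_inv_comp jA
  have hg : g ≫ pG = U.ι ≫ pA := by
    simp only [g, Category.assoc, hx]
    rw [← Category.assoc, hgU]
  -- schematic density
  haveI : IsLocallyNoetherian (Spec (CommRingCat.of A)) := inferInstance
  have hUd : CInt.IsSchematicallyDense U := by
    apply isSchematicallyDense_of_isIntegral
    exact ⟨jA (⟨⊥, Ideal.isPrime_bot⟩ : PrimeSpectrum (FractionRing A)), ⟨_, rfl⟩⟩
  have hdense : CInt.IsSchematicallyDense ((pullback.fst f f) ⁻¹ᵁ (f ⁻¹ᵁ U)) := by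
    have := Groth.Agent.S3844.result (pullback.fst f f ≫ f) U hUd
    simpa only [Scheme.Hom.comp_preimage] using this
  -- the generic point of `Spec S` lies over `U`
  have hrange : Set.range jS ⊆ Set.range (f ⁻¹ᵁ U).ι := by
    rw [Scheme.Opens.range_ι]
    rintro _ ⟨t, rfl⟩
    change f (jS t) ∈ U
    rw [← Scheme.Hom.comp_apply, hsq, Scheme.Hom.comp_apply]
    exact ⟨_, rfl⟩
  let k : Spec (CommRingCat.of (FractionRing S)) ⟶ (f ⁻¹ᵁ U).toScheme :=
    IsOpenImmersion.lift (f ⁻¹ᵁ U).ι jS hrange
  have hk : k ≫ (f ⁻¹ᵁ U).ι = jS := IsOpenImmersion.lift_fac _ _ _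
  haveI : IsDominant jS :=
    Groth.Agent.Lib.Helper26.NeronTorsor.isDominant_SpecMap_of_injective _
      (IsFractionRing.injective S (FractionRing S))
  haveI : IsDominant k := by
    haveI : IsDominant (k ≫ (f ⁻¹ᵁ U).ι) := by rw [hk]; infer_instance
    exact IsDominant.of_comp_of_isOpenImmersion k (f ⁻¹ᵁ U).ι
  haveI : IsReduced (f ⁻¹ᵁ U).toScheme := inferInstance
  have hg' : (f ⁻¹ᵁ U).ι ≫ y' = (f ∣_ U) ≫ g := by
    refine ext_of_isDominant_of_isSeparated pG ?_ k ?_
    · rw [Category.assoc, Category.assoc, hy'1, hg, morphismRestrict_ι_assoc]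
    · rw [reassoc_of% hk, hy'2]
      have e1 : k ≫ (f ∣_ U) ≫ jA.isoOpensRange.inv = Spec.map (CommRingCat.ofHom ι) := by
        rw [← cancel_mono jA, Category.assoc, Category.assoc, hgU, morphismRestrict_ι,
          reassoc_of% hk, hsq]
      simp only [g]
      rw [reassoc_of% e1]
  obtain ⟨y, hy1, hy2⟩ := Groth.Agent.Lib.Helper14.extends_of_extends_after_faithfullyFlat
    pA pG f U hdense g hg y' hy'1 hg'
  refine ⟨y, hy2, ?_⟩
  have e2 : jA.isoOpensRange.hom ≫ U.ι = jA := Scheme.Hom.isoOpensRange_hom_ι jA
  change jA ≫ y = x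
  rw [← e2, Category.assoc, hy1]
  simp only [g]
  rw [Iso.hom_inv_id_assoc]

/-- **Descent from the strict henselization.** If `K'`-points of `G` extend to `R'`-points for all
strictly henselian unramified extensions `R'` of `R`, the same holds for all unramified extensions
`A` of `R` (with geometrically reduced residue extension). Auxiliary form with an abstract strict
henselization `S`. -/
theorem exists_extension_dvr_aux
    (R : Type u) [CommRing R] [IsDomain R] [IsDiscreteValuationRing R]
    (G : Over (Spec (CommRingCat.of R))) [IsSeparated G.hom]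
    (h : ∀ (R' : Type u) [CommRing R'] [IsDomain R'] [IsDiscreteValuationRing R'] [Algebra R R']
        [IsLocalHom (algebraMap R R')] [HenselianLocalRing R'] [IsSepClosed (IsLocalRing.ResidueField R')],
      (IsLocalRing.maximalIdeal R).map (algebraMap R R') = IsLocalRing.maximalIdeal R' →
      Algebra.IsGeometricallyReduced (IsLocalRing.ResidueField R) (IsLocalRing.ResidueField R') →
      ∀ x : Spec (CommRingCat.of (FractionRing R')) ⟶ G.left,
        x ≫ G.hom = Spec.map (CommRingCat.ofHom ((algebraMap R' (FractionRing R')).comp (algebraMap R R'))) →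
        ∃ y : Spec (CommRingCat.of R') ⟶ G.left, y ≫ G.hom = Spec.map (CommRingCat.ofHom (algebraMap R R')) ∧
          Spec.map (CommRingCat.ofHom (algebraMap R' (FractionRing R'))) ≫ y = x)
    (A : Type u) [CommRing A] [IsDomain A] [IsDiscreteValuationRing A] [Algebra R A]
    [IsLocalHom (algebraMap R A)]
    (S : Type u) [CommRing S] [IsLocalRing S] [Algebra A S] [IsLocalHom (algebraMap A S)]
    [Hensel.IsStrictHenselization A S]
    (hm : (maximalIdeal R).map (algebraMap R A) = maximalIdeal A)
    (hg : Algebra.IsGeometricallyReduced (ResidueField R) (ResidueField A))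
    (x : Spec (CommRingCat.of (FractionRing A)) ⟶ G.left)
    (hx : x ≫ G.hom =
      Spec.map (CommRingCat.ofHom ((algebraMap A (FractionRing A)).comp (algebraMap R A)))) :
    ∃ y : Spec (CommRingCat.of A) ⟶ G.left,
      y ≫ G.hom = Spec.map (CommRingCat.ofHom (algebraMap R A)) ∧
      Spec.map (CommRingCat.ofHom (algebraMap A (FractionRing A))) ≫ y = x := by
  obtain ⟨hdomS, hdvrS⟩ := SHSquare.isDVR_of_isStrictHenselization A S
  letI : Algebra R S := ((algebraMap A S).comp (algebraMap R A)).toAlgebra
  haveI : IsScalarTower R A S := IsScalarTower.of_algebraMap_eq (fun _ => rfl)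
  haveI := isLocalHom_of_tower R A S
  haveI : HenselianLocalRing S := Hensel.IsStrictHenselization.henselian (R := A)
  haveI : IsSepClosed (ResidueField S) :=
    (Hensel.IsStrictHenselization.isSepClosure (R := A) (S := S)).sep_closed
  have hmS := map_maximalIdeal_sh R A S hm
  have hgS := isGeometricallyReduced_sh R A S hg
  haveI : Module.FaithfullyFlat A S := HensK.faithfullyFlat_of_isStrictHenselization A S
  have hinj : Function.Injective (algebraMap A S) := FaithfulSMul.algebraMap_injective A S
  have hinj' : Function.Injective ((algebraMap S (FractionRing S)).comp (algebraMap A S)) :=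
    (IsFractionRing.injective S (FractionRing S)).comp hinj
  obtain ⟨ι, hι⟩ : ∃ ι : FractionRing A →+* FractionRing S,
      ι.comp (algebraMap A (FractionRing A)) =
        (algebraMap S (FractionRing S)).comp (algebraMap A S) := by
    refine ⟨IsFractionRing.lift hinj', ?_⟩
    ext a
    simp only [RingHom.comp_apply]
    exact IsFractionRing.lift_algebraMap hinj' a
  have hx' : (Spec.map (CommRingCat.ofHom ι) ≫ x) ≫ G.hom =
      Spec.map (CommRingCat.ofHom ((algebraMap S (FractionRing S)).comp (algebraMap R S))) := by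
    rw [Category.assoc, hx, ← Spec.map_comp, ← CommRingCat.ofHom_comp, ← RingHom.comp_assoc, hι]
  obtain ⟨y', hy'1, hy'2⟩ := h S hmS hgS (Spec.map (CommRingCat.ofHom ι) ≫ x) hx'
  obtain ⟨y, hy1, hy2⟩ := descent_dvr A S
    (Spec.map (CommRingCat.ofHom (algebraMap R A))) G.hom ι hι x
    (by rw [hx, CommRingCat.ofHom_comp, Spec.map_comp]) y'
    (by
      rw [hy'1, ← Spec.map_comp, ← CommRingCat.ofHom_comp]) hy'2
  exact ⟨y, hy1, hy2⟩

/-- **Descent from the strict henselization.** -/
theorem exists_extension_dvr
    (R : Type u) [CommRing R] [IsDomain R] [IsDiscreteValuationRing R]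
    (G : Over (Spec (CommRingCat.of R))) [IsSeparated G.hom]
    (h : ∀ (R' : Type u) [CommRing R'] [IsDomain R'] [IsDiscreteValuationRing R'] [Algebra R R']
        [IsLocalHom (algebraMap R R')] [HenselianLocalRing R'] [IsSepClosed (IsLocalRing.ResidueField R')],
      (IsLocalRing.maximalIdeal R).map (algebraMap R R') = IsLocalRing.maximalIdeal R' →
      Algebra.IsGeometricallyReduced (IsLocalRing.ResidueField R) (IsLocalRing.ResidueField R') →
      ∀ x : Spec (CommRingCat.of (FractionRing R')) ⟶ G.left,
        x ≫ G.hom = Spec.map (CommRingCat.ofHom ((algebraMap R' (FractionRing R')).comp (algebraMap R R'))) →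
        ∃ y : Spec (CommRingCat.of R') ⟶ G.left, y ≫ G.hom = Spec.map (CommRingCat.ofHom (algebraMap R R')) ∧
          Spec.map (CommRingCat.ofHom (algebraMap R' (FractionRing R'))) ≫ y = x)
    (A : Type u) [CommRing A] [IsDomain A] [IsDiscreteValuationRing A] [Algebra R A]
    [IsLocalHom (algebraMap R A)]
    (hm : (maximalIdeal R).map (algebraMap R A) = maximalIdeal A)
    (hg : Algebra.IsGeometricallyReduced (ResidueField R) (ResidueField A))
    (x : Spec (CommRingCat.of (FractionRing A)) ⟶ G.left)
    (hx : x ≫ G.hom =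
      Spec.map (CommRingCat.ofHom ((algebraMap A (FractionRing A)).comp (algebraMap R A)))) :
    ∃ y : Spec (CommRingCat.of A) ⟶ G.left,
      y ≫ G.hom = Spec.map (CommRingCat.ofHom (algebraMap R A)) ∧
      Spec.map (CommRingCat.ofHom (algebraMap A (FractionRing A))) ≫ y = x :=
  exists_extension_dvr_aux R G h A (HensK.StrictHenselization A) hm hg x hx

end Groth.Agent.Lib.Helper75.NeronCrit
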