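import Mathlib
import Groth.Agent.S1535
import Groth.Agent.Lib.Helper85.RegularLocal

/-!
# Local rings of a smooth algebra over a DVR at codimension one points of the special fibre
(helper75)

Let `R` be a discrete valuation ring, `B` a smooth `R`-algebra and `A` a localization of `B` which is
a local domain of dimension `≤ 1` dominating `R`.  Then `𝔪_R A = 𝔪_A` and the residue field of `A`
is geometrically reduced over that of `R`.
-/

set_option autoImplicit false
set_option linter.style.haveILetI false
set_option linter.unusedSectionVars false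
universe u

open IsLocalRing TensorProduct

namespace Groth.Agent.Lib.Helper75.SmoothDVRFibre

/-- A smooth algebra over a field is reduced. -/
theorem isReduced_of_smooth_field (Ω S : Type u) [Field Ω] [CommRing S] [Algebra Ω S]
    [Algebra.Smooth Ω S] : IsReduced S := by
  refine isReduced_ofLocalizationMaximal S fun m hm => ?_
  haveI := Groth.Agent.S1535.isRegularLocalRing_atPrime_of_smooth Ω S m
  haveI := Groth.Agent.Lib.Helper85.isDomain_of_isRegularLocalRing (Localization.AtPrime m)
  infer_instance

/-- The base change to a field of a localization of a smooth algebra is reduced. -/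
theorem isReduced_tensor_localization (R : Type u) [CommRing R] (Ω : Type u) [Field Ω]
    [Algebra R Ω] (B : Type u) [CommRing B] [Algebra R B] [Algebra.Smooth R B]
    (A : Type u) [CommRing A] [Algebra R A] [Algebra B A] [IsScalarTower R B A]
    (M : Submonoid B) [IsLocalization M A] : IsReduced (Ω ⊗[R] A) := by
  haveI : IsReduced (Ω ⊗[R] B) := isReduced_of_smooth_field Ω (Ω ⊗[R] B)
  letI : Algebra (Ω ⊗[R] B) (Ω ⊗[R] A) :=
    (Algebra.TensorProduct.map (AlgHom.id Ω Ω) (IsScalarTower.toAlgHom R B A)).toRingHom.toAlgebra
  have hST : IsScalarTower Ω (Ω ⊗[R] B) (Ω ⊗[R] A) :=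
    IsScalarTower.of_algebraMap_eq' (by
      ext x
      simp [RingHom.algebraMap_toAlgebra, Algebra.TensorProduct.algebraMap_apply])
  have hloc := IsLocalization.tensorProduct_tensorProduct_right R Ω M A (by
    ext x
    simp [RingHom.algebraMap_toAlgebra])
  exact isReduced_localizationPreserves
    (M.map (Algebra.TensorProduct.includeRight (R := R) (A := Ω))) (Ω ⊗[R] A) inferInstance

section Main

variable (R : Type u) [CommRing R] [IsDomain R] [IsDiscreteValuationRing R]
  (B : Type u) [CommRing B] [Algebra R B] [Algebra.Smooth R B]
  (A : Type u) [CommRing A] [Algebra R A] [Algebra B A] [IsScalarTower R B A]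
  (M : Submonoid B) [IsLocalization M A] [IsLocalRing A] [IsLocalHom (algebraMap R A)]
  [IsDomain A] [Ring.KrullDimLE 1 A]

include B M in
theorem faithfullyFlat : Module.FaithfullyFlat R A := by
  haveI : Module.Flat B A := IsLocalization.flat A M
  haveI : Module.Flat R A := Module.Flat.trans R B A
  exact Module.FaithfullyFlat.of_flat_of_isLocalHom

include B M in
/-- `𝔪_R A = 𝔪_A`. -/
theorem map_maximalIdeal :
    (maximalIdeal R).map (algebraMap R A) = maximalIdeal A := by
  haveI := faithfullyFlat R B A M
  set I := (maximalIdeal R).map (algebraMap R A) with hI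
  -- `A ⧸ I` is reduced
  have hred : IsReduced (A ⧸ I) := by
    haveI h1 : IsReduced (ResidueField R ⊗[R] A) :=
      isReduced_tensor_localization R (ResidueField R) B A M
    haveI h1' : IsReduced ((R ⧸ maximalIdeal R) ⊗[R] A) := h1
    haveI h2 : IsReduced (A ⊗[R] (R ⧸ maximalIdeal R)) :=
      isReduced_of_injective (Algebra.TensorProduct.comm R A (R ⧸ maximalIdeal R))
        (Algebra.TensorProduct.comm R A (R ⧸ maximalIdeal R)).injective
    exact isReduced_of_injective
      (Algebra.TensorProduct.quotIdealMapEquivTensorQuot A (maximalIdeal R))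
      (Algebra.TensorProduct.quotIdealMapEquivTensorQuot A (maximalIdeal R)).injective
  have hrad : I.IsRadical := (Ideal.isRadical_iff_quotient_reduced I).mpr hred
  have hle : I ≤ maximalIdeal A := by
    rw [hI, Ideal.map_le_iff_le_comap]
    intro r hr
    rw [Ideal.mem_comap, mem_maximalIdeal, mem_nonunits_iff]
    intro hu
    exact (mem_nonunits_iff.mp ((mem_maximalIdeal r).mp hr))
      (isUnit_of_map_unit (algebraMap R A) r hu)
  refine le_antisymm hle ?_
  -- `I ≠ ⊥`
  have hinj : Function.Injective (algebraMap R A) :=
    FaithfulSMul.algebraMap_injective R A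
  obtain ⟨r, hr, hr0⟩ : ∃ r ∈ maximalIdeal R, r ≠ 0 := by
    by_contra hcon
    push Not at hcon
    exact IsDiscreteValuationRing.not_a_field R (eq_bot_iff.mpr fun x hx => hcon x hx)
  have hIne : I ≠ ⊥ := by
    intro h0
    have : algebraMap R A r ∈ I := Ideal.mem_map_of_mem _ hr
    rw [h0, Ideal.mem_bot] at this
    exact hr0 (hinj (this.trans (map_zero _).symm))
  rw [← hrad.radical, Ideal.radical_eq_sInf]
  refine le_sInf fun P ⟨hIP, hP⟩ => ?_
  have hP0 : P ≠ ⊥ := fun h0 => hIne (le_bot_iff.mp (h0 ▸ hIP))
  have hPmax : P.IsMaximal := hP.isMaximal_of_ne_bot hP0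
  rw [IsLocalRing.eq_maximalIdeal hPmax]

include B M in
/-- The residue field extension is geometrically reduced. -/
theorem isGeometricallyReduced_residueField :
    Algebra.IsGeometricallyReduced (ResidueField R) (ResidueField A) := by
  haveI := faithfullyFlat R B A M
  have hI := map_maximalIdeal R B A M
  -- `k ⊗[R] A` is geometrically reduced over `k`
  haveI h1 : Algebra.IsGeometricallyReduced (ResidueField R) (ResidueField R ⊗[R] A) := by
    rw [Algebra.isGeometricallyReduced_field_iff]
    haveI : IsReduced (AlgebraicClosure (ResidueField R) ⊗[R] A) :=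
      isReduced_tensor_localization R (AlgebraicClosure (ResidueField R)) B A M
    exact isReduced_of_injective
      (Algebra.TensorProduct.cancelBaseChange R (ResidueField R)
        (AlgebraicClosure (ResidueField R)) (AlgebraicClosure (ResidueField R)) A)
      (Algebra.TensorProduct.cancelBaseChange R (ResidueField R)
        (AlgebraicClosure (ResidueField R)) (AlgebraicClosure (ResidueField R)) A).injective
  -- the map `κ(A) ⟶ k ⊗[R] A`
  let inc : A →+* ResidueField R ⊗[R] A :=
    (Algebra.TensorProduct.includeRight : A →ₐ[R] ResidueField R ⊗[R] A).toRingHom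
  have hinc : ∀ a ∈ maximalIdeal A, inc a = 0 := by
    intro a ha
    rw [← hI] at ha
    have hle : (maximalIdeal R).map (algebraMap R A) ≤ RingHom.ker inc := by
      rw [Ideal.map_le_iff_le_comap]
      intro r hr
      rw [Ideal.mem_comap, RingHom.mem_ker]
      change (1 : ResidueField R) ⊗ₜ[R] (algebraMap R A r) = 0
      rw [Algebra.algebraMap_eq_smul_one, ← TensorProduct.smul_tmul,
        ← Algebra.algebraMap_eq_smul_one]
      have : algebraMap R (ResidueField R) r = 0 := by
        change residue R r = 0
        rwa [residue_eq_zero_iff]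
      rw [this, TensorProduct.zero_tmul]
    exact hle ha
  let f0 : ResidueField A →+* ResidueField R ⊗[R] A := Ideal.Quotient.lift (maximalIdeal A) inc hinc
  haveI : Nontrivial (ResidueField R ⊗[R] A) := inferInstance
  let f : ResidueField A →ₐ[ResidueField R] ResidueField R ⊗[R] A :=
    { f0 with
      commutes' := by
        intro c
        obtain ⟨r, rfl⟩ := residue_surjective c
        change f0 (algebraMap (ResidueField R) (ResidueField A) (residue R r)) =
          (residue R r) ⊗ₜ[R] (1 : A)
        have e1 : algebraMap (ResidueField R) (ResidueField A) (residue R r) =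
            residue A (algebraMap R A r) := rfl
        rw [e1]
        change inc (algebraMap R A r) = _
        change (1 : ResidueField R) ⊗ₜ[R] (algebraMap R A r) = _
        rw [Algebra.algebraMap_eq_smul_one, ← TensorProduct.smul_tmul,
          ← Algebra.algebraMap_eq_smul_one]
        rfl }
  exact Algebra.IsGeometricallyReduced.of_injective f f0.injective

end Main

end Groth.Agent.Lib.Helper75.SmoothDVRFibre
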