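import Mathlib
import Groth.Agent.Lib.Helper75.NeronCritB
import Groth.Agent.Lib.Helper75.SmoothDVRFibre
import Groth.Agent.Lib.Helper26.SmoothDedekind

/-!
# Local rings of a smooth scheme over a DVR at codimension one points of the special fibre
(helper75)
-/

set_option autoImplicit false
set_option linter.style.haveILetI false
set_option linter.unusedSectionVars false
universe u
open CategoryTheory CategoryTheory.Limits AlgebraicGeometry IsLocalRing Groth.Agent.Lib.Helper9

namespace Groth.Agent.Lib.Helper75.NeronCrit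

section Stalk

variable {R : Type u} [CommRing R] {Y : Scheme.{u}} (pY : Y ⟶ Spec (CommRingCat.of R))

/-- The structure map `R → O_{Y,x}` of an `R`-scheme. -/
noncomputable def stalkRho (x : Y) : R →+* Y.presheaf.stalk x :=
  (Spec.preimage (Y.fromSpecStalk x ≫ pY)).hom

theorem SpecMap_stalkRho (x : Y) :
    Spec.map (CommRingCat.ofHom (stalkRho pY x)) = Y.fromSpecStalk x ≫ pY :=
  Spec.map_preimage _

/-- The structure map `R → Γ(Y, V)`. -/
noncomputable def sectionRho (V : Y.Opens) : R →+* Γ(Y, V) :=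
  ((Scheme.ΓSpecIso (CommRingCat.of R)).inv ≫ pY.appLE ⊤ V le_top).hom

theorem stalkRho_eq (x : Y) (V : Y.Opens) (hV : IsAffineOpen V) (hxV : x ∈ V) :
    stalkRho pY x = (Y.presheaf.germ V x hxV).hom.comp (sectionRho pY V) := by
  have h1 : CommRingCat.ofHom (stalkRho pY x) =
      CommRingCat.ofHom ((Y.presheaf.germ V x hxV).hom.comp (sectionRho pY V)) := by
    apply Spec.map_injective
    rw [SpecMap_stalkRho, ← hV.fromSpecStalk_eq_fromSpecStalk hxV, IsAffineOpen.fromSpecStalk,
      Category.assoc, ← IsAffineOpen.SpecMap_appLE_fromSpec pY (isAffineOpen_top _) hV le_top,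
      IsAffineOpen.fromSpec_top, Scheme.isoSpec_Spec_inv, ← Spec.map_comp, ← Spec.map_comp]
    rfl
  exact congrArg CommRingCat.Hom.hom h1

end Stalk

section Main

variable (R : Type u) [CommRing R] [IsDomain R] [IsDiscreteValuationRing R]
  {Y : Scheme.{u}} (pY : Y ⟶ Spec (CommRingCat.of R)) [Smooth pY]

/-- the local ring of a smooth `R`-scheme at a point of codimension one in the special fibre is
an unramified extension of `R` with geometrically reduced residue field extension. -/
theorem stalk_unramified (x : Y) (hx : pY x = closedPoint R)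
    (hdim : ¬ (2 : WithBot ℕ∞) ≤ ringKrullDim (Y.presheaf.stalk x)) :
    letI : Algebra R (Y.presheaf.stalk x) := (stalkRho pY x).toAlgebra
    ∃ (_ : IsDomain (Y.presheaf.stalk x)) (_ : IsDiscreteValuationRing (Y.presheaf.stalk x))
      (_ : IsLocalHom (algebraMap R (Y.presheaf.stalk x))),
      (maximalIdeal R).map (algebraMap R (Y.presheaf.stalk x)) =
        maximalIdeal (Y.presheaf.stalk x) ∧
      Algebra.IsGeometricallyReduced (ResidueField R) (ResidueField (Y.presheaf.stalk x)) := by
  letI algRA : Algebra R (Y.presheaf.stalk x) := (stalkRho pY x).toAlgebra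
  obtain ⟨V, hV, hxV⟩ : ∃ V : Y.Opens, IsAffineOpen V ∧ x ∈ V := by
    obtain ⟨V, hV, hxV, -⟩ := exists_isAffineOpen_mem_and_subset (X := Y) (x := x) (U := ⊤) trivial
    exact ⟨V, hV, hxV⟩
  letI algRB : Algebra R Γ(Y, V) := (sectionRho pY V).toAlgebra
  -- smoothness of the chart
  have Hs : (pY.appLE ⊤ V le_top).hom.Smooth :=
    Smooth.smooth_appLE pY (isAffineOpen_top _) hV le_top
  have Hs' : (sectionRho pY V).Smooth := by
    have h0 : ((Scheme.ΓSpecIso (CommRingCat.of R)).inv).hom.Smooth :=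
      RingHom.Smooth.of_bijective
        (ConcreteCategory.bijective_of_isIso (Scheme.ΓSpecIso (CommRingCat.of R)).inv)
    exact h0.comp Hs
  haveI : Algebra.Smooth R Γ(Y, V) := Hs'
  -- the stalk as a localization
  letI algBA : Algebra Γ(Y, V) (Y.presheaf.stalk x) :=
    TopCat.Presheaf.algebra_section_stalk Y.presheaf (⟨x, hxV⟩ : V)
  haveI hloc : IsLocalization.AtPrime (Y.presheaf.stalk x) (hV.primeIdealOf ⟨x, hxV⟩).asIdeal :=
    hV.isLocalization_stalk ⟨x, hxV⟩
  haveI : IsScalarTower R Γ(Y, V) (Y.presheaf.stalk x) :=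
    IsScalarTower.of_algebraMap_eq (fun r => by
      change stalkRho pY x r = _
      rw [stalkRho_eq pY x V hV hxV]
      rfl)
  haveI hdom : IsDomain (Y.presheaf.stalk x) :=
    (Groth.Agent.Lib.Helper26.SmoothDedekind.isNormal_stalk_of_smooth_dedekind pY x).1
  haveI hlh : IsLocalHom (algebraMap R (Y.presheaf.stalk x)) := by
    have h1 : (maximalIdeal (Y.presheaf.stalk x)).comap (stalkRho pY x) = maximalIdeal R := by
      have h2 : Spec.map (CommRingCat.ofHom (stalkRho pY x)) (closedPoint (Y.presheaf.stalk x)) =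
          closedPoint R := by
        rw [SpecMap_stalkRho]
        change pY (Y.fromSpecStalk x (closedPoint (Y.presheaf.stalk x))) = _
        rw [Scheme.fromSpecStalk_closedPoint, hx]
      exact congrArg PrimeSpectrum.asIdeal h2
    exact ((local_hom_TFAE (stalkRho pY x)).out 0 4).mpr h1
  haveI hkd : Ring.KrullDimLE 1 (Y.presheaf.stalk x) :=
    Ring.krullDimLE_iff.mpr
      (Groth.Agent.Lib.Helper26.SmoothDedekind.le_one_of_not_two_le _ hdim)
  have hm := SmoothDVRFibre.map_maximalIdeal R Γ(Y, V) (Y.presheaf.stalk x)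
    (hV.primeIdealOf ⟨x, hxV⟩).asIdeal.primeCompl
  have hgr := SmoothDVRFibre.isGeometricallyReduced_residueField R Γ(Y, V) (Y.presheaf.stalk x)
    (hV.primeIdealOf ⟨x, hxV⟩).asIdeal.primeCompl
  haveI hff := SmoothDVRFibre.faithfullyFlat R Γ(Y, V) (Y.presheaf.stalk x)
    (hV.primeIdealOf ⟨x, hxV⟩).asIdeal.primeCompl
  haveI : IsLocallyNoetherian Y :=
    Groth.Agent.Lib.Helper26.SmoothDedekind.isLocallyNoetherian_of_smooth_dedekind pY
  haveI : IsNoetherianRing (Y.presheaf.stalk x) := inferInstance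
  obtain ⟨ϖ, hϖ⟩ := IsDiscreteValuationRing.exists_irreducible R
  have hm' : maximalIdeal (Y.presheaf.stalk x) =
      Ideal.span {algebraMap R (Y.presheaf.stalk x) ϖ} := by
    rw [← hm, hϖ.maximalIdeal_eq, Ideal.map_span, Set.image_singleton]
  have hreg : algebraMap R (Y.presheaf.stalk x) ϖ ∈ nonZeroDivisors (Y.presheaf.stalk x) := by
    rw [mem_nonZeroDivisors_iff_ne_zero]
    intro h0
    exact hϖ.ne_zero ((FaithfulSMul.algebraMap_injective R (Y.presheaf.stalk x))
      (h0.trans (map_zero _).symm))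
  obtain ⟨hdom', hdvr⟩ := SHSquare.isDVR_of_principal _ hm' hreg
  exact ⟨hdom, hdvr, hlh, hm, hgr⟩

/-- **Extension at codimension one points of the special fibre.** -/
theorem exists_extension_stalk
    (G : Over (Spec (CommRingCat.of R))) [IsSeparated G.hom]
    (h : ∀ (R' : Type u) [CommRing R'] [IsDomain R'] [IsDiscreteValuationRing R'] [Algebra R R']
        [IsLocalHom (algebraMap R R')] [HenselianLocalRing R'] [IsSepClosed (IsLocalRing.ResidueField R')],
      (IsLocalRing.maximalIdeal R).map (algebraMap R R') = IsLocalRing.maximalIdeal R' →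
      Algebra.IsGeometricallyReduced (IsLocalRing.ResidueField R) (IsLocalRing.ResidueField R') →
      ∀ x : Spec (CommRingCat.of (FractionRing R')) ⟶ G.left,
        x ≫ G.hom = Spec.map (CommRingCat.ofHom ((algebraMap R' (FractionRing R')).comp (algebraMap R R'))) →
        ∃ y : Spec (CommRingCat.of R') ⟶ G.left, y ≫ G.hom = Spec.map (CommRingCat.ofHom (algebraMap R R')) ∧
          Spec.map (CommRingCat.ofHom (algebraMap R' (FractionRing R'))) ≫ y = x)
    (x : Y) (hx : pY x = closedPoint R)
    (hdim : ¬ (2 : WithBot ℕ∞) ≤ ringKrullDim (Y.presheaf.stalk x))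
    (ψK : Spec (CommRingCat.of (FractionRing (Y.presheaf.stalk x))) ⟶ G.left)
    (hψK : ψK ≫ G.hom =
      Spec.map (CommRingCat.ofHom (algebraMap (Y.presheaf.stalk x)
        (FractionRing (Y.presheaf.stalk x)))) ≫ Y.fromSpecStalk x ≫ pY) :
    ∃ ψ : Spec (Y.presheaf.stalk x) ⟶ G.left, ψ ≫ G.hom = Y.fromSpecStalk x ≫ pY ∧
      Spec.map (CommRingCat.ofHom (algebraMap (Y.presheaf.stalk x)
        (FractionRing (Y.presheaf.stalk x)))) ≫ ψ = ψK := by
  letI algRA : Algebra R (Y.presheaf.stalk x) := (stalkRho pY x).toAlgebra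
  obtain ⟨hdom, hdvr, hlh, hm, hgr⟩ := stalk_unramified R pY x hx hdim
  have hρ : Spec.map (CommRingCat.ofHom (algebraMap R (Y.presheaf.stalk x))) =
      Y.fromSpecStalk x ≫ pY := SpecMap_stalkRho pY x
  obtain ⟨y, hy1, hy2⟩ := exists_extension_dvr R G h (Y.presheaf.stalk x) hm hgr ψK (by
    rw [hψK, ← hρ, ← Spec.map_comp, ← CommRingCat.ofHom_comp])
  exact ⟨y, hy1.trans hρ, hy2⟩

end Main

end Groth.Agent.Lib.Helper75.NeronCrit
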