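import Mathlib
import Groth.Agent.Lib.Helper20.ExtendVal
import Groth.Agent.Lib.Helper20.GlueOpens

/-!
# Extending a morphism to a separated scheme over points where generic points extend
(helper75; variation of helper20's `ExtendVal`, with the valuative criterion replaced by a
hypothesis)
-/

set_option autoImplicit false
set_option linter.style.haveILetI false
set_option linter.unusedSectionVars false
universe u
open CategoryTheory CategoryTheory.Limits AlgebraicGeometry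

namespace Groth.Agent.Lib.Helper75.NeronCrit

open Groth.Agent.Lib.Helper20 Groth.Agent.Lib.Helper20.ExtendVal

section main

variable {X Y S : Scheme.{u}}

/-- `x` satisfies the extension property: every `S`-morphism from the generic point of
`Spec O_{X,x}` to `Y` extends to `Spec O_{X,x}`. -/
def ExtAt (p : X ⟶ S) (q : Y ⟶ S) (x : X) : Prop :=
  ∀ ψK : Spec (CommRingCat.of (FractionRing (X.presheaf.stalk x))) ⟶ Y,
    ψK ≫ q = Spec.map (CommRingCat.ofHom (algebraMap (X.presheaf.stalk x)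
      (FractionRing (X.presheaf.stalk x)))) ≫ X.fromSpecStalk x ≫ p →
    ∃ ψ : Spec (X.presheaf.stalk x) ⟶ Y, ψ ≫ q = X.fromSpecStalk x ≫ p ∧
      Spec.map (CommRingCat.ofHom (algebraMap (X.presheaf.stalk x)
        (FractionRing (X.presheaf.stalk x)))) ≫ ψ = ψK

/-- **Extension over a point with the extension property.** -/
theorem exists_extension_of_integral_nhd' (p : X ⟶ S) (q : Y ⟶ S) [IsSeparated q]
    [LocallyOfFiniteType q]
    (x : X) (W : X.Opens) (hxW : x ∈ W) [IsIntegral (W : Scheme.{u})]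
    (hdom : IsDomain (X.presheaf.stalk x)) (hext : ExtAt p q x)
    (U : X.Opens) (f : (U : Scheme.{u}) ⟶ Y) (hf : f ≫ q = U.ι ≫ p)
    (hx : x ∈ closure (U : Set X)) :
    ∃ (U' : X.Opens) (hUU' : U ≤ U'), x ∈ U' ∧
      ∃ f' : (U' : Scheme.{u}) ⟶ Y, f' ≫ q = U'.ι ≫ p ∧ X.homOfLE hUU' ≫ f' = f := by
  -- notation
  let R := X.presheaf.stalk x
  let K := FractionRing R
  let φ : R ⟶ CommRingCat.of K := CommRingCat.ofHom (algebraMap R K)
  have hφ : Function.Injective φ.hom := IsFractionRing.injective R K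
  let j : Spec (CommRingCat.of K) ⟶ X := Spec.map φ ≫ X.fromSpecStalk x
  have hj : ∀ t, ∀ z ∈ W, j t ⤳ z := fun t z hz =>
    genPt_specializes_of_isIntegral x W hxW φ hφ t z hz
  -- the generic point lies in U
  obtain ⟨z, hzW, hzU⟩ : ∃ z, z ∈ W ∧ z ∈ U := by
    obtain ⟨z, hz1, hz2⟩ := mem_closure_iff.mp hx W W.isOpen hxW
    exact ⟨z, hz1, hz2⟩
  have hjU : ∀ t, j t ∈ U := fun t => (hj t z hzW).mem_open U.isOpen hzU
  have hjW : ∀ t, j t ∈ W := fun t => (hj t x hxW).mem_open W.isOpen hxW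
  -- factor j through U
  have hrU : Set.range j ⊆ Set.range U.ι := by
    rw [Scheme.Opens.range_ι]; rintro _ ⟨t, rfl⟩; exact hjU t
  let jU : Spec (CommRingCat.of K) ⟶ U := IsOpenImmersion.lift U.ι j hrU
  have hjU' : jU ≫ U.ι = j := IsOpenImmersion.lift_fac _ _ _
  -- the extension hypothesis
  obtain ⟨φ', hφ'2, hφ'1⟩ : ∃ φ' : Spec (X.presheaf.stalk x) ⟶ Y,
      φ' ≫ q = X.fromSpecStalk x ≫ p ∧ Spec.map φ ≫ φ' = jU ≫ f :=
    hext (jU ≫ f) (by rw [Category.assoc, hf, reassoc_of% hjU']; rfl)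
  -- germ injectivity at x
  have : X.IsGermInjectiveAt x := by
    have h1 : (W : Scheme.{u}).IsGermInjectiveAt (⟨x, hxW⟩ : W) := inferInstance
    exact (isGermInjectiveAt_iff_of_isOpenImmersion (f := W.ι) (x := ⟨x, hxW⟩)).mpr h1
  obtain ⟨W', hxW', g, hg1, hg2⟩ := spread_out_of_isGermInjective' p q φ' hφ'2
  -- restrict g to W'' := W' ⊓ W
  let W'' : X.Opens := W' ⊓ W
  let g'' : (W'' : Scheme.{u}) ⟶ Y := X.homOfLE (inf_le_left : W'' ≤ W') ≫ g
  have hg'' : g'' ≫ q = W''.ι ≫ p := by rw [Category.assoc, hg2, Scheme.homOfLE_ι_assoc]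
  -- compatibility on the overlap
  have hcompat : X.homOfLE (inf_le_left : U ⊓ W'' ≤ U) ≫ f =
      X.homOfLE (inf_le_right : U ⊓ W'' ≤ W'') ≫ g'' := by
    have : IsReduced ((U ⊓ W'' : X.Opens) : Scheme.{u}) :=
      isReduced_of_isOpenImmersion
        (X.homOfLE ((inf_le_right.trans inf_le_right : U ⊓ W'' ≤ W)))
    have hr : Set.range j ⊆ Set.range (U ⊓ W'').ι := by
      rw [Scheme.Opens.range_ι]; rintro _ ⟨t, rfl⟩
      exact ⟨hjU t, (hj t x hxW).mem_open W'.isOpen hxW', hjW t⟩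
    let ι : Spec (CommRingCat.of K) ⟶ ((U ⊓ W'' : X.Opens) : Scheme.{u}) :=
      IsOpenImmersion.lift (U ⊓ W'').ι j hr
    have hι : ι ≫ (U ⊓ W'').ι = j := IsOpenImmersion.lift_fac _ _ _
    have : IsDominant ι := by
      refine ⟨fun w => ?_⟩
      let t₀ : Spec (CommRingCat.of K) := ⟨⊥, Ideal.isPrime_bot⟩
      have h1 : (U ⊓ W'').ι (ι t₀) ⤳ (U ⊓ W'').ι w := by
        rw [← Scheme.Hom.comp_apply, hι]
        exact hj t₀ _ w.2.2.2
      have h2 : ι t₀ ⤳ w := (U ⊓ W'').ι.isEmbedding.isInducing.specializes_iff.mp h1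
      exact closure_mono (Set.singleton_subset_iff.mpr (Set.mem_range_self t₀))
        (specializes_iff_mem_closure.mp h2)
    refine ext_of_isDominant_of_isSeparated q ?_ ι ?_
    · rw [Category.assoc, Category.assoc, hf, hg'', Scheme.homOfLE_ι_assoc,
        Scheme.homOfLE_ι_assoc]
    · have e1 : ι ≫ X.homOfLE (inf_le_left : U ⊓ W'' ≤ U) = jU := by
        rw [← cancel_mono U.ι, Category.assoc, Scheme.homOfLE_ι, hι, hjU']
      have e2 : ι ≫ X.homOfLE (inf_le_right : U ⊓ W'' ≤ W'') ≫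
          X.homOfLE (inf_le_left : W'' ≤ W') = Spec.map φ ≫ W'.fromSpecStalkOfMem x hxW' := by
        rw [← cancel_mono W'.ι, Category.assoc, Category.assoc, Scheme.homOfLE_ι,
          Scheme.homOfLE_ι, hι, Category.assoc, Scheme.Opens.fromSpecStalkOfMem_ι]
      rw [reassoc_of% e1, ← hφ'1, hg1]
      change _ = ι ≫ X.homOfLE (inf_le_right : U ⊓ W'' ≤ W'') ≫
          X.homOfLE (inf_le_left : W'' ≤ W') ≫ g
      rw [reassoc_of% e2]
  -- glue
  obtain ⟨U', hU, hV, k, hk1, hk2, hkext⟩ := GlueOpens.exists_glue₂ U W'' f g'' hcompat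
  refine ⟨U', hU, hV ⟨hxW', hxW⟩, k, ?_, hk1⟩
  apply hkext
  · rw [reassoc_of% hk1, hf, Scheme.homOfLE_ι_assoc]
  · rw [reassoc_of% hk2, hg'', Scheme.homOfLE_ι_assoc]

end main

section family

variable {S X Y : Scheme.{u}}

/-- **Extension over a set of points with the extension property.** -/
theorem exists_extension_of_forall_mem' (p : X ⟶ S) [IsSeparated p] [LocallyOfFiniteType p]
    (q : Y ⟶ S) [IsReduced Y] (P : Set Y)
    (hP : ∀ y ∈ P, (∃ W : Y.Opens, y ∈ W ∧ IsIntegral (W : Scheme.{u})) ∧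
      IsDomain (Y.presheaf.stalk y) ∧ ExtAt q p y)
    (V : Y.Opens) (hV : Dense (V : Set Y)) (g : (V : Scheme.{u}) ⟶ X) (hg : g ≫ p = V.ι ≫ q) :
    ∃ (U : Y.Opens) (hVU : V ≤ U) (g' : (U : Scheme.{u}) ⟶ X), g' ≫ p = U.ι ≫ q ∧
      Y.homOfLE hVU ≫ g' = g ∧ P ⊆ U := by
  -- local extensions
  have hloc : ∀ y : Y, y ∈ P →
      ∃ (U' : Y.Opens) (hUU' : V ≤ U'), y ∈ U' ∧
        ∃ f' : (U' : Scheme.{u}) ⟶ X, f' ≫ p = U'.ι ≫ q ∧ Y.homOfLE hUU' ≫ f' = g := by
    intro y hy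
    obtain ⟨⟨W, hyW, hW⟩, hdom, hext⟩ := hP y hy
    exact exists_extension_of_integral_nhd' q p y W hyW hdom hext V g hg
      (hV.closure_eq ▸ Set.mem_univ y)
  choose Uy hVUy hyUy fy hfy1 hfy2 using hloc
  -- the family
  let J := Option {y : Y // y ∈ P}
  let T : J → Y.Opens := fun j =>
    match j with
    | none => V
    | some y => Uy y.1 y.2
  have hVT : ∀ j, V ≤ T j := fun j =>
    match j with
    | none => le_rfl
    | some y => hVUy y.1 y.2
  let F : ∀ j, ((T j : Y.Opens) : Scheme.{u}) ⟶ X := fun j =>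
    match j with
    | none => g
    | some y => fy y.1 y.2
  have hF1 : ∀ j, F j ≫ p = (T j).ι ≫ q := fun j =>
    match j with
    | none => hg
    | some y => hfy1 y.1 y.2
  have hF2 : ∀ j, Y.homOfLE (hVT j) ≫ F j = g := fun j =>
    match j with
    | none => by simp [F, T]
    | some y => hfy2 y.1 y.2
  obtain ⟨k, hk⟩ := GlueOpens.exists_glue T F (by
    intro i j
    refine eq_of_dense p q V hV (T i ⊓ T j) (le_inf (hVT i) (hVT j)) _ _ ?_ ?_ ?_
    · rw [Category.assoc, hF1, Scheme.homOfLE_ι_assoc]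
    · rw [Category.assoc, hF1, Scheme.homOfLE_ι_assoc]
    · rw [Scheme.homOfLE_homOfLE_assoc, Scheme.homOfLE_homOfLE_assoc, hF2, hF2])
  refine ⟨⨆ j, T j, le_iSup T none, k, ?_, hk none, ?_⟩
  · apply GlueOpens.hom_ext_iSup T
    intro j
    rw [reassoc_of% hk j, hF1, Scheme.homOfLE_ι_assoc]
  · intro y hy
    exact TopologicalSpace.Opens.mem_iSup.mpr ⟨some ⟨y, hy⟩, hyUy y hy⟩

end family

end Groth.Agent.Lib.Helper75.NeronCrit
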