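import Mathlib
import Groth.Agent.Lib.Helper75.NeronCritC
import Groth.Agent.Lib.Helper75.NeronCritD
import Groth.Agent.Lib.Helper26.NeronProper

/-!
# The Néron mapping property from surjectivity on points of strictly henselian unramified
extensions (helper75)
-/

set_option autoImplicit false
set_option linter.style.haveILetI false
set_option linter.unusedSectionVars false
universe u
open CategoryTheory CategoryTheory.Limits AlgebraicGeometry IsLocalRing

namespace Groth.Agent.Lib.Helper75.NeronCrit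

open Groth.Agent.Lib.Helper26.SmoothDedekind Groth.Agent.Lib.Helper20

section

variable (R : Type u) [CommRing R] [IsDomain R] [IsDiscreteValuationRing R]

theorem genPt_bot : Neron.genPt R (⟨⊥, Ideal.isPrime_bot⟩ : PrimeSpectrum (FractionRing R)) =
    (⟨⊥, Ideal.isPrime_bot⟩ : PrimeSpectrum R) := by
  apply PrimeSpectrum.ext
  exact Ideal.comap_bot_of_injective _ (IsFractionRing.injective R (FractionRing R))

theorem eq_closedPoint_of_notMem_range (s : Spec (CommRingCat.of R))
    (hs : s ∉ Set.range (Neron.genPt R)) : s = closedPoint R := by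
  have h0 : s.asIdeal ≠ ⊥ := by
    intro h0
    apply hs
    refine ⟨(⟨⊥, Ideal.isPrime_bot⟩ : PrimeSpectrum (FractionRing R)), ?_⟩
    rw [genPt_bot]
    exact PrimeSpectrum.ext h0.symm
  have hmax : s.asIdeal.IsMaximal := Ideal.IsPrime.isMaximal s.isPrime h0
  exact PrimeSpectrum.ext (IsLocalRing.eq_maximalIdeal hmax)

/-- **Existence part of the Néron mapping property** from the criterion. -/
theorem nmp_exists_of_criterion
    (G : Over (Spec (CommRingCat.of R))) [GrpObj G] [Smooth G.hom] [IsSeparated G.hom]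
    (h : ∀ (R' : Type u) [CommRing R'] [IsDomain R'] [IsDiscreteValuationRing R'] [Algebra R R']
        [IsLocalHom (algebraMap R R')] [HenselianLocalRing R'] [IsSepClosed (IsLocalRing.ResidueField R')],
      (IsLocalRing.maximalIdeal R).map (algebraMap R R') = IsLocalRing.maximalIdeal R' →
      Algebra.IsGeometricallyReduced (IsLocalRing.ResidueField R) (IsLocalRing.ResidueField R') →
      ∀ x : Spec (CommRingCat.of (FractionRing R')) ⟶ G.left,
        x ≫ G.hom = Spec.map (CommRingCat.ofHom ((algebraMap R' (FractionRing R')).comp (algebraMap R R'))) →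
        ∃ y : Spec (CommRingCat.of R') ⟶ G.left, y ≫ G.hom = Spec.map (CommRingCat.ofHom (algebraMap R R')) ∧
          Spec.map (CommRingCat.ofHom (algebraMap R' (FractionRing R'))) ≫ y = x)
    {Y : Scheme.{u}} (pY : Y ⟶ Spec (CommRingCat.of R)) [Smooth pY]
    (φ : pullback pY (Neron.genPt R) ⟶ G.left)
    (hφ : φ ≫ G.hom = pullback.fst pY (Neron.genPt R) ≫ pY) :
    ∃ u : Y ⟶ G.left, u ≫ G.hom = pY ∧ pullback.fst pY (Neron.genPt R) ≫ u = φ := by
  haveI := isLocallyNoetherian_of_smooth_dedekind pY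
  haveI : IsReduced Y := isReduced_of_smooth_dedekind pY
  haveI : IsOpenImmersion (Neron.genPt R) := Groth.Agent.Lib.Helper69.DvrIso.isOpenImmersion_genPt R
  let U₀ : Y.Opens := (pullback.fst pY (Neron.genPt R)).opensRange
  let e₀ := (pullback.fst pY (Neron.genPt R)).isoOpensRange
  let f₀ : U₀.toScheme ⟶ G.left := e₀.inv ≫ φ
  have he₀ : e₀.inv ≫ pullback.fst pY (Neron.genPt R) = U₀.ι :=
    Scheme.Hom.isoOpensRange_inv_comp _
  have he₀' : e₀.hom ≫ U₀.ι = pullback.fst pY (Neron.genPt R) :=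
    Scheme.Hom.isoOpensRange_hom_ι _
  have hf₀ : f₀ ≫ G.hom = U₀.ι ≫ pY := by
    simp only [f₀, Category.assoc, hφ]
    rw [← Category.assoc, he₀]
  have hmem : ∀ y : Y, y ∈ U₀ ↔ pY y ∈ Set.range (Neron.genPt R) := by
    intro y
    change y ∈ Set.range (pullback.fst pY (Neron.genPt R)) ↔ _
    rw [Scheme.Pullback.range_fst]
    rfl
  -- density
  have hU₀ : Dense (U₀ : Set Y) := by
    intro y
    let e0 : Spec (CommRingCat.of R) := ⟨⊥, Ideal.isPrime_bot⟩
    have he0 : e0 ⤳ pY y :=
      (PrimeSpectrum.le_iff_specializes (R := R) e0 (pY y)).mp (bot_le (a := (pY y).asIdeal))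
    obtain ⟨y', hy', hy'2⟩ := Flat.generalizingMap pY he0
    have hy'U : y' ∈ U₀ := by
      rw [hmem, hy'2]
      exact ⟨_, genPt_bot R⟩
    exact closure_mono (Set.singleton_subset_iff.mpr hy'U) (specializes_iff_mem_closure.mp hy')
  -- extension in codimension one
  let P : Set Y := {x | x ∉ U₀ ∧ ¬ (2 : WithBot ℕ∞) ≤ ringKrullDim (Y.presheaf.stalk x)}
  obtain ⟨V, hUV, g, hg1, hg2, hPV⟩ := exists_extension_of_forall_mem' G.hom pY P (by
    rintro y ⟨hyU, hydim⟩
    obtain ⟨hd, hi⟩ := isNormal_stalk_of_smooth_dedekind pY y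
    refine ⟨ExtendVal.exists_integral_nhd_of_isGermInjectiveAt y, hd, ?_⟩
    intro ψK hψK
    have hyc : pY y = closedPoint R :=
      eq_closedPoint_of_notMem_range R _ (fun hr => hyU ((hmem y).mpr hr))
    exact exists_extension_stalk R pY G h y hyc hydim ψK hψK) U₀ hU₀ f₀ hf₀
  have hcodim : ∀ x : Y, x ∉ V → (2 : WithBot ℕ∞) ≤ ringKrullDim (Y.presheaf.stalk x) := by
    intro x hx
    by_contra hdim
    by_cases hxU : x ∈ U₀
    · exact hx (hUV hxU)
    · exact hx (hPV ⟨hxU, hdim⟩)
  haveI : GrpObj (Over.mk G.hom) := ‹GrpObj G›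
  obtain ⟨g0, ⟨hg01, hg02⟩, -⟩ :=
    Groth.Agent.Lib.Helper26.NeronProper.weil_extension_of_codim pY V hcodim G.hom g hg1
  refine ⟨g0, hg01, ?_⟩
  have e1 : pullback.fst pY (Neron.genPt R) = e₀.hom ≫ Y.homOfLE hUV ≫ V.ι := by
    rw [Scheme.homOfLE_ι, he₀']
  rw [e1, Category.assoc, Category.assoc, hg02, hg2]
  simp only [f₀]
  rw [Iso.hom_inv_id_assoc]

end

end Groth.Agent.Lib.Helper75.NeronCrit
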