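import Mathlib
import Groth.Agent.Lib.Helper2.StalkLimit
import Groth.Agent.S0591
import Groth.Agent.S9191
import Groth.Agent.S9218
import Groth.Agent.S9219

/-!
# The Néron mapping property localises to `Spec 𝒪_{S,s}` (helper75)

`NPinj U N t`, `NPsurj U N t`: injectivity / surjectivity of restriction to the preimage of `U`
for `S`-morphisms `T ⟶ N` (where `t : T ⟶ S`), phrased with the open subscheme `t ⁻¹ᵁ U`.
-/

set_option autoImplicit false
set_option linter.style.haveILetI false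
set_option linter.unusedSectionVars false
universe u

open CategoryTheory CategoryTheory.Limits AlgebraicGeometry Opposite

namespace Groth.Agent.Lib.Helper75.NeronLoc

variable {S : Scheme.{u}} (U : S.Opens) (N : Over S)

/-- Two `S`-morphisms `T ⟶ N` agreeing over `U` are equal. -/
def NPinj {T : Scheme.{u}} (t : T ⟶ S) : Prop :=
  ∀ f g : T ⟶ N.left, f ≫ N.hom = t → g ≫ N.hom = t →
    (t ⁻¹ᵁ U).ι ≫ f = (t ⁻¹ᵁ U).ι ≫ g → f = g

/-- Every `S`-morphism `T_U ⟶ N` extends to `T`. -/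
def NPsurj {T : Scheme.{u}} (t : T ⟶ S) : Prop :=
  ∀ h : (t ⁻¹ᵁ U).toScheme ⟶ N.left, h ≫ N.hom = (t ⁻¹ᵁ U).ι ≫ t →
    ∃ f : T ⟶ N.left, f ≫ N.hom = t ∧ (t ⁻¹ᵁ U).ι ≫ f = h

variable {U N}

lemma npinj_of_injective {Y : Over S}
    (h : Function.Injective (fun f : Y ⟶ N => (Over.pullback U.ι).map f)) :
    NPinj U N Y.hom := by
  intro f g hf hg hfg
  have key : (Over.pullback U.ι).map (Over.homMk f hf : Y ⟶ N) =
      (Over.pullback U.ι).map (Over.homMk g hg : Y ⟶ N) := by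
    ext
    simp only [Over.pullback_map_left, Over.homMk_left]
    congr 1
    rw [← cancel_epi (pullbackRestrictIsoRestrict Y.hom U).inv]
    simp only [pullbackRestrictIsoRestrict_inv_fst_assoc]
    exact hfg
  exact congrArg CommaMorphism.left (h key)

lemma npsurj_of_surjective {Y : Over S}
    (h : Function.Surjective (fun f : Y ⟶ N => (Over.pullback U.ι).map f)) :
    NPsurj U N Y.hom := by
  intro k hk
  let e := pullbackRestrictIsoRestrict Y.hom U
  have hcond : (e.hom ≫ k) ≫ N.hom = pullback.snd Y.hom U.ι ≫ U.ι := by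
    rw [Category.assoc, hk, ← pullback.condition]
    simp [e]
  let ko : (Over.pullback U.ι).obj Y ⟶ (Over.pullback U.ι).obj N :=
    Over.homMk (pullback.lift (e.hom ≫ k) (pullback.snd Y.hom U.ι) hcond)
      (pullback.lift_snd _ _ _)
  obtain ⟨fo, hfo⟩ := h ko
  refine ⟨fo.left, Over.w fo, ?_⟩
  have h1 := congrArg (fun φ => φ.left ≫ pullback.fst N.hom U.ι) hfo
  simp only [Over.pullback_map_left, ko, Over.homMk_left, pullback.lift_fst] at h1
  rw [← cancel_epi e.hom]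
  simpa [e] using h1

lemma NPinj.of_eq {T : Scheme.{u}} {t : T ⟶ S} (h : NPinj U N t) (W : T.Opens)
    (hW : W = t ⁻¹ᵁ U) (f g : T ⟶ N.left) (hf : f ≫ N.hom = t) (hg : g ≫ N.hom = t)
    (hfg : W.ι ≫ f = W.ι ≫ g) : f = g := by
  subst hW; exact h f g hf hg hfg

lemma NPsurj.of_eq {T : Scheme.{u}} {t : T ⟶ S} (h : NPsurj U N t) (W : T.Opens)
    (hW : W = t ⁻¹ᵁ U) (k : W.toScheme ⟶ N.left) (hk : k ≫ N.hom = W.ι ≫ t) :
    ∃ f : T ⟶ N.left, f ≫ N.hom = t ∧ W.ι ≫ f = k := by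
  subst hW; exact h k hk

lemma bijective_of_np {S' : Scheme.{u}} (j : S' ⟶ S) (Y' : Over S')
    (hinj : NPinj U N (Y'.hom ≫ j)) (hsurj : NPsurj U N (Y'.hom ≫ j)) :
    Function.Bijective (fun f : Y' ⟶ (Over.pullback j).obj N =>
      (Over.pullback (j ⁻¹ᵁ U).ι).map f) := by
  let W : Y'.left.Opens := Y'.hom ⁻¹ᵁ (j ⁻¹ᵁ U)
  have hW : W = (Y'.hom ≫ j) ⁻¹ᵁ U := (Scheme.Hom.comp_preimage _ _ _).symm
  let e := pullbackRestrictIsoRestrict Y'.hom (j ⁻¹ᵁ U)
  have he : e.inv ≫ pullback.fst Y'.hom (j ⁻¹ᵁ U).ι = W.ι :=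
    pullbackRestrictIsoRestrict_inv_fst _ _
  constructor
  · intro f g hfg
    have h1 := congrArg (fun φ => φ.left ≫ pullback.fst _ _) hfg
    simp only [Over.pullback_map_left, pullback.lift_fst] at h1
    have hf' : (f.left ≫ pullback.fst N.hom j) ≫ N.hom = Y'.hom ≫ j := by
      rw [Category.assoc, pullback.condition, ← Category.assoc]
      congr 1
      exact Over.w f
    have hg' : (g.left ≫ pullback.fst N.hom j) ≫ N.hom = Y'.hom ≫ j := by
      rw [Category.assoc, pullback.condition, ← Category.assoc]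
      congr 1
      exact Over.w g
    have h2 := hinj.of_eq W hW _ _ hf' hg' (by
      rw [← he]
      simp only [Category.assoc]
      rw [reassoc_of% h1])
    ext
    apply pullback.hom_ext h2
    exact (Over.w f).trans (Over.w g).symm
  · intro ko
    have hw : ko.left ≫ pullback.snd ((Over.pullback j).obj N).hom (j ⁻¹ᵁ U).ι =
        pullback.snd Y'.hom (j ⁻¹ᵁ U).ι := Over.w ko
    let k : W.toScheme ⟶ N.left :=
      e.inv ≫ ko.left ≫ pullback.fst _ _ ≫ pullback.fst N.hom j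
    have hk : k ≫ N.hom = W.ι ≫ Y'.hom ≫ j := by
      simp only [k, Category.assoc]
      rw [pullback.condition]
      have : pullback.fst ((Over.pullback j).obj N).hom (j ⁻¹ᵁ U).ι ≫ pullback.snd N.hom j =
          pullback.snd _ _ ≫ (j ⁻¹ᵁ U).ι := pullback.condition
      rw [reassoc_of% this, reassoc_of% hw, ← he, Category.assoc, pullback.condition_assoc]
    obtain ⟨f, hf, hfk⟩ := hsurj.of_eq W hW k hk
    refine ⟨Over.homMk (pullback.lift f Y'.hom hf) (pullback.lift_snd _ _ _), ?_⟩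
    ext
    simp only [Over.pullback_map_left, Over.homMk_left]
    apply pullback.hom_ext
    · rw [pullback.lift_fst]
      apply pullback.hom_ext
      · rw [Category.assoc, pullback.lift_fst, ← cancel_epi e.inv, reassoc_of% he, hfk]
        simp only [k, Category.assoc]
      · rw [Category.assoc, pullback.lift_snd]
        have : pullback.fst ((Over.pullback j).obj N).hom (j ⁻¹ᵁ U).ι ≫ pullback.snd N.hom j =
            pullback.snd _ _ ≫ (j ⁻¹ᵁ U).ι := pullback.condition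
        rw [Category.assoc, this]
        rw [reassoc_of% hw, pullback.condition]
    · rw [pullback.lift_snd]
      exact hw.symm

/-- `NPinj` is local on the source. -/
lemma NPinj.of_openCover {T : Scheme.{u}} (t : T ⟶ S) (𝒰 : T.OpenCover)
    (h : ∀ i, NPinj U N (𝒰.f i ≫ t)) : NPinj U N t := by
  intro f g hf hg hfg
  refine 𝒰.hom_ext _ _ fun i => ?_
  refine (h i).of_eq (𝒰.f i ⁻¹ᵁ (t ⁻¹ᵁ U)) (Scheme.Hom.comp_preimage _ _ _).symm _ _
    (by rw [Category.assoc, hf]) (by rw [Category.assoc, hg]) ?_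
  rw [← morphismRestrict_ι_assoc, ← morphismRestrict_ι_assoc, hfg]

lemma restrict_aux {T V V' Z : Scheme.{u}} (W : T.Opens) (k : W.toScheme ⟶ Z)
    (a : V ⟶ T) (b : V' ⟶ T) (c : V ⟶ V') (hcb : c ≫ b = a)
    (Wb : V'.Opens) (hb : Wb ≤ b ⁻¹ᵁ W) (Wa : V.Opens) (ha : Wa ≤ a ⁻¹ᵁ W)
    (hc : Wa ≤ c ⁻¹ᵁ Wb) (f' : V' ⟶ Z)
    (hf' : Wb.ι ≫ f' = b.resLE W Wb hb ≫ k) :
    Wa.ι ≫ c ≫ f' = a.resLE W Wa ha ≫ k := by
  subst hcb
  rw [← Scheme.Hom.resLE_comp_ι_assoc c hc, hf', ← Category.assoc, Scheme.Hom.resLE_comp_resLE]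

/-- `NPsurj` glues, given `NPinj` on the overlaps. -/
lemma NPsurj.of_openCover {T : Scheme.{u}} (t : T ⟶ S) (𝒰 : T.OpenCover)
    (hs : ∀ i, NPsurj U N (𝒰.f i ≫ t))
    (hi : ∀ i j, NPinj U N (pullback.fst (𝒰.f i) (𝒰.f j) ≫ 𝒰.f i ≫ t)) : NPsurj U N t := by
  intro k hk
  have hle : ∀ i, (𝒰.f i ≫ t) ⁻¹ᵁ U ≤ 𝒰.f i ⁻¹ᵁ (t ⁻¹ᵁ U) := fun i =>
    (Scheme.Hom.comp_preimage _ _ _).le
  have hex : ∀ i, ∃ f : 𝒰.X i ⟶ N.left, f ≫ N.hom = 𝒰.f i ≫ t ∧
      ((𝒰.f i ≫ t) ⁻¹ᵁ U).ι ≫ f = (𝒰.f i).resLE (t ⁻¹ᵁ U) _ (hle i) ≫ k := fun i =>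
    hs i ((𝒰.f i).resLE (t ⁻¹ᵁ U) _ (hle i) ≫ k) (by
      rw [Category.assoc, hk, Scheme.Hom.resLE_comp_ι_assoc])
  choose f hf hfk using hex
  have hcompat : ∀ i j,
      pullback.fst (𝒰.f i) (𝒰.f j) ≫ f i = pullback.snd (𝒰.f i) (𝒰.f j) ≫ f j := by
    intro i j
    have hpq : pullback.fst (𝒰.f i) (𝒰.f j) ≫ 𝒰.f i = pullback.snd (𝒰.f i) (𝒰.f j) ≫ 𝒰.f j :=
      pullback.condition
    refine hi i j _ _
      (by rw [Category.assoc, hf]) (by rw [Category.assoc, hf, ← Category.assoc, ← hpq,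
        Category.assoc]) ?_
    have hA : (pullback.fst (𝒰.f i) (𝒰.f j) ≫ 𝒰.f i ≫ t) ⁻¹ᵁ U ≤
        (pullback.fst (𝒰.f i) (𝒰.f j) ≫ 𝒰.f i) ⁻¹ᵁ (t ⁻¹ᵁ U) := by
      rw [← Scheme.Hom.comp_preimage, Category.assoc]
    rw [restrict_aux (t ⁻¹ᵁ U) k (pullback.fst (𝒰.f i) (𝒰.f j) ≫ 𝒰.f i) (𝒰.f i) _ rfl _ (hle i) _
        hA (by rw [← Scheme.Hom.comp_preimage]) (f i) (hfk i),
      restrict_aux (t ⁻¹ᵁ U) k (pullback.fst (𝒰.f i) (𝒰.f j) ≫ 𝒰.f i) (𝒰.f j) _ hpq.symm _ (hle j) _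
        hA (by rw [← Scheme.Hom.comp_preimage, ← reassoc_of% hpq])
        (f j) (hfk j)]
  refine ⟨𝒰.glueMorphisms f hcompat, ?_, ?_⟩
  · refine 𝒰.hom_ext _ _ fun i => ?_
    rw [𝒰.ι_glueMorphisms_assoc, hf]
  · refine Scheme.Cover.hom_ext (𝒰.pullback₁ (t ⁻¹ᵁ U).ι) _ _ fun (i : 𝒰.I₀) => ?_
    change pullback.fst (t ⁻¹ᵁ U).ι (𝒰.f i) ≫ (t ⁻¹ᵁ U).ι ≫ _ =
      pullback.fst (t ⁻¹ᵁ U).ι (𝒰.f i) ≫ k
    rw [pullback.condition_assoc, 𝒰.ι_glueMorphisms]
    have hpb : IsPullback ((𝒰.f i).resLE (t ⁻¹ᵁ U) _ (hle i)) ((𝒰.f i ≫ t) ⁻¹ᵁ U).ι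
        (t ⁻¹ᵁ U).ι (𝒰.f i) :=
      IsOpenImmersion.isPullback _ _ _ _ (Scheme.Hom.resLE_comp_ι _ _).symm (by
        rw [Scheme.Opens.opensRange_ι, Scheme.Opens.opensRange_ι, Scheme.Hom.comp_preimage])
    have e1 : pullback.snd (t ⁻¹ᵁ U).ι (𝒰.f i) =
        hpb.lift (pullback.fst (t ⁻¹ᵁ U).ι (𝒰.f i)) (pullback.snd (t ⁻¹ᵁ U).ι (𝒰.f i))
          pullback.condition ≫ ((𝒰.f i ≫ t) ⁻¹ᵁ U).ι := (hpb.lift_snd _ _ _).symm
    rw [e1, Category.assoc, hfk, ← Category.assoc, hpb.lift_fst]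

section Limit

open Groth.Agent.Lib.Helper2

variable (S) (s : S) (N)

instance instCompactD (i : StalkLimit.AffNhd S s) : CompactSpace ((StalkLimit.D S s).obj i) :=
  inferInstance

instance instQSD (i : StalkLimit.AffNhd S s) :
    QuasiSeparatedSpace ((StalkLimit.D S s).obj i) := inferInstance

instance instNoethD [IsLocallyNoetherian S] (i : StalkLimit.AffNhd S s) :
    IsNoetherian ((StalkLimit.D S s).obj i) := by
  have : IsNoetherianRing Γ(S, i.1) := IsLocallyNoetherian.component_noetherian ⟨i.1, i.2.1⟩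
  rw [StalkLimit.D_obj]
  infer_instance

/-- `Spec 𝒪_{S,s} ⟶ S` with source written as the cone point. -/
noncomputable def jj : (StalkLimit.cone S s).pt ⟶ S := S.fromSpecStalk s

lemma cone_π_toX (i : StalkLimit.AffNhd S s) :
    (StalkLimit.cone S s).π.app i ≫ StalkLimit.toX S s i = jj S s :=
  StalkLimit.cone_π_toX S s i

/-- the base change of `N` to the `i`-th stage. -/
noncomputable abbrev Ni (i : StalkLimit.AffNhd S s) : Scheme.{u} :=
  pullback N.hom (StalkLimit.toX S s i)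

noncomputable abbrev ni (i : StalkLimit.AffNhd S s) : Ni S N s i ⟶ (StalkLimit.D S s).obj i :=
  pullback.snd N.hom (StalkLimit.toX S s i)

variable [LocallyOfFinitePresentation N.hom] [QuasiCompact N.hom] [QuasiSeparated N.hom]

instance instCompactNi (i : StalkLimit.AffNhd S s) : CompactSpace (Ni S N s i) :=
  QuasiCompact.compactSpace_of_compactSpace (ni S N s i)

instance instQSNi (i : StalkLimit.AffNhd S s) : QuasiSeparatedSpace (Ni S N s i) :=
  quasiSeparatedSpace_of_quasiSeparated (ni S N s i)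

/-- General fullness: an `S`-morphism from a base change to the limit comes from a stage. -/
lemma exists_stage_hom (i : StalkLimit.AffNhd S s) {Xi X : Scheme.{u}}
    (xi : Xi ⟶ (StalkLimit.D S s).obj i) [CompactSpace Xi] [QuasiSeparatedSpace Xi]
    [LocallyOfFinitePresentation xi] (qX : X ⟶ Xi) (pX : X ⟶ (StalkLimit.cone S s).pt)
    (hX : IsPullback qX pX xi ((StalkLimit.cone S s).π.app i))
    (a : X ⟶ N.left) (ha : a ≫ N.hom = pX ≫ jj S s) :
    ∃ (k : StalkLimit.AffNhd S s) (φ : k ⟶ i)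
      (A : pullback xi ((StalkLimit.D S s).map φ) ⟶ N.left),
      A ≫ N.hom = pullback.snd xi ((StalkLimit.D S s).map φ) ≫ StalkLimit.toX S s k ∧
      ∀ (sX : X ⟶ pullback xi ((StalkLimit.D S s).map φ)),
        sX ≫ pullback.fst _ _ = qX → sX ≫ pullback.snd _ _ = pX ≫ (StalkLimit.cone S s).π.app k →
        sX ≫ A = a := by
  have hcond1 : a ≫ N.hom = (pX ≫ (StalkLimit.cone S s).π.app i) ≫ StalkLimit.toX S s i := by
    rw [ha, Category.assoc, cone_π_toX]
  let a1 : X ⟶ Ni S N s i := pullback.lift a (pX ≫ (StalkLimit.cone S s).π.app i) hcond1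
  let a2 : X ⟶ pullback (ni S N s i) ((StalkLimit.cone S s).π.app i) :=
    pullback.lift a1 pX (pullback.lift_snd _ _ _)
  obtain ⟨k, φ, fj, sX, sY, h1, h2, h3, h4, h5, h6⟩ :=
    Groth.Agent.S9218.result (StalkLimit.D S s) (StalkLimit.cone S s) (StalkLimit.isLimitCone S s)
      i xi (ni S N s i) qX pX hX (pullback.fst _ _) (pullback.snd _ _)
      (IsPullback.of_hasPullback (ni S N s i) ((StalkLimit.cone S s).π.app i)) a2
      (pullback.lift_snd _ _ _)
  refine ⟨k, φ, fj ≫ pullback.fst _ _ ≫ pullback.fst _ _, ?_, ?_⟩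
  · simp only [Category.assoc]
    rw [pullback.condition, pullback.condition_assoc, reassoc_of% h1, StalkLimit.D_map_toX]
  · intro sX' e1 e2
    have : sX' = sX := by
      apply pullback.hom_ext
      · rw [e1, h2]
      · rw [e2, h3]
    rw [this, reassoc_of% h6, reassoc_of% h4]
    simp only [a2, a1, pullback.lift_fst_assoc, pullback.lift_fst]

/-- General faithfulness. -/
lemma exists_stage_eq (i : StalkLimit.AffNhd S s) {Xi X : Scheme.{u}}
    (xi : Xi ⟶ (StalkLimit.D S s).obj i) [CompactSpace Xi] [QuasiSeparatedSpace Xi]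
    [LocallyOfFinitePresentation xi] (qX : X ⟶ Xi) (pX : X ⟶ (StalkLimit.cone S s).pt)
    (hX : IsPullback qX pX xi ((StalkLimit.cone S s).π.app i))
    (A B : Xi ⟶ N.left) (hA : A ≫ N.hom = xi ≫ StalkLimit.toX S s i)
    (hB : B ≫ N.hom = xi ≫ StalkLimit.toX S s i) (hAB : qX ≫ A = qX ≫ B) :
    ∃ (k : StalkLimit.AffNhd S s) (φ : k ⟶ i),
      pullback.fst xi ((StalkLimit.D S s).map φ) ≫ A =
        pullback.fst xi ((StalkLimit.D S s).map φ) ≫ B := by
  let A1 : Xi ⟶ Ni S N s i := pullback.lift A xi hA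
  let B1 : Xi ⟶ Ni S N s i := pullback.lift B xi hB
  obtain ⟨k, φ, h⟩ :=
    Groth.Agent.S9219.result (StalkLimit.D S s) (StalkLimit.cone S s) (StalkLimit.isLimitCone S s)
      i xi (ni S N s i) qX pX hX A1 B1 (pullback.lift_snd _ _ _) (pullback.lift_snd _ _ _) (by
        apply pullback.hom_ext
        · simp only [A1, B1, Category.assoc, pullback.lift_fst, hAB]
        · simp only [A1, B1, Category.assoc, pullback.lift_snd])
  refine ⟨k, φ, ?_⟩
  have := congrArg (fun ψ => ψ ≫ pullback.fst N.hom (StalkLimit.toX S s i)) h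
  simpa only [A1, B1, Category.assoc, pullback.lift_fst] using this

/-- A smooth finite-stage model of `t' : Y' ⟶ Spec 𝒪_{S,s}`. -/
structure Model {Y' : Scheme.{u}} (t' : Y' ⟶ (StalkLimit.cone S s).pt) where
  i : StalkLimit.AffNhd S s
  Y : Scheme.{u}
  y : Y ⟶ (StalkLimit.D S s).obj i
  q : Y' ⟶ Y
  pb : IsPullback q t' y ((StalkLimit.cone S s).π.app i)
  smooth : Smooth y
  qc : QuasiCompact y
  qs : QuasiSeparated y

namespace Model

variable {S s} {Y' : Scheme.{u}} {t' : Y' ⟶ (StalkLimit.cone S s).pt} (M : Model S s t')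

attribute [instance] Model.smooth Model.qc Model.qs

instance : CompactSpace M.Y := QuasiCompact.compactSpace_of_compactSpace M.y
instance : QuasiSeparatedSpace M.Y := quasiSeparatedSpace_of_quasiSeparated M.y

lemma q_y_toX : M.q ≫ M.y ≫ StalkLimit.toX S s M.i = t' ≫ jj S s := by
  rw [← Category.assoc, M.pb.w, Category.assoc, cone_π_toX]

/-- base change of a model to a later stage. -/
@[reducible] noncomputable def bc {k : StalkLimit.AffNhd S s} (φ : k ⟶ M.i) : Model S s t' where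
  i := k
  Y := pullback M.y ((StalkLimit.D S s).map φ)
  y := pullback.snd _ _
  q := pullback.lift M.q (t' ≫ (StalkLimit.cone S s).π.app k) (by
    rw [M.pb.w, Category.assoc, (StalkLimit.cone S s).w])
  pb := by
    refine IsPullback.of_right ?_ (pullback.lift_snd _ _ _)
      (IsPullback.of_hasPullback M.y ((StalkLimit.D S s).map φ))
    rw [pullback.lift_fst, (StalkLimit.cone S s).w]
    exact M.pb
  smooth := inferInstance
  qc := inferInstance
  qs := inferInstance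

@[simp] lemma bc_q_fst {k : StalkLimit.AffNhd S s} (φ : k ⟶ M.i) :
    (M.bc φ).q ≫ pullback.fst M.y ((StalkLimit.D S s).map φ) = M.q :=
  pullback.lift_fst _ _ _

lemma bc_q_snd {k : StalkLimit.AffNhd S s} (φ : k ⟶ M.i) :
    (M.bc φ).q ≫ pullback.snd M.y ((StalkLimit.D S s).map φ) =
      t' ≫ (StalkLimit.cone S s).π.app k :=
  pullback.lift_snd _ _ _

end Model

/-- Existence of a smooth model. -/
lemma exists_model {Y' : Scheme.{u}} (t' : Y' ⟶ (StalkLimit.cone S s).pt) [Smooth t']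
    [QuasiCompact t'] [QuasiSeparated t'] : Nonempty (Model S s t') := by
  obtain ⟨i, Xi, fi, g, hfi1, hfi2, hfi3, hpb⟩ :=
    Groth.Agent.S0591.result (StalkLimit.D S s) (StalkLimit.cone S s) (StalkLimit.isLimitCone S s)
      Y' t'
  have : CompactSpace Xi := QuasiCompact.compactSpace_of_compactSpace fi
  have : QuasiSeparatedSpace Xi := quasiSeparatedSpace_of_quasiSeparated fi
  obtain ⟨i', φ, Xi', Yi', fi', gi, pY, pX, h2, h1, hsm⟩ :=
    Groth.Agent.S9191.result (StalkLimit.D S s) (StalkLimit.cone S s) (StalkLimit.isLimitCone S s)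
      i fi (𝟙 _) t' (𝟙 _) ((StalkLimit.cone S s).π.app i) g
      (IsPullback.of_vert_isIso ⟨by simp⟩) hpb
  have hbig : IsPullback pX (fi' ≫ gi) fi ((StalkLimit.D S s).map φ) := by
    have := h1.paste_vert h2
    rwa [Category.comp_id] at this
  have : IsIso gi := h2.isIso_snd_of_isIso
  refine ⟨{ i := i', Y := Xi', y := fi' ≫ gi,
            q := hbig.lift g (t' ≫ (StalkLimit.cone S s).π.app i') (by
              rw [hpb.w, Category.assoc, (StalkLimit.cone S s).w])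
            pb := ?_, smooth := inferInstance,
            qc := MorphismProperty.of_isPullback hbig hfi2,
            qs := MorphismProperty.of_isPullback hbig hfi3 }⟩
  refine IsPullback.of_right ?_ (hbig.lift_snd _ _ _) hbig
  rw [hbig.lift_fst, (StalkLimit.cone S s).w]
  exact hpb

namespace Model

variable {S s} {Y' : Scheme.{u}} {t' : Y' ⟶ (StalkLimit.cone S s).pt} (M : Model S s t')
variable (U)

/-- the preimage of `U` in a model. -/
noncomputable abbrev W : M.Y.Opens := (M.y ≫ StalkLimit.toX S s M.i) ⁻¹ᵁ U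

lemma le_W : (t' ≫ jj S s) ⁻¹ᵁ U ≤ M.q ⁻¹ᵁ (M.W U) := by
  rw [← Scheme.Hom.comp_preimage, M.q_y_toX]

lemma bc_W_le {k : StalkLimit.AffNhd S s} (φ : k ⟶ M.i) :
    (M.bc φ).W U ≤ pullback.fst M.y ((StalkLimit.D S s).map φ) ⁻¹ᵁ (M.W U) := by
  rw [← Scheme.Hom.comp_preimage]
  have : pullback.fst M.y ((StalkLimit.D S s).map φ) ≫ M.y ≫ StalkLimit.toX S s M.i =
      (M.bc φ).y ≫ StalkLimit.toX S s k := by
    rw [pullback.condition_assoc, StalkLimit.D_map_toX]
  rw [this]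

variable [IsLocallyNoetherian S]

instance : IsNoetherian M.Y where
  toIsLocallyNoetherian := LocallyOfFiniteType.isLocallyNoetherian M.y
  toCompactSpace := inferInstance

instance : CompactSpace (M.W U).toScheme :=
  isCompact_iff_compactSpace.mp (TopologicalSpace.NoetherianSpace.isCompact _)

instance : QuasiSeparatedSpace (M.W U).toScheme :=
  quasiSeparatedSpace_of_quasiSeparated (M.W U).ι

/-- the restriction of a model to the preimage of `U` is a pullback datum. -/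
lemma isPullback_W :
    IsPullback (M.q.resLE (M.W U) ((t' ≫ jj S s) ⁻¹ᵁ U) (M.le_W U))
      (((t' ≫ jj S s) ⁻¹ᵁ U).ι ≫ t') ((M.W U).ι ≫ M.y) ((StalkLimit.cone S s).π.app M.i) := by
  refine IsPullback.paste_vert ?_ M.pb
  refine IsOpenImmersion.isPullback _ _ _ _ (Scheme.Hom.resLE_comp_ι _ _).symm ?_
  rw [Scheme.Opens.opensRange_ι, Scheme.Opens.opensRange_ι, ← Scheme.Hom.comp_preimage,
    M.q_y_toX]

/-- the comparison map from the preimage of `U` in a base-changed model to the base change of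
the preimage. -/
noncomputable def ψ {k : StalkLimit.AffNhd S s} (φ : k ⟶ M.i) :
    ((M.bc φ).W U).toScheme ⟶ pullback ((M.W U).ι ≫ M.y) ((StalkLimit.D S s).map φ) :=
  pullback.lift ((pullback.fst M.y ((StalkLimit.D S s).map φ)).resLE _ _ (M.bc_W_le U φ))
    (((M.bc φ).W U).ι ≫ pullback.snd M.y ((StalkLimit.D S s).map φ)) (by
      rw [Scheme.Hom.resLE_comp_ι_assoc, Category.assoc, pullback.condition])

lemma ψ_fst {k : StalkLimit.AffNhd S s} (φ : k ⟶ M.i) :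
    M.ψ U φ ≫ pullback.fst _ _ ≫ (M.W U).ι =
      ((M.bc φ).W U).ι ≫ pullback.fst M.y ((StalkLimit.D S s).map φ) := by
  unfold ψ
  rw [pullback.lift_fst_assoc, Scheme.Hom.resLE_comp_ι]

lemma ψ_snd {k : StalkLimit.AffNhd S s} (φ : k ⟶ M.i) :
    M.ψ U φ ≫ pullback.snd _ _ =
      ((M.bc φ).W U).ι ≫ pullback.snd M.y ((StalkLimit.D S s).map φ) :=
  pullback.lift_snd _ _ _

variable {U}

/-- faithfulness over `U`. -/
lemma exists_eq_U (F G : M.Y ⟶ N.left) (hF : F ≫ N.hom = M.y ≫ StalkLimit.toX S s M.i)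
    (hG : G ≫ N.hom = M.y ≫ StalkLimit.toX S s M.i)
    (h : ((t' ≫ jj S s) ⁻¹ᵁ U).ι ≫ M.q ≫ F = ((t' ≫ jj S s) ⁻¹ᵁ U).ι ≫ M.q ≫ G) :
    ∃ (k : StalkLimit.AffNhd S s) (φ : k ⟶ M.i),
      ((M.bc φ).W U).ι ≫ pullback.fst M.y ((StalkLimit.D S s).map φ) ≫ F =
        ((M.bc φ).W U).ι ≫ pullback.fst M.y ((StalkLimit.D S s).map φ) ≫ G := by
  obtain ⟨k, φ, hk⟩ := exists_stage_eq S N s M.i ((M.W U).ι ≫ M.y) _ _ (M.isPullback_W U)
    ((M.W U).ι ≫ F) ((M.W U).ι ≫ G) (by rw [Category.assoc, hF, Category.assoc])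
    (by rw [Category.assoc, hG, Category.assoc]) (by
      rw [Scheme.Hom.resLE_comp_ι_assoc, Scheme.Hom.resLE_comp_ι_assoc, h])
  refine ⟨k, φ, ?_⟩
  rw [← reassoc_of% (M.ψ_fst U φ), ← reassoc_of% (M.ψ_fst U φ), hk]

/-- fullness over `U`. -/
lemma exists_hom_U (h : ((t' ≫ jj S s) ⁻¹ᵁ U).toScheme ⟶ N.left)
    (hh : h ≫ N.hom = ((t' ≫ jj S s) ⁻¹ᵁ U).ι ≫ t' ≫ jj S s) :
    ∃ (k : StalkLimit.AffNhd S s) (φ : k ⟶ M.i) (H : ((M.bc φ).W U).toScheme ⟶ N.left),
      H ≫ N.hom = ((M.bc φ).W U).ι ≫ (M.bc φ).y ≫ StalkLimit.toX S s k ∧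
      (M.bc φ).q.resLE _ _ ((M.bc φ).le_W U) ≫ H = h := by
  obtain ⟨k, φ, A, hA, hA'⟩ := exists_stage_hom S N s M.i ((M.W U).ι ≫ M.y) _ _
    (M.isPullback_W U) h (by rw [hh, Category.assoc])
  refine ⟨k, φ, M.ψ U φ ≫ A, ?_, ?_⟩
  · rw [Category.assoc, hA, reassoc_of% (M.ψ_snd U φ)]
  · rw [← Category.assoc]
    apply hA'
    · rw [← cancel_mono (M.W U).ι, Category.assoc, Category.assoc, M.ψ_fst U φ,
        Scheme.Hom.resLE_comp_ι_assoc, Scheme.Hom.resLE_comp_ι, M.bc_q_fst]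
    · rw [Category.assoc, M.ψ_snd U φ, Scheme.Hom.resLE_comp_ι_assoc, Category.assoc]
      congr 1
      exact M.bc_q_snd φ

/-- fullness. -/
lemma exists_hom (f : Y' ⟶ N.left) (hf : f ≫ N.hom = t' ≫ jj S s) :
    ∃ (k : StalkLimit.AffNhd S s) (φ : k ⟶ M.i) (F : (M.bc φ).Y ⟶ N.left),
      F ≫ N.hom = (M.bc φ).y ≫ StalkLimit.toX S s k ∧ (M.bc φ).q ≫ F = f := by
  obtain ⟨k, φ, A, hA, hA'⟩ := exists_stage_hom S N s M.i M.y M.q t' M.pb f hf
  exact ⟨k, φ, A, hA, hA' _ (M.bc_q_fst φ) (M.bc_q_snd φ)⟩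

end Model

variable {S s} [IsLocallyNoetherian S] {N}

theorem npinj_of_model (hN : ∀ {T : Scheme.{u}} (t : T ⟶ S), Smooth t → NPinj U N t)
    {Y' : Scheme.{u}} {t' : Y' ⟶ (StalkLimit.cone S s).pt} (M₀ : Model S s t') :
    NPinj U N (t' ≫ jj S s) := by
  intro f g hf hg hfg
  obtain ⟨k₁, φ₁, F₁, hF₁, hF₁'⟩ := M₀.exists_hom N f hf
  obtain ⟨k₂, φ₂, G₂, hG₂, hG₂'⟩ := (M₀.bc φ₁).exists_hom N g hg
  let F₂ : ((M₀.bc φ₁).bc φ₂).Y ⟶ N.left := pullback.fst _ _ ≫ F₁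
  have hF₂ : F₂ ≫ N.hom = ((M₀.bc φ₁).bc φ₂).y ≫ StalkLimit.toX S s k₂ := by
    simp only [F₂, Category.assoc, hF₁]
    rw [pullback.condition_assoc, StalkLimit.D_map_toX]
  have hF₂' : ((M₀.bc φ₁).bc φ₂).q ≫ F₂ = f := by
    rw [← Category.assoc, Model.bc_q_fst, hF₁']
  obtain ⟨k₃, φ₃, h3⟩ := ((M₀.bc φ₁).bc φ₂).exists_eq_U N F₂ G₂ hF₂ hG₂ (by
    rw [hF₂', hG₂', hfg])
  have key := hN ((((M₀.bc φ₁).bc φ₂).bc φ₃).y ≫ StalkLimit.toX S s k₃) inferInstance
    (pullback.fst _ _ ≫ F₂) (pullback.fst _ _ ≫ G₂)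
    (by rw [Category.assoc, hF₂, pullback.condition_assoc, StalkLimit.D_map_toX])
    (by rw [Category.assoc, hG₂, pullback.condition_assoc, StalkLimit.D_map_toX]) h3
  calc f = (((M₀.bc φ₁).bc φ₂).bc φ₃).q ≫ pullback.fst _ _ ≫ F₂ := by
        rw [← Category.assoc, Model.bc_q_fst, hF₂']
    _ = (((M₀.bc φ₁).bc φ₂).bc φ₃).q ≫ pullback.fst _ _ ≫ G₂ := by rw [key]
    _ = g := by rw [← Category.assoc, Model.bc_q_fst, hG₂']

theorem npsurj_of_model (hN : ∀ {T : Scheme.{u}} (t : T ⟶ S), Smooth t → NPsurj U N t)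
    {Y' : Scheme.{u}} {t' : Y' ⟶ (StalkLimit.cone S s).pt} (M₀ : Model S s t') :
    NPsurj U N (t' ≫ jj S s) := by
  intro h hh
  obtain ⟨k, φ, H, hH, hH'⟩ := M₀.exists_hom_U N h hh
  obtain ⟨F, hF, hF'⟩ := hN ((M₀.bc φ).y ≫ StalkLimit.toX S s k) inferInstance H hH
  refine ⟨(M₀.bc φ).q ≫ F, ?_, ?_⟩
  · rw [Category.assoc, hF, Model.q_y_toX]
  · rw [← hH', ← hF', Scheme.Hom.resLE_comp_ι_assoc]

end Limit

section Main

open Groth.Agent.Lib.Helper2

/-- The Néron mapping property localises to `Spec 𝒪_{S,s}`. -/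
theorem neronMappingProperty_specStalk [IsLocallyNoetherian S] (U : S.Opens)
    (N : Over S) [Smooth N.hom] [IsSeparated N.hom] [QuasiCompact N.hom]
    (hN : ∀ Y : Over S, Smooth Y.hom →
      Function.Bijective (fun f : Y ⟶ N => (Over.pullback U.ι).map f))
    (s : S) (Y' : Over (Spec (S.presheaf.stalk s))) [Smooth Y'.hom] :
    Function.Bijective (fun f : Y' ⟶ (Over.pullback (S.fromSpecStalk s)).obj N =>
      (Over.pullback ((S.fromSpecStalk s) ⁻¹ᵁ U).ι).map f) := by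
  have hinjS : ∀ {T : Scheme.{u}} (t : T ⟶ S), Smooth t → NPinj U N t := fun t ht =>
    npinj_of_injective (Y := Over.mk t) (hN (Over.mk t) ht).1
  have hsurjS : ∀ {T : Scheme.{u}} (t : T ⟶ S), Smooth t → NPsurj U N t := fun t ht =>
    npsurj_of_surjective (Y := Over.mk t) (hN (Over.mk t) ht).2
  have hinj : ∀ {T : Scheme.{u}} (t' : T ⟶ (StalkLimit.cone S s).pt), Smooth t' →
      NPinj U N (t' ≫ jj S s) := by
    intro T t' ht'
    refine NPinj.of_openCover _ T.affineCover fun i => ?_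
    rw [← Category.assoc]
    have : IsAffine (StalkLimit.cone S s).pt := by
      rw [StalkLimit.cone_pt]; infer_instance
    obtain ⟨M⟩ := exists_model S s (T.affineCover.f i ≫ t')
    exact npinj_of_model hinjS M
  have hsurj : ∀ {T : Scheme.{u}} (t' : T ⟶ (StalkLimit.cone S s).pt), Smooth t' →
      NPsurj U N (t' ≫ jj S s) := by
    intro T t' ht'
    refine NPsurj.of_openCover _ T.affineCover (fun i => ?_) (fun i j => ?_)
    · rw [← Category.assoc]
      have : IsAffine (StalkLimit.cone S s).pt := by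
        rw [StalkLimit.cone_pt]; infer_instance
      obtain ⟨M⟩ := exists_model S s (T.affineCover.f i ≫ t')
      exact npsurj_of_model hsurjS M
    · have := hinj (pullback.fst (T.affineCover.f i) (T.affineCover.f j) ≫
        T.affineCover.f i ≫ t') inferInstance
      simpa only [Category.assoc] using this
  have hsm : Smooth Y'.hom := inferInstance
  exact bijective_of_np (jj S s) Y' (hinj Y'.hom hsm) (hsurj Y'.hom hsm)

end Main

end Groth.Agent.Lib.Helper75.NeronLoc
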