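import Mathlib
import Groth.Agent.Lib.Helper75.NeronLoc
import Groth.Agent.Lib.Helper14.FpqcExt
import Groth.Agent.S3844
import Groth.Agent.Lib.Helper54.GenericPt

/-!
# The Néron mapping property descends along flat surjective base change (helper75)
-/

set_option autoImplicit false
set_option linter.style.haveILetI false
set_option linter.unusedSectionVars false
universe u

open CategoryTheory CategoryTheory.Limits AlgebraicGeometry Opposite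

namespace Groth.Agent.Lib.Helper75.NeronFlat

open Groth.Agent.Lib.Helper75.NeronLoc Groth.Agent.Lib.Helper2

variable {S : Scheme.{u}} {U : S.Opens} {N : Over S}

/-- `NPinj` for flat `T ⟶ S` from schematic density. -/
lemma npinj_of_flat [IsLocallyNoetherian S] (hU : CInt.IsSchematicallyDense U)
    [IsSeparated N.hom] {T : Scheme.{u}} (t : T ⟶ S) [Flat t] : NPinj U N t := by
  intro f g hf hg hfg
  exact Groth.Agent.Lib.Helper14.ext_of_schematicallyDense_of_isSeparated N.hom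
    (hf.trans hg.symm) (t ⁻¹ᵁ U) (Groth.Agent.S3844.result t U hU) hfg

/-- converse of `npinj_of_injective` / `npsurj_of_surjective`. -/
lemma bijective_of_np_id (Y : Over S) (hinj : NPinj U N Y.hom) (hsurj : NPsurj U N Y.hom) :
    Function.Bijective (fun f : Y ⟶ N => (Over.pullback U.ι).map f) := by
  let e := pullbackRestrictIsoRestrict Y.hom U
  have he : e.inv ≫ pullback.fst Y.hom U.ι = (Y.hom ⁻¹ᵁ U).ι :=
    pullbackRestrictIsoRestrict_inv_fst _ _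
  constructor
  · intro f g hfg
    have h1 := congrArg (fun φ => φ.left ≫ pullback.fst _ _) hfg
    simp only [Over.pullback_map_left, pullback.lift_fst] at h1
    have h2 := hinj f.left g.left (Over.w f) (Over.w g) (by
      rw [← he, Category.assoc, Category.assoc, h1])
    ext
    exact h2
  · intro ko
    have hw : ko.left ≫ pullback.snd N.hom U.ι = pullback.snd Y.hom U.ι := Over.w ko
    let k : (Y.hom ⁻¹ᵁ U).toScheme ⟶ N.left := e.inv ≫ ko.left ≫ pullback.fst N.hom U.ι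
    have hk : k ≫ N.hom = (Y.hom ⁻¹ᵁ U).ι ≫ Y.hom := by
      simp only [k, Category.assoc]
      rw [pullback.condition, reassoc_of% hw, ← he, Category.assoc, pullback.condition]
    obtain ⟨f, hf, hfk⟩ := hsurj k hk
    refine ⟨Over.homMk f hf, ?_⟩
    ext
    simp only [Over.pullback_map_left, Over.homMk_left]
    apply pullback.hom_ext
    · rw [pullback.lift_fst, ← cancel_epi e.inv, reassoc_of% he, hfk]
    · rw [pullback.lift_snd]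
      exact hw.symm

/-- `NPsurj` over `S` from surjectivity after base change. -/
lemma npsurj_of_surjective_bc {S' : Scheme.{u}} (j : S' ⟶ S) (Y' : Over S')
    (h : Function.Surjective (fun f : Y' ⟶ (Over.pullback j).obj N =>
      (Over.pullback (j ⁻¹ᵁ U).ι).map f)) : NPsurj U N (Y'.hom ≫ j) := by
  intro k hk
  let W : Y'.left.Opens := Y'.hom ⁻¹ᵁ (j ⁻¹ᵁ U)
  have hW : W ≤ (Y'.hom ≫ j) ⁻¹ᵁ U := (Scheme.Hom.comp_preimage _ _ _).ge
  have hW' : (Y'.hom ≫ j) ⁻¹ᵁ U ≤ W := (Scheme.Hom.comp_preimage _ _ _).le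
  let e := pullbackRestrictIsoRestrict Y'.hom (j ⁻¹ᵁ U)
  have he : e.hom ≫ W.ι = pullback.fst Y'.hom (j ⁻¹ᵁ U).ι :=
    pullbackRestrictIsoRestrict_hom_ι _ _
  have he' : e.inv ≫ pullback.fst Y'.hom (j ⁻¹ᵁ U).ι = W.ι :=
    pullbackRestrictIsoRestrict_inv_fst _ _
  let k' : pullback Y'.hom (j ⁻¹ᵁ U).ι ⟶ N.left := e.hom ≫ Y'.left.homOfLE hW ≫ k
  have hk' : k' ≫ N.hom = (pullback.fst _ _ ≫ Y'.hom) ≫ j := by
    simp only [k', Category.assoc, hk]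
    rw [Scheme.homOfLE_ι_assoc, reassoc_of% he]
  let k1 : pullback Y'.hom (j ⁻¹ᵁ U).ι ⟶ pullback N.hom j :=
    pullback.lift k' (pullback.fst _ _ ≫ Y'.hom) hk'
  let ko : (Over.pullback (j ⁻¹ᵁ U).ι).obj Y' ⟶
      (Over.pullback (j ⁻¹ᵁ U).ι).obj ((Over.pullback j).obj N) :=
    Over.homMk (pullback.lift k1 (pullback.snd Y'.hom (j ⁻¹ᵁ U).ι) (by
      simp only [k1, Over.pullback_obj_hom, pullback.lift_snd]
      exact pullback.condition)) (pullback.lift_snd _ _ _)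
  obtain ⟨fo, hfo⟩ := h ko
  refine ⟨fo.left ≫ pullback.fst N.hom j, ?_, ?_⟩
  · rw [Category.assoc, pullback.condition, ← Category.assoc]
    congr 1
    exact Over.w fo
  · have h1 := congrArg (fun φ => φ.left ≫ pullback.fst _ _ ≫ pullback.fst N.hom j) hfo
    simp only [Over.pullback_map_left, ko, Over.homMk_left, pullback.lift_fst_assoc, k1,
      pullback.lift_fst] at h1
    -- h1 : pullback.fst ≫ fo.left ≫ fst = k'
    rw [Category.assoc] at h1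
    have h2 : W.ι ≫ fo.left ≫ pullback.fst N.hom j = Y'.left.homOfLE hW ≫ k := by
      rw [← he', Category.assoc, h1]
      simp only [k', Iso.inv_hom_id_assoc]
    have h3 : ((Y'.hom ≫ j) ⁻¹ᵁ U).ι = Y'.left.homOfLE hW' ≫ W.ι :=
      (Scheme.homOfLE_ι _ _).symm
    rw [h3, Category.assoc, h2, Scheme.homOfLE_homOfLE_assoc, Scheme.homOfLE_rfl]
    exact Category.id_comp k

/-- Gluing local extensions of a fixed `k`, given `NPinj` on the overlaps. -/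
lemma exists_of_openCover_local {T : Scheme.{u}} (t : T ⟶ S) (𝒰 : T.OpenCover)
    (k : (t ⁻¹ᵁ U).toScheme ⟶ N.left) (_hk : k ≫ N.hom = (t ⁻¹ᵁ U).ι ≫ t)
    (hex : ∀ i, ∃ f : 𝒰.X i ⟶ N.left, f ≫ N.hom = 𝒰.f i ≫ t ∧
      ((𝒰.f i ≫ t) ⁻¹ᵁ U).ι ≫ f = (𝒰.f i).resLE (t ⁻¹ᵁ U) _
        (Scheme.Hom.comp_preimage _ _ _).le ≫ k)
    (hi : ∀ i j, NPinj U N (pullback.fst (𝒰.f i) (𝒰.f j) ≫ 𝒰.f i ≫ t)) :
    ∃ f : T ⟶ N.left, f ≫ N.hom = t ∧ (t ⁻¹ᵁ U).ι ≫ f = k := by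
  have hle : ∀ i, (𝒰.f i ≫ t) ⁻¹ᵁ U ≤ 𝒰.f i ⁻¹ᵁ (t ⁻¹ᵁ U) := fun i =>
    (Scheme.Hom.comp_preimage _ _ _).le
  choose f hf hfk using hex
  have hcompat : ∀ i j,
      pullback.fst (𝒰.f i) (𝒰.f j) ≫ f i = pullback.snd (𝒰.f i) (𝒰.f j) ≫ f j := by
    intro i j
    have hpq : pullback.fst (𝒰.f i) (𝒰.f j) ≫ 𝒰.f i = pullback.snd (𝒰.f i) (𝒰.f j) ≫ 𝒰.f j :=
      pullback.condition
    refine hi i j _ _
      (by rw [Category.assoc, hf]) (by rw [Category.assoc, hf, ← Category.assoc, ← hpq,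
        Category.assoc]) ?_
    have hA : (pullback.fst (𝒰.f i) (𝒰.f j) ≫ 𝒰.f i ≫ t) ⁻¹ᵁ U ≤
        (pullback.fst (𝒰.f i) (𝒰.f j) ≫ 𝒰.f i) ⁻¹ᵁ (t ⁻¹ᵁ U) := by
      rw [← Scheme.Hom.comp_preimage, Category.assoc]
    rw [restrict_aux (t ⁻¹ᵁ U) k (pullback.fst (𝒰.f i) (𝒰.f j) ≫ 𝒰.f i) (𝒰.f i) _ rfl _ (hle i) _
        hA (by rw [← Scheme.Hom.comp_preimage]) (f i) (hfk i),
      restrict_aux (t ⁻¹ᵁ U) k (pullback.fst (𝒰.f i) (𝒰.f j) ≫ 𝒰.f i) (𝒰.f j) _ hpq.symm _ (hle j) _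
        hA (by rw [← Scheme.Hom.comp_preimage, ← reassoc_of% hpq])
        (f j) (hfk j)]
  refine ⟨𝒰.glueMorphisms f hcompat, ?_, ?_⟩
  · refine 𝒰.hom_ext _ _ fun i => ?_
    rw [𝒰.ι_glueMorphisms_assoc, hf]
  · refine Scheme.Cover.hom_ext (𝒰.pullback₁ (t ⁻¹ᵁ U).ι) _ _ fun (i : 𝒰.I₀) => ?_
    change pullback.fst (t ⁻¹ᵁ U).ι (𝒰.f i) ≫ (t ⁻¹ᵁ U).ι ≫ _ =
      pullback.fst (t ⁻¹ᵁ U).ι (𝒰.f i) ≫ k
    rw [pullback.condition_assoc, 𝒰.ι_glueMorphisms]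
    have hpb : IsPullback ((𝒰.f i).resLE (t ⁻¹ᵁ U) _ (hle i)) ((𝒰.f i ≫ t) ⁻¹ᵁ U).ι
        (t ⁻¹ᵁ U).ι (𝒰.f i) :=
      IsOpenImmersion.isPullback _ _ _ _ (Scheme.Hom.resLE_comp_ι _ _).symm (by
        rw [Scheme.Opens.opensRange_ι, Scheme.Opens.opensRange_ι, Scheme.Hom.comp_preimage])
    have e1 : pullback.snd (t ⁻¹ᵁ U).ι (𝒰.f i) =
        hpb.lift (pullback.fst (t ⁻¹ᵁ U).ι (𝒰.f i)) (pullback.snd (t ⁻¹ᵁ U).ι (𝒰.f i))
          pullback.condition ≫ ((𝒰.f i ≫ t) ⁻¹ᵁ U).ι := (hpb.lift_snd _ _ _).symm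
    rw [e1, Category.assoc, hfk, ← Category.assoc, hpb.lift_fst]

section Phi

variable [IsLocallyNoetherian S] (hU : CInt.IsSchematicallyDense U) [IsSeparated N.hom]
  {Y Y' : Scheme.{u}} (y : Y ⟶ S) [Flat y] (pr : Y' ⟶ Y) [Flat pr]
  (h : (y ⁻¹ᵁ U).toScheme ⟶ N.left) (hh : h ≫ N.hom = (y ⁻¹ᵁ U).ι ≫ y)
  (F' : Y' ⟶ N.left) (hF' : F' ≫ N.hom = pr ≫ y)
  (hF'h : (pr ⁻¹ᵁ (y ⁻¹ᵁ U)).ι ≫ F' = (pr ∣_ (y ⁻¹ᵁ U)) ≫ h)

lemma faithfullyFlat_stalkMap (y0' : Y') : (pr.stalkMap y0').hom.FaithfullyFlat := by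
  algebraize [(pr.stalkMap y0').hom]
  have : Module.FaithfullyFlat (Y.presheaf.stalk (pr y0')) (Y'.presheaf.stalk y0') :=
    @Module.FaithfullyFlat.of_flat_of_isLocalHom _ _ _ _ _ _ _
      (Flat.stalkMap pr y0') (pr.toLRSHom.prop y0')
  exact ‹RingHom.FaithfullyFlat _›

include hU hh hF' hF'h in
/-- fpqc descent of `F'` to the local ring of `Y` at `pr y0'`. -/
theorem exists_phi (y0' : Y') :
    ∃ φ : Spec (Y.presheaf.stalk (pr y0')) ⟶ N.left,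
      φ ≫ N.hom = Y.fromSpecStalk (pr y0') ≫ y ∧
      ((Y.fromSpecStalk (pr y0')) ⁻¹ᵁ (y ⁻¹ᵁ U)).ι ≫ φ =
        (Y.fromSpecStalk (pr y0') ∣_ (y ⁻¹ᵁ U)) ≫ h := by
  let f : Spec (Y'.presheaf.stalk y0') ⟶ Spec (Y.presheaf.stalk (pr y0')) :=
    Spec.map (pr.stalkMap y0')
  have hnat : f ≫ Y.fromSpecStalk (pr y0') = Y'.fromSpecStalk y0' ≫ pr :=
    Scheme.SpecMap_stalkMap_fromSpecStalk pr
  have hfs := (flat_and_surjective_SpecMap_iff (pr.stalkMap y0')).mpr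
    (faithfullyFlat_stalkMap pr y0')
  haveI : Flat f := hfs.1
  haveI : Surjective f := hfs.2
  haveI : Flat (Y.fromSpecStalk (pr y0')) := Groth.Agent.Lib.Helper54.flat_fromSpecStalk _ _
  let UX : (Spec (Y.presheaf.stalk (pr y0'))).Opens := (Y.fromSpecStalk (pr y0')) ⁻¹ᵁ (y ⁻¹ᵁ U)
  have hdense : CInt.IsSchematicallyDense ((pullback.fst f f) ⁻¹ᵁ (f ⁻¹ᵁ UX)) := by
    have := Groth.Agent.S3844.result (pullback.fst f f ≫ f ≫ Y.fromSpecStalk (pr y0') ≫ y) U hU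
    simpa only [Scheme.Hom.comp_preimage] using this
  have hle : f ⁻¹ᵁ UX ≤ (Y'.fromSpecStalk y0') ⁻¹ᵁ (pr ⁻¹ᵁ (y ⁻¹ᵁ U)) := by
    have e1 : f ⁻¹ᵁ ((Y.fromSpecStalk (pr y0')) ⁻¹ᵁ (y ⁻¹ᵁ U)) =
        (f ≫ Y.fromSpecStalk (pr y0')) ⁻¹ᵁ (y ⁻¹ᵁ U) := (Scheme.Hom.comp_preimage _ _ _).symm
    have e2 : (Y'.fromSpecStalk y0') ⁻¹ᵁ (pr ⁻¹ᵁ (y ⁻¹ᵁ U)) =
        (Y'.fromSpecStalk y0' ≫ pr) ⁻¹ᵁ (y ⁻¹ᵁ U) := (Scheme.Hom.comp_preimage _ _ _).symm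
    rw [e2, ← hnat]
    exact e1.le
  obtain ⟨φ, hφ1, hφ2⟩ := Groth.Agent.Lib.Helper14.extends_of_extends_after_faithfullyFlat
    (Y.fromSpecStalk (pr y0') ≫ y) N.hom f UX hdense
    ((Y.fromSpecStalk (pr y0') ∣_ (y ⁻¹ᵁ U)) ≫ h)
    (by rw [Category.assoc, hh, morphismRestrict_ι_assoc])
    (Y'.fromSpecStalk y0' ≫ F')
    (by rw [Category.assoc, hF', ← Category.assoc, ← hnat, Category.assoc])
    (by
      rw [← Scheme.Hom.resLE_comp_ι_assoc (Y'.fromSpecStalk y0') hle, hF'h, ← Category.assoc,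
        ← Category.assoc]
      congr 1
      rw [← cancel_mono (y ⁻¹ᵁ U).ι, Category.assoc, Category.assoc, morphismRestrict_ι,
        Scheme.Hom.resLE_comp_ι_assoc, morphismRestrict_ι, morphismRestrict_ι_assoc, hnat])
  exact ⟨φ, hφ2, hφ1⟩

end Phi

section Stage

variable [LocallyOfFinitePresentation N.hom] [QuasiCompact N.hom] [QuasiSeparated N.hom]
  {Y : Scheme.{u}} [IsLocallyNoetherian Y] (y : Y ⟶ S)
  (h : (y ⁻¹ᵁ U).toScheme ⟶ N.left) (hh : h ≫ N.hom = (y ⁻¹ᵁ U).ι ≫ y)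
  (y0 : Y) (φ : Spec (Y.presheaf.stalk y0) ⟶ N.left)
  (hφ1 : φ ≫ N.hom = Y.fromSpecStalk y0 ≫ y)
  (hφ2 : ((Y.fromSpecStalk y0) ⁻¹ᵁ (y ⁻¹ᵁ U)).ι ≫ φ = (Y.fromSpecStalk y0 ∣_ (y ⁻¹ᵁ U)) ≫ h)

include hh hφ1 hφ2 in
/-- A morphism from the local ring agreeing with `h` over `U` comes from an affine neighbourhood,
still agreeing with `h` over `U`. -/
theorem exists_stage : ∃ (k : StalkLimit.AffNhd Y y0) (f : (StalkLimit.D Y y0).obj k ⟶ N.left),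
    f ≫ N.hom = StalkLimit.toX Y y0 k ≫ y ∧
    ((StalkLimit.toX Y y0 k ≫ y) ⁻¹ᵁ U).ι ≫ f =
      (StalkLimit.toX Y y0 k).resLE (y ⁻¹ᵁ U) _ (Scheme.Hom.comp_preimage _ _ _).le ≫ h := by
  obtain ⟨V, hy0V, φV, hφV1, hφV2⟩ := spread_out_of_isGermInjective' y N.hom φ hφ1
  obtain ⟨i, hi⟩ := StalkLimit.exists_le Y y0 V hy0V
  let ti := StalkLimit.toX Y y0 i
  have hrange : Set.range ti ⊆ Set.range V.ι := by
    rw [StalkLimit.range_toX, Scheme.Opens.range_ι]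
    exact hi
  let ai : (StalkLimit.D Y y0).obj i ⟶ V.toScheme := IsOpenImmersion.lift V.ι ti hrange
  have hai : ai ≫ V.ι = ti := IsOpenImmersion.lift_fac _ _ _
  let Ai : (StalkLimit.D Y y0).obj i ⟶ N.left := ai ≫ φV
  have hAi : Ai ≫ N.hom = ti ≫ y := by
    simp only [Ai, Category.assoc, hφV2]
    rw [reassoc_of% hai]
  let πi : Spec (Y.presheaf.stalk y0) ⟶ (StalkLimit.D Y y0).obj i :=
    (StalkLimit.cone Y y0).π.app i
  have hπt : πi ≫ ti = Y.fromSpecStalk y0 := StalkLimit.cone_π_toX Y y0 i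
  have hπ : πi ≫ Ai = φ := by
    rw [hφV1]
    simp only [Ai, ← Category.assoc]
    congr 1
    rw [← cancel_mono V.ι, Category.assoc, hai, Scheme.Opens.fromSpecStalkOfMem_ι]
    exact hπt
  -- the base change of `N` to `Y`
  let NY : Over Y := Over.mk (pullback.snd N.hom y)
  haveI : LocallyOfFinitePresentation NY.hom :=
    inferInstanceAs (LocallyOfFinitePresentation (pullback.snd N.hom y))
  haveI : QuasiCompact NY.hom := inferInstanceAs (QuasiCompact (pullback.snd N.hom y))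
  haveI : QuasiSeparated NY.hom := inferInstanceAs (QuasiSeparated (pullback.snd N.hom y))
  let Wi : ((StalkLimit.D Y y0).obj i).Opens := ti ⁻¹ᵁ (y ⁻¹ᵁ U)
  haveI : CompactSpace Wi.toScheme :=
    isCompact_iff_compactSpace.mp (TopologicalSpace.NoetherianSpace.isCompact _)
  let A : Wi.toScheme ⟶ NY.left := pullback.lift (Wi.ι ≫ Ai) (Wi.ι ≫ ti) (by
    rw [Category.assoc, hAi, Category.assoc])
  let B : Wi.toScheme ⟶ NY.left := pullback.lift ((ti ∣_ (y ⁻¹ᵁ U)) ≫ h) (Wi.ι ≫ ti) (by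
    rw [Category.assoc, hh, morphismRestrict_ι_assoc, Category.assoc])
  have hA : A ≫ NY.hom = Wi.ι ≫ StalkLimit.toX Y y0 i := pullback.lift_snd _ _ _
  have hB : B ≫ NY.hom = Wi.ι ≫ StalkLimit.toX Y y0 i := pullback.lift_snd _ _ _
  have hAB : pullback.fst Wi.ι πi ≫ A = pullback.fst Wi.ι πi ≫ B := by
    set qX := pullback.fst Wi.ι πi with hqX
    set pX := pullback.snd Wi.ι πi with hpX
    have hcond : qX ≫ Wi.ι = pX ≫ πi := pullback.condition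
    have hrg : Set.range pX ⊆ Set.range ((Y.fromSpecStalk y0) ⁻¹ᵁ (y ⁻¹ᵁ U)).ι := by
      rw [Scheme.Opens.range_ι]
      rintro _ ⟨x, rfl⟩
      change (Y.fromSpecStalk y0) (pX x) ∈ y ⁻¹ᵁ U
      rw [← hπt, ← Scheme.Hom.comp_apply, ← Category.assoc, ← hcond, Category.assoc,
        Scheme.Hom.comp_apply]
      exact (qX x).2
    let ℓ := IsOpenImmersion.lift ((Y.fromSpecStalk y0) ⁻¹ᵁ (y ⁻¹ᵁ U)).ι pX hrg
    have hℓ : ℓ ≫ ((Y.fromSpecStalk y0) ⁻¹ᵁ (y ⁻¹ᵁ U)).ι = pX := IsOpenImmersion.lift_fac _ _ _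
    have hℓ2 : ℓ ≫ (Y.fromSpecStalk y0 ∣_ (y ⁻¹ᵁ U)) = qX ≫ (ti ∣_ (y ⁻¹ᵁ U)) := by
      rw [← cancel_mono (y ⁻¹ᵁ U).ι, Category.assoc, Category.assoc, morphismRestrict_ι,
        morphismRestrict_ι, reassoc_of% hℓ, reassoc_of% hcond, hπt]
    apply pullback.hom_ext
    · simp only [A, B, Category.assoc, pullback.lift_fst]
      rw [reassoc_of% hcond, hπ, ← hℓ, Category.assoc, hφ2, reassoc_of% hℓ2]
    · simp only [A, B, Category.assoc, pullback.lift_snd]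
  obtain ⟨k, φk, hk⟩ := exists_stage_eq Y NY y0 i Wi.ι _ _
    (IsPullback.of_hasPullback Wi.ι πi) A B hA hB hAB
  have hk' := congrArg (fun ψ => ψ ≫ pullback.fst N.hom y) hk
  simp only [A, B, Category.assoc, pullback.lift_fst] at hk'
  let tk := StalkLimit.toX Y y0 k
  have htk : (StalkLimit.D Y y0).map φk ≫ ti = tk := StalkLimit.D_map_toX Y y0 φk
  refine ⟨k, (StalkLimit.D Y y0).map φk ≫ Ai, ?_, ?_⟩
  · rw [Category.assoc, hAi, reassoc_of% htk]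
  · have hle' : (tk ≫ y) ⁻¹ᵁ U ≤ ((StalkLimit.D Y y0).map φk) ⁻¹ᵁ Wi := by
      have e1 : ((StalkLimit.D Y y0).map φk) ⁻¹ᵁ (ti ⁻¹ᵁ (y ⁻¹ᵁ U)) =
          ((StalkLimit.D Y y0).map φk ≫ ti) ⁻¹ᵁ (y ⁻¹ᵁ U) :=
        (Scheme.Hom.comp_preimage _ _ _).symm
      change _ ≤ ((StalkLimit.D Y y0).map φk) ⁻¹ᵁ (ti ⁻¹ᵁ (y ⁻¹ᵁ U))
      rw [e1, htk]
      exact (Scheme.Hom.comp_preimage _ _ _).le
    let m : ((tk ≫ y) ⁻¹ᵁ U).toScheme ⟶ pullback Wi.ι ((StalkLimit.D Y y0).map φk) :=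
      pullback.lift (((StalkLimit.D Y y0).map φk).resLE Wi _ hle') ((tk ≫ y) ⁻¹ᵁ U).ι
        (Scheme.Hom.resLE_comp_ι _ _)
    have hm := congrArg (fun ψ => m ≫ ψ) hk'
    simp only [m, pullback.lift_fst_assoc] at hm
    rw [Scheme.Hom.resLE_comp_ι_assoc] at hm
    rw [hm, ← Category.assoc]
    congr 1
    rw [← cancel_mono (y ⁻¹ᵁ U).ι, Category.assoc, morphismRestrict_ι,
      Scheme.Hom.resLE_comp_ι_assoc, Scheme.Hom.resLE_comp_ι, htk]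

end Stage

/-- **Descent of the Néron mapping property along flat surjective base change** (existence part),
in `NP` form. -/
theorem npsurj_of_flat_surjective [IsLocallyNoetherian S] (hU : CInt.IsSchematicallyDense U)
    [Smooth N.hom] [IsSeparated N.hom] [QuasiCompact N.hom]
    {S' : Scheme.{u}} (g : S' ⟶ S) [Flat g] [Surjective g]
    (hN' : ∀ {T' : Scheme.{u}} (t' : T' ⟶ S'), Smooth t' → NPsurj U N (t' ≫ g))
    {Y : Scheme.{u}} (y : Y ⟶ S) [Smooth y] : NPsurj U N y := by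
  intro h hh
  haveI : IsLocallyNoetherian Y := LocallyOfFiniteType.isLocallyNoetherian y
  let pr := pullback.fst y g
  let t' := pullback.snd y g
  have hpt : pr ≫ y = t' ≫ g := pullback.condition
  have hle : (t' ≫ g) ⁻¹ᵁ U ≤ pr ⁻¹ᵁ (y ⁻¹ᵁ U) := by
    rw [← hpt]
    exact (Scheme.Hom.comp_preimage _ _ _).le
  have hge : pr ⁻¹ᵁ (y ⁻¹ᵁ U) ≤ (t' ≫ g) ⁻¹ᵁ U := by
    rw [← hpt]
    exact (Scheme.Hom.comp_preimage _ _ _).ge
  obtain ⟨F', hF'1, hF'2⟩ := hN' t' inferInstance (pr.resLE (y ⁻¹ᵁ U) ((t' ≫ g) ⁻¹ᵁ U) hle ≫ h)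
    (by rw [Category.assoc, hh, Scheme.Hom.resLE_comp_ι_assoc, hpt])
  have hF'h : (pr ⁻¹ᵁ (y ⁻¹ᵁ U)).ι ≫ F' = (pr ∣_ (y ⁻¹ᵁ U)) ≫ h := by
    have e : (pr ⁻¹ᵁ (y ⁻¹ᵁ U)).ι = (pullback y g).homOfLE hge ≫ ((t' ≫ g) ⁻¹ᵁ U).ι :=
      (Scheme.homOfLE_ι _ _).symm
    rw [e, Category.assoc, hF'2, ← Category.assoc]
    congr 1
    rw [← cancel_mono (y ⁻¹ᵁ U).ι, Category.assoc, Scheme.Hom.resLE_comp_ι,
      Scheme.homOfLE_ι_assoc, morphismRestrict_ι]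
  have hloc : ∀ y0 : Y, ∃ (k : StalkLimit.AffNhd Y y0)
      (f : (StalkLimit.D Y y0).obj k ⟶ N.left),
      f ≫ N.hom = StalkLimit.toX Y y0 k ≫ y ∧
      ((StalkLimit.toX Y y0 k ≫ y) ⁻¹ᵁ U).ι ≫ f =
        (StalkLimit.toX Y y0 k).resLE (y ⁻¹ᵁ U) _ (Scheme.Hom.comp_preimage _ _ _).le ≫ h := by
    intro y0
    obtain ⟨y0', rfl⟩ := pr.surjective y0
    obtain ⟨φ, hφ1, hφ2⟩ := exists_phi hU y pr h hh F' (hF'1.trans hpt.symm) hF'h y0'
    exact exists_stage y h hh (pr y0') φ hφ1 hφ2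
  choose k f hf1 hf2 using hloc
  let 𝒰 : Y.OpenCover := Scheme.Cover.mkOfCovers Y (fun y0 => (StalkLimit.D Y y0).obj (k y0))
    (fun y0 => StalkLimit.toX Y y0 (k y0)) (fun x => by
      have hx : x ∈ Set.range (StalkLimit.toX Y x (k x)) := by
        rw [StalkLimit.range_toX]
        exact (k x).2.2
      obtain ⟨z, hz⟩ := hx
      exact ⟨x, z, hz⟩)
  exact exists_of_openCover_local y 𝒰 h hh (fun i => ⟨f i, hf1 i, hf2 i⟩)
    (fun i j => npinj_of_flat hU _)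

/-- **The Néron mapping property descends along flat surjective base change.** -/
theorem bijective_of_flat_surjective [IsLocallyNoetherian S] (hU : CInt.IsSchematicallyDense U)
    [Smooth N.hom] [IsSeparated N.hom] [QuasiCompact N.hom]
    {S' : Scheme.{u}} (g : S' ⟶ S) [Flat g] [Surjective g]
    (hN' : ∀ Y' : Over S', Smooth Y'.hom →
      Function.Bijective (fun f : Y' ⟶ (Over.pullback g).obj N =>
        (Over.pullback (g ⁻¹ᵁ U).ι).map f))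
    (Y : Over S) [Smooth Y.hom] :
    Function.Bijective (fun f : Y ⟶ N => (Over.pullback U.ι).map f) := by
  refine bijective_of_np_id Y (npinj_of_flat hU Y.hom) ?_
  refine npsurj_of_flat_surjective hU g (fun {T'} t' ht' => ?_) Y.hom
  exact npsurj_of_surjective_bc g (Over.mk t') (hN' (Over.mk t') ht').2
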