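import Groth.Agent.Lib.Helper75.RigGeom

/-!
# The rigidity lemma over an arbitrary base (helper75)

`g : X ⟶ T` proper, flat, locally of finite presentation with `κ(t) = H⁰(X_t, O)` for all `t`
(e.g. geometrically connected and geometrically reduced fibres), `f : X ⟶ Y` any morphism. Then

* `exists_local_factor`: if `f` collapses the fibre over `t`, then `f` factors through `g` over a
  neighbourhood of `t`;
* `isOpen_collapsed`, `isClosed_collapsed` (the latter for `Y` separated over a base of `T`);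
* `exists_factor`: factorization over any open inside the collapsed locus.
-/

set_option autoImplicit false
universe u

open CategoryTheory Limits AlgebraicGeometry TopologicalSpace

namespace Groth.Agent.Lib.Helper75.RigGenMain

open Groth.Agent.Lib.Helper75.RigMain Groth.Agent.Lib.Helper75.RigNbhd
  Groth.Agent.Lib.Helper75.AAOpen

section Factor

variable {T X Y : Scheme.{u}} (g : X ⟶ T) (f : X ⟶ Y)

/-- a morphism into an affine scheme factors through `g` if `O_T(T) ≅ O_X(X)` -/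
theorem exists_factor_of_isAffine [IsAffine Y] (h : IsIso g.appTop) : ∃ k : T ⟶ Y, f = g ≫ k := by
  refine ⟨T.toSpecΓ ≫ Spec.map (f.appTop ≫ inv g.appTop) ≫ Y.isoSpec.inv, ?_⟩
  have e1 : g ≫ T.toSpecΓ = X.toSpecΓ ≫ Spec.map g.appTop := Scheme.toSpecΓ_naturality g
  have e2 : Spec.map g.appTop ≫ Spec.map (f.appTop ≫ inv g.appTop) = Spec.map f.appTop := by
    rw [← Spec.map_comp, Category.assoc, IsIso.inv_hom_id, Category.comp_id]
  have e3 : X.toSpecΓ ≫ Spec.map f.appTop = f ≫ Y.toSpecΓ := (Scheme.toSpecΓ_naturality f).symm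
  calc f = f ≫ Y.toSpecΓ ≫ Y.isoSpec.inv := by
        rw [Scheme.toSpecΓ_isoSpec_inv, Category.comp_id]
    _ = X.toSpecΓ ≫ Spec.map f.appTop ≫ Y.isoSpec.inv := by
        rw [← Category.assoc, ← e3, Category.assoc]
    _ = X.toSpecΓ ≫ (Spec.map g.appTop ≫ Spec.map (f.appTop ≫ inv g.appTop)) ≫ Y.isoSpec.inv := by
        rw [e2]
    _ = (g ≫ T.toSpecΓ) ≫ Spec.map (f.appTop ≫ inv g.appTop) ≫ Y.isoSpec.inv := by
        rw [e1, Category.assoc, Category.assoc]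
    _ = g ≫ T.toSpecΓ ≫ Spec.map (f.appTop ≫ inv g.appTop) ≫ Y.isoSpec.inv := by
        rw [Category.assoc]

/-- if `f` collapses the fibre over `t`, it factors through `g` over a neighbourhood of `t` -/
theorem exists_local_factor [IsProper g] [Flat g] [LocallyOfFinitePresentation g]
    (h0 : ∀ t, FibH0 g t) (t : T) (ht : t ∈ collapsed g f) :
    ∃ W : T.Opens, t ∈ W ∧ ∃ k : (W : Scheme.{u}) ⟶ Y, (g ⁻¹ᵁ W).ι ≫ f = (g ∣_ W) ≫ k := by
  obtain ⟨y, hy⟩ := ht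
  obtain ⟨U, hU, hyU⟩ : ∃ U : Y.Opens, IsAffineOpen U ∧ y ∈ U := by
    obtain ⟨_, ⟨U, hU, rfl⟩, hyU, -⟩ :=
      Y.isBasis_affineOpens.exists_subset_of_mem_open (Set.mem_univ y) isOpen_univ
    exact ⟨U, hU, hyU⟩
  have hcl : IsClosed (g.base '' ((f ⁻¹ᵁ U : Set X)ᶜ)) :=
    g.isClosedMap _ (f ⁻¹ᵁ U).isOpen.isClosed_compl
  let W : T.Opens := ⟨(g.base '' ((f ⁻¹ᵁ U : Set X)ᶜ))ᶜ, hcl.isOpen_compl⟩
  have htW : t ∈ W := by
    rintro ⟨x, hx, hxt⟩
    apply hx
    show f.base x ∈ U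
    rw [hy x hxt]
    exact hyU
  have hWU : g ⁻¹ᵁ W ≤ f ⁻¹ᵁ U := by
    intro x hx
    by_contra hcon
    exact hx ⟨x, hcon, rfl⟩
  refine ⟨W, htW, ?_⟩
  have hAff : IsAffine (U : Scheme.{u}) := hU
  have hrange : Set.range ((g ⁻¹ᵁ W).ι ≫ f).base ⊆ Set.range U.ι.base := by
    rintro _ ⟨x, rfl⟩
    rw [Scheme.Opens.range_ι]
    exact hWU x.2
  let fW : (g ⁻¹ᵁ W : Scheme.{u}) ⟶ U := IsOpenImmersion.lift U.ι ((g ⁻¹ᵁ W).ι ≫ f) hrange
  have hfW : fW ≫ U.ι = (g ⁻¹ᵁ W).ι ≫ f := IsOpenImmersion.lift_fac _ _ _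
  have h1 : ∀ s : (W : Scheme.{u}), FibH0 (g ∣_ W) s := fun s =>
    RigGenIso.fibH0_morphismRestrict g W s (h0 _)
  have hiso : IsIso (g ∣_ W).appTop := RigGenIso.isIso_app_of_forall_fibH0 (g ∣_ W) h1 ⊤
  obtain ⟨k', hk'⟩ := exists_factor_of_isAffine (g ∣_ W) fW hiso
  refine ⟨k' ≫ U.ι, ?_⟩
  rw [← Category.assoc, ← hk', hfW]

/-- local factorization gives local equality of the two pullbacks to `X ×_T X` -/
theorem locEq_of_factor (W : T.Opens) (k : (W : Scheme.{u}) ⟶ Y)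
    (hk : (g ⁻¹ᵁ W).ι ≫ f = (g ∣_ W) ≫ k) (z : ↥(pullback g g))
    (hz : (pullback.fst g g ≫ g).base z ∈ W) :
    LocEq (pullback.fst g g ≫ f) (pullback.snd g g ≫ f) z := by
  let O : (pullback g g).Opens := (pullback.fst g g ≫ g) ⁻¹ᵁ W
  have h1 : Set.range (O.ι ≫ pullback.fst g g).base ⊆ Set.range (g ⁻¹ᵁ W).ι.base := by
    rintro _ ⟨w, rfl⟩
    rw [Scheme.Opens.range_ι]
    have := w.2
    exact this
  have h2 : Set.range (O.ι ≫ pullback.snd g g).base ⊆ Set.range (g ⁻¹ᵁ W).ι.base := by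
    rintro _ ⟨w, rfl⟩
    rw [Scheme.Opens.range_ι]
    have hw : (pullback.fst g g ≫ g).base w.1 ∈ W := w.2
    rw [pullback.condition] at hw
    exact hw
  let φ₁ := IsOpenImmersion.lift (g ⁻¹ᵁ W).ι (O.ι ≫ pullback.fst g g) h1
  let φ₂ := IsOpenImmersion.lift (g ⁻¹ᵁ W).ι (O.ι ≫ pullback.snd g g) h2
  have hφ₁ : φ₁ ≫ (g ⁻¹ᵁ W).ι = O.ι ≫ pullback.fst g g := IsOpenImmersion.lift_fac _ _ _
  have hφ₂ : φ₂ ≫ (g ⁻¹ᵁ W).ι = O.ι ≫ pullback.snd g g := IsOpenImmersion.lift_fac _ _ _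
  have hφ : φ₁ ≫ (g ∣_ W) = φ₂ ≫ (g ∣_ W) := by
    rw [← cancel_mono W.ι, Category.assoc, Category.assoc, morphismRestrict_ι, ← Category.assoc,
      ← Category.assoc, hφ₁, hφ₂, Category.assoc, Category.assoc, pullback.condition]
  refine ⟨O, hz, ?_⟩
  rw [← Category.assoc, ← hφ₁, Category.assoc, hk, ← Category.assoc, hφ, Category.assoc, ← hk,
    ← Category.assoc, hφ₂, Category.assoc]

theorem locEq_of_collapsed [IsProper g] [Flat g] [LocallyOfFinitePresentation g]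
    (h0 : ∀ t, FibH0 g t) (z : ↥(pullback g g))
    (hz : (pullback.fst g g ≫ g).base z ∈ collapsed g f) :
    LocEq (pullback.fst g g ≫ f) (pullback.snd g g ≫ f) z := by
  obtain ⟨W, htW, k, hk⟩ := exists_local_factor g f h0 _ hz
  exact locEq_of_factor g f W k hk z htW

/-- a factorization over `W` shows `W ⊆ collapsed` -/
theorem subset_collapsed_of_factor (W : T.Opens) (k : (W : Scheme.{u}) ⟶ Y)
    (hk : (g ⁻¹ᵁ W).ι ≫ f = (g ∣_ W) ≫ k) : (W : Set T) ⊆ collapsed g f := by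
  intro t' ht'
  refine ⟨k.base ⟨t', ht'⟩, fun x hx => ?_⟩
  have hxW : x ∈ g ⁻¹ᵁ W := by
    show g.base x ∈ W
    rw [hx]; exact ht'
  let x' : (g ⁻¹ᵁ W).toScheme := ⟨x, hxW⟩
  have h1 := congrArg (fun φ : (g ⁻¹ᵁ W : Scheme.{u}) ⟶ Y => φ.base x') hk
  simp only [Scheme.Hom.comp_apply] at h1
  have h2 : (g ∣_ W).base x' = ⟨t', ht'⟩ := by
    apply Subtype.ext
    exact (morphismRestrict_base_coe g W x').trans hx
  rw [h2] at h1
  exact h1

theorem isOpen_collapsed [IsProper g] [Flat g] [LocallyOfFinitePresentation g]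
    (h0 : ∀ t, FibH0 g t) : IsOpen (collapsed g f) := by
  rw [isOpen_iff_forall_mem_open]
  intro t ht
  obtain ⟨W, htW, k, hk⟩ := exists_local_factor g f h0 t ht
  exact ⟨W, subset_collapsed_of_factor g f W k hk, W.isOpen, htW⟩

theorem isClosed_collapsed [IsProper g] [Flat g] [LocallyOfFinitePresentation g]
    (h0 : ∀ t, FibH0 g t) {S : Scheme.{u}} (q : Y ⟶ S) [IsSeparated q] (p : T ⟶ S)
    (hf : f ≫ q = g ≫ p) : IsClosed (collapsed g f) := by
  have hq : (pullback.fst g g ≫ f) ≫ q = (pullback.snd g g ≫ f) ≫ q := by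
    rw [Category.assoc, Category.assoc, hf, pullback.condition_assoc]
  have hπ : IsOpenMap (pullback.fst g g ≫ g).base := (pullback.fst g g ≫ g).isOpenMap
  have hsub : (pullback.fst g g ≫ g).base ⁻¹' (collapsed g f) ⊆
      RigTop.E (pullback.fst g g ≫ f) (pullback.snd g g ≫ f) q hq := by
    intro z hz
    exact RigTop.mem_E_of_locEq _ _ q hq z (locEq_of_collapsed g f h0 z hz)
  rw [← closure_subset_iff_isClosed]
  intro t ht
  obtain ⟨x₀, hx₀⟩ := nonempty_fibre g t (h0 t)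
  refine ⟨f.base x₀, fun x hx => ?_⟩
  obtain ⟨z, hz1, hz2⟩ := Scheme.Pullback.exists_preimage_pullback (f := g) (g := g) x₀ x
    (hx₀.trans hx.symm)
  have hzt : (pullback.fst g g ≫ g).base z = t := by
    rw [Scheme.Hom.comp_apply, hz1, hx₀]
  have hzcl : z ∈ closure ((pullback.fst g g ≫ g).base ⁻¹' (collapsed g f)) :=
    hπ.preimage_closure_subset_closure_preimage (by
      show (pullback.fst g g ≫ g).base z ∈ closure (collapsed g f)
      rw [hzt]; exact ht)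
  have hzE : z ∈ RigTop.E (pullback.fst g g ≫ f) (pullback.snd g g ≫ f) q hq :=
    (RigTop.isClosed_E _ _ q hq).closure_subset_iff.mpr hsub hzcl
  have h1 := RigTop.eq_of_mem_E _ _ q hq z hzE
  rw [Scheme.Hom.comp_apply, Scheme.Hom.comp_apply, hz1, hz2] at h1
  exact h1.symm

/-- factorization over any open contained in the collapsed locus -/
theorem exists_factor [IsProper g] [Flat g] [LocallyOfFinitePresentation g]
    (h0 : ∀ t, FibH0 g t) (W : T.Opens) (hW : (W : Set T) ⊆ collapsed g f) :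
    ∃ k : (W : Scheme.{u}) ⟶ Y, (g ⁻¹ᵁ W).ι ≫ f = (g ∣_ W) ≫ k := by
  have hsq : (g ∣_ W) ≫ W.ι = (g ⁻¹ᵁ W).ι ≫ g := morphismRestrict_ι g W
  let mm : pullback (g ∣_ W) (g ∣_ W) ⟶ pullback g g :=
    pullback.map (g ∣_ W) (g ∣_ W) g g (g ⁻¹ᵁ W).ι (g ⁻¹ᵁ W).ι W.ι hsq hsq
  have hm1 : mm ≫ pullback.fst g g = pullback.fst (g ∣_ W) (g ∣_ W) ≫ (g ⁻¹ᵁ W).ι :=
    pullback.lift_fst _ _ _
  have hm2 : mm ≫ pullback.snd g g = pullback.snd (g ∣_ W) (g ∣_ W) ≫ (g ⁻¹ᵁ W).ι :=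
    pullback.lift_snd _ _ _
  have hFF : pullback.fst (g ∣_ W) (g ∣_ W) ≫ (g ⁻¹ᵁ W).ι ≫ f =
      pullback.snd (g ∣_ W) (g ∣_ W) ≫ (g ⁻¹ᵁ W).ι ≫ f := by
    apply eq_of_forall_locEq
    intro z'
    have hmz : (pullback.fst g g ≫ g).base (mm.base z') ∈ collapsed g f := by
      apply hW
      have h3 : mm ≫ pullback.fst g g ≫ g =
          (pullback.fst (g ∣_ W) (g ∣_ W) ≫ (g ∣_ W)) ≫ W.ι := by
        rw [← Category.assoc, hm1, Category.assoc, Category.assoc, hsq]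
      have h4 := congrArg (fun φ : pullback (g ∣_ W) (g ∣_ W) ⟶ T => φ.base z') h3
      simp only [Scheme.Hom.comp_apply] at h4 ⊢
      rw [h4]
      exact ((g ∣_ W).base ((pullback.fst (g ∣_ W) (g ∣_ W)).base z')).2
    have h5 := locEq_comp mm _ _ z' (locEq_of_collapsed g f h0 (mm.base z') hmz)
    rw [← Category.assoc, ← Category.assoc, hm1, hm2, Category.assoc, Category.assoc] at h5
    exact h5
  have hsurj : Surjective (g ∣_ W) := by
    refine ⟨fun d => ?_⟩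
    obtain ⟨x, hx⟩ := nonempty_fibre g d.1 (h0 _)
    have hxW : x ∈ g ⁻¹ᵁ W := by
      show g.base x ∈ W
      rw [hx]; exact d.2
    refine ⟨(⟨x, hxW⟩ : (g ⁻¹ᵁ W).toScheme), ?_⟩
    apply Subtype.ext
    exact (morphismRestrict_base_coe g W _).trans hx
  have hEE : EffectiveEpi (g ∣_ W) := inferInstance
  let k : (W : Scheme.{u}) ⟶ Y := EffectiveEpi.desc (g ∣_ W) ((g ⁻¹ᵁ W).ι ≫ f)
    (fun {Z} g₁ g₂ hg => by
      have h1 : pullback.lift g₁ g₂ hg ≫ pullback.fst (g ∣_ W) (g ∣_ W) ≫ (g ⁻¹ᵁ W).ι ≫ f =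
          pullback.lift g₁ g₂ hg ≫ pullback.snd (g ∣_ W) (g ∣_ W) ≫ (g ⁻¹ᵁ W).ι ≫ f := by
        rw [hFF]
      rw [pullback.lift_fst_assoc, pullback.lift_snd_assoc] at h1
      exact h1)
  exact ⟨k, (EffectiveEpi.fac (g ∣_ W) _ _).symm⟩

end Factor

end Groth.Agent.Lib.Helper75.RigGenMain

namespace Groth.Agent.Lib.Helper75.RigGenMain

open Groth.Agent.Lib.Helper75.RigMain Groth.Agent.Lib.Helper75.RigNbhd
  Groth.Agent.Lib.Helper75.AAOpen

section Univ

variable {T X Y : Scheme.{u}} (g : X ⟶ T) (f : X ⟶ Y)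

theorem effectiveEpi_of_forall_fibH0 [Flat g] [QuasiCompact g] (h0 : ∀ t, FibH0 g t) :
    EffectiveEpi g := by
  have hsurj : Surjective g := ⟨fun s' => nonempty_fibre g s' (h0 s')⟩
  infer_instance

/-- global factorization when every fibre is collapsed -/
theorem exists_factor_of_univ [IsProper g] [Flat g] [LocallyOfFinitePresentation g]
    (h0 : ∀ t, FibH0 g t) (huniv : collapsed g f = Set.univ) : ∃ k : T ⟶ Y, f = g ≫ k := by
  have hFF : pullback.fst g g ≫ f = pullback.snd g g ≫ f := by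
    apply eq_of_forall_locEq
    intro z
    exact locEq_of_collapsed g f h0 z (huniv ▸ Set.mem_univ _)
  have hEE : EffectiveEpi g := effectiveEpi_of_forall_fibH0 g h0
  let k : T ⟶ Y := EffectiveEpi.desc g f (fun {Z} g₁ g₂ hg => by
    have h1 : pullback.lift g₁ g₂ hg ≫ pullback.fst g g ≫ f =
        pullback.lift g₁ g₂ hg ≫ pullback.snd g g ≫ f := by rw [hFF]
    rw [pullback.lift_fst_assoc, pullback.lift_snd_assoc] at h1
    exact h1)
  exact ⟨k, (EffectiveEpi.fac g _ _).symm⟩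

end Univ

end Groth.Agent.Lib.Helper75.RigGenMain
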