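import Groth.Agent.Lib.Helper75.RigGenIso
import Groth.Agent.Lib.Helper38.GammaBC

/-!
# `κ(s) = H⁰(X_s, O)` for proper morphisms with geometrically connected and geometrically reduced
fibres (helper75)

* `exists_eq_algebraMap_of_prod_eq_zero`: in a reduced connected algebra `L` over a field `F`, an
  element annihilated by a split polynomial is a constant;
* `bijective_algebraMap_of_isPushout`: an integral `k`-algebra whose base change to an
  algebraically closed field is reduced and connected is `k`;
* `eq_zero_or_eq_one_of_connectedSpace`: idempotent functions on a connected scheme are trivial;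
* `bijective_appTop_of_geom`, `fibH0_of_geom`, `fibH0_of_geometricallyConnected`.
-/

set_option autoImplicit false
set_option linter.style.haveILetI false
universe u

open CategoryTheory Limits AlgebraicGeometry TopologicalSpace Polynomial TensorProduct

namespace Groth.Agent.Lib.Helper75.RigGeom

open Groth.Agent.Lib.Helper75.RigMain

section Alg

variable {F L : Type*} [Field F] [CommRing L] [Algebra F L]

/-- expansion of a product modulo `u` -/
theorem exists_prod_add_eq (u : L) (s : Multiset F) :
    ∃ H : L, (s.map (fun c => algebraMap F L c + u)).prod = algebraMap F L s.prod + u * H := by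
  induction s using Multiset.induction_on with
  | empty => exact ⟨0, by simp⟩
  | cons c s ih =>
    obtain ⟨H, hH⟩ := ih
    refine ⟨algebraMap F L c * H + algebraMap F L s.prod + u * H, ?_⟩
    rw [Multiset.map_cons, Multiset.prod_cons, Multiset.prod_cons, hH, map_mul]
    ring

theorem exists_eq_algebraMap_of_prod_eq_zero [IsReduced L] [Nontrivial L]
    (hidem : ∀ e : L, e * e = e → e = 0 ∨ e = 1) (A : L) :
    ∀ (n : ℕ) (s : Multiset F), Multiset.card s = n →
      (s.map (fun α => A - algebraMap F L α)).prod = 0 → ∃ α, A = algebraMap F L α := by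
  intro n
  induction n using Nat.strong_induction_on with
  | _ n ih =>
    intro s hs hprod
    rcases Multiset.empty_or_exists_mem s with rfl | ⟨α, hα⟩
    · simp at hprod
    obtain ⟨s', rfl⟩ := Multiset.exists_cons_of_mem hα
    rw [Multiset.map_cons, Multiset.prod_cons] at hprod
    rw [Multiset.card_cons] at hs
    by_cases hα' : α ∈ s'
    · obtain ⟨s'', rfl⟩ := Multiset.exists_cons_of_mem hα'
      rw [Multiset.map_cons, Multiset.prod_cons] at hprod
      set Q := (s''.map (fun α => A - algebraMap F L α)).prod with hQ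
      have hsq : ((A - algebraMap F L α) * Q) ^ 2 = 0 := by
        calc ((A - algebraMap F L α) * Q) ^ 2
            = ((A - algebraMap F L α) * ((A - algebraMap F L α) * Q)) * Q := by ring
          _ = 0 := by rw [hprod, zero_mul]
      have h0 : (A - algebraMap F L α) * Q = 0 := IsReduced.eq_zero _ ⟨2, hsq⟩
      refine ih (Multiset.card (α ::ₘ s'')) ?_ (α ::ₘ s'') rfl ?_
      · rw [← hs]; simp
      · rw [Multiset.map_cons, Multiset.prod_cons]; exact h0
    · set u := A - algebraMap F L α with hu
      have hmap : s'.map (fun β => A - algebraMap F L β) =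
          (s'.map (fun β => α - β)).map (fun c => algebraMap F L c + u) := by
        rw [Multiset.map_map]
        apply Multiset.map_congr rfl
        intro β _
        simp only [Function.comp_apply, map_sub, hu]
        ring
      obtain ⟨H, hH⟩ := exists_prod_add_eq u (s'.map (fun β => α - β))
      set c := (s'.map (fun β => α - β)).prod with hc_def
      have hc : c ≠ 0 := by
        intro h0
        rw [hc_def, Multiset.prod_eq_zero_iff] at h0
        obtain ⟨β, hβ, hβ0⟩ := Multiset.mem_map.mp h0
        have : α = β := sub_eq_zero.mp hβ0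
        exact hα' (this ▸ hβ)
      set Pv := (s'.map (fun β => A - algebraMap F L β)).prod with hPv_def
      have hPv : Pv = algebraMap F L c + u * H := by rw [← hH, ← hmap]
      have hcc : algebraMap F L c⁻¹ * algebraMap F L c = 1 := by
        rw [← map_mul, inv_mul_cancel₀ hc, map_one]
      have hee : (algebraMap F L c⁻¹ * Pv) * (algebraMap F L c⁻¹ * Pv) =
          algebraMap F L c⁻¹ * Pv := by
        calc (algebraMap F L c⁻¹ * Pv) * (algebraMap F L c⁻¹ * Pv)
            = algebraMap F L c⁻¹ * algebraMap F L c⁻¹ * (Pv * (algebraMap F L c + u * H)) := by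
              rw [← hPv]; ring
          _ = algebraMap F L c⁻¹ * (algebraMap F L c⁻¹ * algebraMap F L c) * Pv +
              algebraMap F L c⁻¹ * algebraMap F L c⁻¹ * H * (u * Pv) := by ring
          _ = algebraMap F L c⁻¹ * Pv := by rw [hcc, hprod]; ring
      rcases hidem _ hee with h0 | h1
      · have hPv0 : Pv = 0 := by
          calc Pv = algebraMap F L c * (algebraMap F L c⁻¹ * Pv) := by
                rw [← mul_assoc, mul_comm (algebraMap F L c), hcc, one_mul]
            _ = 0 := by rw [h0, mul_zero]
        exact ih (Multiset.card s') (by omega) s' rfl hPv0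
      · have hu0 : u = 0 := by
          calc u = u * (algebraMap F L c⁻¹ * Pv) := by rw [h1, mul_one]
            _ = algebraMap F L c⁻¹ * (u * Pv) := by ring
            _ = 0 := by rw [hprod, mul_zero]
        exact ⟨α, sub_eq_zero.mp hu0⟩

end Alg



/-- an integral algebra `A` over a field `k` whose base change `P` to an algebraically closed
field `K` is reduced and nontrivial with only trivial idempotents is `k` itself. -/
theorem bijective_algebraMap_of_isPushout (k K A P : Type u) [Field k] [Field K] [IsAlgClosed K]
    [CommRing A] [CommRing P] [Algebra k K] [Algebra k A] [Algebra A P] [Algebra K P] [Algebra k P]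
    [IsScalarTower k K P] [IsScalarTower k A P] [Algebra.IsPushout k A K P]
    [Algebra.IsIntegral k A] [IsReduced P] [Nontrivial P]
    (hidem : ∀ e : P, e * e = e → e = 0 ∨ e = 1) : Function.Bijective (algebraMap k A) := by
  have hAnt : Nontrivial A := (algebraMap A P).domain_nontrivial
  refine ⟨(algebraMap k A).injective, fun a => ?_⟩
  obtain ⟨p, hpm, hpa⟩ := Algebra.IsIntegral.isIntegral (R := k) a
  have hpa' : aeval a p = 0 := hpa
  set q : K[X] := p.map (algebraMap k K) with hq
  have hqm : q.Monic := hpm.map _
  have hqs : q.Splits := IsAlgClosed.splits q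
  have hqprod := hqs.eq_prod_roots_of_monic hqm
  have h1 : aeval (algebraMap A P a) q = 0 := by
    rw [hq, aeval_map_algebraMap, aeval_algebraMap_apply, hpa', map_zero]
  have h2 : aeval (algebraMap A P a) q =
      (q.roots.map (fun α => algebraMap A P a - algebraMap K P α)).prod := by
    conv_lhs => rw [hqprod]
    rw [map_multiset_prod, Multiset.map_map]
    congr 1
    apply Multiset.map_congr rfl
    intro α _
    simp
  rw [h2] at h1
  obtain ⟨β, hβ⟩ := exists_eq_algebraMap_of_prod_eq_zero (F := K) hidem (algebraMap A P a) _ _ rfl h1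
  -- transfer to the tensor product `K ⊗[k] A`
  have hpo : Algebra.IsPushout k K A P := Algebra.IsPushout.symm inferInstance
  have h3 : (1 : K) ⊗ₜ[k] a = β ⊗ₜ[k] (1 : A) := by
    have := congrArg (Algebra.IsPushout.equiv k K A P).symm hβ
    rwa [Algebra.IsPushout.equiv_symm_algebraMap_right,
      Algebra.IsPushout.equiv_symm_algebraMap_left] at this
  -- the quotient of `A` by the line `k · 1`
  let N : Submodule k A := LinearMap.range (Algebra.linearMap k A)
  have h4 : (1 : K) ⊗ₜ[k] (N.mkQ a) = 0 := by
    have := congrArg (LinearMap.lTensor K N.mkQ) h3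
    rw [LinearMap.lTensor_tmul, LinearMap.lTensor_tmul] at this
    rw [this]
    have h1N : N.mkQ (1 : A) = 0 := by
      rw [Submodule.mkQ_apply, Submodule.Quotient.mk_eq_zero]
      exact ⟨1, by simp⟩
    rw [h1N, tmul_zero]
  have hinj := Module.Flat.tensorProduct_mk_injective (R := k) (S := K) (M := A ⧸ N)
  have h5 : N.mkQ a = 0 := by
    apply hinj
    rw [map_zero]
    exact h4
  rw [Submodule.mkQ_apply, Submodule.Quotient.mk_eq_zero] at h5
  obtain ⟨c, hc⟩ := h5
  exact ⟨c, hc⟩


/-- idempotent global functions on a connected scheme are trivial -/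
theorem eq_zero_or_eq_one_of_connectedSpace {Z : Scheme.{u}} [ConnectedSpace Z] (e : Γ(Z, ⊤))
    (he : e * e = e) : e = 0 ∨ e = 1 := by
  have hinf : Z.basicOpen e ⊓ Z.basicOpen (1 - e) = ⊥ := by
    rw [← Scheme.basicOpen_mul]
    have : e * (1 - e) = 0 := by rw [mul_sub, mul_one, he, sub_self]
    rw [this, Scheme.basicOpen_zero]
  have hsup : ∀ x : Z, x ∈ Z.basicOpen e ∨ x ∈ Z.basicOpen (1 - e) := by
    intro x
    rw [Scheme.mem_basicOpen_top, Scheme.mem_basicOpen_top, map_sub, map_one]
    exact IsLocalRing.isUnit_or_isUnit_one_sub_self _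
  have hunit : ∀ c : Γ(Z, ⊤), (Z.basicOpen c : Set Z) = Set.univ → IsUnit c := by
    intro c hc
    apply RingedSpace.isUnit_of_isUnit_germ Z.toLocallyRingedSpace.toRingedSpace ⊤ c
    intro x hx
    have hxc : x ∈ Z.basicOpen c := by
      show x ∈ (Z.basicOpen c : Set Z)
      rw [hc]; trivial
    exact (Scheme.mem_basicOpen_top Z c x).mp hxc
  have hcompl : (Z.basicOpen e : Set Z)ᶜ = (Z.basicOpen (1 - e) : Set Z) := by
    ext x
    constructor
    · intro hx
      exact (hsup x).resolve_left hx
    · intro hx hx'
      have : x ∈ Z.basicOpen e ⊓ Z.basicOpen (1 - e) := ⟨hx', hx⟩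
      rw [hinf] at this
      exact this
  have hclopen : IsClopen (Z.basicOpen e : Set Z) :=
    ⟨by rw [← isOpen_compl_iff, hcompl]; exact (Z.basicOpen (1 - e)).isOpen,
      (Z.basicOpen e).isOpen⟩
  rcases isClopen_iff.mp hclopen with h | h
  · left
    have h' : (Z.basicOpen (1 - e) : Set Z) = Set.univ := by
      rw [← hcompl, h, Set.compl_empty]
    obtain ⟨v, hv⟩ := hunit _ h'
    have h2 : (1 - e) * (1 - e) = 1 - e := by
      have : (1 - e) * (1 - e) = 1 - e - e + e * e := by ring
      rw [this, he]; ring
    have h3 : 1 - e = 1 := by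
      calc 1 - e = (↑v⁻¹ : Γ(Z, ⊤)) * ((1 - e) * (1 - e)) := by
            rw [← hv, ← mul_assoc, Units.inv_mul, one_mul]
        _ = (↑v⁻¹ : Γ(Z, ⊤)) * (1 - e) := by rw [h2]
        _ = 1 := by rw [← hv, Units.inv_mul]
    exact sub_eq_self.mp h3
  · right
    obtain ⟨v, hv⟩ := hunit _ h
    calc e = (↑v⁻¹ : Γ(Z, ⊤)) * (e * e) := by
          rw [← hv, ← mul_assoc, Units.inv_mul, one_mul]
      _ = (↑v⁻¹ : Γ(Z, ⊤)) * e := by rw [he]
      _ = 1 := by rw [← hv, Units.inv_mul]


/-- the `CommRingCat` form of `bijective_algebraMap_of_isPushout` -/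
theorem bijective_of_isPushout_geom {k K : Type u} [Field k] [Field K] [IsAlgClosed K]
    {A P : CommRingCat.{u}} {a : CommRingCat.of k ⟶ A} {φ : CommRingCat.of k ⟶ CommRingCat.of K}
    {c : A ⟶ P} {d : CommRingCat.of K ⟶ P} (h : IsPushout a φ c d) (hint : a.hom.IsIntegral)
    [IsReduced P] [Nontrivial P] (hidem : ∀ e : P, e * e = e → e = 0 ∨ e = 1) :
    Function.Bijective a.hom := by
  letI : Algebra k A := a.hom.toAlgebra
  letI : Algebra k K := φ.hom.toAlgebra
  letI : Algebra A P := c.hom.toAlgebra
  letI : Algebra K P := d.hom.toAlgebra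
  letI : Algebra k P := (c.hom.comp a.hom).toAlgebra
  haveI : IsScalarTower k A P := IsScalarTower.of_algebraMap_eq (fun r => rfl)
  haveI : IsScalarTower k K P := IsScalarTower.of_algebraMap_eq (fun r => by
    show c.hom (a.hom r) = d.hom (φ.hom r)
    exact congr($(h.w) r))
  haveI hp : Algebra.IsPushout k A K P :=
    (CommRingCat.isPushout_iff_isPushout (R := CommRingCat.of k) (R' := A) (S := CommRingCat.of K)
      (S' := P)).mp h
  haveI : Algebra.IsIntegral k A := algebraMap_isIntegral_iff.mp hint
  exact bijective_algebraMap_of_isPushout k K A P hidem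

theorem bijective_appTop_of_comp_inv {k : CommRingCat.{u}} {X : Scheme.{u}} (g : X ⟶ Spec k)
    (h : Function.Bijective ((Scheme.ΓSpecIso k).inv ≫ g.appTop).hom) :
    Function.Bijective g.appTop.hom := by
  have h2 : Function.Bijective (Scheme.ΓSpecIso k).hom.hom :=
    (ConcreteCategory.isIso_iff_bijective (Scheme.ΓSpecIso k).hom).mp inferInstance
  have h3 : g.appTop = (Scheme.ΓSpecIso k).hom ≫ (Scheme.ΓSpecIso k).inv ≫ g.appTop := by
    rw [Iso.hom_inv_id_assoc]
  rw [h3]
  exact h.comp h2

/-- A universally closed quasi-separated scheme `X` over a field `k` whose base change to an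
algebraically closed field is reduced and connected has `Γ(X, O) = k`. -/
theorem bijective_appTop_of_geom {k K : Type u} [Field k] [Field K] [IsAlgClosed K]
    (φ : CommRingCat.of k ⟶ CommRingCat.of K) {X : Scheme.{u}} (g : X ⟶ Spec (CommRingCat.of k))
    [UniversallyClosed g] [QuasiSeparated g]
    [IsReduced (pullback g (Spec.map φ))] [ConnectedSpace ↥(pullback g (Spec.map φ))] :
    Function.Bijective g.appTop.hom := by
  have hXc : CompactSpace X := QuasiCompact.compactSpace_of_compactSpace g
  have hXqs : QuasiSeparatedSpace X := quasiSeparatedSpace_of_quasiSeparated g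
  have hflat : Flat (Spec.map φ) := RigBC.flat_SpecMap_of_field φ
  have hpo := Groth.Agent.Lib.Helper38.GammaBC.isPushout_appTop g φ
  have hsq : IsPushout (Scheme.ΓSpecIso (CommRingCat.of k)).inv φ (Spec.map φ).appTop
      (Scheme.ΓSpecIso (CommRingCat.of K)).inv :=
    IsPushout.of_horiz_isIso ⟨(Scheme.ΓSpecIso_inv_naturality φ).symm⟩
  have hpo' := hsq.paste_horiz hpo
  have hint : ((Scheme.ΓSpecIso (CommRingCat.of k)).inv ≫ g.appTop).hom.IsIntegral := by
    have h1 : g.appTop.hom.IsIntegral := isIntegral_appTop_of_universallyClosed g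
    have h2 : (Scheme.ΓSpecIso (CommRingCat.of k)).inv.hom.IsIntegral :=
      RingHom.isIntegral_of_surjective _
        ((ConcreteCategory.isIso_iff_bijective (Scheme.ΓSpecIso (CommRingCat.of k)).inv).mp
          inferInstance).2
    exact RingHom.IsIntegral.trans _ _ h2 h1
  have hnt : Nontrivial Γ(pullback g (Spec.map φ), ⊤) :=
    @Scheme.component_nontrivial (pullback g (Spec.map φ)) ⊤
      ⟨⟨Classical.arbitrary _, trivial⟩⟩
  have := bijective_of_isPushout_geom hpo' hint
    (fun e he => eq_zero_or_eq_one_of_connectedSpace e he)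
  exact bijective_appTop_of_comp_inv g this


/-- `κ(s) = H⁰(X_s, O)` as soon as one geometric fibre over `s` (over an algebraically closed
field) is reduced and connected. -/
theorem fibH0_of_geom {X S : Scheme.{u}} (f : X ⟶ S) [UniversallyClosed f] [QuasiSeparated f]
    (s : S) {K : Type u} [Field K] [IsAlgClosed K]
    (φ : CommRingCat.of (IsLocalRing.ResidueField (S.presheaf.stalk s)) ⟶ CommRingCat.of K)
    (hred : IsReduced (pullback f (Spec.map φ ≫ S.fromSpecResidueField s)))
    (hconn : ConnectedSpace ↥(pullback f (Spec.map φ ≫ S.fromSpecResidueField s))) :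
    FibH0 f s := by
  let e := pullbackLeftPullbackSndIso f (S.fromSpecResidueField s) (Spec.map φ)
  have hred' : IsReduced (pullback (pullback.snd f (S.fromSpecResidueField s)) (Spec.map φ)) :=
    @isReduced_of_isOpenImmersion _ _ e.hom inferInstance hred
  have hconn' : ConnectedSpace
      ↥(pullback (pullback.snd f (S.fromSpecResidueField s)) (Spec.map φ)) :=
    (e.hom.homeomorph.connectedSpace_iff).mpr hconn
  have huc : UniversallyClosed (pullback.snd f (S.fromSpecResidueField s)) := inferInstance
  have hqs : QuasiSeparated (pullback.snd f (S.fromSpecResidueField s)) := inferInstance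
  exact @bijective_appTop_of_geom (IsLocalRing.ResidueField (S.presheaf.stalk s)) K _ _ _ φ _
    (pullback.snd f (S.fromSpecResidueField s)) huc hqs hred' hconn'

theorem fibH0_of_forall_algClosed {X S : Scheme.{u}} (f : X ⟶ S) [UniversallyClosed f]
    [QuasiSeparated f]
    (h : ∀ (K : Type u) [Field K] [IsAlgClosed K] (g : Spec (CommRingCat.of K) ⟶ S),
      IsReduced (pullback f g) ∧ ConnectedSpace ↥(pullback f g)) (s : S) : FibH0 f s := by
  let k := IsLocalRing.ResidueField (S.presheaf.stalk s)
  let φ : CommRingCat.of k ⟶ CommRingCat.of (AlgebraicClosure k) :=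
    CommRingCat.ofHom (algebraMap k (AlgebraicClosure k))
  obtain ⟨h1, h2⟩ := h (AlgebraicClosure k) (Spec.map φ ≫ S.fromSpecResidueField s)
  exact fibH0_of_geom f s φ h1 h2

theorem fibH0_of_geometricallyConnected {X S : Scheme.{u}} (f : X ⟶ S) [UniversallyClosed f]
    [QuasiSeparated f] [GeometricallyConnected f] [GeometricallyReduced f] (s : S) :
    FibH0 f s := by
  apply fibH0_of_forall_algClosed f
  intro K _ _ g
  exact ⟨pullback_of_geometrically (GeometricallyReduced.geometrically_isReduced (f := f)) K g,
    pullback_of_geometrically (GeometricallyConnected.geometrically_connectedSpace (f := f)) K g⟩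


end Groth.Agent.Lib.Helper75.RigGeom
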