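import Groth.Agent.Lib.Helper75.PnConst
import Groth.Agent.Lib.Helper26.WeilExt

/-!
# Rational maps from projective space to a proper group scheme over a field are constant (helper75)
-/

set_option autoImplicit false
universe u
open CategoryTheory CategoryTheory.Limits AlgebraicGeometry MonoidalCategory
  CartesianMonoidalCategory MonObj GrpObj

namespace Groth.Agent.Lib.Helper75.PnRat

/-- A morphism from a nonempty open subscheme of an open subscheme `X` of `P^m_K` to a proper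
`K`-group scheme is constant. -/
theorem exists_const_of_open (K : Type u) [Field K] (A : Over (Spec (CommRingCat.of K)))
    [GrpObj A] [IsProper A.hom] (m : ℕ) {X : Scheme.{u}} (pX : X ⟶ Spec (CommRingCat.of K))
    (j : X ⟶ CohB1.ProjSpaceOver m (Spec (CommRingCat.of K))) [IsOpenImmersion j]
    (hj : j ≫ CohB1.ProjSpaceOver.toBase m (Spec (CommRingCat.of K)) = pX)
    (U : X.Opens) (hU : (U : Set X).Nonempty) (ψ : (U : Scheme.{u}) ⟶ A.left)
    (hψ : ψ ≫ A.hom = U.ι ≫ pX) :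
    ∃ g : Spec (CommRingCat.of K) ⟶ A.left, g ≫ A.hom = 𝟙 _ ∧ ψ = (U.ι ≫ pX) ≫ g := by
  classical
  let S := Spec (CommRingCat.of K)
  haveI hsub : Subsingleton ↥S := inferInstanceAs (Subsingleton (PrimeSpectrum K))
  let Pm := CohB1.ProjSpaceOver m S
  let pP : Pm ⟶ S := CohB1.ProjSpaceOver.toBase m S
  let ι' : (U : Scheme.{u}) ⟶ Pm := U.ι ≫ j
  haveI : IsOpenImmersion ι' := inferInstance
  let U' : Pm.Opens := ι'.opensRange
  let eU : (U : Scheme.{u}) ≅ (U' : Scheme.{u}) := ι'.isoOpensRange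
  have heU : eU.hom ≫ U'.ι = ι' := Scheme.Hom.isoOpensRange_hom_ι ι'
  haveI : Smooth pP := Groth.Agent.Lib.Helper69.PnAffine.smooth_toBase m S
  haveI : IsProper pP := Groth.Agent.Lib.Helper17.ProjSpaceProper.isProper_toBase m S
  haveI : GrpObj (Over.mk A.hom) := ‹GrpObj A›
  haveI : IrreducibleSpace ↥Pm := Groth.Agent.Lib.Helper27.PnIrr.irreducibleSpace_projSpaceOver m K
  have hU'ne : (U' : Set Pm).Nonempty := by
    obtain ⟨x, hx⟩ := hU
    exact ⟨ι'.base ⟨x, hx⟩, ⟨⟨x, hx⟩, rfl⟩⟩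
  have hdense : ∀ x : Pm, x ∈ closure ((U' : Set Pm) ∩ {y | pP y = pP x}) := by
    intro x
    have : {y | pP y = pP x} = Set.univ := by
      ext y
      simp only [Set.mem_ofPred_eq, Set.mem_univ, iff_true]
      exact Subsingleton.elim _ _
    rw [this, Set.inter_univ]
    exact (U'.isOpen.dense hU'ne) x
  let ψ' : (U' : Scheme.{u}) ⟶ A.left := eU.inv ≫ ψ
  have hψ' : ψ' ≫ A.hom = U'.ι ≫ pP := by
    have h1 : eU.inv ≫ (U.ι ≫ j) = U'.ι := by
      show eU.inv ≫ ι' = U'.ι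
      rw [← heU, Iso.inv_hom_id_assoc]
    show (eU.inv ≫ ψ) ≫ A.hom = _
    rw [Category.assoc, hψ, ← hj, ← h1]
    simp only [Category.assoc]
    rfl
  obtain ⟨Ψ, ⟨hΨ1, hΨ2⟩, -⟩ := Groth.Agent.Lib.Helper26.WeilExt.weil_extension_proper
    pP A.hom U' hdense ψ' hψ'
  haveI : IsSeparated A.hom := inferInstance
  let e := Groth.Agent.Lib.Helper61.PnIso.iso m K
  have he : e.hom ≫ pP = CohB1.ProjSpace.toSpec m K :=
    Groth.Agent.Lib.Helper61.PnIso.iso_hom_toBase m K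
  have hΨ' : (e.hom ≫ Ψ) ≫ A.hom = CohB1.ProjSpace.toSpec m K := by
    rw [Category.assoc, hΨ1, he]
  obtain ⟨g, hg1, hg2⟩ := Groth.Agent.Lib.Helper75.PnConst.exists_const K A m (e.hom ≫ Ψ) hΨ'
  have hΨc : Ψ = pP ≫ g := by
    rw [← cancel_epi e.hom, hg2, ← Category.assoc, he]
  refine ⟨g, hg1, ?_⟩
  have h1 : ψ = eU.hom ≫ ψ' := by
    show _ = eU.hom ≫ eU.inv ≫ ψ
    rw [Iso.hom_inv_id_assoc]
  rw [h1, ← hΨ2, hΨc, ← Category.assoc, ← Category.assoc, heU]
  show ((U.ι ≫ j) ≫ pP) ≫ g = _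
  rw [Category.assoc U.ι, hj]

end Groth.Agent.Lib.Helper75.PnRat
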