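import Groth.Agent.Lib.Helper75.PnRat
import Mathlib.AlgebraicGeometry.SpreadingOut
import Mathlib.AlgebraicGeometry.FunctionField

/-!
# Points of a proper group scheme with values in a rational function field (helper75)
-/

set_option autoImplicit false
universe u
open CategoryTheory CategoryTheory.Limits AlgebraicGeometry MonoidalCategory
  CartesianMonoidalCategory MonObj GrpObj

namespace Groth.Agent.Lib.Helper75.PnRatPts

variable (F : Type u) [Field F] (n : ℕ)

/-- the renaming isomorphism of polynomial rings -/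
noncomputable def ρ : MvPolynomial (ULift.{u} (Fin n)) F ≃+* MvPolynomial (Fin n) F :=
  (MvPolynomial.renameEquiv F (Equiv.ulift : ULift.{u} (Fin n) ≃ Fin n)).toRingEquiv

theorem ρ_C (r : F) : ρ F n (MvPolynomial.C r) = MvPolynomial.C r := by
  simp [ρ]

/-- `Spec F[t_1..t_n] ⟶ 𝔸^n_F` -/
noncomputable def θ : Spec (CommRingCat.of (MvPolynomial (Fin n) F)) ⟶
    𝔸(ULift.{u} (Fin n); Spec (CommRingCat.of F)) :=
  Spec.map (CommRingCat.ofHom (ρ F n).toRingHom) ≫
    (AffineSpace.SpecIso (ULift.{u} (Fin n)) (CommRingCat.of F)).inv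

instance : IsIso (θ F n) := by
  have : IsIso (CommRingCat.ofHom (ρ F n).toRingHom) := ((ρ F n).toCommRingCatIso).isIso_hom
  unfold θ
  infer_instance

theorem θ_over : θ F n ≫ (𝔸(ULift.{u} (Fin n); Spec (CommRingCat.of F)) ↘ Spec (CommRingCat.of F)) =
    Spec.map (CommRingCat.ofHom (MvPolynomial.C : F →+* MvPolynomial (Fin n) F)) := by
  unfold θ
  rw [Category.assoc, AffineSpace.SpecIso_inv_over, ← Spec.map_comp]
  congr 1
  apply CommRingCat.hom_ext
  apply RingHom.ext
  intro r
  exact ρ_C F n r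

/-- `Spec F[t_1..t_n] ⟶ P^n_F`, an open immersion -/
noncomputable def jθ : Spec (CommRingCat.of (MvPolynomial (Fin n) F)) ⟶
    CohB1.ProjSpaceOver n (Spec (CommRingCat.of F)) :=
  θ F n ≫ Groth.Agent.Lib.Helper69.PnAffine.chart n (Spec (CommRingCat.of F))

instance : IsOpenImmersion (jθ F n) := by
  unfold jθ
  infer_instance

theorem jθ_toBase : jθ F n ≫ CohB1.ProjSpaceOver.toBase n (Spec (CommRingCat.of F)) =
    Spec.map (CommRingCat.ofHom (MvPolynomial.C : F →+* MvPolynomial (Fin n) F)) := by
  unfold jθ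
  rw [Category.assoc, Groth.Agent.Lib.Helper69.PnAffine.chart_toBase, θ_over]

end Groth.Agent.Lib.Helper75.PnRatPts

namespace Groth.Agent.Lib.Helper75.PnRatPts

/-- the fraction field of a domain `R` is the stalk of `Spec R` at the generic point -/
theorem exists_fractionRing_stalk (Rc : CommRingCat.{u}) [IsDomain Rc] :
    ∃ (eh : CommRingCat.of (FractionRing Rc) ⟶ (Spec Rc).presheaf.stalk (genericPoint (Spec Rc)))
      (einv : (Spec Rc).presheaf.stalk (genericPoint (Spec Rc)) ⟶ CommRingCat.of (FractionRing Rc)),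
      eh ≫ einv = 𝟙 _ ∧
      (∀ r : Rc, eh.hom (algebraMap Rc (FractionRing Rc) r) =
        (StructureSheaf.toStalk Rc (genericPoint (Spec Rc))).hom r) ∧
      (∀ r : Rc, einv.hom ((StructureSheaf.toStalk Rc (genericPoint (Spec Rc))).hom r) =
        algebraMap Rc (FractionRing Rc) r) := by
  let e : FractionRing Rc ≃ₐ[Rc] (Spec Rc).functionField :=
    FractionRing.algEquiv Rc (Spec Rc).functionField
  refine ⟨CommRingCat.ofHom e.toRingEquiv.toRingHom, CommRingCat.ofHom e.symm.toRingEquiv.toRingHom,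
    ?_, ?_, ?_⟩
  · apply CommRingCat.hom_ext
    apply RingHom.ext
    intro q
    exact e.symm_apply_apply q
  · intro r
    exact e.commutes r
  · intro r
    exact e.symm.commutes r

variable (F : Type u) [Field F] (n : ℕ)

/-- every point of a proper group scheme with values in a rational function field is constant -/
theorem exists_const_of_ratFunc (A : Over (Spec (CommRingCat.of F))) [GrpObj A] [IsProper A.hom]
    (y : Spec (CommRingCat.of (FractionRing (MvPolynomial (Fin n) F))) ⟶ A.left)
    (hy : y ≫ A.hom = Spec.map (CommRingCat.ofHom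
      (algebraMap F (FractionRing (MvPolynomial (Fin n) F))))) :
    ∃ g : Spec (CommRingCat.of F) ⟶ A.left, g ≫ A.hom = 𝟙 _ ∧
      y = Spec.map (CommRingCat.ofHom
        (algebraMap F (FractionRing (MvPolynomial (Fin n) F)))) ≫ g := by
  haveI : IsDomain (CommRingCat.of (MvPolynomial (Fin n) F)) :=
    inferInstanceAs (IsDomain (MvPolynomial (Fin n) F))
  obtain ⟨eh, einv, hee, heh, heinv⟩ :=
    exists_fractionRing_stalk (CommRingCat.of (MvPolynomial (Fin n) F))
  let X := Spec (CommRingCat.of (MvPolynomial (Fin n) F))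
  let pX : X ⟶ Spec (CommRingCat.of F) :=
    Spec.map (CommRingCat.ofHom (MvPolynomial.C : F →+* MvPolynomial (Fin n) F))
  let x0 : X := genericPoint X
  let φ0 : Spec (X.presheaf.stalk x0) ⟶ A.left := Spec.map eh ≫ y
  have hfs : X.fromSpecStalk x0 ≫ pX = Spec.map (CommRingCat.ofHom
      (MvPolynomial.C : F →+* MvPolynomial (Fin n) F) ≫
      StructureSheaf.toStalk (CommRingCat.of (MvPolynomial (Fin n) F)) x0) := by
    rw [Spec.map_comp]
    congr 1
    exact Spec.fromSpecStalk_eq' _ _
  have h : φ0 ≫ A.hom = X.fromSpecStalk x0 ≫ pX := by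
    show (Spec.map eh ≫ y) ≫ A.hom = _
    rw [Category.assoc, hy, ← Spec.map_comp, hfs]
    congr 1
    apply CommRingCat.hom_ext
    apply RingHom.ext
    intro r
    show eh.hom (algebraMap F (FractionRing (MvPolynomial (Fin n) F)) r) = _
    rw [IsScalarTower.algebraMap_apply F (MvPolynomial (Fin n) F)
      (FractionRing (MvPolynomial (Fin n) F))]
    exact heh (MvPolynomial.C r)
  haveI : LocallyOfFiniteType A.hom := inferInstance
  obtain ⟨U, hxU, f, hf1, hf2⟩ := spread_out_of_isGermInjective' pX A.hom φ0 h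
  obtain ⟨g, hg1, hg2⟩ := Groth.Agent.Lib.Helper75.PnRat.exists_const_of_open F A n pX (jθ F n)
    (jθ_toBase F n) U ⟨x0, hxU⟩ f hf2
  refine ⟨g, hg1, ?_⟩
  have h1 : y = Spec.map einv ≫ φ0 := by
    show y = Spec.map einv ≫ Spec.map eh ≫ y
    rw [← Category.assoc, ← Spec.map_comp, hee, Spec.map_id, Category.id_comp]
  have h2 : Spec.map einv ≫ Spec.map (CommRingCat.ofHom
      (MvPolynomial.C : F →+* MvPolynomial (Fin n) F) ≫
      StructureSheaf.toStalk (CommRingCat.of (MvPolynomial (Fin n) F)) x0) =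
      Spec.map (CommRingCat.ofHom
        (algebraMap F (FractionRing (MvPolynomial (Fin n) F)))) := by
    rw [← Spec.map_comp]
    congr 1
    apply CommRingCat.hom_ext
    apply RingHom.ext
    intro r
    show einv.hom ((StructureSheaf.toStalk (CommRingCat.of (MvPolynomial (Fin n) F)) x0).hom
      (MvPolynomial.C r)) = algebraMap F (FractionRing (MvPolynomial (Fin n) F)) r
    rw [heinv, IsScalarTower.algebraMap_apply F (MvPolynomial (Fin n) F)
        (FractionRing (MvPolynomial (Fin n) F))]
    rfl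
  rw [h1, hf1, hg2, ← Category.assoc (U.fromSpecStalkOfMem x0 hxU), ← Category.assoc
    (U.fromSpecStalkOfMem x0 hxU), Scheme.Opens.fromSpecStalkOfMem_ι, hfs]
  exact (reassoc_of% h2) g

end Groth.Agent.Lib.Helper75.PnRatPts
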