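import Mathlib
import Groth.Prelude
import Groth.Agent.Lib.Helper75.AAPoint

/-!
# Rational points in the fibres of a surjective morphism over an algebraically closed field
-/

set_option autoImplicit false
universe u
open CategoryTheory CategoryTheory.Limits MonoidalCategory CartesianMonoidalCategory
  AlgebraicGeometry

namespace Groth.Agent.Lib.Helper75.PointOver

theorem exists_point_over (k : Type u) [Field k] [IsAlgClosed k]
    {E A : Over (Spec (CommRingCat.of k))} [LocallyOfFiniteType E.hom] (φ : E ⟶ A)
    [Surjective φ.left] (t : 𝟙_ (Over (Spec (CommRingCat.of k))) ⟶ A) :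
    ∃ e₀ : 𝟙_ (Over (Spec (CommRingCat.of k))) ⟶ E, e₀ ≫ φ = t := by
  have hpb := (IsPullback.of_hasPullback φ t).map (Over.forget _)
  simp only [Over.forget_obj, Over.forget_map] at hpb
  have h1 : LocallyOfFiniteType (φ.left ≫ A.hom) := by rw [Over.w φ]; infer_instance
  have h2 : LocallyOfFiniteType φ.left := locallyOfFiniteType_of_comp φ.left A.hom
  have h3 : LocallyOfFiniteType (pullback.snd φ t).left :=
    MorphismProperty.of_isPullback (P := @LocallyOfFiniteType) hpb inferInstance
  have h4 : Surjective (pullback.snd φ t).left :=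
    MorphismProperty.of_isPullback (P := @Surjective) hpb inferInstance
  have h5 : LocallyOfFiniteType (pullback φ t).hom := by
    rw [← Over.w (pullback.snd φ t)]
    have : LocallyOfFiniteType (𝟙_ (Over (Spec (CommRingCat.of k)))).hom := by
      show LocallyOfFiniteType (𝟙 _)
      infer_instance
    infer_instance
  have h6 : Nonempty ↥(pullback φ t).left := by
    obtain ⟨z, -⟩ := (pullback.snd φ t).left.surjective (⊥ : PrimeSpectrum k)
    exact ⟨z⟩
  obtain ⟨z⟩ := Groth.Agent.Lib.Helper75.AAPoint.exists_point k (pullback φ t)
  refine ⟨z ≫ pullback.fst φ t, ?_⟩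
  rw [Category.assoc, pullback.condition, ← Category.assoc,
    toUnit_unique (z ≫ pullback.snd φ t) (𝟙 _), Category.id_comp]

end Groth.Agent.Lib.Helper75.PointOver
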