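import Mathlib.AlgebraicGeometry.Morphisms.QuasiCompact
import Mathlib.AlgebraicGeometry.Morphisms.ClosedImmersion
import Mathlib.AlgebraicGeometry.IdealSheaf.Subscheme
import Mathlib.AlgebraicGeometry.PullbackCarrier

/-!
# Images of quasi-compact morphisms that are stable under specialization are closed (helper75)
-/

set_option autoImplicit false

universe u

open CategoryTheory CategoryTheory.Limits AlgebraicGeometry TopologicalSpace

namespace Groth.Agent.Lib.Helper75

/-- The morphism property "the set-theoretic image is closed". -/
def closedRange : MorphismProperty Scheme.{u} :=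
  topologically fun f => IsClosed (Set.range f)

instance closedRange_respectsIso : closedRange.{u}.RespectsIso := by
  apply MorphismProperty.RespectsIso.mk
  · intro X Y Z e f hf
    change IsClosed (Set.range (e.hom ≫ f))
    have : Set.range (e.hom ≫ f) = Set.range f := by
      rw [Scheme.Hom.comp_base, TopCat.coe_comp, Set.range_comp]
      have : Function.Surjective e.hom := e.hom.homeomorph.surjective
      rw [this.range_eq, Set.image_univ]
    rw [this]
    exact hf
  · intro X Y Z e f hf
    change IsClosed (Set.range (f ≫ e.hom))
    rw [Scheme.Hom.comp_base, TopCat.coe_comp, Set.range_comp]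
    exact e.hom.homeomorph.isClosedMap _ hf

instance closedRange_isZariskiLocalAtTarget : IsZariskiLocalAtTarget closedRange.{u} := by
  have : (topologically fun {α β : Type u} [TopologicalSpace α] [TopologicalSpace β]
      (f : α → β) => IsClosed (Set.range f)).RespectsIso := closedRange_respectsIso
  apply topologically_isZariskiLocalAtTarget'
  intro α β _ _ f ι U hU _
  simp_rw [Set.range_restrictPreimage]
  exact hU.isClosed_iff_coe_preimage

/-- A quasi-compact morphism whose image is stable under specialization has closed image. -/
theorem isClosed_range_of_stableUnderSpecialization {X Y : Scheme.{u}} (g : X ⟶ Y)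
    [QuasiCompact g] (H : StableUnderSpecialization (Set.range g)) : IsClosed (Set.range g) := by
  wlog hY : ∃ R, Y = Spec R
  · change closedRange g
    rw [IsZariskiLocalAtTarget.iff_of_openCover (P := closedRange) Y.affineCover]
    intro i
    have _ : QuasiCompact (Y.affineCover.pullbackHom g i) := MorphismProperty.pullback_snd _ _ ‹_›
    refine this (Y.affineCover.pullbackHom g i) ?_ ⟨_, rfl⟩
    have hr : Set.range (Y.affineCover.pullbackHom g i) =
        (Y.affineCover.f i) ⁻¹' Set.range g := Scheme.Pullback.range_snd ..
    rw [hr]
    exact H.preimage (Y.affineCover.f i).continuous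
  obtain ⟨S, rfl⟩ := hY
  wlog hX : ∃ R, X = Spec R
  · obtain ⟨R, h, hh⟩ := compactSpace_iff_exists.mp (QuasiCompact.compactSpace_of_compactSpace g)
    have inst : QuasiCompact (h ≫ g) := HasAffineProperty.iff_of_isAffine.mpr (by infer_instance)
    have hr : Set.range (h ≫ g) = Set.range g := by
      rw [Scheme.Hom.comp_base, TopCat.coe_comp, Set.range_comp, hh.range_eq, Set.image_univ]
    have := this S (h ≫ g) (hr ▸ H) ⟨_, rfl⟩
    rwa [hr] at this
  obtain ⟨R, rfl⟩ := hX
  obtain ⟨φ, rfl⟩ := Spec.homEquiv.symm.surjective g
  exact PrimeSpectrum.isClosed_range_of_stableUnderSpecialization φ.hom H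

/-- The image of a closed set under a quasi-compact morphism is closed as soon as it is stable
under specialization. -/
theorem isClosed_image_of_stableUnderSpecialization {X Y : Scheme.{u}} (f : X ⟶ Y)
    [QuasiCompact f] (Z : Set X) (hZ : IsClosed Z)
    (H : StableUnderSpecialization (f '' Z)) : IsClosed (f '' Z) := by
  let I := Scheme.IdealSheafData.vanishingIdeal ⟨Z, hZ⟩
  have hr : Set.range (I.subschemeι ≫ f) = f '' Z := by
    rw [Scheme.Hom.comp_base, TopCat.coe_comp, Set.range_comp, I.range_subschemeι]
    simp [I]
  have : QuasiCompact (I.subschemeι ≫ f) := inferInstance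
  rw [← hr] at H ⊢
  exact isClosed_range_of_stableUnderSpecialization _ H

end Groth.Agent.Lib.Helper75
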