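import Mathlib

/-!
# Algebra for rigidity over Artinian local bases (helper75)

* `mem_map_maximalIdeal_of_mul_mem` : `φ : A → B` flat, `A` local, `t ∉ I`, `φ t * y ∈ I B` ⇒ `y ∈ 𝔪 B`
  (ring-hom form of `Helper59.AffRigid.mem_map_maximalIdeal_of_mul_mem`).
* `exists_lt_sup_span_singleton_eq` : in an Artinian local ring every nonzero ideal is `I + (a)` with
  `I` strictly smaller, `a ∉ I`, `𝔪 a ⊆ I` (as `Helper29.exists_lt_sup_span_singleton_eq`).
* `injective_of_flat_of_nontrivial` : a flat ring map from an Artinian local ring to a nontrivial ring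
  is injective.
-/

set_option autoImplicit false
universe u
open IsLocalRing

namespace Groth.Agent.Lib.Helper75.RigAlg

section Flat

variable {A B : Type u} [CommRing A] [IsLocalRing A] [CommRing B]

/-- For `B` flat over a local ring `A`: if `t ∉ I` and `t y ∈ I B` then `y ∈ 𝔪 B`. -/
theorem mem_map_maximalIdeal_of_mul_mem_alg [Algebra A B] [Module.Flat A B] (I : Ideal A) (t : A)
    (ht : t ∉ I) (y : B) (hy : algebraMap A B t * y ∈ I.map (algebraMap A B)) :
    y ∈ (maximalIdeal A).map (algebraMap A B) := by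
  classical
  have hy' : t • y ∈ I • Submodule.span A (Set.range (id : B → B)) := by
    rw [Set.range_id, Submodule.span_univ]
    change t • y ∈ (I • (⊤ : Submodule A B))
    rw [Ideal.smul_top_eq_map, Algebra.smul_def]
    exact hy
  rw [Submodule.mem_ideal_smul_span_iff_exists_sum] at hy'
  obtain ⟨a, ha, hsum⟩ := hy'
  let f : Option a.support → A := fun o => o.elim t (fun i => - a i)
  let x : Option a.support → B := fun o => o.elim y (fun i => (i : B))
  have hrel : ∑ o, f o • x o = 0 := by
    rw [Fintype.sum_option]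
    simp only [f, x, Option.elim_none, Option.elim_some, neg_smul, Finset.sum_neg_distrib]
    rw [← hsum, Finsupp.sum, ← Finset.sum_coe_sort a.support (fun i => a i • id i)]
    simp
  obtain ⟨n, c, z, hx, hc⟩ :=
    Module.Flat.isTrivialRelation_of_sum_smul_eq_zero (R := A) (M := B) (f := f) (x := x) hrel
  have hcm : ∀ j, c none j ∈ maximalIdeal A := by
    intro j
    by_contra hcon
    have hu : IsUnit (c none j) := by
      by_contra hnu
      exact hcon ((mem_maximalIdeal _).mpr hnu)
    have h1 := hc j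
    rw [Fintype.sum_option] at h1
    simp only [f, Option.elim_none, Option.elim_some] at h1
    have h2 : t * c none j ∈ I := by
      have : t * c none j = ∑ i : a.support, a i * c (some i) j := by
        rw [eq_comm, ← sub_eq_zero, ← neg_eq_zero, neg_sub, sub_eq_add_neg, ← h1]
        congr 1
        rw [← Finset.sum_neg_distrib]
        exact Finset.sum_congr rfl fun i _ => by ring
      rw [this]
      exact I.sum_mem fun i _ => I.mul_mem_right _ (ha i)
    obtain ⟨u, hu⟩ := hu
    have : t ∈ I := by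
      have h3 := I.mul_mem_right (↑u⁻¹ : A) h2
      rwa [← hu, mul_assoc, Units.mul_inv, mul_one] at h3
    exact ht this
  have hy0 := hx none
  simp only [x, Option.elim_none] at hy0
  rw [hy0]
  refine Ideal.sum_mem _ fun j _ => ?_
  rw [Algebra.smul_def]
  exact Ideal.mul_mem_right _ _ (Ideal.mem_map_of_mem _ (hcm j))

/-- Ring-hom form. -/
theorem mem_map_maximalIdeal_of_mul_mem (φ : A →+* B) (hφ : φ.Flat) (I : Ideal A) (t : A)
    (ht : t ∉ I) (y : B) (hy : φ t * y ∈ I.map φ) : y ∈ (maximalIdeal A).map φ :=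
  @mem_map_maximalIdeal_of_mul_mem_alg A B _ _ _ φ.toAlgebra hφ I t ht y hy

end Flat

section Decomp

variable {A : Type u} [CommRing A] [IsArtinianRing A] [IsLocalRing A]

/-- Every nonzero ideal of an Artinian local ring is of the form `I + (a)` with `I` strictly
smaller, `a ∉ I` and `m a ⊆ I`. -/
theorem exists_lt_sup_span_singleton_eq (J : Ideal A) (hJ : J ≠ ⊥) :
    ∃ (I : Ideal A) (a : A), I < J ∧ a ∉ I ∧ I ⊔ Ideal.span {a} = J ∧
      ∀ x ∈ maximalIdeal A, x * a ∈ I := by
  obtain ⟨I, hIJ, hmax⟩ := WellFounded.has_min (wellFounded_gt (α := Ideal A)) {I | I < J}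
    ⟨⊥, bot_lt_iff_ne_bot.mpr hJ⟩
  have hIJ' : I < J := hIJ
  obtain ⟨a, haJ, haI⟩ := SetLike.exists_of_lt hIJ'
  have key : ∀ b ∈ J, b ∉ I → I ⊔ Ideal.span {b} = J := by
    intro b hbJ hbI
    have hle : I ⊔ Ideal.span {b} ≤ J :=
      sup_le hIJ'.le ((Ideal.span_singleton_le_iff_mem J).mpr hbJ)
    have hlt : I < I ⊔ Ideal.span {b} := by
      refine lt_of_le_of_ne le_sup_left fun h => hbI ?_
      rw [h]
      exact Ideal.mem_sup_right (Ideal.mem_span_singleton_self b)
    by_contra hne
    exact hmax _ (lt_of_le_of_ne hle hne) hlt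
  refine ⟨I, a, hIJ', haI, key a haJ haI, fun x hx => ?_⟩
  by_contra hxa
  have h1 := key (x * a) (J.mul_mem_left x haJ) hxa
  have h2 : a ∈ I ⊔ Ideal.span {x * a} := h1 ▸ haJ
  obtain ⟨i, hi, w, hw, hsum⟩ := Submodule.mem_sup.mp h2
  obtain ⟨t, rfl⟩ := Ideal.mem_span_singleton'.mp hw
  have h3 : (1 - t * x) * a = i := by
    linear_combination (-1 : A) * hsum
  have hunit : IsUnit (1 - t * x) :=
    IsLocalRing.isUnit_one_sub_self_of_mem_nonunits _
      (by rw [← IsLocalRing.mem_maximalIdeal]; exact Ideal.mul_mem_left _ t hx)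
  apply haI
  rw [← Ideal.unit_mul_mem_iff_mem I hunit, h3]
  exact hi

theorem isNilpotent_maximalIdeal : IsNilpotent (maximalIdeal A) := by
  have := IsArtinianRing.isNilpotent_jacobson_bot (R := A)
  rwa [IsLocalRing.jacobson_eq_maximalIdeal _ bot_ne_top] at this

/-- A flat ring map from an Artinian local ring to a nontrivial ring is injective. -/
theorem injective_of_flat_of_nontrivial {B : Type u} [CommRing B] [Nontrivial B] (φ : A →+* B)
    (hφ : φ.Flat) : Function.Injective φ := by
  rw [injective_iff_map_eq_zero]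
  intro c hc
  by_contra hc0
  have h1 : (1 : B) ∈ (maximalIdeal A).map φ := by
    apply mem_map_maximalIdeal_of_mul_mem φ hφ ⊥ c (by simpa using hc0) 1
    rw [hc, zero_mul]
    exact Ideal.zero_mem _
  obtain ⟨n, hn⟩ := isNilpotent_maximalIdeal (A := A)
  have h2 : (1 : B) ∈ ((maximalIdeal A).map φ) ^ n := by
    have := Ideal.pow_mem_pow h1 n
    rwa [one_pow] at this
  rw [← Ideal.map_pow, hn] at h2
  have h3 : (1 : B) = 0 := by simpa using h2
  exact one_ne_zero h3

end Decomp

end Groth.Agent.Lib.Helper75.RigAlg
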