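import Groth.Agent.Lib.Helper75.RigFun
import Groth.Agent.Lib.Helper7.FgSubalgLimit
import Groth.Agent.H76.LimFlat

/-!
# Noetherian approximation of a flat finitely presented morphism together with a function (helper75)

`p : X ⟶ Spec A` flat of finite presentation, `a ∈ Γ(X, O)`.  Then `(p, a)` is the base change of
some `(p', a')` with `p' : X' ⟶ T'` flat of finite type over a Noetherian affine scheme `T'`.
(Flat model over a f.g. `ℤ`-subalgebra `R ⊆ A`: helper7 `FgSubalgLimit.exists_model` with helper76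
`LimFlat.exists_flat_pullback_fst`; then `a` descends to a f.g. `R`-subalgebra of `A`.)
-/

set_option autoImplicit false
universe u

open CategoryTheory Limits AlgebraicGeometry

namespace Groth.Agent.Lib.Helper75.RigApprox

open Groth.Agent.Lib.Helper75.RigUniv

section Abstract

variable {C : Type*} [Category C] [HasPullbacks C]

/-- pasting bookkeeping for a two-step base change -/
theorem exists_iso_forall_isPullback {X X₀ T T₀ B : C}
    {p : X ⟶ T} {f₀ : X₀ ⟶ B} {g : X ⟶ X₀} {β : T ⟶ B} (hpb : IsPullback g p f₀ β)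
    (b₀ : T₀ ⟶ B) (c₀ : T ⟶ T₀) (hc₀ : c₀ ≫ b₀ = β) :
    ∃ e : X ≅ pullback c₀ (pullback.snd f₀ b₀), ∀ {Tk : C} (d : Tk ⟶ T₀) (ck : T ⟶ Tk)
      (_ : ck ≫ d = c₀)
      (πk : pullback c₀ (pullback.snd f₀ b₀) ⟶ pullback d (pullback.snd f₀ b₀))
      (_ : πk ≫ pullback.fst d (pullback.snd f₀ b₀) =
        pullback.fst c₀ (pullback.snd f₀ b₀) ≫ ck)
      (_ : πk ≫ pullback.snd d (pullback.snd f₀ b₀) = pullback.snd c₀ (pullback.snd f₀ b₀)),
      IsPullback (e.hom ≫ πk) p (pullback.fst d (pullback.snd f₀ b₀)) ck := by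
  subst hc₀
  have hpb1 : IsPullback (pullback.snd c₀ (pullback.snd f₀ b₀))
      (pullback.fst c₀ (pullback.snd f₀ b₀)) (pullback.snd f₀ b₀) c₀ :=
    (IsPullback.of_hasPullback _ _).flip
  have hpb2 : IsPullback (pullback.fst f₀ b₀) (pullback.snd f₀ b₀) f₀ b₀ :=
    IsPullback.of_hasPullback _ _
  have big := hpb1.paste_horiz hpb2
  have he1 := IsPullback.isoIsPullback_hom_fst _ _ hpb big
  have he2 := IsPullback.isoIsPullback_hom_snd _ _ hpb big
  refine ⟨IsPullback.isoIsPullback _ _ hpb big, ?_⟩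
  intro Tk d ck hck πk h1 h2
  have hleft : IsPullback (pullback.snd d (pullback.snd f₀ b₀))
      (pullback.fst d (pullback.snd f₀ b₀)) (pullback.snd f₀ b₀) d :=
    (IsPullback.of_hasPullback _ _).flip
  have R1 := hleft.paste_horiz hpb2
  have hm1 : ((IsPullback.isoIsPullback _ _ hpb big).hom ≫ πk) ≫
      (pullback.snd d (pullback.snd f₀ b₀) ≫ pullback.fst f₀ b₀) = g := by
    rw [Category.assoc, ← Category.assoc πk, h2, he1]
  have hm2 : ((IsPullback.isoIsPullback _ _ hpb big).hom ≫ πk) ≫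
      pullback.fst d (pullback.snd f₀ b₀) = p ≫ ck := by
    rw [Category.assoc, h1, ← Category.assoc, he2]
  have hbig : IsPullback (((IsPullback.isoIsPullback _ _ hpb big).hom ≫ πk) ≫
      (pullback.snd d (pullback.snd f₀ b₀) ≫ pullback.fst f₀ b₀)) p f₀ (ck ≫ (d ≫ b₀)) := by
    rw [hm1, ← Category.assoc, hck]
    exact hpb
  exact IsPullback.of_right hbig hm2 R1

end Abstract

theorem appTop_comp_eq {X P Q : Scheme.{u}} (e : X ≅ P) (π : P ⟶ Q) (a : Γ(X, ⊤)) (t : Γ(Q, ⊤))
    (ht : e.inv.appTop.hom a = π.appTop.hom t) : (e.hom ≫ π).appTop.hom t = a := by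
  rw [Scheme.Hom.comp_appTop]
  show e.hom.appTop.hom (π.appTop.hom t) = a
  rw [← ht, ← CommRingCat.comp_apply, ← Scheme.Hom.comp_appTop, Iso.hom_inv_id]
  rfl

section Relative

open Groth.Agent.Lib.Helper55.FgSubalgRel Groth.Agent.Lib.Helper13.LimDescent

variable {R A : Type u} [CommRing R] [CommRing A] [Algebra R A]

/-- descent of a function to a f.g. `R`-subalgebra of `A` (`R` Noetherian) -/
theorem exists_model_of_noetherian [IsNoetherianRing R] {X X₀ : Scheme.{u}}
    (p : X ⟶ Spec (CommRingCat.of A)) (f₀ : X₀ ⟶ Spec (CommRingCat.of R)) (g : X ⟶ X₀)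
    [Flat f₀] [LocallyOfFiniteType f₀] [QuasiCompact f₀] [QuasiSeparated f₀]
    (hpb : IsPullback g p f₀ (Spec.map (CommRingCat.ofHom (algebraMap R A)))) (a : Γ(X, ⊤)) :
    ∃ (T' X' : Scheme.{u}) (p' : X' ⟶ T') (m : X ⟶ X') (υ : Spec (CommRingCat.of A) ⟶ T')
      (a' : Γ(X', ⊤)), IsAffine T' ∧ IsLocallyNoetherian T' ∧ Flat p' ∧ LocallyOfFiniteType p' ∧
        QuasiCompact p' ∧ QuasiSeparated p' ∧ IsPullback m p p' υ ∧ m.appTop.hom a' = a := by
  have hφ : (specC R A).π.app (Opposite.op ∅) ≫ toBase R A ∅ =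
      Spec.map (CommRingCat.ofHom (algebraMap R A)) := specC_π_toBase R A (Opposite.op ∅)
  have hcs : CompactSpace ↥(pullback f₀ (toBase R A ∅)) :=
    QuasiCompact.compactSpace_of_compactSpace (h₀ (A := A) f₀)
  have hqs : QuasiSeparatedSpace ↥(pullback f₀ (toBase R A ∅)) :=
    quasiSeparatedSpace_of_quasiSeparated (h₀ (A := A) f₀)
  have hπ1 := sysCone_π_fst (specD R A) (specC R A) (Opposite.op ∅) (h₀ (A := A) f₀)
  have hπ2 := sysCone_π_snd (specD R A) (specC R A) (Opposite.op ∅) (h₀ (A := A) f₀)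
  -- comparison of `X` with the point of the limit cone
  obtain ⟨e, he⟩ := exists_iso_forall_isPullback hpb (toBase R A ∅)
    ((specC R A).π.app (Opposite.op ∅)) hφ
  -- descend the section
  obtain ⟨k, t, ht⟩ := exists_appTop_π_eq_of_isLimit (sys (specD R A) (Opposite.op ∅) (h₀ f₀))
    (sysCone (specD R A) (specC R A) (Opposite.op ∅) (h₀ f₀))
    (isLimitSysCone (specD R A) (specC R A) (Opposite.op ∅) (h₀ f₀) (isLimitSpecC R A))
    (e.inv.appTop.hom a)
  refine ⟨(specD R A).obj k.left, pullback ((specD R A).map k.hom) (h₀ (A := A) f₀),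
    pullback.fst ((specD R A).map k.hom) (h₀ (A := A) f₀),
    e.hom ≫ (sysCone (specD R A) (specC R A) (Opposite.op ∅) (h₀ (A := A) f₀)).π.app k,
    (specC R A).π.app k.left, t, inferInstance, inferInstance, ?_, ?_, ?_, ?_, ?_, ?_⟩
  · have : Flat (h₀ (A := A) f₀) := inferInstanceAs (Flat (pullback.snd f₀ (toBase R A ∅)))
    infer_instance
  · have : LocallyOfFiniteType (h₀ (A := A) f₀) :=
      inferInstanceAs (LocallyOfFiniteType (pullback.snd f₀ (toBase R A ∅)))
    infer_instance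
  · have : QuasiCompact (h₀ (A := A) f₀) :=
      inferInstanceAs (QuasiCompact (pullback.snd f₀ (toBase R A ∅)))
    infer_instance
  · have : QuasiSeparated (h₀ (A := A) f₀) :=
      inferInstanceAs (QuasiSeparated (pullback.snd f₀ (toBase R A ∅)))
    infer_instance
  · exact he ((specD R A).map k.hom) ((specC R A).π.app k.left) ((specC R A).w k.hom) _
      (hπ1 k) (hπ2 k)
  · exact appTop_comp_eq e _ a t ht

end Relative

section Absolute

/-- **Noetherian approximation** of a flat finitely presented morphism to an affine scheme,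
together with a global function. -/
theorem exists_noetherian_model {A : Type u} [CommRing A] {X : Scheme.{u}}
    (p : X ⟶ Spec (CommRingCat.of A)) [Flat p] [LocallyOfFinitePresentation p] [QuasiCompact p]
    [QuasiSeparated p] (a : Γ(X, ⊤)) :
    ∃ (T' X' : Scheme.{u}) (p' : X' ⟶ T') (m : X ⟶ X') (υ : Spec (CommRingCat.of A) ⟶ T')
      (a' : Γ(X', ⊤)), IsAffine T' ∧ IsLocallyNoetherian T' ∧ Flat p' ∧ LocallyOfFiniteType p' ∧
        QuasiCompact p' ∧ QuasiSeparated p' ∧ IsPullback m p p' υ ∧ m.appTop.hom a' = a := by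
  have hRI : MorphismProperty.RespectsIso (C := Scheme.{u}) @Flat :=
    MorphismProperty.IsStableUnderBaseChange.respectsIso
  obtain ⟨A₀, hA₀, X₀, f₀, g, hflat, hlfp, hqc, hqs, hpb⟩ :=
    Groth.Agent.Lib.Helper7.FgSubalgLimit.exists_model (A := A) @Flat
      (fun i X₀ f₀ _ _ _ h => by
        have : CompactSpace X₀ := QuasiCompact.compactSpace_of_compactSpace f₀
        exact Groth.Agent.H76.LimFlat.exists_flat_pullback_fst
          (Groth.Agent.Lib.Helper7.FgSubalgLimit.specD A)
          (Groth.Agent.Lib.Helper7.FgSubalgLimit.specC A) i f₀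
          (Groth.Agent.Lib.Helper7.FgSubalgLimit.isLimitSpecC A) h) p inferInstance
  have hN : IsNoetherianRing ↥A₀ := by
    have : Algebra.FiniteType ℤ ↥A₀ := (Subalgebra.fg_iff_finiteType _).mp hA₀
    exact Algebra.FiniteType.isNoetherianRing ℤ _
  exact exists_model_of_noetherian (R := ↥A₀) p f₀ g hpb a

end Absolute

end Groth.Agent.Lib.Helper75.RigApprox
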