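import Mathlib
import Groth.Agent.Lib.Helper75.RigAlg
import Groth.Agent.Lib.Helper75.GlueSec

/-!
# Flat schemes over Artinian local rings with trivial `H⁰` of the closed fibre (helper75)

`A` Artinian local, `ρ : A → K` a surjection onto a field, `p : X ⟶ Spec A` flat such that
`K → Γ(X ×_A Spec K)` is bijective.  Then `A → Γ(X, O_X)` is bijective
(`appTop_bijective_of_artinian`), and any morphism `f : X ⟶ Y` with one-point image factors through
`p` (`exists_factor_of_artinian`).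
-/

set_option autoImplicit false
universe u
open CategoryTheory CategoryTheory.Limits AlgebraicGeometry Opposite TopologicalSpace IsLocalRing

namespace Groth.Agent.Lib.Helper75.RigArtin

variable {A K : Type u} [CommRing A] [Field K] (ρ : A →+* K)
  {X : Scheme.{u}} (p : X ⟶ Spec (CommRingCat.of A))

/-- the point `Spec K ⟶ Spec A` -/
noncomputable abbrev pt : Spec (CommRingCat.of K) ⟶ Spec (CommRingCat.of A) :=
  Spec.map (CommRingCat.ofHom ρ)

/-- the structure map `A → Γ(X, U)` -/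
noncomputable def sm (U : X.Opens) : A →+* Γ(X, U) :=
  (X.presheaf.map (homOfLE (le_top : U ≤ ⊤)).op).hom.comp
    (p.appTop.hom.comp (Scheme.ΓSpecIso (CommRingCat.of A)).inv.hom)

theorem sm_res {U U' : X.Opens} (h : U' ≤ U) (a : A) :
    (X.presheaf.map (homOfLE h).op).hom (sm p U a) = sm p U' a := by
  unfold sm
  simp only [RingHom.comp_apply]
  rw [← CommRingCat.comp_apply, ← Functor.map_comp]
  rfl

theorem sm_flat [Flat p] {U : X.Opens} (hU : IsAffineOpen U) : (sm p U).Flat := by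
  have h1 : (p.appLE ⊤ U le_top).hom.Flat := Flat.flat_appLE p (isAffineOpen_top _) hU le_top
  have h2 : (Scheme.ΓSpecIso (CommRingCat.of A)).inv.hom.Flat :=
    RingHom.Flat.of_bijective
      ((ConcreteCategory.isIso_iff_bijective (Scheme.ΓSpecIso (CommRingCat.of A)).inv).mp
        inferInstance)
  have h3 : sm p U = (p.appLE ⊤ U le_top).hom.comp
      (Scheme.ΓSpecIso (CommRingCat.of A)).inv.hom := by
    ext a
    rfl
  rw [h3]
  exact RingHom.Flat.comp h2 h1

/-- `pr^♯ ∘ (A → Γ(X,U))` factors through `ρ`. -/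
theorem pr_app_sm (U : X.Opens) (a : A) :
    ((pullback.fst p (pt ρ)).app U).hom (sm p U a) =
      (X.presheaf.map (homOfLE (le_top : U ≤ ⊤)).op ≫ (pullback.fst p (pt ρ)).app U).hom
        (p.appTop.hom ((Scheme.ΓSpecIso (CommRingCat.of A)).inv.hom a)) := rfl

theorem prTop_sm (a : A) :
    (pullback.fst p (pt ρ)).appTop.hom (sm p ⊤ a) =
      (pullback.snd p (pt ρ)).appTop.hom ((Scheme.ΓSpecIso (CommRingCat.of K)).inv.hom (ρ a)) := by
  have h1 : sm p ⊤ a = p.appTop.hom ((Scheme.ΓSpecIso (CommRingCat.of A)).inv.hom a) := by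
    unfold sm
    simp only [RingHom.comp_apply]
    have : (homOfLE (le_top : (⊤ : X.Opens) ≤ ⊤)) = 𝟙 _ := rfl
    rw [this, op_id, X.presheaf.map_id]
    rfl
  rw [h1, ← CommRingCat.comp_apply, ← Scheme.Hom.comp_appTop]
  have h2 := congrArg Scheme.Hom.appTop (pullback.condition (f := p) (g := pt ρ))
  rw [h2, Scheme.Hom.comp_appTop, CommRingCat.comp_apply]
  congr 1
  have h3 := Scheme.ΓSpecIso_inv_naturality (CommRingCat.ofHom ρ)
  have h4 := congrArg (fun t => t.hom a) h3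
  simp only [CommRingCat.comp_apply] at h4
  exact h4.symm

theorem pr_app_sm_eq_zero (U : X.Opens) (a : A) (ha : ρ a = 0) :
    ((pullback.fst p (pt ρ)).app U).hom (sm p U a) = 0 := by
  have h1 : sm p U a = (X.presheaf.map (homOfLE (le_top : U ≤ ⊤)).op).hom (sm p ⊤ a) :=
    (sm_res p le_top a).symm
  rw [h1, ← CommRingCat.comp_apply, Scheme.Hom.naturality, CommRingCat.comp_apply]
  have h2 : ((pullback.fst p (pt ρ)).app ⊤).hom (sm p ⊤ a) = 0 := by
    have := prTop_sm ρ p a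
    rw [ha, map_zero, map_zero] at this
    exact this
  rw [h2, map_zero]

theorem map_ker_le_ker_pr_app (U : X.Opens) :
    (RingHom.ker ρ).map (sm p U) ≤ RingHom.ker ((pullback.fst p (pt ρ)).app U).hom := by
  rw [Ideal.map_le_iff_le_comap]
  intro a ha
  rw [Ideal.mem_comap, RingHom.mem_ker]
  exact pr_app_sm_eq_zero ρ p U a ((RingHom.mem_ker).mp ha)

theorem ker_pr_app_le (hρ : Function.Surjective ρ) (U : X.Opens) (hU : IsAffineOpen U) :
    RingHom.ker ((pullback.fst p (pt ρ)).app U).hom ≤ (RingHom.ker ρ).map (sm p U) := by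
  intro g hg
  rw [RingHom.mem_ker] at hg
  -- the pushout square of sections
  have H : IsPullback (pullback.fst p (pt ρ)) (pullback.snd p (pt ρ)) p (pt ρ) :=
    IsPullback.of_hasPullback _ _
  have hUST : (⊤ : (Spec (CommRingCat.of K)).Opens) ≤ (pt ρ) ⁻¹ᵁ ⊤ := le_top
  have hUSX : U ≤ p ⁻¹ᵁ ⊤ := le_top
  have hiso := isIso_pushoutSection_of_isAffineOpen H hUST hUSX
    (UY := (pullback.fst p (pt ρ)) ⁻¹ᵁ U ⊓ (pullback.snd p (pt ρ)) ⁻¹ᵁ ⊤) rfl
    (isAffineOpen_top _) (isAffineOpen_top _) hU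
  have hpo := (isIso_pushoutSection_iff H hUST hUSX rfl).mp hiso
  -- the test ring
  let R' : CommRingCat.{u} := CommRingCat.of (Γ(X, U) ⧸ (RingHom.ker ρ).map (sm p U))
  let a₁ : Γ(X, U) ⟶ R' := CommRingCat.ofHom (Ideal.Quotient.mk _)
  let ψ : A →+* R' := (Ideal.Quotient.mk ((RingHom.ker ρ).map (sm p U))).comp (sm p U)
  have hψ : ∀ a, ρ a = 0 → ψ a = 0 := by
    intro a ha
    change (Ideal.Quotient.mk _) (sm p U a) = 0
    rw [Ideal.Quotient.eq_zero_iff_mem]
    exact Ideal.mem_map_of_mem _ ((RingHom.mem_ker).mpr ha)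
  let l : K →+* R' := ρ.liftOfSurjective hρ ⟨ψ, fun a ha => hψ a ha⟩
  have hl : ∀ a, l (ρ a) = ψ a := fun a =>
    RingHom.liftOfRightInverse_comp_apply ρ _ (Function.surjInv_eq hρ) ⟨ψ, fun a ha => hψ a ha⟩ a
  let a₂ : Γ(Spec (CommRingCat.of K), ⊤) ⟶ R' :=
    (Scheme.ΓSpecIso (CommRingCat.of K)).hom ≫ CommRingCat.ofHom l
  have hcomm : p.appLE ⊤ U hUSX ≫ a₁ = (pt ρ).appLE ⊤ ⊤ hUST ≫ a₂ := by
    ext x
    obtain ⟨a, rfl⟩ : ∃ a : A, (Scheme.ΓSpecIso (CommRingCat.of A)).inv.hom a = x :=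
      ⟨(Scheme.ΓSpecIso (CommRingCat.of A)).hom.hom x, by
        rw [← CommRingCat.comp_apply, Iso.hom_inv_id]; rfl⟩
    have e1 : (p.appLE ⊤ U hUSX ≫ a₁).hom ((Scheme.ΓSpecIso (CommRingCat.of A)).inv.hom a) =
        ψ a := rfl
    have e2 : ((pt ρ).appLE ⊤ ⊤ hUST).hom ((Scheme.ΓSpecIso (CommRingCat.of A)).inv.hom a) =
        (Scheme.ΓSpecIso (CommRingCat.of K)).inv.hom (ρ a) := by
      have h3 := Scheme.ΓSpecIso_inv_naturality (CommRingCat.ofHom ρ)
      have h4 := congrArg (fun t => t.hom a) h3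
      have h5 : (pt ρ).appLE ⊤ ⊤ hUST = (pt ρ).appTop :=
        Scheme.Hom.appLE_eq_app (pt ρ) (U := ⊤)
      rw [h5]
      exact h4.symm
    rw [e1, CommRingCat.comp_apply, e2]
    change _ = l ((Scheme.ΓSpecIso (CommRingCat.of K)).hom.hom
      ((Scheme.ΓSpecIso (CommRingCat.of K)).inv.hom (ρ a)))
    rw [← CommRingCat.comp_apply, Iso.inv_hom_id]
    exact (hl a).symm
  let d := hpo.desc a₁ a₂ hcomm
  have hd : (pullback.fst p (pt ρ)).appLE U _ (by simp) ≫ d = a₁ := hpo.inl_desc a₁ a₂ hcomm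
  have h6 : ((pullback.fst p (pt ρ)).appLE U
      ((pullback.fst p (pt ρ)) ⁻¹ᵁ U ⊓ (pullback.snd p (pt ρ)) ⁻¹ᵁ ⊤) (by simp)).hom g = 0 := by
    rw [Scheme.Hom.appLE, CommRingCat.comp_apply, hg, map_zero]
  have h7 : a₁.hom g = 0 := by
    rw [← hd, CommRingCat.comp_apply, h6, map_zero]
  exact (Ideal.Quotient.eq_zero_iff_mem).mp h7

section Artin

variable [IsLocalRing A]

theorem ker_eq_maximalIdeal (hρ : Function.Surjective ρ) : RingHom.ker ρ = maximalIdeal A := by
  have : (RingHom.ker ρ).IsMaximal := RingHom.ker_isMaximal_of_surjective ρ hρ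
  exact IsLocalRing.eq_maximalIdeal this

/-- `h` restricted to every affine open lies in `J O_X`. -/
def Good (J : Ideal A) (h : Γ(X, ⊤)) : Prop :=
  ∀ U : X.affineOpens, (X.presheaf.map (homOfLE (le_top : U.1 ≤ ⊤)).op).hom h ∈ J.map (sm p U.1)

theorem good_top (h : Γ(X, ⊤)) : Good p ⊤ h := by
  intro U
  rw [Ideal.map_top]
  exact Submodule.mem_top

theorem eq_zero_of_good_bot (h : Γ(X, ⊤)) (hh : Good p ⊥ h) : h = 0 := by
  apply GlueSec.eq_zero_of_forall_res (fun U : X.affineOpens => U.1)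
  · intro z
    obtain ⟨_, ⟨V, hV, rfl⟩, hzU, -⟩ :=
      X.isBasis_affineOpens.exists_subset_of_mem_open (Set.mem_univ z) isOpen_univ
    exact ⟨⟨V, hV⟩, hzU⟩
  · intro U
    have := hh U
    rw [Ideal.map_bot] at this
    exact this

theorem mul_mem_map_of_mem_map {B : Type u} [CommRing B] (φ : A →+* B) (I M : Ideal A) (a : A)
    (hma : ∀ x ∈ M, x * a ∈ I) (y : B) (hy : y ∈ M.map φ) : φ a * y ∈ I.map φ := by
  have h1 : Ideal.span {a} * M ≤ I := by
    rw [Ideal.span_singleton_mul_le_iff]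
    intro z hz
    rw [mul_comm]
    exact hma z hz
  have h2 : φ a * y ∈ (Ideal.span {a}).map φ * M.map φ :=
    Ideal.mul_mem_mul (Ideal.mem_map_of_mem _ (Ideal.mem_span_singleton_self a)) hy
  rw [← Ideal.map_mul] at h2
  exact Ideal.map_mono h1 h2

/-- naturality of `pr^♯` against restriction, elementwise -/
theorem pr_app_res {U U' : X.Opens} (hUU' : U' ≤ U) (g : Γ(X, U)) :
    ((pullback.fst p (pt ρ)).app U').hom ((X.presheaf.map (homOfLE hUU').op).hom g) =
      ((pullback p (pt ρ)).presheaf.map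
        (homOfLE ((pullback.fst p (pt ρ)).preimage_mono hUU')).op).hom
        (((pullback.fst p (pt ρ)).app U).hom g) := by
  rw [← CommRingCat.comp_apply, ← CommRingCat.comp_apply, Scheme.Hom.naturality]
  rfl

theorem step [Flat p] (hρ : Function.Surjective ρ)
    (h0 : Function.Surjective (pullback.snd p (pt ρ)).appTop.hom)
    (I : Ideal A) (a : A) (ha : a ∉ I) (hma : ∀ x ∈ maximalIdeal A, x * a ∈ I)
    (h : Γ(X, ⊤)) (hh : Good p (I ⊔ Ideal.span {a}) h) :
    ∃ c' : A, Good p I (h - sm p ⊤ (a * c')) := by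
  classical
  have hker := ker_eq_maximalIdeal ρ hρ
  -- decompositions
  have hdec : ∀ U : X.affineOpens, ∃ (i b : Γ(X, U.1)), i ∈ I.map (sm p U.1) ∧
      (X.presheaf.map (homOfLE (le_top : U.1 ≤ ⊤)).op).hom h = i + sm p U.1 a * b := by
    intro U
    have h1 := hh U
    rw [Ideal.map_sup, Ideal.map_span, Set.image_singleton] at h1
    obtain ⟨i, hi, w, hw, hsum⟩ := Submodule.mem_sup.mp h1
    obtain ⟨b, rfl⟩ := Ideal.mem_span_singleton'.mp hw
    exact ⟨i, b, hi, by rw [← hsum, mul_comm]⟩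
  choose i b hi hib using hdec
  -- uniqueness mod m
  have huniq : ∀ (U : X.affineOpens) (i' b' : Γ(X, U.1)), i' ∈ I.map (sm p U.1) →
      (X.presheaf.map (homOfLE (le_top : U.1 ≤ ⊤)).op).hom h = i' + sm p U.1 a * b' →
      b' - b U ∈ (maximalIdeal A).map (sm p U.1) := by
    intro U i' b' hi' hib'
    apply RigAlg.mem_map_maximalIdeal_of_mul_mem (sm p U.1) (sm_flat p U.2) I a ha
    have h2 : sm p U.1 a * (b' - b U) = i U - i' := by
      have h3 := (hib U).symm.trans hib'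
      linear_combination (-1 : Γ(X, U.1)) * h3
    rw [h2]
    exact Ideal.sub_mem _ (hi U) hi'
  -- the sections on the closed fibre
  let Z := pullback p (pt ρ)
  let pr : Z ⟶ X := pullback.fst p (pt ρ)
  let W : X.affineOpens → Z.Opens := fun U => pr ⁻¹ᵁ U.1
  let s : ∀ U : X.affineOpens, Γ(Z, W U) := fun U => (pr.app U.1).hom (b U)
  have hres : ∀ (U U' : X.affineOpens) (hUU' : U'.1 ≤ U.1),
      (Z.presheaf.map (homOfLE (pr.preimage_mono hUU')).op).hom (s U) = s U' := by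
    intro U U' hUU'
    have e1 := pr_app_res ρ p hUU' (b U)
    rw [← e1]
    have h4 : (X.presheaf.map (homOfLE hUU').op).hom (b U) - b U' ∈
        (maximalIdeal A).map (sm p U'.1) := by
      apply huniq U' ((X.presheaf.map (homOfLE hUU').op).hom (i U))
      · have h5 := Ideal.mem_map_of_mem (X.presheaf.map (homOfLE hUU').op).hom (hi U)
        rw [Ideal.map_map] at h5
        have h6 : (X.presheaf.map (homOfLE hUU').op).hom.comp (sm p U.1) = sm p U'.1 := by
          ext x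
          exact sm_res p hUU' x
        rwa [h6] at h5
      · have h7 := congrArg (X.presheaf.map (homOfLE hUU').op).hom (hib U)
        rw [map_add, map_mul, sm_res, ← CommRingCat.comp_apply, ← Functor.map_comp] at h7
        exact h7
    have h8 := map_ker_le_ker_pr_app ρ p U'.1 (hker ▸ h4)
    rw [RingHom.mem_ker, map_sub, sub_eq_zero] at h8
    exact h8
  obtain ⟨β, hβ⟩ := GlueSec.exists_glue_sections W
    (by
      intro z
      obtain ⟨_, ⟨V, hV, rfl⟩, hzU, -⟩ :=
        X.isBasis_affineOpens.exists_subset_of_mem_open (Set.mem_univ (pr.base z)) isOpen_univ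
      exact ⟨⟨V, hV⟩, hzU⟩)
    (fun U' U => U'.1 ≤ U.1) (fun U' U hUU' => pr.preimage_mono hUU')
    (by
      intro U U' z hz hz'
      obtain ⟨_, ⟨V, hV, rfl⟩, hzV, hVsub⟩ :=
        X.isBasis_affineOpens.exists_subset_of_mem_open
          (show pr.base z ∈ ((U.1 ⊓ U'.1 : X.Opens) : Set X) from ⟨hz, hz'⟩) (U.1 ⊓ U'.1).isOpen
      exact ⟨⟨V, hV⟩, hzV, fun x hx => (hVsub hx).1, fun x hx => (hVsub hx).2⟩)
    s (fun U U' hUU' => hres U U' hUU')
  -- β comes from `c'`
  obtain ⟨k0, hk0⟩ := h0 β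
  obtain ⟨c', hc'⟩ := hρ ((Scheme.ΓSpecIso (CommRingCat.of K)).hom.hom k0)
  have hβ' : β = pr.appTop.hom (sm p ⊤ c') := by
    have e : (Scheme.ΓSpecIso (CommRingCat.of K)).inv.hom (ρ c') = k0 := by
      rw [hc', ← CommRingCat.comp_apply, Iso.hom_inv_id]; rfl
    rw [prTop_sm, e]
    exact hk0.symm
  refine ⟨c', fun U => ?_⟩
  have h9 : b U - sm p U.1 c' ∈ (maximalIdeal A).map (sm p U.1) := by
    rw [← hker]
    apply ker_pr_app_le ρ p hρ U.1 U.2
    rw [RingHom.mem_ker, map_sub, sub_eq_zero]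
    have h10 := hβ U
    rw [hβ'] at h10
    have h11 := pr_app_res ρ p (le_top : U.1 ≤ ⊤) (sm p ⊤ c')
    rw [sm_res] at h11
    rw [h11]
    exact h10.symm
  have h12 : (X.presheaf.map (homOfLE (le_top : U.1 ≤ ⊤)).op).hom (h - sm p ⊤ (a * c')) =
      i U + sm p U.1 a * (b U - sm p U.1 c') := by
    rw [map_sub, sm_res, hib U, map_mul]
    ring
  rw [h12]
  exact Ideal.add_mem _ (hi U) (mul_mem_map_of_mem_map _ I _ a hma _ h9)

theorem sm_top_surjective [IsArtinianRing A] [Flat p] (hρ : Function.Surjective ρ)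
    (h0 : Function.Surjective (pullback.snd p (pt ρ)).appTop.hom) :
    Function.Surjective (sm p ⊤) := by
  have key : ∀ J : Ideal A, ∀ h, Good p J h → ∃ c, h = sm p ⊤ c := by
    intro J
    induction J using WellFoundedLT.induction with
    | ind J ih =>
      intro h hh
      by_cases hJ : J = ⊥
      · subst hJ
        exact ⟨0, by rw [eq_zero_of_good_bot p h hh, map_zero]⟩
      · obtain ⟨I, a, hIJ, haI, hsup, hma⟩ := RigAlg.exists_lt_sup_span_singleton_eq J hJ
        rw [← hsup] at hh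
        obtain ⟨c', hc'⟩ := step ρ p hρ h0 I a haI hma h hh
        obtain ⟨c, hc⟩ := ih I hIJ _ hc'
        exact ⟨c + a * c', by rw [map_add, ← hc]; ring⟩
  intro h
  obtain ⟨c, hc⟩ := key ⊤ h (good_top p h)
  exact ⟨c, hc.symm⟩

theorem sm_top_injective [IsArtinianRing A] [Flat p] (hne : Nonempty X) :
    Function.Injective (sm p ⊤) := by
  obtain ⟨x⟩ := hne
  obtain ⟨_, ⟨V, hV, rfl⟩, hxV, -⟩ :=
    X.isBasis_affineOpens.exists_subset_of_mem_open (Set.mem_univ x) isOpen_univ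
  have : Nonempty V := ⟨⟨x, hxV⟩⟩
  have : Nontrivial Γ(X, V) := Scheme.component_nontrivial X V
  have hinj := RigAlg.injective_of_flat_of_nontrivial (sm p V) (sm_flat p hV)
  intro c c' hcc
  apply hinj
  rw [← sm_res p (le_top : V ≤ ⊤), ← sm_res p (le_top : V ≤ ⊤), hcc]

theorem nonempty_of_bijective (h0 : Function.Injective (pullback.snd p (pt ρ)).appTop.hom) :
    Nonempty X := by
  by_contra hX
  rw [not_nonempty_iff] at hX
  have : IsEmpty ↥(pullback p (pt ρ)) := Function.isEmpty (pullback.fst p (pt ρ)).base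
  have hsub : Subsingleton Γ(pullback p (pt ρ), ⊤) := inferInstance
  have hinj : Function.Injective ((pullback.snd p (pt ρ)).appTop.hom.comp
      (Scheme.ΓSpecIso (CommRingCat.of K)).inv.hom) :=
    h0.comp ((ConcreteCategory.isIso_iff_bijective
      (Scheme.ΓSpecIso (CommRingCat.of K)).inv).mp inferInstance).1
  exact zero_ne_one (hinj (Subsingleton.elim _ _) : (0 : K) = 1)

theorem sm_top_eq : sm p ⊤ = p.appTop.hom.comp (Scheme.ΓSpecIso (CommRingCat.of A)).inv.hom := by
  ext a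
  unfold sm
  simp only [RingHom.comp_apply]
  have : (homOfLE (le_top : (⊤ : X.Opens) ≤ ⊤)) = 𝟙 _ := rfl
  rw [this, op_id, X.presheaf.map_id]
  rfl

/-- **Key theorem**: `A → Γ(X, O_X)` is bijective. -/
theorem appTop_bijective_of_artinian [IsArtinianRing A] [Flat p] (hρ : Function.Surjective ρ)
    (h0 : Function.Bijective (pullback.snd p (pt ρ)).appTop.hom) :
    Function.Bijective p.appTop.hom := by
  have h1 : Function.Bijective (sm p ⊤) :=
    ⟨sm_top_injective p (nonempty_of_bijective ρ p h0.1), sm_top_surjective ρ p hρ h0.2⟩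
  rw [sm_top_eq] at h1
  have h2 : Function.Bijective (Scheme.ΓSpecIso (CommRingCat.of A)).hom.hom :=
    (ConcreteCategory.isIso_iff_bijective (Scheme.ΓSpecIso (CommRingCat.of A)).hom).mp
      inferInstance
  have h3 : p.appTop.hom = (p.appTop.hom.comp (Scheme.ΓSpecIso (CommRingCat.of A)).inv.hom).comp
      (Scheme.ΓSpecIso (CommRingCat.of A)).hom.hom := by
    ext x
    simp only [RingHom.comp_apply]
    rw [← CommRingCat.comp_apply (Scheme.ΓSpecIso (CommRingCat.of A)).hom, Iso.hom_inv_id]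
    rfl
  rw [h3]
  exact h1.comp h2

/-- a morphism to an affine-open-supported target factors through `p` once `p^♯` is an iso on
global sections. -/
theorem exists_factor_of_appTop_bijective {S X Y : Scheme.{u}} (p : X ⟶ S)
    (hp : Function.Bijective p.appTop.hom)
    (f : X ⟶ Y) (y : Y) (hy : ∀ x : X, f.base x = y) :
    ∃ τ : S ⟶ Y, f = p ≫ τ := by
  obtain ⟨V, hV, hyV⟩ : ∃ V : Y.Opens, IsAffineOpen V ∧ y ∈ V := by
    obtain ⟨_, ⟨V, hV, rfl⟩, hzU, -⟩ :=
      Y.isBasis_affineOpens.exists_subset_of_mem_open (Set.mem_univ y) isOpen_univ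
    exact ⟨V, hV, hzU⟩
  have hrange : Set.range f ⊆ Set.range V.ι := by
    rintro _ ⟨x, rfl⟩
    rw [Scheme.Opens.range_ι]
    show f.base x ∈ V
    rw [hy x]
    exact hyV
  let ψ : X ⟶ (V : Scheme) := IsOpenImmersion.lift V.ι f hrange
  have hψ : ψ ≫ V.ι = f := IsOpenImmersion.lift_fac _ _ _
  have hVaff : IsAffine (V : Scheme) := hV
  have hiso : IsIso p.appTop := (ConcreteCategory.isIso_iff_bijective _).mpr hp
  let ρ' : Γ((V : Scheme), ⊤) ⟶ Γ(S, ⊤) := ψ.appTop ≫ inv p.appTop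
  let r₀ : S ⟶ (V : Scheme) := S.toSpecΓ ≫ Spec.map ρ' ≫ inv (V : Scheme).toSpecΓ
  refine ⟨r₀ ≫ V.ι, ?_⟩
  rw [← hψ, ← Category.assoc]
  congr 1
  rw [← cancel_mono (V : Scheme).toSpecΓ, Scheme.toSpecΓ_naturality]
  simp only [r₀, Category.assoc, IsIso.inv_hom_id, Category.comp_id]
  rw [Scheme.toSpecΓ_naturality_assoc, ← Spec.map_comp]
  congr 2
  simp only [ρ', Category.assoc, IsIso.inv_hom_id, Category.comp_id]

theorem exists_factor_of_artinian [IsArtinianRing A] [Flat p] (hρ : Function.Surjective ρ)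
    (h0 : Function.Bijective (pullback.snd p (pt ρ)).appTop.hom)
    {Y : Scheme.{u}} (f : X ⟶ Y) (y : Y) (hy : ∀ x : X, f.base x = y) :
    ∃ τ : Spec (CommRingCat.of A) ⟶ Y, f = p ≫ τ :=
  exists_factor_of_appTop_bijective p (appTop_bijective_of_artinian ρ p hρ h0) f y hy

end Artin

end Groth.Agent.Lib.Helper75.RigArtin
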