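import Mathlib
import Groth.Agent.Lib.Helper75.RigArtin
import Groth.Agent.Lib.Helper75.AALocal

/-!
# Rigidity: factorisation over the infinitesimal neighbourhoods of a point (helper75)
-/

set_option autoImplicit false
universe u
open CategoryTheory CategoryTheory.Limits AlgebraicGeometry IsLocalRing

namespace Groth.Agent.Lib.Helper75.RigFib

open Groth.Agent.Lib.Helper75.AAAlg Groth.Agent.Lib.Helper75.AALocal
  Groth.Agent.Lib.Helper75.RigArtin

section Alg

variable {C : Type u} [CommRing C] (𝔭 : Ideal C) [𝔭.IsPrime]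

theorem pow_ne_top (n : ℕ) (hn : 0 < n) :
    (maximalIdeal (Localization.AtPrime 𝔭)) ^ n ≠ ⊤ := by
  intro h
  have h1 : (maximalIdeal (Localization.AtPrime 𝔭)) ^ n ≤ maximalIdeal (Localization.AtPrime 𝔭) :=
    Ideal.pow_le_self hn.ne'
  rw [h] at h1
  exact Ideal.IsPrime.ne_top' (top_le_iff.mp h1)

theorem nontrivial_Q (n : ℕ) (hn : 0 < n) : Nontrivial (Q 𝔭 n) :=
  Ideal.Quotient.nontrivial_iff.mpr (pow_ne_top 𝔭 n hn)

theorem isLocalRing_Q (n : ℕ) (hn : 0 < n) : IsLocalRing (Q 𝔭 n) := by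
  have := nontrivial_Q 𝔭 n hn
  exact IsLocalRing.of_surjective' (Ideal.Quotient.mk _) Ideal.Quotient.mk_surjective

theorem isArtinianRing_Q [IsNoetherianRing C] (n : ℕ) (hn : 0 < n) : IsArtinianRing (Q 𝔭 n) := by
  have := nontrivial_Q 𝔭 n hn
  have := isLocalRing_Q 𝔭 n hn
  have := IsLocalHom.of_surjective (Ideal.Quotient.mk
    ((maximalIdeal (Localization.AtPrime 𝔭)) ^ n)) Ideal.Quotient.mk_surjective
  rw [isArtinianRing_iff_isNilpotent_maximalIdeal]
  have h1 : (maximalIdeal (Localization.AtPrime 𝔭)).map (Ideal.Quotient.mk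
      ((maximalIdeal (Localization.AtPrime 𝔭)) ^ n)) = maximalIdeal (Q 𝔭 n) := by
    ext x
    obtain ⟨x, rfl⟩ := Ideal.Quotient.mk_surjective x
    simp [sup_eq_left.mpr (le_maximalIdeal (pow_ne_top 𝔭 n hn))]
  refine ⟨n, ?_⟩
  rw [← h1, ← Ideal.map_pow, Ideal.zero_eq_bot, Ideal.map_eq_bot_iff_le_ker, Ideal.mk_ker]

/-- `C_𝔭/𝔪^n → κ(𝔭)` -/
noncomputable def rho (n : ℕ) (hn : 0 < n) : Q 𝔭 n →+* 𝔭.ResidueField :=
  Ideal.Quotient.factor (Ideal.pow_le_self hn.ne')

theorem rho_surjective (n : ℕ) (hn : 0 < n) : Function.Surjective (rho 𝔭 n hn) :=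
  Ideal.Quotient.factor_surjective _

theorem rho_algebraMap (n : ℕ) (hn : 0 < n) (c : C) :
    rho 𝔭 n hn (algebraMap C (Q 𝔭 n) c) = algebraMap C 𝔭.ResidueField c := rfl

end Alg

section Transport

theorem bijective_appTop_of_isIso {X Y : Scheme.{u}} (f : X ⟶ Y) [IsIso f] :
    Function.Bijective f.appTop.hom := by
  have : IsIso f.appTop := by
    show IsIso (f.app ⊤)
    infer_instance
  exact (ConcreteCategory.isIso_iff_bijective _).mp this

/-- bijectivity of `Γ(T) → Γ(X ×_S T)` is invariant under precomposing `T ⟶ S` with an iso. -/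
theorem bijective_snd_appTop_of_iso {X S T T' : Scheme.{u}} (p : X ⟶ S) (x : T ⟶ S) (ε : T' ⟶ T)
    [IsIso ε] (h : Function.Bijective (pullback.snd p x).appTop.hom) :
    Function.Bijective (pullback.snd p (ε ≫ x)).appTop.hom := by
  let θ : pullback p (ε ≫ x) ⟶ pullback p x :=
    pullback.map p (ε ≫ x) p x (𝟙 X) ε (𝟙 S) (by simp) (by simp)
  have hθ : θ ≫ pullback.snd p x = pullback.snd p (ε ≫ x) ≫ ε := pullback.lift_snd _ _ _
  have h1 : pullback.snd p (ε ≫ x) = θ ≫ pullback.snd p x ≫ inv ε := by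
    rw [← Category.assoc, hθ, Category.assoc, IsIso.hom_inv_id, Category.comp_id]
  rw [h1, Scheme.Hom.comp_appTop, Scheme.Hom.comp_appTop]
  have b1 : Function.Bijective (inv ε).appTop.hom := bijective_appTop_of_isIso _
  have hθiso : IsIso θ := pullback.map_isIso _ _ _ _ _ _ _ _ _
  have b2 : Function.Bijective θ.appTop.hom := bijective_appTop_of_isIso _
  exact b2.comp (h.comp b1)

theorem bijective_snd_appTop_congr {X S T : Scheme.{u}} (p : X ⟶ S) {x x' : T ⟶ S} (hx : x = x')
    (h : Function.Bijective (pullback.snd p x).appTop.hom) :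
    Function.Bijective (pullback.snd p x').appTop.hom := by
  subst hx
  exact h

/-- transitivity: the fibre of `X ×_S T → T` over `T' → T` is the fibre of `X → S` over `T' → S`. -/
theorem bijective_snd_snd_appTop {X S T T' : Scheme.{u}} (p : X ⟶ S) (t : T ⟶ S) (x : T' ⟶ T)
    (h : Function.Bijective (pullback.snd p (x ≫ t)).appTop.hom) :
    Function.Bijective (pullback.snd (pullback.snd p t) x).appTop.hom := by
  have h1 : pullback.snd (pullback.snd p t) x =
      (pullbackLeftPullbackSndIso p t x).hom ≫ pullback.snd p (x ≫ t) :=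
    (pullbackLeftPullbackSndIso_hom_snd p t x).symm
  rw [h1, Scheme.Hom.comp_appTop]
  have b1 : Function.Bijective (pullbackLeftPullbackSndIso p t x).hom.appTop.hom :=
    bijective_appTop_of_isIso _
  exact b1.comp h

end Transport

section Chart

variable {X S : Scheme.{u}} (p : X ⟶ S) {C : Type u} [CommRing C] (𝔭 : Ideal C) [𝔭.IsPrime]
  (v : Spec (CommRingCat.of C) ⟶ S)

/-- chart form of `κ(s) = H⁰(X_s)` from the `fromSpecResidueField` form -/
theorem bijective_chart_of_fromSpecResidueField [IsOpenImmersion v]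
    (h0 : Function.Bijective
      (pullback.snd p (S.fromSpecResidueField (v.base ⟨𝔭, inferInstance⟩))).appTop.hom) :
    Function.Bijective (pullback.snd p
      (Spec.map (CommRingCat.ofHom (algebraMap C 𝔭.ResidueField)) ≫ v)).appTop.hom := by
  let x : Spec (CommRingCat.of C) := ⟨𝔭, inferInstance⟩
  let ε : Spec (CommRingCat.of 𝔭.ResidueField) ⟶ Spec (S.residueField (v.base x)) :=
    Spec.map (v.residueFieldMap x ≫ (Scheme.Spec.residueFieldIso (CommRingCat.of C) x).hom)
  have hε : ε ≫ S.fromSpecResidueField (v.base x) =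
      Spec.map (CommRingCat.ofHom (algebraMap C 𝔭.ResidueField)) ≫ v := by
    have h1 := Scheme.Spec.map_residueFieldIso_inv_eq_fromSpecResidueField (CommRingCat.of C) x
    have h2 := Scheme.Hom.SpecMap_residueFieldMap_fromSpecResidueField v x
    show Spec.map (v.residueFieldMap x ≫ (Scheme.Spec.residueFieldIso (CommRingCat.of C) x).hom) ≫
      S.fromSpecResidueField (v.base x) = _
    rw [Spec.map_comp, Category.assoc, h2, ← h1, ← Category.assoc, ← Category.assoc,
      ← Spec.map_comp, Iso.inv_hom_id, Spec.map_id, Category.id_comp]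
  exact bijective_snd_appTop_congr p hε (bijective_snd_appTop_of_iso p _ ε h0)

end Chart

section Main

variable {X S Y : Scheme.{u}} (p : X ⟶ S) [Flat p] {C : Type u} [CommRing C] [IsNoetherianRing C]
  (𝔭 : Ideal C) [𝔭.IsPrime] (v : Spec (CommRingCat.of C) ⟶ S)

/-- If `f` collapses the fibre of `p` over `s = v(𝔭)` and `κ(s) = H⁰(X_s)`, then over each
infinitesimal neighbourhood `T_n` of `s` the morphism `f` factors through `X ×_S T_n → T_n`. -/
theorem exists_factor_tn
    (hfib : Function.Bijective (pullback.snd p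
      (Spec.map (CommRingCat.ofHom (algebraMap C 𝔭.ResidueField)) ≫ v)).appTop.hom)
    (f : X ⟶ Y) (y : Y)
    (hcol : ∀ x : X, p.base x = v.base ⟨𝔭, inferInstance⟩ → f.base x = y) (n : ℕ) :
    ∃ τ : Spec (CommRingCat.of (Q 𝔭 n)) ⟶ Y,
      pullback.fst p (tn C 𝔭 v n) ≫ f = pullback.snd p (tn C 𝔭 v n) ≫ τ := by
  rcases Nat.eq_zero_or_pos n with rfl | hn
  · have hsub : Subsingleton (Q 𝔭 0) := by
      rw [Ideal.Quotient.subsingleton_iff]
      rw [pow_zero, Ideal.one_eq_top]
    have hE : IsEmpty ↥(Spec (CommRingCat.of (Q 𝔭 0))) :=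
      inferInstanceAs (IsEmpty (PrimeSpectrum (Q 𝔭 0)))
    have hE' : IsEmpty ↥(pullback p (tn C 𝔭 v 0)) :=
      Function.isEmpty (pullback.snd p (tn C 𝔭 v 0)).base
    exact ⟨(isInitialOfIsEmpty).to Y, (isInitialOfIsEmpty).hom_ext _ _⟩
  · have hloc := isLocalRing_Q 𝔭 n hn
    have hart := isArtinianRing_Q 𝔭 n hn
    have hρ := rho_surjective 𝔭 n hn
    have hpt : pt (rho 𝔭 n hn) ≫ tn C 𝔭 v n =
        Spec.map (CommRingCat.ofHom (algebraMap C 𝔭.ResidueField)) ≫ v := by
      unfold tn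
      rw [← Category.assoc, ← Spec.map_comp]
      rfl
    have h0' : Function.Bijective
        (pullback.snd (pullback.snd p (tn C 𝔭 v n)) (pt (rho 𝔭 n hn))).appTop.hom :=
      bijective_snd_snd_appTop p _ _ (bijective_snd_appTop_congr p hpt.symm hfib)
    apply exists_factor_of_artinian (rho 𝔭 n hn) (pullback.snd p (tn C 𝔭 v n)) hρ h0'
      (pullback.fst p (tn C 𝔭 v n) ≫ f) y
    intro w
    rw [Scheme.Hom.comp_apply]
    apply hcol
    rw [← Scheme.Hom.comp_apply, pullback.condition, Scheme.Hom.comp_apply, tn_apply]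

end Main

end Groth.Agent.Lib.Helper75.RigFib
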