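import Mathlib
import Groth.Agent.Lib.Helper75.AALocal
import Groth.Agent.Lib.Helper75.AAOpen

/-!
# Spreading out agreement from infinitesimal neighbourhoods, general form (helper75)

`π : P ⟶ S` with `P` locally Noetherian, `F F' : P ⟶ Y` with `Y` separated over some `T` and
`F ≫ q = F' ≫ q`.  If `F` and `F'` agree on `P ×_S Spec (O_{S,s}/𝔪^n)` for all `n`, then they agree
on an open neighbourhood of every point of `π⁻¹(s)`.
-/

set_option autoImplicit false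
universe u
open CategoryTheory CategoryTheory.Limits AlgebraicGeometry IsLocalRing

namespace Groth.Agent.Lib.Helper75.RigKrull

open Groth.Agent.Lib.Helper75.AAAlg Groth.Agent.Lib.Helper75.AALocal
  Groth.Agent.Lib.Helper75.AAOpen

section Alg

variable {C B : Type u} [CommRing C] [CommRing B] (φ : C →+* B) (𝔭 : Ideal C) [𝔭.IsPrime]
  (𝔮 : Ideal B) [𝔮.IsPrime] (h : 𝔭 = 𝔮.comap φ)

/-- `C_𝔭/𝔪^n → B_𝔮/𝔪^n` -/
noncomputable def alpha (n : ℕ) : Q 𝔭 n →+* Q 𝔮 n :=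
  Ideal.quotientMap _ (Localization.localRingHom 𝔭 𝔮 φ h) (by
    have hloc := Localization.isLocalHom_localRingHom 𝔭 𝔮 φ h
    have h1 : (maximalIdeal (Localization.AtPrime 𝔭)).map (Localization.localRingHom 𝔭 𝔮 φ h) ≤
        maximalIdeal (Localization.AtPrime 𝔮) :=
      ((IsLocalRing.local_hom_TFAE _).out 0 2).mp hloc
    rw [← Ideal.map_le_iff_le_comap, Ideal.map_pow]
    exact Ideal.pow_right_mono h1 n)

theorem alpha_algebraMap (n : ℕ) (c : C) :
    alpha φ 𝔭 𝔮 h n (algebraMap C (Q 𝔭 n) c) = algebraMap B (Q 𝔮 n) (φ c) := by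
  have e1 : algebraMap C (Q 𝔭 n) c =
      Ideal.Quotient.mk _ (algebraMap C (Localization.AtPrime 𝔭) c) := rfl
  have e2 : algebraMap B (Q 𝔮 n) (φ c) =
      Ideal.Quotient.mk _ (algebraMap B (Localization.AtPrime 𝔮) (φ c)) := rfl
  rw [e1, e2]
  unfold alpha
  rw [Ideal.quotientMap_mk, Localization.localRingHom_to_map]

omit [𝔮.IsPrime] in
theorem exists_mul_eq_zero_of_forall_algebraMap_eq_zero [𝔮.IsPrime] [IsNoetherianRing B] (r : B)
    (hr : ∀ n, algebraMap B (Q 𝔮 n) r = 0) : ∃ g : B, g ∉ 𝔮 ∧ g * r = 0 := by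
  have hmem : ∀ n, algebraMap B (Localization.AtPrime 𝔮) r ∈
      (maximalIdeal (Localization.AtPrime 𝔮)) ^ n := by
    intro n
    have h1 := hr n
    have e2 : algebraMap B (Q 𝔮 n) r =
      Ideal.Quotient.mk _ (algebraMap B (Localization.AtPrime 𝔮) r) := rfl
    rw [e2, Ideal.Quotient.eq_zero_iff_mem] at h1
    exact h1
  have hbot := Ideal.iInf_pow_eq_bot_of_isLocalRing
    (maximalIdeal (Localization.AtPrime 𝔮)) Ideal.IsPrime.ne_top'
  have h0 : algebraMap B (Localization.AtPrime 𝔮) r = 0 := by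
    have h2 : algebraMap B (Localization.AtPrime 𝔮) r ∈
        ⨅ n, (maximalIdeal (Localization.AtPrime 𝔮)) ^ n := by
      rw [Ideal.mem_iInf]; exact hmem
    rwa [hbot] at h2
  rw [IsLocalization.map_eq_zero_iff 𝔮.primeCompl] at h0
  obtain ⟨m, hm⟩ := h0
  exact ⟨m.1, m.2, hm⟩

theorem exists_mul_eq_zero_ideal [IsNoetherianRing B] (I : Ideal B)
    (hI : ∀ r ∈ I, ∀ n, algebraMap B (Q 𝔮 n) r = 0) :
    ∃ g : B, g ∉ 𝔮 ∧ ∀ r ∈ I, g * r = 0 := by
  classical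
  obtain ⟨G, hG⟩ : I.FG := IsNoetherian.noetherian I
  have h1 : ∀ r : B, r ∈ I → ∃ s : B, s ∉ 𝔮 ∧ s * r = 0 := fun r hr =>
    exists_mul_eq_zero_of_forall_algebraMap_eq_zero 𝔮 r (hI r hr)
  have hGI : ∀ r ∈ G, r ∈ I := fun r hr => hG ▸ Ideal.subset_span hr
  let s : B → B := fun r => if hr : r ∈ I then (h1 r hr).choose else 1
  have hs : ∀ r, s r ∉ 𝔮 := by
    intro r
    by_cases hr : r ∈ I
    · simp only [s, dif_pos hr]; exact (h1 r hr).choose_spec.1
    · simp only [s, dif_neg hr]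
      exact fun h => Ideal.IsPrime.ne_top' ((Ideal.eq_top_iff_one 𝔮).mpr h)
  have hs0 : ∀ r ∈ I, s r * r = 0 := by
    intro r hr
    simp only [s, dif_pos hr]; exact (h1 r hr).choose_spec.2
  refine ⟨∏ r ∈ G, s r, ?_, ?_⟩
  · have : (∏ r ∈ G, s r) ∈ 𝔮.primeCompl := Submonoid.prod_mem _ fun r _ => hs r
    exact this
  · intro r hr
    rw [← hG] at hr
    refine Submodule.span_induction (p := fun x _ => (∏ r ∈ G, s r) * x = 0) ?_ ?_ ?_ ?_ hr
    · intro x hx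
      obtain ⟨c, hc⟩ := Finset.dvd_prod_of_mem s hx
      rw [hc, mul_comm (s x), mul_assoc, hs0 x (hGI x hx), mul_zero]
    · exact mul_zero _
    · intro x y _ _ hx hy
      rw [mul_add, hx, hy, add_zero]
    · intro a x _ hx
      rw [smul_eq_mul, mul_left_comm, hx, mul_zero]

end Alg

/-- **Krull spreading, general form.** -/
theorem locEq_of_infinitesimal {P S Y T : Scheme.{u}} [IsLocallyNoetherian P] (π : P ⟶ S)
    (F F' : P ⟶ Y) (q : Y ⟶ T) [IsSeparated q] (hq : F ≫ q = F' ≫ q)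
    (C : Type u) [CommRing C] (𝔭 : Ideal C) [𝔭.IsPrime]
    (v : Spec (CommRingCat.of C) ⟶ S) [IsOpenImmersion v]
    (hinf : ∀ n, pullback.fst π (tn C 𝔭 v n) ≫ F = pullback.fst π (tn C 𝔭 v n) ≫ F')
    (z : P) (hz : π.base z = v.base ⟨𝔭, inferInstance⟩) : LocEq F F' z := by
  -- affine chart of `P` around `z` inside `π⁻¹(range v)`
  obtain ⟨_, ⟨U, hU, rfl⟩, hzU, hUsub⟩ := P.isBasis_affineOpens.exists_subset_of_mem_open
    (show z ∈ ((π ⁻¹ᵁ v.opensRange : P.Opens) : Set P) from ⟨_, hz.symm⟩)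
    (π ⁻¹ᵁ v.opensRange).isOpen
  have hBN : IsNoetherianRing Γ(P, U) := IsLocallyNoetherian.component_noetherian ⟨U, hU⟩
  have hopen : IsOpenImmersion hU.fromSpec := hU.isOpenImmersion_fromSpec
  let u : Spec Γ(P, U) ⟶ P := hU.fromSpec
  have hrange : Set.range (u ≫ π) ⊆ Set.range v := by
    rintro _ ⟨w, rfl⟩
    rw [Scheme.Hom.comp_apply]
    have hw : u w ∈ (U : Set P) := by
      rw [← hU.range_fromSpec]
      exact ⟨w, rfl⟩
    exact hUsub hw
  let l : Spec Γ(P, U) ⟶ Spec (CommRingCat.of C) := IsOpenImmersion.lift v (u ≫ π) hrange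
  have hl : l ≫ v = u ≫ π := IsOpenImmersion.lift_fac _ _ _
  obtain ⟨φ, hφ⟩ : ∃ φ : CommRingCat.of C ⟶ Γ(P, U), Spec.map φ = l :=
    ⟨Spec.preimage l, Spec.map_preimage l⟩
  obtain ⟨𝔮, h𝔮⟩ : ∃ 𝔮 : Spec Γ(P, U), u 𝔮 = z := by
    have : z ∈ Set.range u := by
      rw [hU.range_fromSpec]; exact hzU
    exact this
  have h𝔭 : 𝔭 = 𝔮.asIdeal.comap φ.hom := by
    have h1 : v (l 𝔮) = v ⟨𝔭, inferInstance⟩ := by
      rw [← Scheme.Hom.comp_apply, hl, Scheme.Hom.comp_apply, h𝔮]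
      exact hz
    have h2 := v.isOpenEmbedding.injective h1
    rw [← hφ] at h2
    have h3 := congrArg PrimeSpectrum.asIdeal h2
    exact h3.symm
  have hover : (u ≫ F) ≫ q = (u ≫ F') ≫ q := by
    rw [Category.assoc, Category.assoc, hq]
  obtain ⟨I, hI⟩ := Groth.Agent.Lib.Helper75.AAEq.exists_ideal_equalizer q Γ(P, U)
    (u ≫ F) (u ≫ F') hover
  have h𝔮prime : 𝔮.asIdeal.IsPrime := 𝔮.isPrime
  have hkey : ∀ r ∈ I, ∀ n, algebraMap Γ(P, U) (Q 𝔮.asIdeal n) r = 0 := by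
    intro r hr n
    let β : Γ(P, U) ⟶ CommRingCat.of (Q 𝔮.asIdeal n) :=
      CommRingCat.ofHom (algebraMap Γ(P, U) (Q 𝔮.asIdeal n))
    let α : CommRingCat.of (Q 𝔭 n) ⟶ CommRingCat.of (Q 𝔮.asIdeal n) :=
      CommRingCat.ofHom (alpha φ.hom 𝔭 𝔮.asIdeal h𝔭 n)
    have hcomm : (Spec.map β ≫ u) ≫ π = Spec.map α ≫ tn C 𝔭 v n := by
      rw [Category.assoc, ← hl, ← hφ, ← Category.assoc, ← Spec.map_comp]
      unfold tn
      rw [← Category.assoc, ← Spec.map_comp]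
      congr 2
      ext c
      exact (alpha_algebraMap φ.hom 𝔭 𝔮.asIdeal h𝔭 n c).symm
    let κ := pullback.lift _ _ hcomm
    have hκ : κ ≫ pullback.fst π (tn C 𝔭 v n) = Spec.map β ≫ u := pullback.lift_fst _ _ _
    have h1 : Spec.map β ≫ u ≫ F = Spec.map β ≫ u ≫ F' := by
      rw [← Category.assoc, ← hκ, Category.assoc, hinf n, ← Category.assoc κ, hκ, Category.assoc]
    have h2 := (hI _ β).mp h1 hr
    rw [RingHom.mem_ker] at h2
    exact h2
  obtain ⟨g, hg, hg0⟩ := exists_mul_eq_zero_ideal 𝔮.asIdeal I hkey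
  -- the open `D(g)`
  let j := vAway Γ(P, U) u g
  have hj : j ≫ F = j ≫ F' := by
    show (Spec.map (CommRingCat.ofHom (algebraMap Γ(P, U) (Localization.Away g))) ≫ u) ≫ F =
      (Spec.map (CommRingCat.ofHom (algebraMap Γ(P, U) (Localization.Away g))) ≫ u) ≫ F'
    rw [Category.assoc, Category.assoc]
    apply (hI _ _).mpr
    intro r hr
    rw [RingHom.mem_ker]
    have h3 : algebraMap Γ(P, U) (Localization.Away g) g *
        algebraMap Γ(P, U) (Localization.Away g) r = 0 := by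
      rw [← map_mul, hg0 r hr, map_zero]
    exact ((IsLocalization.Away.algebraMap_isUnit g).mul_right_eq_zero).mp h3
  refine locEq_of_mem_range F F' j hj z ?_
  rw [← h𝔮]
  exact range_vAway Γ(P, U) u g 𝔮 hg

end Groth.Agent.Lib.Helper75.RigKrull
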