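import Mathlib
import Groth.Agent.Lib.Helper75.AAOpen

/-!
# Rigidity: topology of the collapsed locus (helper75)
-/

set_option autoImplicit false
universe u
open CategoryTheory CategoryTheory.Limits AlgebraicGeometry TopologicalSpace

namespace Groth.Agent.Lib.Helper75.RigTop

open Groth.Agent.Lib.Helper75.AAOpen

/-- In a locally Noetherian scheme an open set stable under specialization is closed. -/
theorem isClosed_of_isOpen_of_stableUnderSpecialization {S : Scheme.{u}} [IsLocallyNoetherian S]
    (A : Set S) (hA : IsOpen A) (hs : StableUnderSpecialization A) : IsClosed A := by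
  rw [← isOpen_compl_iff, isOpen_iff_forall_mem_open]
  intro s hsA
  obtain ⟨_, ⟨U, hU, rfl⟩, hsU, -⟩ :=
    S.isBasis_affineOpens.exists_subset_of_mem_open (Set.mem_univ s) isOpen_univ
  have hCN : IsNoetherianRing Γ(S, U) := IsLocallyNoetherian.component_noetherian ⟨U, hU⟩
  have hopen : IsOpenImmersion hU.fromSpec := hU.isOpenImmersion_fromSpec
  let v : Spec Γ(S, U) ⟶ S := hU.fromSpec
  let A' : Set (PrimeSpectrum Γ(S, U)) := v.base ⁻¹' A
  have hA'open : IsOpen A' := hA.preimage v.continuous
  have hA'stab : StableUnderSpecialization A' := hs.preimage v.continuous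
  have hA'closed : IsClosed A' :=
    PrimeSpectrum.isClosed_of_stableUnderSpecialization_of_isConstructible hA'stab
      ((NoetherianSpace.isCompact A').isConstructible hA'open)
  refine ⟨v.base '' A'ᶜ, ?_, v.isOpenEmbedding.isOpenMap _ hA'closed.isOpen_compl, ?_⟩
  · rintro _ ⟨w, hw, rfl⟩
    exact hw
  · have : s ∈ Set.range v := by
      rw [hU.range_fromSpec]; exact hsU
    obtain ⟨w, rfl⟩ := this
    exact ⟨w, hsA, rfl⟩

section Diag

variable {P T Y : Scheme.{u}} (F F' : P ⟶ Y) (q : Y ⟶ T) (hq : F ≫ q = F' ≫ q)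

/-- the locus where `(F, F')` lands in the diagonal -/
def E : Set P :=
  (pullback.lift F F' hq).base ⁻¹' (Set.range (pullback.diagonal q).base)

theorem isClosed_E [IsSeparated q] : IsClosed (E F F' q hq) :=
  (pullback.diagonal q).isClosedEmbedding.isClosed_range.preimage
    (pullback.lift F F' hq).continuous

theorem eq_of_mem_E (z : P) (hz : z ∈ E F F' q hq) : F.base z = F'.base z := by
  obtain ⟨y', hy'⟩ := hz
  have h1 : F.base z = (pullback.fst q q).base ((pullback.lift F F' hq).base z) := by
    rw [← Scheme.Hom.comp_apply, pullback.lift_fst]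
  have h2 : F'.base z = (pullback.snd q q).base ((pullback.lift F F' hq).base z) := by
    rw [← Scheme.Hom.comp_apply, pullback.lift_snd]
  rw [h1, h2, ← hy', ← Scheme.Hom.comp_apply, ← Scheme.Hom.comp_apply, pullback.diagonal_fst,
    pullback.diagonal_snd]

theorem mem_E_of_locEq (z : P) (h : LocEq F F' z) : z ∈ E F F' q hq := by
  obtain ⟨O, hzO, hO⟩ := h
  have h1 : O.ι ≫ pullback.lift F F' hq = (O.ι ≫ F) ≫ pullback.diagonal q := by
    apply pullback.hom_ext
    · rw [Category.assoc, pullback.lift_fst, Category.assoc, pullback.diagonal_fst,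
        Category.comp_id]
    · rw [Category.assoc, pullback.lift_snd, Category.assoc, pullback.diagonal_snd,
        Category.comp_id, hO]
  refine ⟨F.base z, ?_⟩
  have h2 := congrArg (fun t : (O : Scheme) ⟶ pullback q q => t.base ⟨z, hzO⟩) h1
  simp only [Scheme.Hom.comp_apply] at h2
  exact h2.symm

theorem isOpen_locEq : IsOpen {z : P | LocEq F F' z} := by
  rw [isOpen_iff_forall_mem_open]
  rintro z ⟨O, hzO, hO⟩
  exact ⟨O, fun w hw => ⟨O, hw, hO⟩, O.isOpen, hzO⟩

end Diag

section Main

variable {P S Y : Scheme.{u}} (π : P ⟶ S) (F F' : P ⟶ Y) (q : Y ⟶ S) [IsSeparated q]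
  (hq : F ≫ q = F' ≫ q)

include hq in
/-- **Clopen-ness of the collapsed locus**, abstract form. -/
theorem isClopen_of_locEq [IsLocallyNoetherian S] [Flat π] (hπ : IsClosedMap π.base) (S₁ : Set S)
    (h1 : ∀ s ∈ S₁, ∀ z : P, π.base z = s → LocEq F F' z)
    (h2 : ∀ s : S, (∀ z : P, π.base z = s → F.base z = F'.base z) → s ∈ S₁) : IsClopen S₁ := by
  have hopen : IsOpen S₁ := by
    rw [isOpen_iff_forall_mem_open]
    intro s hs
    let W : Set P := {z : P | LocEq F F' z}
    have hW : IsOpen W := isOpen_locEq F F'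
    refine ⟨(π.base '' Wᶜ)ᶜ, ?_, (hπ _ hW.isClosed_compl).isOpen_compl, ?_⟩
    · intro s' hs'
      apply h2
      intro z hz
      have hzW : z ∈ W := by
        by_contra hcon
        exact hs' ⟨z, hcon, hz⟩
      exact eq_of_mem_E F F' q hq z (mem_E_of_locEq F F' q hq z hzW)
    · rintro ⟨z, hzW, hz⟩
      exact hzW (h1 s hs z hz)
  refine ⟨isClosed_of_isOpen_of_stableUnderSpecialization S₁ hopen ?_, hopen⟩
  intro s' s hspec hs'
  apply h2
  intro z hz
  have hgen : GeneralizingMap π.base := Flat.generalizingMap π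
  obtain ⟨z', hz'z, hz's'⟩ := hgen (hz ▸ hspec)
  have hz'E : z' ∈ E F F' q hq := mem_E_of_locEq F F' q hq z' (h1 s' hs' z' hz's')
  have hzE : z ∈ E F F' q hq :=
    (isClosed_E F F' q hq).closure_subset_iff.mpr (Set.singleton_subset_iff.mpr hz'E)
      (specializes_iff_mem_closure.mp hz'z)
  exact eq_of_mem_E F F' q hq z hzE

end Main

end Groth.Agent.Lib.Helper75.RigTop
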