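import Mathlib
import Groth.Agent.Lib.Helper75.RigFib
import Groth.Agent.Lib.Helper75.RigKrull
import Groth.Agent.Lib.Helper75.RigTop

/-!
# The rigidity lemma over a locally Noetherian base (GIT Prop. 6.1) (helper75)
-/

set_option autoImplicit false
universe u
open CategoryTheory CategoryTheory.Limits AlgebraicGeometry TopologicalSpace

namespace Groth.Agent.Lib.Helper75.RigMain

open Groth.Agent.Lib.Helper75.AAAlg Groth.Agent.Lib.Helper75.AALocal
  Groth.Agent.Lib.Helper75.AAOpen

/-- `κ(s) → H⁰(X_s, O)` is bijective -/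
def FibH0 {X S : Scheme.{u}} (p : X ⟶ S) (s : S) : Prop :=
  Function.Bijective (pullback.snd p (S.fromSpecResidueField s)).appTop.hom

/-- the locus of points of `S` whose fibre is collapsed by `f` -/
def collapsed {X S Y : Scheme.{u}} (p : X ⟶ S) (f : X ⟶ Y) : Set S :=
  {s | ∃ y : Y, ∀ x : X, p.base x = s → f.base x = y}

theorem exists_noeth_chart {S : Scheme.{u}} [IsLocallyNoetherian S] (s : S) :
    ∃ (C : Type u) (_ : CommRing C) (_ : IsNoetherianRing C) (𝔭 : Ideal C) (_ : 𝔭.IsPrime)
      (v : Spec (CommRingCat.of C) ⟶ S), IsOpenImmersion v ∧ v.base ⟨𝔭, inferInstance⟩ = s := by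
  obtain ⟨_, ⟨U, hU, rfl⟩, hsU, -⟩ :=
    S.isBasis_affineOpens.exists_subset_of_mem_open (Set.mem_univ s) isOpen_univ
  have hCN : IsNoetherianRing Γ(S, U) := IsLocallyNoetherian.component_noetherian ⟨U, hU⟩
  have hopen : IsOpenImmersion hU.fromSpec := hU.isOpenImmersion_fromSpec
  have : s ∈ Set.range hU.fromSpec := by
    rw [hU.range_fromSpec]; exact hsU
  obtain ⟨w, hw⟩ := this
  exact ⟨Γ(S, U), inferInstance, hCN, w.asIdeal, w.isPrime, hU.fromSpec, hopen, hw⟩

theorem nonempty_fibre {X S : Scheme.{u}} (p : X ⟶ S) (s : S) (h0 : FibH0 p s) :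
    ∃ x : X, p.base x = s := by
  have hne : Nonempty ↥(pullback p (S.fromSpecResidueField s)) := by
    by_contra hE
    rw [not_nonempty_iff] at hE
    have hsub : Subsingleton Γ(pullback p (S.fromSpecResidueField s), ⊤) := inferInstance
    have hsub' : Subsingleton Γ(Spec (S.residueField s), ⊤) := h0.1.subsingleton
    have hnt : Nontrivial Γ(Spec (S.residueField s), ⊤) :=
      @Scheme.component_nontrivial (Spec (S.residueField s)) ⊤ ⟨⟨default, trivial⟩⟩
    exact not_subsingleton _ hsub'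
  obtain ⟨w⟩ := hne
  refine ⟨(pullback.fst p (S.fromSpecResidueField s)).base w, ?_⟩
  rw [← Scheme.Hom.comp_apply, pullback.condition, Scheme.Hom.comp_apply,
    Scheme.fromSpecResidueField_apply]

section Core

variable {P X S Y : Scheme.{u}} [IsLocallyNoetherian S] [IsLocallyNoetherian P]
  (p : X ⟶ S) [Flat p] (q : Y ⟶ S) [IsSeparated q] (f : X ⟶ Y)
  (π : P ⟶ S) (F F' : P ⟶ Y) (hq : F ≫ q = F' ≫ q)

include hq in
/-- the local step: from collapse of one fibre to local agreement of `F`, `F'` above it. -/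
theorem locEq_of_collapsed
    (hagree : ∀ (T : Scheme.{u}) (t : T ⟶ S) (τ : T ⟶ Y),
      pullback.fst p t ≫ f = pullback.snd p t ≫ τ →
      pullback.fst π t ≫ F = pullback.fst π t ≫ F')
    (s : S) (h0 : FibH0 p s) (hs : s ∈ collapsed p f) (z : P) (hz : π.base z = s) :
    LocEq F F' z := by
  obtain ⟨C, _, hCN, 𝔭, h𝔭, v, hv, hvs⟩ := exists_noeth_chart s
  obtain ⟨y, hy⟩ := hs
  subst hvs
  have hfib := RigFib.bijective_chart_of_fromSpecResidueField p 𝔭 v h0
  refine RigKrull.locEq_of_infinitesimal π F F' q hq C 𝔭 v (fun n => ?_) z hz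
  obtain ⟨τ, hτ⟩ := RigFib.exists_factor_tn p 𝔭 v hfib f y hy n
  exact hagree _ _ τ hτ

end Core

section Proper

variable {X S Y : Scheme.{u}} [IsLocallyNoetherian S] (p : X ⟶ S) [IsProper p] [Flat p]
  (q : Y ⟶ S) [IsSeparated q] (f : X ⟶ Y) (hf : f ≫ q = p)

include hf in
theorem proper_hq : (pullback.fst p p ≫ f) ≫ q = (pullback.snd p p ≫ f) ≫ q := by
  rw [Category.assoc, Category.assoc, hf, pullback.condition]

omit [IsLocallyNoetherian S] [IsProper p] [Flat p] in
theorem proper_agree (T : Scheme.{u}) (t : T ⟶ S) (τ : T ⟶ Y)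
    (hτ : pullback.fst p t ≫ f = pullback.snd p t ≫ τ) :
    pullback.fst (pullback.fst p p ≫ p) t ≫ pullback.fst p p ≫ f =
      pullback.fst (pullback.fst p p ≫ p) t ≫ pullback.snd p p ≫ f := by
  have hc : pullback.fst (pullback.fst p p ≫ p) t ≫ pullback.fst p p ≫ p =
      pullback.snd (pullback.fst p p ≫ p) t ≫ t := pullback.condition
  let a₁ : pullback (pullback.fst p p ≫ p) t ⟶ pullback p t :=
    pullback.lift (pullback.fst (pullback.fst p p ≫ p) t ≫ pullback.fst p p)
      (pullback.snd (pullback.fst p p ≫ p) t) (by rw [Category.assoc]; exact hc)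
  let a₂ : pullback (pullback.fst p p ≫ p) t ⟶ pullback p t :=
    pullback.lift (pullback.fst (pullback.fst p p ≫ p) t ≫ pullback.snd p p)
      (pullback.snd (pullback.fst p p ≫ p) t) (by
        rw [Category.assoc, ← pullback.condition (f := p) (g := p)]; exact hc)
  have e1 : pullback.fst (pullback.fst p p ≫ p) t ≫ pullback.fst p p ≫ f =
      pullback.snd (pullback.fst p p ≫ p) t ≫ τ := by
    have : a₁ ≫ pullback.fst p t = pullback.fst (pullback.fst p p ≫ p) t ≫ pullback.fst p p :=
      pullback.lift_fst _ _ _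
    rw [← Category.assoc, ← this, Category.assoc, hτ, ← Category.assoc]
    congr 1
    exact pullback.lift_snd _ _ _
  have e2 : pullback.fst (pullback.fst p p ≫ p) t ≫ pullback.snd p p ≫ f =
      pullback.snd (pullback.fst p p ≫ p) t ≫ τ := by
    have : a₂ ≫ pullback.fst p t = pullback.fst (pullback.fst p p ≫ p) t ≫ pullback.snd p p :=
      pullback.lift_fst _ _ _
    rw [← Category.assoc, ← this, Category.assoc, hτ, ← Category.assoc]
    congr 1
    exact pullback.lift_snd _ _ _
  rw [e1, e2]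

theorem isLocallyNoetherian_pullback : IsLocallyNoetherian (pullback p p) := by
  have : IsLocallyNoetherian X := LocallyOfFiniteType.isLocallyNoetherian p
  exact LocallyOfFiniteType.isLocallyNoetherian (pullback.fst p p)

include hf in
theorem proper_locEq (s : S) (h0 : FibH0 p s) (hs : s ∈ collapsed p f) (z : ↥(pullback p p))
    (hz : (pullback.fst p p ≫ p).base z = s) :
    LocEq (pullback.fst p p ≫ f) (pullback.snd p p ≫ f) z := by
  have := isLocallyNoetherian_pullback p
  exact locEq_of_collapsed p q f (pullback.fst p p ≫ p) _ _ (proper_hq p q f hf)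
    (proper_agree p f) s h0 hs z hz

include hf in
theorem isClopen_collapsed_of_proper (h0 : ∀ s, FibH0 p s) : IsClopen (collapsed p f) := by
  apply RigTop.isClopen_of_locEq (pullback.fst p p ≫ p) (pullback.fst p p ≫ f)
    (pullback.snd p p ≫ f) q (proper_hq p q f hf) (pullback.fst p p ≫ p).isClosedMap
  · intro s hs z hz
    exact proper_locEq p q f hf s (h0 s) hs z hz
  · intro s hs
    obtain ⟨x₀, hx₀⟩ := nonempty_fibre p s (h0 s)
    refine ⟨f.base x₀, fun x hx => ?_⟩
    obtain ⟨z, hz1, hz2⟩ := Scheme.Pullback.exists_preimage_pullback (f := p) (g := p) x₀ x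
      (hx₀.trans hx.symm)
    have h1 := hs z (by rw [Scheme.Hom.comp_apply, hz1, hx₀])
    rw [Scheme.Hom.comp_apply, Scheme.Hom.comp_apply, hz1, hz2] at h1
    exact h1.symm

include hf in
theorem exists_section_of_proper_of_univ (h0 : ∀ s, FibH0 p s)
    (huniv : collapsed p f = Set.univ) : ∃ t : S ⟶ Y, t ≫ q = 𝟙 S ∧ f = p ≫ t := by
  have hFF : pullback.fst p p ≫ f = pullback.snd p p ≫ f := by
    apply eq_of_forall_locEq
    intro z
    exact proper_locEq p q f hf _ (h0 _) (huniv ▸ Set.mem_univ _) z rfl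
  have hsurj : Surjective p := ⟨fun s' => nonempty_fibre p s' (h0 s')⟩
  have hEE : EffectiveEpi p := inferInstance
  let t : S ⟶ Y := EffectiveEpi.desc p f (fun {Z} g₁ g₂ hg => by
    have h1 : pullback.lift g₁ g₂ hg ≫ pullback.fst p p ≫ f =
        pullback.lift g₁ g₂ hg ≫ pullback.snd p p ≫ f := by rw [hFF]
    rw [pullback.lift_fst_assoc, pullback.lift_snd_assoc] at h1
    exact h1)
  have ht : p ≫ t = f := EffectiveEpi.fac p f _
  have hepi : Epi p := inferInstance
  refine ⟨t, ?_, ht.symm⟩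
  rw [← cancel_epi p, ← Category.assoc, ht, hf, Category.comp_id]

include hf in
theorem exists_section_of_proper [ConnectedSpace S] (h0 : ∀ s, FibH0 p s) (s : S)
    (hs : s ∈ collapsed p f) : ∃ t : S ⟶ Y, t ≫ q = 𝟙 S ∧ f = p ≫ t := by
  have hclopen := isClopen_collapsed_of_proper p q f hf h0
  exact exists_section_of_proper_of_univ p q f hf h0 (hclopen.eq_univ ⟨s, hs⟩)

end Proper

section Section

variable {X S Y : Scheme.{u}} [IsLocallyNoetherian S] [IsLocallyNoetherian X] (p : X ⟶ S) [Flat p]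
  (q : Y ⟶ S) [IsSeparated q] (f : X ⟶ Y) (hf : f ≫ q = p) (ε : S ⟶ X) (hε : ε ≫ p = 𝟙 S)

include hf hε in
theorem section_hq : f ≫ q = (p ≫ ε ≫ f) ≫ q := by
  rw [Category.assoc, Category.assoc, hf, hε, Category.comp_id]

include hε in
omit [IsLocallyNoetherian S] [IsLocallyNoetherian X] [Flat p] in
theorem section_agree (T : Scheme.{u}) (t : T ⟶ S) (τ : T ⟶ Y)
    (hτ : pullback.fst p t ≫ f = pullback.snd p t ≫ τ) :
    pullback.fst p t ≫ f = pullback.fst p t ≫ p ≫ ε ≫ f := by
  let εt : T ⟶ pullback p t := pullback.lift (t ≫ ε) (𝟙 T) (by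
    rw [Category.assoc, hε, Category.comp_id, Category.id_comp])
  have h1 : εt ≫ pullback.snd p t = 𝟙 T := pullback.lift_snd _ _ _
  have h2 : εt ≫ pullback.fst p t = t ≫ ε := pullback.lift_fst _ _ _
  have h3 : τ = t ≫ ε ≫ f := by
    rw [← Category.id_comp τ, ← h1, Category.assoc, ← hτ, ← Category.assoc, h2, Category.assoc]
  rw [hτ, h3, pullback.condition_assoc]

include hf hε in
theorem section_locEq (s : S) (h0 : FibH0 p s) (hs : s ∈ collapsed p f) (z : X)
    (hz : p.base z = s) : LocEq f (p ≫ ε ≫ f) z :=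
  locEq_of_collapsed p q f p _ _ (section_hq p q f hf ε hε) (section_agree p f ε hε) s h0 hs z hz

include hf hε in
theorem isClopen_collapsed_of_section (hcl : IsClosedMap p.base) (h0 : ∀ s, FibH0 p s) :
    IsClopen (collapsed p f) := by
  apply RigTop.isClopen_of_locEq p f (p ≫ ε ≫ f) q (section_hq p q f hf ε hε) hcl
  · intro s hs z hz
    exact section_locEq p q f hf ε hε s (h0 s) hs z hz
  · intro s hs
    refine ⟨f.base (ε.base s), fun x hx => ?_⟩
    have h1 := hs x hx
    rw [h1, Scheme.Hom.comp_apply, Scheme.Hom.comp_apply, hx]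

include hf hε in
theorem exists_section_of_section [ConnectedSpace S] (hcl : IsClosedMap p.base)
    (h0 : ∀ s, FibH0 p s) (s : S) (hs : s ∈ collapsed p f) :
    ∃ t : S ⟶ Y, t ≫ q = 𝟙 S ∧ f = p ≫ t := by
  have hclopen := isClopen_collapsed_of_section p q f hf ε hε hcl h0
  have huniv : collapsed p f = Set.univ := hclopen.eq_univ ⟨s, hs⟩
  have hFF : f = p ≫ ε ≫ f := by
    apply eq_of_forall_locEq
    intro z
    exact section_locEq p q f hf ε hε _ (h0 _) (huniv ▸ Set.mem_univ _) z rfl
  refine ⟨ε ≫ f, ?_, hFF⟩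
  rw [Category.assoc, hf, hε]

end Section

end Groth.Agent.Lib.Helper75.RigMain
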