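import Mathlib
import Groth.Agent.Lib.Helper50.FibBC
import Groth.Agent.Lib.Helper75.RigMain

/-!
# `κ(s) = H⁰(X_s)` is stable under base change (helper75)
-/

set_option autoImplicit false
universe u
open CategoryTheory CategoryTheory.Limits AlgebraicGeometry TopologicalSpace

namespace Groth.Agent.Lib.Helper75.RigBC

open Groth.Agent.Lib.Helper75.RigMain

theorem flat_SpecMap_of_field {K : Type u} [Field K] {L : CommRingCat.{u}}
    (φ : CommRingCat.of K ⟶ L) : Flat (Spec.map φ) := by
  rw [HasRingHomProperty.Spec_iff (P := @Flat)]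
  let := φ.hom.toAlgebra
  show Module.Flat K L
  infer_instance

/-- all sections maps of a morphism to the spectrum of a field are isomorphisms once the global one
is. -/
theorem isIso_app_of_fibH0 {K : Type u} [Field K] {X : Scheme.{u}}
    (g : X ⟶ Spec (CommRingCat.of K))
    (h : Function.Bijective g.appTop.hom) (V : (Spec (CommRingCat.of K)).Opens) :
    IsIso (g.app V) := by
  let pt : Spec (CommRingCat.of K) := (⊥ : PrimeSpectrum K)
  have hpt : ∀ x : Spec (CommRingCat.of K), x = pt := fun x =>
    Subsingleton.elim (α := PrimeSpectrum K) x pt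
  by_cases hV : pt ∈ V
  · have hVtop : V = ⊤ := by
      ext x
      simp [hpt x, hV]
    subst hVtop
    exact (ConcreteCategory.isIso_iff_bijective _).mpr h
  · have hVbot : V = ⊥ := by
      ext x
      simp [hpt x, hV]
    subst hVbot
    have h1 : Subsingleton Γ(Spec (CommRingCat.of K), ⊥) := inferInstance
    have h2 : Subsingleton Γ(X, g ⁻¹ᵁ ⊥) := by
      have : g ⁻¹ᵁ ⊥ = ⊥ := rfl
      rw [this]
      infer_instance
    rw [ConcreteCategory.isIso_iff_bijective]
    exact ⟨fun a b _ => Subsingleton.elim a b, fun b => ⟨0, Subsingleton.elim _ _⟩⟩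

theorem fibH0_baseChange {X S Y : Scheme.{u}} (ξ : X ⟶ S) [QuasiCompact ξ] [QuasiSeparated ξ]
    (υ : Y ⟶ S) (y : Y) (h : FibH0 ξ (υ.base y)) : FibH0 (pullback.snd ξ υ) y := by
  have H := isPullback_fiberToSpecResidueField_of_isPullback (IsPullback.of_hasPullback ξ υ) y
  have hflat : Flat (Spec.map (υ.residueFieldMap y)) :=
    flat_SpecMap_of_field (K := IsLocalRing.ResidueField (S.presheaf.stalk (υ.base y))) _
  have hqc : QuasiCompact (ξ.fiberToSpecResidueField (υ y)) := by
    show QuasiCompact (pullback.snd ξ _)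
    infer_instance
  have hqs : QuasiSeparated (ξ.fiberToSpecResidueField (υ y)) := by
    show QuasiSeparated (pullback.snd ξ _)
    infer_instance
  have hiso := @Groth.Agent.Lib.Helper50.isIso_app_of_isPullback_of_flat _ _ _ _ _ _ _ _ H hflat
    hqc hqs
    (isIso_app_of_fibH0 (K := IsLocalRing.ResidueField (S.presheaf.stalk (υ.base y))) _ h) ⊤
  exact (ConcreteCategory.isIso_iff_bijective _).mp hiso

end Groth.Agent.Lib.Helper75.RigBC
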