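import Groth.Agent.Lib.Helper75.RigUniv
import Groth.Agent.Lib.Helper38.GammaBC

/-!
# Descent of `κ(s) = H⁰(X_s, O)` along base change (helper75)

If `p : X ⟶ T` is a base change of `p' : X' ⟶ T'` along `υ : T ⟶ T'` (with `p'` qcqs) and
`κ(t) = H⁰(X_t, O)`, then `κ(υ t) = H⁰(X'_{υ t}, O)`: the fibre over `t` is the base change of the
fibre over `υ t` along the field extension `κ(υ t) → κ(t)`, global functions commute with this flat
base change, and bijectivity descends along the faithfully flat `κ(υ t) → κ(t)`.
-/

set_option autoImplicit false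
set_option linter.style.haveILetI false
universe u

open CategoryTheory Limits AlgebraicGeometry

namespace Groth.Agent.Lib.Helper75.RigDesc

open Groth.Agent.Lib.Helper75.RigMain Groth.Agent.Lib.Helper75.RigNbhd
  Groth.Agent.Lib.Helper75.RigUniv

/-- bijectivity descends along a faithfully flat pushout of commutative rings -/
theorem bijective_of_isPushout {R A B P : CommRingCat.{u}} {a : R ⟶ A} {b : R ⟶ B} {c : A ⟶ P}
    {d : B ⟶ P} (h : IsPushout a b c d) (hb : b.hom.FaithfullyFlat)
    (hd : Function.Bijective d.hom) : Function.Bijective a.hom := by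
  letI : Algebra R A := a.hom.toAlgebra
  letI : Algebra R B := b.hom.toAlgebra
  letI : Algebra A P := c.hom.toAlgebra
  letI : Algebra B P := d.hom.toAlgebra
  letI : Algebra R P := (c.hom.comp a.hom).toAlgebra
  haveI : IsScalarTower R A P := IsScalarTower.of_algebraMap_eq (fun r => rfl)
  haveI : IsScalarTower R B P := IsScalarTower.of_algebraMap_eq (fun r => by
    show c.hom (a.hom r) = d.hom (b.hom r)
    exact congr($(h.w) r))
  have hp : Algebra.IsPushout R A B P :=
    (CommRingCat.isPushout_iff_isPushout (R := R) (R' := A) (S := B) (S' := P)).mp h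
  exact RingHom.FaithfullyFlat.codescendsAlong_bijective (R := R) (S := A) (R' := B) (S' := P)
    hb hd

theorem faithfullyFlat_of_field {K L : Type u} [Field K] [Field L] (φ : K →+* L) :
    φ.FaithfullyFlat := by
  algebraize [φ]
  show (algebraMap K L).FaithfullyFlat
  rw [RingHom.faithfullyFlat_algebraMap_iff]
  infer_instance

theorem faithfullyFlat_SpecMap_appTop_of_field {K L : Type u} [Field K] [Field L]
    (φ : CommRingCat.of K ⟶ CommRingCat.of L) : (Spec.map φ).appTop.hom.FaithfullyFlat := by
  have h1 : (Spec.map φ).appTop =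
      (Scheme.ΓSpecIso (CommRingCat.of K)).hom ≫ φ ≫ (Scheme.ΓSpecIso (CommRingCat.of L)).inv := by
    rw [← Category.assoc, ← Scheme.ΓSpecIso_naturality, Category.assoc, Iso.hom_inv_id,
      Category.comp_id]
  rw [h1]
  have h2 : φ.hom.FaithfullyFlat := faithfullyFlat_of_field φ.hom
  have h3 := RingHom.FaithfullyFlat.respectsIso.1 φ.hom
    (Scheme.ΓSpecIso (CommRingCat.of L)).symm.commRingCatIsoToRingEquiv h2
  have h4 := RingHom.FaithfullyFlat.respectsIso.2 _
    (Scheme.ΓSpecIso (CommRingCat.of K)).commRingCatIsoToRingEquiv h3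
  exact h4

/-- **Descent of `FibH0`** along an arbitrary base change. -/
theorem fibH0_of_isPullback {X X' T T' : Scheme.{u}} {m : X ⟶ X'} {p : X ⟶ T} {p' : X' ⟶ T'}
    {υ : T ⟶ T'} (h : IsPullback m p p' υ) [QuasiCompact p'] [QuasiSeparated p'] (t : T)
    (h0 : FibH0 p t) : FibH0 p' (υ.base t) := by
  have h1 : FibH0 (pullback.snd p' υ) t :=
    fibH0_of_iso (pullback.snd p' υ) p h.isoPullback h.isoPullback_hom_snd t h0
  have hφ := Scheme.Hom.SpecMap_residueFieldMap_fromSpecResidueField υ t
  have b1 : Function.Bijective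
      (pullback.snd (pullback.snd p' υ) (T.fromSpecResidueField t)).appTop.hom := h1
  have b2 := (bijective_snd_snd_appTop_iff p' υ (T.fromSpecResidueField t)).mp b1
  have b3 := RigFib.bijective_snd_appTop_congr p' hφ.symm b2
  have b4 := (bijective_snd_snd_appTop_iff p' (T'.fromSpecResidueField (υ.base t))
    (Spec.map (υ.residueFieldMap t))).mpr b3
  have hc : CompactSpace ↥(pullback p' (T'.fromSpecResidueField (υ.base t))) :=
    QuasiCompact.compactSpace_of_compactSpace (pullback.snd p' (T'.fromSpecResidueField (υ.base t)))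
  have hqs : QuasiSeparatedSpace ↥(pullback p' (T'.fromSpecResidueField (υ.base t))) :=
    quasiSeparatedSpace_of_quasiSeparated (pullback.snd p' (T'.fromSpecResidueField (υ.base t)))
  have hflat : Flat (Spec.map (υ.residueFieldMap t)) :=
    RigBC.flat_SpecMap_of_field (K := IsLocalRing.ResidueField (T'.presheaf.stalk (υ.base t))) _
  have hpo := Groth.Agent.Lib.Helper38.GammaBC.isPushout_appTop
    (pullback.snd p' (T'.fromSpecResidueField (υ.base t))) (υ.residueFieldMap t)
  exact bijective_of_isPushout hpo
    (faithfullyFlat_SpecMap_appTop_of_field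
      (K := IsLocalRing.ResidueField (T'.presheaf.stalk (υ.base t)))
      (L := IsLocalRing.ResidueField (T.presheaf.stalk t)) (υ.residueFieldMap t)) b4

end Groth.Agent.Lib.Helper75.RigDesc
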