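import Groth.Agent.Lib.Helper75.RigDesc

/-!
# Rigidity for functions (helper75)

`X ⟶ S` flat, `κ(s) = H⁰(X_s, O)`. A global function `a` on `X` satisfies `pr₁^* a = pr₂^* a` on a
neighbourhood of every point of `X ×_S X` over `s`.

* `exists_open_fst_eq_snd_of_noetherian`: locally Noetherian affine base (no properness);
* `exists_open_of_map`: transport of the conclusion along a commutative square.
-/

set_option autoImplicit false
universe u

open CategoryTheory Limits AlgebraicGeometry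

namespace Groth.Agent.Lib.Helper75.RigFun

open Groth.Agent.Lib.Helper75.RigMain Groth.Agent.Lib.Helper75.RigNbhd
  Groth.Agent.Lib.Helper75.AAOpen

/-- the conclusion of rigidity for a single function `a`, at a point `z` of `X ×_S X` -/
def FunEqAt {X S : Scheme.{u}} (p : X ⟶ S) (a : Γ(X, ⊤)) (z : ↥(pullback p p)) : Prop :=
  ∃ O : (pullback p p).Opens, z ∈ O ∧
    (O.ι ≫ pullback.fst p p).appTop.hom a = (O.ι ≫ pullback.snd p p).appTop.hom a

/-- Noetherian affine base. -/
theorem funEqAt_of_noetherian {X S : Scheme.{u}} [IsAffine S] [IsLocallyNoetherian S]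
    (p : X ⟶ S) [Flat p] [LocallyOfFiniteType p] (a : Γ(X, ⊤)) (s : S) (h0 : FibH0 p s)
    (z : ↥(pullback p p)) (hz : (pullback.fst p p ≫ p).base z = s) : FunEqAt p a z := by
  let q : Spec Γ(X, ⊤) ⟶ S := Spec.map p.appTop ≫ S.isoSpec.inv
  have hf : X.toSpecΓ ≫ q = p := by
    show X.toSpecΓ ≫ Spec.map p.appTop ≫ S.isoSpec.inv = p
    rw [← Category.assoc, ← Scheme.toSpecΓ_naturality, Category.assoc, Scheme.toSpecΓ_isoSpec_inv,
      Category.comp_id]
  have hqaff : IsAffineHom q := isAffineHom_of_isAffine q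
  have hqsep : IsSeparated q := inferInstance
  have hs : s ∈ collapsed p X.toSpecΓ := mem_collapsed_toSpecΓ p s h0
  have hX : IsLocallyNoetherian X := LocallyOfFiniteType.isLocallyNoetherian p
  have hP : IsLocallyNoetherian (pullback p p) :=
    LocallyOfFiniteType.isLocallyNoetherian (pullback.fst p p)
  have hq : (pullback.fst p p ≫ X.toSpecΓ) ≫ q = (pullback.snd p p ≫ X.toSpecΓ) ≫ q := by
    rw [Category.assoc, Category.assoc, hf, pullback.condition]
  obtain ⟨O, hzO, hO⟩ := locEq_of_collapsed p q X.toSpecΓ (pullback.fst p p ≫ p) _ _ hq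
    (proper_agree p X.toSpecΓ) s h0 hs z hz
  refine ⟨O, hzO, ?_⟩
  have hsurj : Function.Surjective X.toSpecΓ.appTop.hom := by
    rw [Scheme.toSpecΓ_appTop]
    exact ((ConcreteCategory.isIso_iff_bijective _).mp inferInstance).2
  obtain ⟨a', rfl⟩ := hsurj a
  have h1 := congrArg (fun φ => φ.appTop.hom a') hO
  simp only [Scheme.Hom.comp_appTop, CommRingCat.hom_comp, RingHom.comp_apply] at h1 ⊢
  exact h1

/-- transport along a commutative square -/
theorem funEqAt_of_map {X X' T T' : Scheme.{u}} {m : X ⟶ X'} {p : X ⟶ T} {p' : X' ⟶ T'}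
    {υ : T ⟶ T'} (w : m ≫ p' = p ≫ υ) (a' : Γ(X', ⊤)) (z : ↥(pullback p p))
    (h : FunEqAt p' a' ((pullback.map p p p' p' m m υ w.symm w.symm).base z)) :
    FunEqAt p (m.appTop.hom a') z := by
  obtain ⟨O', hzO', hO'⟩ := h
  set ρ := pullback.map p p p' p' m m υ w.symm w.symm with hρ
  have h1 : ρ ≫ pullback.fst p' p' = pullback.fst p p ≫ m := pullback.lift_fst _ _ _
  have h2 : ρ ≫ pullback.snd p' p' = pullback.snd p p ≫ m := pullback.lift_snd _ _ _
  have h3 : (ρ ⁻¹ᵁ O').ι ≫ ρ = (ρ ∣_ O') ≫ O'.ι := (morphismRestrict_ι ρ O').symm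
  refine ⟨ρ ⁻¹ᵁ O', hzO', ?_⟩
  have e1 : ((ρ ⁻¹ᵁ O').ι ≫ pullback.fst p p).appTop.hom (m.appTop.hom a') =
      (ρ ∣_ O').appTop.hom ((O'.ι ≫ pullback.fst p' p').appTop.hom a') := by
    have : ((ρ ⁻¹ᵁ O').ι ≫ pullback.fst p p) ≫ m = (ρ ∣_ O') ≫ O'.ι ≫ pullback.fst p' p' := by
      rw [Category.assoc, ← h1, ← Category.assoc, h3, Category.assoc]
    have h4 := congrArg (fun φ => φ.appTop.hom a') this
    simp only [Scheme.Hom.comp_appTop, CommRingCat.hom_comp, RingHom.comp_apply] at h4 ⊢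
    exact h4
  have e2 : ((ρ ⁻¹ᵁ O').ι ≫ pullback.snd p p).appTop.hom (m.appTop.hom a') =
      (ρ ∣_ O').appTop.hom ((O'.ι ≫ pullback.snd p' p').appTop.hom a') := by
    have : ((ρ ⁻¹ᵁ O').ι ≫ pullback.snd p p) ≫ m = (ρ ∣_ O') ≫ O'.ι ≫ pullback.snd p' p' := by
      rw [Category.assoc, ← h2, ← Category.assoc, h3, Category.assoc]
    have h4 := congrArg (fun φ => φ.appTop.hom a') this
    simp only [Scheme.Hom.comp_appTop, CommRingCat.hom_comp, RingHom.comp_apply] at h4 ⊢
    exact h4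
  rw [e1, e2, hO']

end Groth.Agent.Lib.Helper75.RigFun
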