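import Groth.Agent.Lib.Helper75.RigApprox

/-!
# Rigidity for functions over an arbitrary base (helper75)

`p : X ⟶ T` flat of finite presentation over an arbitrary scheme `T`, `t : T` with
`κ(t) = H⁰(X_t, O)`, `a` a global function on `X`. Then `pr₁^* a = pr₂^* a` on a neighbourhood of
every point of `X ×_T X` over `t`.  (Noetherian approximation of `(p, a)`, descent of
`κ = H⁰(fibre)`, and the Noetherian case `RigFun.funEqAt_of_noetherian`; no properness needed.)
-/

set_option autoImplicit false
universe u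

open CategoryTheory Limits AlgebraicGeometry

namespace Groth.Agent.Lib.Helper75.RigGen

open Groth.Agent.Lib.Helper75.RigMain Groth.Agent.Lib.Helper75.RigFun

/-- affine (arbitrary, not necessarily Noetherian) base -/
theorem funEqAt_of_isAffine {X T : Scheme.{u}} [IsAffine T] (p : X ⟶ T) [Flat p]
    [LocallyOfFinitePresentation p] [QuasiCompact p] [QuasiSeparated p] (a : Γ(X, ⊤)) (t : T)
    (h0 : FibH0 p t) (z : ↥(pullback p p)) (hz : (pullback.fst p p ≫ p).base z = t) :
    FunEqAt p a z := by
  -- approximate `p ≫ T.isoSpec.hom`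
  obtain ⟨T', X', p', m, υ₁, a', hT'a, hT'n, hfl, hft, hqc, hqs, hpb₁, ha⟩ :=
    RigApprox.exists_noetherian_model (A := Γ(T, ⊤)) (p ≫ T.isoSpec.hom) a
  have hiso : IsPullback (𝟙 X) p (p ≫ T.isoSpec.hom) T.isoSpec.hom :=
    IsPullback.of_horiz_isIso ⟨by simp⟩
  have hpb : IsPullback m p p' (T.isoSpec.hom ≫ υ₁) := by
    have := hiso.paste_horiz hpb₁
    rwa [Category.id_comp] at this
  have h0' : FibH0 p' ((T.isoSpec.hom ≫ υ₁).base t) := RigDesc.fibH0_of_isPullback hpb t h0
  rw [← ha]
  apply funEqAt_of_map hpb.w a' z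
  apply funEqAt_of_noetherian p' a' _ h0'
  rw [← Scheme.Hom.comp_apply, ← Category.assoc, pullback.lift_fst, Category.assoc, hpb.w,
    ← Category.assoc, Scheme.Hom.comp_apply, hz]

end Groth.Agent.Lib.Helper75.RigGen
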