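import Groth.Agent.Lib.Helper75.RigGen
import Groth.Agent.Lib.Helper75.RigBC

/-!
# `O_T = p_* O_X` over an arbitrary base (helper75)

`p : X ⟶ T` flat, locally of finite presentation, quasi-compact and quasi-separated over an
arbitrary scheme `T`, with `κ(t) = H⁰(X_t, O)` for all `t`. Then `O_T(V) → O_X(p⁻¹V)` is an
isomorphism for all opens `V` (no properness and no Noetherian hypothesis needed).
-/

set_option autoImplicit false
universe u

open CategoryTheory Limits AlgebraicGeometry TopologicalSpace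

namespace Groth.Agent.Lib.Helper75.RigGenIso

open Groth.Agent.Lib.Helper75.RigMain Groth.Agent.Lib.Helper75.RigFun
  Groth.Agent.Lib.Helper75.RigNbhd

/-- two global sections agree if they agree locally (in the `O.ι.appTop` form) -/
theorem eq_of_forall_ι_appTop_eq {P : Scheme.{u}} (c c' : Γ(P, ⊤))
    (h : ∀ z : P, ∃ O : P.Opens, z ∈ O ∧ O.ι.appTop.hom c = O.ι.appTop.hom c') : c = c' := by
  choose O hzO hO using h
  apply TopCat.Sheaf.eq_of_locally_eq' P.sheaf (fun z : P => (O z).ι ''ᵁ ⊤) ⊤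
    (fun z => homOfLE le_top)
  · intro x _
    refine Opens.mem_iSup.mpr ⟨x, ?_⟩
    rw [Scheme.Opens.ι_image_top]
    exact hzO x
  · intro z
    have := hO z
    rw [Scheme.Opens.ι_appTop] at this
    exact this

theorem fst_appTop_eq_snd_appTop {X T : Scheme.{u}} (p : X ⟶ T)
    (h : ∀ (a : Γ(X, ⊤)) (z : ↥(pullback p p)), FunEqAt p a z) :
    (pullback.fst p p).appTop = (pullback.snd p p).appTop := by
  ext a
  apply eq_of_forall_ι_appTop_eq
  intro z
  obtain ⟨O, hzO, hO⟩ := h a z
  refine ⟨O, hzO, ?_⟩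
  simpa only [Scheme.Hom.comp_appTop, CommRingCat.hom_comp, RingHom.comp_apply] using hO

/-- affine base -/
theorem bijective_appTop_of_forall_fibH0 {X T : Scheme.{u}} [IsAffine T] (p : X ⟶ T) [Flat p]
    [LocallyOfFinitePresentation p] [QuasiCompact p] [QuasiSeparated p]
    (h0 : ∀ t, FibH0 p t) : Function.Bijective p.appTop.hom := by
  have hsurj : Surjective p := ⟨fun t => nonempty_fibre p t (h0 t)⟩
  apply bijective_appTop_of_fst_eq_snd p
  apply fst_appTop_eq_snd_appTop
  intro a z
  exact RigGen.funEqAt_of_isAffine p a _ (h0 _) z rfl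

/-- `κ = H⁰(fibre)` passes to restrictions over opens -/
theorem fibH0_morphismRestrict {X T : Scheme.{u}} (p : X ⟶ T) [QuasiCompact p] [QuasiSeparated p]
    (W : T.Opens) (s : (W : Scheme.{u})) (h0 : FibH0 p (W.ι.base s)) : FibH0 (p ∣_ W) s := by
  have h1 : FibH0 (pullback.snd p W.ι) s := RigBC.fibH0_baseChange p W.ι s h0
  exact fibH0_of_iso (p ∣_ W) (pullback.snd p W.ι) (pullbackRestrictIsoRestrict p W)
    (pullbackRestrictIsoRestrict_hom_morphismRestrict p W) s h1

/-- **Main theorem**: `O_T = p_* O_X` for `p` flat of finite presentation with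
`κ(t) = H⁰(X_t, O)` for all `t`. -/
theorem isIso_app_of_forall_fibH0 {X T : Scheme.{u}} (p : X ⟶ T) [Flat p]
    [LocallyOfFinitePresentation p] [QuasiCompact p] [QuasiSeparated p]
    (h0 : ∀ t, FibH0 p t) (V : T.Opens) : IsIso (p.app V) := by
  have hbij := bijective_app_of_basis p ⊤ {W | IsAffineOpen W} ?_ ?_ V le_top
  · exact (ConcreteCategory.isIso_iff_bijective _).mpr hbij
  · intro V _ x hx
    obtain ⟨_, ⟨W, hW, rfl⟩, hxW, hWV⟩ :=
      T.isBasis_affineOpens.exists_subset_of_mem_open hx V.isOpen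
    exact ⟨W, hW, hxW, hWV⟩
  · intro W hW
    have hAff : IsAffine (W : Scheme.{u}) := hW
    have h1 : ∀ s : (W : Scheme.{u}), FibH0 (p ∣_ W) s := fun s =>
      fibH0_morphismRestrict p W s (h0 _)
    have hbij := bijective_appTop_of_forall_fibH0 (p ∣_ W) h1
    have hiso : IsIso (p ∣_ W).appTop := (ConcreteCategory.isIso_iff_bijective _).mpr hbij
    rw [morphismRestrict_appTop] at hiso
    have h4 : IsIso (p.app (W.ι ''ᵁ ⊤)) :=
      @IsIso.of_isIso_comp_right _ _ _ _ _ (p.app (W.ι ''ᵁ ⊤))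
        (X.presheaf.map (eqToHom (image_morphismRestrict_preimage p W ⊤)).op)
        inferInstance hiso
    have h5 : W.ι ''ᵁ ⊤ = W := W.ι_image_top
    rw [h5] at h4
    exact (ConcreteCategory.isIso_iff_bijective _).mp h4

end Groth.Agent.Lib.Helper75.RigGenIso
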