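import Mathlib
import Groth.Agent.Lib.Helper75.RigBC
import Groth.Agent.Lib.Helper75.AARigidity

/-!
# Rigidity for families `X ×_S Y → Y` in `Over S` (helper75)
-/

set_option autoImplicit false
universe u
open CategoryTheory CategoryTheory.Limits AlgebraicGeometry MonoidalCategory CartesianMonoidalCategory

namespace Groth.Agent.Lib.Helper75.RigOver

open Groth.Agent.Lib.Helper75.RigMain

variable {S : Scheme.{u}} (X Y Z : Over S)

/-- the locus of `y ∈ Y` such that `F(-, y)` is constant -/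
def collapsedY (F : X ⊗ Y ⟶ Z) : Set Y.left :=
  collapsed (pullback.snd X.hom Y.hom) (lift F (snd X Y)).left

theorem lift_comp (F : X ⊗ Y ⟶ Z) :
    (lift F (snd X Y)).left ≫ pullback.snd Z.hom Y.hom = pullback.snd X.hom Y.hom := by
  have : (lift F (snd X Y) ≫ snd Z Y).left = (snd X Y).left := by rw [lift_snd]
  exact this

theorem fibH0_snd [QuasiCompact X.hom] [QuasiSeparated X.hom] (h0 : ∀ s : S, FibH0 X.hom s)
    (y : Y.left) : FibH0 (pullback.snd X.hom Y.hom) y :=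
  RigBC.fibH0_baseChange X.hom Y.hom y (h0 _)

theorem isClopen_collapsedY [IsProper X.hom] [Flat X.hom] [IsSeparated Z.hom]
    [IsLocallyNoetherian Y.left] (h0 : ∀ s : S, FibH0 X.hom s) (F : X ⊗ Y ⟶ Z) :
    IsClopen (collapsedY X Y Z F) :=
  isClopen_collapsed_of_proper (pullback.snd X.hom Y.hom) (pullback.snd Z.hom Y.hom)
    (lift F (snd X Y)).left (lift_comp X Y Z F) (fibH0_snd X Y h0)

theorem exists_factor_snd_of_univ [IsProper X.hom] [Flat X.hom] [IsSeparated Z.hom]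
    [IsLocallyNoetherian Y.left] (h0 : ∀ s : S, FibH0 X.hom s) (F : X ⊗ Y ⟶ Z)
    (huniv : collapsedY X Y Z F = Set.univ) : ∃ h : Y ⟶ Z, F = snd X Y ≫ h := by
  obtain ⟨t, ht1, ht2⟩ := exists_section_of_proper_of_univ (pullback.snd X.hom Y.hom)
    (pullback.snd Z.hom Y.hom) (lift F (snd X Y)).left (lift_comp X Y Z F) (fibH0_snd X Y h0) huniv
  have hw : (t ≫ pullback.fst Z.hom Y.hom) ≫ Z.hom = Y.hom := by
    rw [Category.assoc, pullback.condition, ← Category.assoc, ht1, Category.id_comp]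
  refine ⟨Over.homMk (t ≫ pullback.fst Z.hom Y.hom) hw, ?_⟩
  apply Over.OverMorphism.ext
  have h1 : F.left = (lift F (snd X Y)).left ≫ pullback.fst Z.hom Y.hom := by
    have : (lift F (snd X Y) ≫ fst Z Y).left = F.left := by rw [lift_fst]
    exact this.symm
  rw [h1, ht2, Category.assoc]
  rfl

/-- a criterion for a point of a section `e` to lie in the collapsed locus -/
theorem mem_collapsedY_of_section (F : X ⊗ Y ⟶ Z) (e : 𝟙_ (Over S) ⟶ Y) (σ : 𝟙_ (Over S) ⟶ Z)
    (hσ : (X ◁ e) ≫ F = toUnit _ ≫ σ) (s₀ : S) : e.left.base s₀ ∈ collapsedY X Y Z F := by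
  refine ⟨(lift σ e).left.base s₀, fun z hz => ?_⟩
  obtain ⟨w, hw1, hw2⟩ := AARigidity.exists_of_isPullback'
    (AARigidity.isPullback_whiskerLeft_snd' X e) z s₀ hz
  have h1 : (X ◁ e) ≫ lift F (snd X Y) = snd X (𝟙_ (Over S)) ≫ lift σ e := by
    rw [comp_lift, comp_lift, hσ, whiskerLeft_snd,
      toUnit_unique (toUnit (X ⊗ 𝟙_ (Over S))) (snd X (𝟙_ (Over S)))]
  have h2 := congrArg (fun t : X ⊗ 𝟙_ (Over S) ⟶ Z ⊗ Y => t.left.base w) h1
  simp only [Over.comp_left, Scheme.Hom.comp_apply] at h2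
  rw [← hw1]
  rw [hw2] at h2
  exact h2

end Groth.Agent.Lib.Helper75.RigOver
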