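import Groth.Agent.Lib.Helper75.RigGenMain
import Groth.Agent.Lib.Helper75.RigOver

/-!
# Rigidity for families `X ×_S Y → Y` in `Over S`, arbitrary base (helper75)
-/

set_option autoImplicit false
universe u
open CategoryTheory CategoryTheory.Limits AlgebraicGeometry MonoidalCategory CartesianMonoidalCategory

namespace Groth.Agent.Lib.Helper75.RigGenOver

open Groth.Agent.Lib.Helper75.RigMain Groth.Agent.Lib.Helper75.RigOver

variable {S : Scheme.{u}} (X Y Z : Over S)

theorem isClopen_collapsedY [IsProper X.hom] [Flat X.hom] [LocallyOfFinitePresentation X.hom]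
    [IsSeparated Z.hom] (h0 : ∀ s : S, FibH0 X.hom s) (F : X ⊗ Y ⟶ Z) :
    IsClopen (collapsedY X Y Z F) := by
  have hf : (lift F (snd X Y)).left ≫ pullback.snd Z.hom Y.hom =
      pullback.snd X.hom Y.hom ≫ 𝟙 Y.left := by
    rw [Category.comp_id]
    exact lift_comp X Y Z F
  exact ⟨RigGenMain.isClosed_collapsed (pullback.snd X.hom Y.hom) (lift F (snd X Y)).left
      (fibH0_snd X Y h0) (pullback.snd Z.hom Y.hom) (𝟙 Y.left) hf,
    RigGenMain.isOpen_collapsed (pullback.snd X.hom Y.hom) (lift F (snd X Y)).left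
      (fibH0_snd X Y h0)⟩

theorem exists_factor_snd_of_univ [IsProper X.hom] [Flat X.hom]
    [LocallyOfFinitePresentation X.hom] (h0 : ∀ s : S, FibH0 X.hom s) (F : X ⊗ Y ⟶ Z)
    (huniv : collapsedY X Y Z F = Set.univ) : ∃ h : Y ⟶ Z, F = snd X Y ≫ h := by
  obtain ⟨t, ht2⟩ := RigGenMain.exists_factor_of_univ (pullback.snd X.hom Y.hom)
    (lift F (snd X Y)).left (fibH0_snd X Y h0) huniv
  have hEE : EffectiveEpi (pullback.snd X.hom Y.hom) :=
    RigGenMain.effectiveEpi_of_forall_fibH0 _ (fibH0_snd X Y h0)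
  have ht1 : t ≫ pullback.snd Z.hom Y.hom = 𝟙 Y.left := by
    rw [← cancel_epi (pullback.snd X.hom Y.hom), ← Category.assoc, ← ht2, lift_comp,
      Category.comp_id]
  have hw : (t ≫ pullback.fst Z.hom Y.hom) ≫ Z.hom = Y.hom := by
    rw [Category.assoc, pullback.condition, ← Category.assoc, ht1, Category.id_comp]
  refine ⟨Over.homMk (t ≫ pullback.fst Z.hom Y.hom) hw, ?_⟩
  apply Over.OverMorphism.ext
  have h1 : F.left = (lift F (snd X Y)).left ≫ pullback.fst Z.hom Y.hom := by
    have : (lift F (snd X Y) ≫ fst Z Y).left = F.left := by rw [lift_fst]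
    exact this.symm
  rw [h1, ht2, Category.assoc]
  rfl

end Groth.Agent.Lib.Helper75.RigGenOver
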