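import Mathlib
import Groth.Agent.Lib.Helper75.RigMain
import Groth.Agent.Lib.Helper75.RigBC

/-!
# `O_S = p_* O_X` near a point with `κ(s) = H⁰(X_s, O)` (helper75)

For `p : X ⟶ S` proper and flat over a locally Noetherian base, if `κ(s) → H⁰(X_s, O_{X_s})` is
bijective then `O_S(V) → O_X(p⁻¹V)` is an isomorphism for all opens `V` of a neighbourhood of `s`.
The proof uses the rigidity lemma (no finiteness or semicontinuity theorem).
-/

set_option autoImplicit false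
universe u
open CategoryTheory CategoryTheory.Limits AlgebraicGeometry TopologicalSpace Opposite

namespace Groth.Agent.Lib.Helper75.RigNbhd

open Groth.Agent.Lib.Helper75.RigMain Groth.Agent.Lib.Helper75.AAOpen

/-- sections inject along a flat surjective morphism -/
theorem injective_app_of_flat_of_surjective {X S : Scheme.{u}} (p : X ⟶ S) [Flat p] [Surjective p]
    (U : S.Opens) : Function.Injective (p.app U).hom := by
  intro c c' hcc'
  apply TopCat.Presheaf.section_ext S.sheaf U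
  intro s hs
  obtain ⟨x, rfl⟩ := ‹Surjective p›.surj s
  have hinj : Function.Injective (p.stalkMap x).hom := by
    algebraize [(p.stalkMap x).hom]
    have : Module.FaithfullyFlat (S.presheaf.stalk (p x)) (X.presheaf.stalk x) :=
      @Module.FaithfullyFlat.of_flat_of_isLocalHom _ _ _ _ _ _ _
        (Flat.stalkMap p x) (p.toLRSHom.prop x)
    exact ‹RingHom.FaithfullyFlat _›.injective
  apply hinj
  have h1 := Scheme.Hom.germ_stalkMap_apply p U x hs c
  have h2 := Scheme.Hom.germ_stalkMap_apply p U x hs c'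
  have h3 : (p.app U) c = (p.app U) c' := hcc'
  rw [h3] at h1
  exact h1.trans h2.symm

/-- descent of global functions: if the two pullbacks to `X ×_S X` agree on all global functions,
then `Γ(S) → Γ(X)` is bijective (for `p` flat, surjective and quasi-compact). -/
theorem bijective_appTop_of_fst_eq_snd {X S : Scheme.{u}} (p : X ⟶ S) [QuasiCompact p] [Flat p]
    [Surjective p] (h : (pullback.fst p p).appTop = (pullback.snd p p).appTop) :
    Function.Bijective p.appTop.hom := by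
  have hFF : pullback.fst p p ≫ X.toSpecΓ = pullback.snd p p ≫ X.toSpecΓ := by
    apply ext_of_isAffine
    rw [Scheme.Hom.comp_appTop, Scheme.Hom.comp_appTop, h]
  have hEE : EffectiveEpi p := inferInstance
  let t : S ⟶ Spec Γ(X, ⊤) := EffectiveEpi.desc p X.toSpecΓ (fun {Z} g₁ g₂ hg => by
    have h1 : pullback.lift g₁ g₂ hg ≫ pullback.fst p p ≫ X.toSpecΓ =
        pullback.lift g₁ g₂ hg ≫ pullback.snd p p ≫ X.toSpecΓ := by rw [hFF]
    rw [pullback.lift_fst_assoc, pullback.lift_snd_assoc] at h1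
    exact h1)
  have ht : p ≫ t = X.toSpecΓ := EffectiveEpi.fac p _ _
  refine ⟨injective_app_of_flat_of_surjective p ⊤, ?_⟩
  have h2 : t.appTop ≫ p.appTop = X.toSpecΓ.appTop := by
    rw [← Scheme.Hom.comp_appTop, ht]
  have h3 : Function.Surjective X.toSpecΓ.appTop.hom := by
    rw [Scheme.toSpecΓ_appTop]
    exact ((ConcreteCategory.isIso_iff_bijective _).mp inferInstance).2
  intro x
  obtain ⟨w, hw⟩ := h3 x
  refine ⟨t.appTop.hom w, ?_⟩
  rw [← hw, ← h2]
  rfl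

theorem locEq_comp {P' P Z : Scheme.{u}} (m : P' ⟶ P) (F G : P ⟶ Z) (z' : P')
    (h : LocEq F G (m.base z')) : LocEq (m ≫ F) (m ≫ G) z' := by
  obtain ⟨O, hzO, hO⟩ := h
  refine ⟨m ⁻¹ᵁ O, hzO, ?_⟩
  have h1 : (m ⁻¹ᵁ O).ι ≫ m = (m ∣_ O) ≫ O.ι := (morphismRestrict_ι m O).symm
  rw [← Category.assoc, ← Category.assoc, h1, Category.assoc, Category.assoc, hO]

/-- restriction of global functions to a basic open is an epimorphism of rings (qcqs lemma) -/
theorem epi_res_basicOpen {X : Scheme.{u}} [CompactSpace X] [QuasiSeparatedSpace X] (b : Γ(X, ⊤))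
    (W : X.Opens) (hW : W = X.basicOpen b) :
    Epi (X.presheaf.map (homOfLE (le_top : W ≤ ⊤)).op) := by
  subst hW
  have hloc : IsLocalization.Away b Γ(X, X.basicOpen b) :=
    isLocalization_basicOpen_of_qcqs (U := ⊤) CompactSpace.isCompact_univ isQuasiSeparated_univ b
  exact IsLocalization.epi (Submonoid.powers b) Γ(X, X.basicOpen b)

theorem epi_ι_appTop_preimage_basicOpen {X S : Scheme.{u}} (p : X ⟶ S) [CompactSpace X]
    [QuasiSeparatedSpace X] (g : Γ(S, ⊤)) : Epi (p ⁻¹ᵁ S.basicOpen g).ι.appTop := by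
  have hW : (p ⁻¹ᵁ S.basicOpen g).ι ''ᵁ ⊤ = X.basicOpen (p.appTop g) :=
    (p ⁻¹ᵁ S.basicOpen g).ι_image_top.trans (Scheme.preimage_basicOpen_top p g)
  exact epi_res_basicOpen (p.appTop g) _ hW

/-- transfer of the descent condition to the restriction over an open `D` of the base. -/
theorem appTop_fst_eq_snd_restrict {X S : Scheme.{u}} (p : X ⟶ S) (D : S.Opens)
    (hEpi : Epi (p ⁻¹ᵁ D).ι.appTop)
    (hloc : ∀ z : ↥(pullback p p), (pullback.fst p p ≫ p).base z ∈ D →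
      LocEq (pullback.fst p p ≫ X.toSpecΓ) (pullback.snd p p ≫ X.toSpecΓ) z) :
    (pullback.fst (p ∣_ D) (p ∣_ D)).appTop = (pullback.snd (p ∣_ D) (p ∣_ D)).appTop := by
  have hsq : (p ∣_ D) ≫ D.ι = (p ⁻¹ᵁ D).ι ≫ p := morphismRestrict_ι p D
  let m : pullback (p ∣_ D) (p ∣_ D) ⟶ pullback p p :=
    pullback.map (p ∣_ D) (p ∣_ D) p p (p ⁻¹ᵁ D).ι (p ⁻¹ᵁ D).ι D.ι hsq hsq
  have hm1 : m ≫ pullback.fst p p = pullback.fst (p ∣_ D) (p ∣_ D) ≫ (p ⁻¹ᵁ D).ι :=
    pullback.lift_fst _ _ _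
  have hm2 : m ≫ pullback.snd p p = pullback.snd (p ∣_ D) (p ∣_ D) ≫ (p ⁻¹ᵁ D).ι :=
    pullback.lift_snd _ _ _
  have key : m ≫ pullback.fst p p ≫ X.toSpecΓ = m ≫ pullback.snd p p ≫ X.toSpecΓ := by
    apply eq_of_forall_locEq
    intro z'
    apply locEq_comp
    apply hloc
    have h1 : m ≫ pullback.fst p p ≫ p =
        (pullback.fst (p ∣_ D) (p ∣_ D) ≫ (p ∣_ D)) ≫ D.ι := by
      rw [← Category.assoc, hm1, Category.assoc, ← hsq, Category.assoc]
    have h2 : (pullback.fst p p ≫ p).base (m.base z') =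
        D.ι.base ((pullback.fst (p ∣_ D) (p ∣_ D) ≫ (p ∣_ D)).base z') := by
      rw [← Scheme.Hom.comp_apply, ← Scheme.Hom.comp_apply, h1]
    rw [h2]
    exact ((pullback.fst (p ∣_ D) (p ∣_ D) ≫ (p ∣_ D)).base z').2
  rw [← cancel_epi (p ⁻¹ᵁ D).ι.appTop, ← Scheme.Hom.comp_appTop, ← Scheme.Hom.comp_appTop, ← hm1,
    ← hm2, Scheme.Hom.comp_appTop, Scheme.Hom.comp_appTop]
  have h3 := congrArg Scheme.Hom.appTop key
  rw [Scheme.Hom.comp_appTop, Scheme.Hom.comp_appTop, Scheme.Hom.comp_appTop,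
    Scheme.Hom.comp_appTop] at h3
  have hiso : IsIso X.toSpecΓ.appTop := by
    rw [Scheme.toSpecΓ_appTop]
    infer_instance
  exact (cancel_epi X.toSpecΓ.appTop).mp (by simpa only [Category.assoc] using h3)

/-- if `κ(s) = H⁰(X_s, O)`, the canonical map `X ⟶ Spec Γ(X, O)` collapses the fibre over `s`. -/
theorem mem_collapsed_toSpecΓ {X S : Scheme.{u}} (p : X ⟶ S) (s : S) (h0 : FibH0 p s) :
    s ∈ collapsed p X.toSpecΓ := by
  have h2 : Function.Bijective (Scheme.ΓSpecIso (S.residueField s)).inv.hom :=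
    (ConcreteCategory.isIso_iff_bijective (Scheme.ΓSpecIso (S.residueField s)).inv).mp inferInstance
  have hφ : Function.Bijective ((pullback.snd p (S.fromSpecResidueField s)).appTop.hom.comp
      (Scheme.ΓSpecIso (S.residueField s)).inv.hom) := h0.comp h2
  let e : S.residueField s ≃+* Γ(pullback p (S.fromSpecResidueField s), ⊤) :=
    RingEquiv.ofBijective _ hφ
  have hsub : Subsingleton (PrimeSpectrum Γ(pullback p (S.fromSpecResidueField s), ⊤)) :=
    (PrimeSpectrum.comapEquiv e).toEquiv.symm.subsingleton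
  have hnat : (pullback p (S.fromSpecResidueField s)).toSpecΓ ≫
      Spec.map (pullback.fst p (S.fromSpecResidueField s)).appTop =
      pullback.fst p (S.fromSpecResidueField s) ≫ X.toSpecΓ :=
    (Scheme.toSpecΓ_naturality _).symm
  have hrange : ∀ x : X, p.base x = s → ∃ w : ↥(pullback p (S.fromSpecResidueField s)),
      (pullback.fst p (S.fromSpecResidueField s)).base w = x := by
    intro x hx
    have hx' : x ∈ Set.range (p.fiberι s) := by
      rw [Scheme.Hom.range_fiberι]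
      exact hx
    exact hx'
  obtain ⟨x₀, hx₀⟩ := nonempty_fibre p s h0
  refine ⟨X.toSpecΓ.base x₀, fun x hx => ?_⟩
  obtain ⟨w, rfl⟩ := hrange x hx
  obtain ⟨w₀, rfl⟩ := hrange x₀ hx₀
  rw [← Scheme.Hom.comp_apply, ← Scheme.Hom.comp_apply, ← hnat, Scheme.Hom.comp_apply,
    Scheme.Hom.comp_apply]
  congr 1
  exact hsub.elim _ _

/-- **Core**: over an affine locally Noetherian base, `κ(s) = H⁰(X_s, O)` implies that
`O(D) → O(p⁻¹D)` is bijective for all basic opens `D` inside some neighbourhood of `s`. -/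
theorem exists_open_forall_basicOpen_isIso_app {X S : Scheme.{u}} [IsAffine S]
    [IsLocallyNoetherian S] (p : X ⟶ S) [IsProper p] [Flat p] (s : S) (h0 : FibH0 p s) :
    ∃ U₀ : S.Opens, s ∈ U₀ ∧
      ∀ g : Γ(S, ⊤), S.basicOpen g ≤ U₀ → IsIso (p.app (S.basicOpen g)) := by
  have hXc : CompactSpace X := QuasiCompact.compactSpace_of_compactSpace p
  have hXqs : QuasiSeparatedSpace X := quasiSeparatedSpace_of_quasiSeparated p
  -- the separated target
  let q : Spec Γ(X, ⊤) ⟶ S := Spec.map p.appTop ≫ S.isoSpec.inv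
  have hf : X.toSpecΓ ≫ q = p := by
    show X.toSpecΓ ≫ Spec.map p.appTop ≫ S.isoSpec.inv = p
    rw [← Category.assoc, ← Scheme.toSpecΓ_naturality, Category.assoc, Scheme.toSpecΓ_isoSpec_inv,
      Category.comp_id]
  have hqaff : IsAffineHom q := isAffineHom_of_isAffine q
  have hqsep : IsSeparated q := inferInstance
  have hs : s ∈ collapsed p X.toSpecΓ := mem_collapsed_toSpecΓ p s h0
  -- the open locus where the two pullbacks of `X ⟶ Spec Γ(X)` agree locally
  let W : Set ↥(pullback p p) :=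
    {z | LocEq (pullback.fst p p ≫ X.toSpecΓ) (pullback.snd p p ≫ X.toSpecΓ) z}
  have hW : IsOpen W := RigTop.isOpen_locEq _ _
  have hπ : IsClosedMap (pullback.fst p p ≫ p).base := (pullback.fst p p ≫ p).isClosedMap
  have hN : IsClosed ((pullback.fst p p ≫ p).base '' Wᶜ) := hπ _ hW.isClosed_compl
  have hsN : s ∉ (pullback.fst p p ≫ p).base '' Wᶜ := by
    rintro ⟨z, hzW, hz⟩
    exact hzW (proper_locEq p q X.toSpecΓ hf s h0 hs z hz)
  have himg : IsOpen (Set.range p.base) := p.isOpenMap.isOpen_range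
  have hsimg : s ∈ Set.range p.base := nonempty_fibre p s h0
  let U₀ : S.Opens := ⟨((pullback.fst p p ≫ p).base '' Wᶜ)ᶜ ∩ Set.range p.base,
    hN.isOpen_compl.inter himg⟩
  have hsU₀ : s ∈ U₀ := ⟨hsN, hsimg⟩
  refine ⟨U₀, hsU₀, fun g hgU₀ => ?_⟩
  -- restrict to `D = D(g)`
  have hsurj : Surjective (p ∣_ S.basicOpen g) := by
    refine ⟨fun d => ?_⟩
    obtain ⟨x, hx⟩ := (hgU₀ d.2).2
    have hxD : x ∈ p ⁻¹ᵁ S.basicOpen g := by
      show p.base x ∈ S.basicOpen g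
      rw [hx]
      exact d.2
    refine ⟨(⟨x, hxD⟩ : (p ⁻¹ᵁ S.basicOpen g).toScheme), ?_⟩
    apply Subtype.ext
    exact (morphismRestrict_base_coe p (S.basicOpen g) _).trans hx
  have hEpi := epi_ι_appTop_preimage_basicOpen p g
  have heq := appTop_fst_eq_snd_restrict p (S.basicOpen g) hEpi (by
    intro z hz
    by_contra hcon
    exact (hgU₀ hz).1 ⟨z, hcon, rfl⟩)
  have hbij := bijective_appTop_of_fst_eq_snd (p ∣_ S.basicOpen g) heq
  have hiso : IsIso (p ∣_ S.basicOpen g).appTop :=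
    (ConcreteCategory.isIso_iff_bijective _).mpr hbij
  rw [morphismRestrict_appTop] at hiso
  have h4 : IsIso (p.app ((S.basicOpen g).ι ''ᵁ ⊤)) :=
    @IsIso.of_isIso_comp_right _ _ _ _ _ (p.app ((S.basicOpen g).ι ''ᵁ ⊤))
      (X.presheaf.map (eqToHom (image_morphismRestrict_preimage p (S.basicOpen g) ⊤)).op)
      inferInstance hiso
  have h5 : (S.basicOpen g).ι ''ᵁ ⊤ = S.basicOpen g := (S.basicOpen g).ι_image_top
  rw [h5] at h4
  exact h4

section Glue

/-- restriction of sections -/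
noncomputable abbrev res {Z : Scheme.{u}} {A B : Z.Opens} (h : A ≤ B) : Γ(Z, B) →+* Γ(Z, A) :=
  (Z.presheaf.map (homOfLE h).op).hom

theorem res_res {Z : Scheme.{u}} {A B C : Z.Opens} (h : A ≤ B) (h' : B ≤ C) (c : Γ(Z, C)) :
    res h (res h' c) = res (h.trans h') c := by
  show (Z.presheaf.map (homOfLE h).op).hom ((Z.presheaf.map (homOfLE h').op).hom c) = _
  rw [← CommRingCat.comp_apply, ← Functor.map_comp]
  rfl

theorem app_res {X Y : Scheme.{u}} (f : X ⟶ Y) {V W : Y.Opens} (h : W ≤ V) (b : Γ(Y, V)) :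
    (f.app W).hom (res h b) =
      res (show f ⁻¹ᵁ W ≤ f ⁻¹ᵁ V from fun _ hx => h hx) ((f.app V).hom b) := by
  have h1 := Scheme.Hom.naturality f (homOfLE h).op
  have h2 := congrArg (fun φ => φ.hom b) h1
  exact h2

/-- If `O_Y(W) → O_X(f⁻¹W)` is bijective for `W` in a basis of the open `U`, then it is bijective
for all opens `V ≤ U`. -/
theorem bijective_app_of_basis {X Y : Scheme.{u}} (f : X ⟶ Y) (U : Y.Opens) (𝓑 : Set Y.Opens)
    (hB : ∀ V : Y.Opens, V ≤ U → ∀ x ∈ V, ∃ W ∈ 𝓑, x ∈ W ∧ W ≤ V)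
    (hiso : ∀ W ∈ 𝓑, Function.Bijective (f.app W).hom) :
    ∀ V : Y.Opens, V ≤ U → Function.Bijective (f.app V).hom := by
  have hinj : ∀ V : Y.Opens, V ≤ U → Function.Injective (f.app V).hom := by
    intro V hV b b' hbb'
    apply TopCat.Sheaf.eq_of_locally_eq' Y.sheaf
      (fun i : {W : Y.Opens // W ∈ 𝓑 ∧ W ≤ V} => i.1) V (fun i => homOfLE i.2.2)
    · intro x hx
      obtain ⟨W, hW, hxW, hWV⟩ := hB V hV x hx
      exact Opens.mem_iSup.mpr ⟨⟨W, hW, hWV⟩, hxW⟩
    · intro i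
      apply (hiso i.1 i.2.1).1
      show (f.app i.1).hom (res i.2.2 b) = (f.app i.1).hom (res i.2.2 b')
      rw [app_res, app_res, hbb']
  intro V hV
  refine ⟨hinj V hV, fun a => ?_⟩
  have hpre : ∀ {W W' : Y.Opens}, W ≤ W' → f ⁻¹ᵁ W ≤ f ⁻¹ᵁ W' := fun h _ hx => h hx
  have hloc : ∀ i : {W : Y.Opens // W ∈ 𝓑 ∧ W ≤ V},
      ∃ b : Γ(Y, i.1), (f.app i.1).hom b = res (hpre i.2.2) a := fun i => (hiso i.1 i.2.1).2 _
  choose sf hsf using hloc
  have hcompat : TopCat.Presheaf.IsCompatible Y.sheaf.1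
      (fun i : {W : Y.Opens // W ∈ 𝓑 ∧ W ≤ V} => i.1) sf := by
    intro i j
    apply hinj (i.1 ⊓ j.1) (inf_le_left.trans (i.2.2.trans hV))
    show (f.app (i.1 ⊓ j.1)).hom (res inf_le_left (sf i)) =
      (f.app (i.1 ⊓ j.1)).hom (res inf_le_right (sf j))
    rw [app_res, app_res, hsf, hsf, res_res, res_res]
  obtain ⟨b, hb, -⟩ := TopCat.Sheaf.existsUnique_gluing' Y.sheaf
    (fun i : {W : Y.Opens // W ∈ 𝓑 ∧ W ≤ V} => i.1) V (fun i => homOfLE i.2.2) (by
      intro x hx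
      obtain ⟨W, hW, hxW, hWV⟩ := hB V hV x hx
      exact Opens.mem_iSup.mpr ⟨⟨W, hW, hWV⟩, hxW⟩) sf hcompat
  refine ⟨b, ?_⟩
  apply TopCat.Sheaf.eq_of_locally_eq' X.sheaf
    (fun i : {W : Y.Opens // W ∈ 𝓑 ∧ W ≤ V} => f ⁻¹ᵁ i.1) (f ⁻¹ᵁ V)
    (fun i => homOfLE (hpre i.2.2))
  · intro x hx
    obtain ⟨W, hW, hxW, hWV⟩ := hB V hV (f.base x) hx
    exact Opens.mem_iSup.mpr ⟨⟨W, hW, hWV⟩, hxW⟩
  · intro i
    show res (hpre i.2.2) ((f.app V).hom b) = res (hpre i.2.2) a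
    rw [← app_res f i.2.2 b, ← hsf i]
    congr 1
    exact hb i

end Glue

/-- affine base: `O(V) → O(p⁻¹V)` is an isomorphism for all opens `V` of a neighbourhood of `s`. -/
theorem exists_open_forall_isIso_app_of_isAffine {X S : Scheme.{u}} [IsAffine S]
    [IsLocallyNoetherian S] (p : X ⟶ S) [IsProper p] [Flat p] (s : S) (h0 : FibH0 p s) :
    ∃ U₀ : S.Opens, s ∈ U₀ ∧ ∀ V : S.Opens, V ≤ U₀ → IsIso (p.app V) := by
  obtain ⟨U₀, hs, h⟩ := exists_open_forall_basicOpen_isIso_app p s h0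
  refine ⟨U₀, hs, fun V hV => ?_⟩
  have hbij := bijective_app_of_basis p U₀
    {W | ∃ g : Γ(S, ⊤), W = S.basicOpen g ∧ W ≤ U₀} ?_ ?_ V hV
  · exact (ConcreteCategory.isIso_iff_bijective _).mpr hbij
  · intro V hV x hx
    obtain ⟨g, hgV, hxg⟩ := (isAffineOpen_top S).exists_basicOpen_le (V := V) ⟨x, hx⟩ trivial
    exact ⟨S.basicOpen g, ⟨g, rfl, hgV.trans hV⟩, hxg, hgV⟩
  · rintro W ⟨g, rfl, hg⟩
    exact (ConcreteCategory.isIso_iff_bijective _).mp (h g hg)

/-- `κ(s) = H⁰(X_s)` only depends on the source up to isomorphism -/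
theorem fibH0_of_iso {X X' S : Scheme.{u}} (p : X ⟶ S) (p' : X' ⟶ S) (e : X' ≅ X)
    (he : e.hom ≫ p = p') (s : S) (h : FibH0 p' s) : FibH0 p s := by
  let θ : pullback p' (S.fromSpecResidueField s) ⟶ pullback p (S.fromSpecResidueField s) :=
    pullback.map p' (S.fromSpecResidueField s) p (S.fromSpecResidueField s) e.hom (𝟙 _) (𝟙 _)
      (by rw [Category.comp_id, he]) (by rw [Category.comp_id, Category.id_comp])
  have hθ : θ ≫ pullback.snd p (S.fromSpecResidueField s) =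
      pullback.snd p' (S.fromSpecResidueField s) := by
    have : θ ≫ pullback.snd p (S.fromSpecResidueField s) =
        pullback.snd p' (S.fromSpecResidueField s) ≫ 𝟙 _ := pullback.lift_snd _ _ _
    rw [this, Category.comp_id]
  have hθiso : IsIso θ := pullback.map_isIso _ _ _ _ _ _ _ _ _
  have b2 : Function.Bijective θ.appTop.hom := RigFib.bijective_appTop_of_isIso θ
  have h' : Function.Bijective (pullback.snd p' (S.fromSpecResidueField s)).appTop.hom := h
  rw [← hθ, Scheme.Hom.comp_appTop] at h'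
  have h3 : ⇑((pullback.snd p (S.fromSpecResidueField s)).appTop ≫ θ.appTop).hom =
      ⇑θ.appTop.hom ∘ ⇑(pullback.snd p (S.fromSpecResidueField s)).appTop.hom := rfl
  rw [h3] at h'
  exact (Function.Bijective.of_comp_iff' b2 _).mp h'

/-- **Main theorem**: for `f : X ⟶ Y` proper and flat over a locally Noetherian scheme and a point
`y` with `κ(y) = H⁰(X_y, O)`, the map `O_Y(V) → O_X(f⁻¹V)` is an isomorphism for all opens `V`
inside some neighbourhood of `y`. -/
theorem exists_open_forall_isIso_app {X Y : Scheme.{u}} [IsLocallyNoetherian Y] (f : X ⟶ Y)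
    [IsProper f] [Flat f] (y : Y) (h0 : FibH0 f y) :
    ∃ U : Y.Opens, y ∈ U ∧ ∀ V : Y.Opens, V ≤ U → IsIso (f.app V) := by
  obtain ⟨V₀, hV₀, hyV₀⟩ : ∃ V₀ : Y.Opens, IsAffineOpen V₀ ∧ y ∈ V₀ := by
    obtain ⟨_, ⟨V₀, hV₀, rfl⟩, hyV₀, -⟩ :=
      Y.isBasis_affineOpens.exists_subset_of_mem_open (Set.mem_univ y) isOpen_univ
    exact ⟨V₀, hV₀, hyV₀⟩
  have hAff : IsAffine (V₀ : Scheme.{u}) := hV₀
  have hLN : IsLocallyNoetherian (V₀ : Scheme.{u}) := isLocallyNoetherian_of_isOpenImmersion V₀.ι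
  let s : (V₀ : Scheme.{u}) := ⟨y, hyV₀⟩
  have h1 : FibH0 (pullback.snd f V₀.ι) s := RigBC.fibH0_baseChange f V₀.ι s h0
  have h2 : FibH0 (f ∣_ V₀) s :=
    fibH0_of_iso (f ∣_ V₀) (pullback.snd f V₀.ι) (pullbackRestrictIsoRestrict f V₀)
      (pullbackRestrictIsoRestrict_hom_morphismRestrict f V₀) s h1
  obtain ⟨U₀, hsU₀, hU₀⟩ := exists_open_forall_isIso_app_of_isAffine (f ∣_ V₀) s h2
  refine ⟨V₀.ι ''ᵁ U₀, ⟨s, hsU₀, rfl⟩, fun V hV => ?_⟩
  have hV' : V₀.ι ⁻¹ᵁ V ≤ U₀ := by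
    intro z hz
    obtain ⟨w, hw, hwz⟩ := hV hz
    have : w = z := V₀.ι.isOpenEmbedding.injective hwz
    exact this ▸ hw
  have h3 : IsIso ((f ∣_ V₀).app (V₀.ι ⁻¹ᵁ V)) := hU₀ _ hV'
  rw [morphismRestrict_app] at h3
  have h4 : IsIso (f.app (V₀.ι ''ᵁ V₀.ι ⁻¹ᵁ V)) :=
    @IsIso.of_isIso_comp_right _ _ _ _ _ (f.app (V₀.ι ''ᵁ V₀.ι ⁻¹ᵁ V))
      (X.presheaf.map (eqToHom (image_morphismRestrict_preimage f V₀ (V₀.ι ⁻¹ᵁ V))).op)
      inferInstance h3
  have h5 : V₀.ι ''ᵁ V₀.ι ⁻¹ᵁ V = V := by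
    rw [Scheme.Hom.image_preimage_eq_opensRange_inf, Scheme.Opens.opensRange_ι]
    exact inf_eq_right.mpr (hV.trans (Scheme.Opens.ι_image_le _ _))
  rw [h5] at h4
  exact h4

end Groth.Agent.Lib.Helper75.RigNbhd
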