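import Groth.Agent.Lib.Helper75.RigNbhd
import Groth.Agent.Lib.Helper55.FgSubalgRel
import Groth.Agent.Lib.Helper13.LimDescent

/-!
# `O_T = (f_T)_* O` universally (helper75)

For `f : X ⟶ Y` proper and flat over a locally Noetherian scheme with `κ(y) = H⁰(X_y, O)` at all
points, the map `O_T(U) → O_{X_T}(f_T⁻¹ U)` is an isomorphism for every base change `T ⟶ Y`
(`T` arbitrary, not necessarily locally Noetherian) and every open `U ⊆ T`.

The Noetherian case is `RigNbhd.exists_open_forall_isIso_app`; the general case follows by writing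
an affine `T = Spec A` over `Spec R ⊆ Y` as the limit of the spectra of the finitely generated
`R`-subalgebras of `A` and descending global sections to a finite stage.
-/

set_option autoImplicit false
universe u

open CategoryTheory Limits AlgebraicGeometry

namespace Groth.Agent.Lib.Helper75.RigUniv

open Groth.Agent.Lib.Helper75.RigMain Groth.Agent.Lib.Helper75.RigNbhd

/-- global version over a locally Noetherian base -/
theorem isIso_app_of_forall_fibH0 {X Y : Scheme.{u}} [IsLocallyNoetherian Y] (f : X ⟶ Y)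
    [IsProper f] [Flat f] (h0 : ∀ y, FibH0 f y) (V : Y.Opens) : IsIso (f.app V) := by
  have hbij := bijective_app_of_basis f ⊤ {W | ∀ V' : Y.Opens, V' ≤ W → IsIso (f.app V')} ?_ ?_ V
    le_top
  · exact (ConcreteCategory.isIso_iff_bijective _).mpr hbij
  · intro V _ x hx
    obtain ⟨U, hxU, hU⟩ := exists_open_forall_isIso_app f x (h0 x)
    exact ⟨U ⊓ V, fun V' hV' => hU V' (hV'.trans inf_le_left), ⟨hxU, hx⟩, inf_le_right⟩
  · intro W hW
    exact (ConcreteCategory.isIso_iff_bijective _).mp (hW W le_rfl)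

section Transport

theorem bijective_snd_snd_appTop_iff {X S T T' : Scheme.{u}} (p : X ⟶ S) (t : T ⟶ S)
    (x : T' ⟶ T) :
    Function.Bijective (pullback.snd (pullback.snd p t) x).appTop.hom ↔
      Function.Bijective (pullback.snd p (x ≫ t)).appTop.hom := by
  have h1 : pullback.snd (pullback.snd p t) x =
      (pullbackLeftPullbackSndIso p t x).hom ≫ pullback.snd p (x ≫ t) :=
    (pullbackLeftPullbackSndIso_hom_snd p t x).symm
  rw [h1, Scheme.Hom.comp_appTop]
  have b1 : Function.Bijective (pullbackLeftPullbackSndIso p t x).hom.appTop.hom :=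
    RigFib.bijective_appTop_of_isIso _
  exact Function.Bijective.of_comp_iff' b1 _

theorem fibH0_fst {X S T : Scheme.{u}} (p : X ⟶ S) [QuasiCompact p] [QuasiSeparated p]
    (t : T ⟶ S) (y : T) (h : FibH0 p (t.base y)) : FibH0 (pullback.fst t p) y :=
  fibH0_of_iso (pullback.fst t p) (pullback.snd p t) (pullbackSymmetry p t)
    (pullbackSymmetry_hom_comp_fst p t) y (RigBC.fibH0_baseChange p t y h)

theorem surjective_snd_appTop_of_isPullback {P X S T : Scheme.{u}} {a : P ⟶ X} {b : P ⟶ T}
    {f : X ⟶ S} {g : T ⟶ S} (h : IsPullback a b f g)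
    (hb : Function.Surjective b.appTop.hom) :
    Function.Surjective (pullback.snd f g).appTop.hom := by
  have he : h.isoPullback.hom ≫ pullback.snd f g = b := h.isoPullback_hom_snd
  rw [← he, Scheme.Hom.comp_appTop] at hb
  have b1 : Function.Bijective h.isoPullback.hom.appTop.hom :=
    RigFib.bijective_appTop_of_isIso _
  exact (Function.Surjective.of_comp_iff' b1 _).mp hb

end Transport


section Core

open Groth.Agent.Lib.Helper55.FgSubalgRel Groth.Agent.Lib.Helper13.LimDescent

variable {R A : Type u} [CommRing R] [CommRing A] [Algebra R A]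

instance isNoetherianRing_adjoin [IsNoetherianRing R] (s : Finset A) :
    IsNoetherianRing (Algebra.adjoin R (s : Set A)) := by
  have : Algebra.FiniteType R (Algebra.adjoin R (s : Set A)) :=
    (Subalgebra.fg_iff_finiteType _).mp (Subalgebra.fg_adjoin_finset s)
  exact Algebra.FiniteType.isNoetherianRing R _

instance isLocallyNoetherian_specD [IsNoetherianRing R] (j : (Finset A)ᵒᵖ) :
    IsLocallyNoetherian ((specD R A).obj j) := by
  rw [specD_obj]
  infer_instance

variable {X : Scheme.{u}} (f : X ⟶ Spec (CommRingCat.of R))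

/-- the base change of `f` to the smallest stage -/
noncomputable abbrev h₀ : pullback f (toBase R A ∅) ⟶ (specD R A).obj (Opposite.op ∅) :=
  pullback.snd f (toBase R A ∅)

theorem surjective_fst_appTop [IsNoetherianRing R] [IsProper f] [Flat f]
    (h0 : ∀ y, FibH0 f y) :
    Function.Surjective
      (pullback.fst ((specC R A).π.app (Opposite.op ∅)) (h₀ (A := A) f)).appTop.hom := by
  intro σ
  have hfib0 : ∀ y, FibH0 (h₀ (A := A) f) y := fun y => RigBC.fibH0_baseChange f _ y (h0 _)
  have : CompactSpace ↥(pullback f (toBase R A ∅)) :=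
    QuasiCompact.compactSpace_of_compactSpace (h₀ (A := A) f)
  have : QuasiSeparatedSpace ↥(pullback f (toBase R A ∅)) :=
    quasiSeparatedSpace_of_quasiSeparated (h₀ (A := A) f)
  obtain ⟨k, t, ht⟩ := exists_appTop_π_eq_of_isLimit (sys (specD R A) (Opposite.op ∅) (h₀ f))
    (sysCone (specD R A) (specC R A) (Opposite.op ∅) (h₀ f))
    (isLimitSysCone (specD R A) (specC R A) (Opposite.op ∅) (h₀ f) (isLimitSpecC R A)) σ
  have hq : Function.Bijective
      (pullback.fst ((specD R A).map k.hom) (h₀ (A := A) f)).appTop.hom := by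
    have hfib : ∀ y, FibH0 (pullback.fst ((specD R A).map k.hom) (h₀ (A := A) f)) y :=
      fun y => fibH0_fst (h₀ f) _ y (hfib0 _)
    have hprop0 : IsProper (h₀ (A := A) f) :=
      inferInstanceAs (IsProper (pullback.snd f (toBase R A ∅)))
    have hflat0 : Flat (h₀ (A := A) f) :=
      inferInstanceAs (Flat (pullback.snd f (toBase R A ∅)))
    have hprop : IsProper (pullback.fst ((specD R A).map k.hom) (h₀ (A := A) f)) :=
      inferInstance
    have hflat : Flat (pullback.fst ((specD R A).map k.hom) (h₀ (A := A) f)) :=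
      inferInstance
    have := isIso_app_of_forall_fibH0 _ hfib ⊤
    exact (ConcreteCategory.isIso_iff_bijective _).mp this
  obtain ⟨a, ha⟩ := hq.2 t
  refine ⟨((specC R A).π.app k.left).appTop.hom a, ?_⟩
  rw [ht, ← ha]
  have h1 := sysCone_π_fst (specD R A) (specC R A) (Opposite.op ∅) (h₀ (A := A) f) k
  have h2 := congrArg (fun φ => φ.appTop.hom a) h1
  simp only [Scheme.Hom.comp_appTop] at h2
  exact h2.symm

theorem surjective_of_forall_fibH0 {X S : Scheme.{u}} (p : X ⟶ S) (h0 : ∀ s, FibH0 p s) :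
    Surjective p :=
  ⟨fun s => nonempty_fibre p s (h0 s)⟩

/-- ring-level core: base change of a proper flat `f` over a Noetherian ring `R` with
`κ = H⁰(fibre)` to an arbitrary `R`-algebra `A` has `Γ(X_A) = A`. -/
theorem bijective_snd_appTop_SpecMap {R A : CommRingCat.{u}} (φ : R ⟶ A) [IsNoetherianRing R]
    {X : Scheme.{u}} (f : X ⟶ Spec R) [IsProper f] [Flat f] (h0 : ∀ y, FibH0 f y) :
    Function.Bijective (pullback.snd f (Spec.map φ)).appTop.hom := by
  have hs : Surjective f := surjective_of_forall_fibH0 f h0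
  refine ⟨injective_app_of_flat_of_surjective _ ⊤, ?_⟩
  let _ : Algebra R A := φ.hom.toAlgebra
  have hφ : (specC R A).π.app (Opposite.op ∅) ≫ toBase R A ∅ = Spec.map φ :=
    specC_π_toBase R A (Opposite.op ∅)
  have h1 := surjective_fst_appTop (R := R) (A := A) f h0
  have hpb1 : IsPullback (pullback.snd ((specC R A).π.app (Opposite.op ∅)) (h₀ (A := A) f))
      (pullback.fst ((specC R A).π.app (Opposite.op ∅)) (h₀ (A := A) f))
      (h₀ (A := A) f) ((specC R A).π.app (Opposite.op ∅)) :=
    (IsPullback.of_hasPullback _ _).flip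
  have hpb2 : IsPullback (pullback.fst f (toBase R A ∅)) (h₀ (A := A) f) f (toBase R A ∅) :=
    IsPullback.of_hasPullback _ _
  have big := hpb1.paste_horiz hpb2
  rw [hφ] at big
  exact surjective_snd_appTop_of_isPullback big h1

end Core

section Main

/-- affine base and affine test scheme -/
theorem bijective_snd_appTop_of_isAffine {X S T : Scheme.{u}} [IsAffine S] [IsLocallyNoetherian S]
    [IsAffine T] (f : X ⟶ S) [IsProper f] [Flat f] (h0 : ∀ y, FibH0 f y) (g : T ⟶ S) :
    Function.Bijective (pullback.snd f g).appTop.hom := by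
  have hN : IsNoetherianRing Γ(S, ⊤) :=
    IsLocallyNoetherian.component_noetherian ⟨⊤, isAffineOpen_top S⟩
  have hf1 : ∀ y, FibH0 (pullback.snd f S.isoSpec.inv) y :=
    fun y => RigBC.fibH0_baseChange f _ y (h0 _)
  have b1 := bijective_snd_appTop_SpecMap g.appTop (pullback.snd f S.isoSpec.inv) hf1
  have b2 := (bijective_snd_snd_appTop_iff f S.isoSpec.inv (Spec.map g.appTop)).mp b1
  have b3 := RigFib.bijective_snd_appTop_congr f (Scheme.isoSpec_inv_naturality g) b2
  have b4 := RigFib.bijective_snd_appTop_of_iso f (T.isoSpec.inv ≫ g) T.isoSpec.hom b3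
  exact RigFib.bijective_snd_appTop_congr f (by simp) b4

/-- **Main theorem**: for `f : X ⟶ Y` proper and flat over a locally Noetherian scheme with
`κ(y) = H⁰(X_y, O)` at all points, `O_T = (f_T)_* O` for every base change `g : T ⟶ Y`. -/
theorem isIso_snd_app {X Y : Scheme.{u}} [IsLocallyNoetherian Y] (f : X ⟶ Y) [IsProper f]
    [Flat f] (h0 : ∀ y, FibH0 f y) {T : Scheme.{u}} (g : T ⟶ Y) (U : T.Opens) :
    IsIso ((pullback.snd f g).app U) := by
  have hbij := bijective_app_of_basis (pullback.snd f g) ⊤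
    {W | IsAffineOpen W ∧ ∃ V : Y.Opens, IsAffineOpen V ∧ W ≤ g ⁻¹ᵁ V} ?_ ?_ U le_top
  · exact (ConcreteCategory.isIso_iff_bijective _).mpr hbij
  · intro V _ x hx
    obtain ⟨V₀, hV₀, hxV₀⟩ : ∃ V₀ : Y.Opens, IsAffineOpen V₀ ∧ g.base x ∈ V₀ := by
      obtain ⟨_, ⟨V₀, hV₀, rfl⟩, hyV₀, -⟩ :=
        Y.isBasis_affineOpens.exists_subset_of_mem_open (Set.mem_univ (g.base x)) isOpen_univ
      exact ⟨V₀, hV₀, hyV₀⟩
    obtain ⟨W, hW, hxW, hWle⟩ : ∃ W : T.Opens, IsAffineOpen W ∧ x ∈ W ∧ W ≤ V ⊓ g ⁻¹ᵁ V₀ := by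
      obtain ⟨_, ⟨W, hW, rfl⟩, hxW, hWle⟩ :=
        T.isBasis_affineOpens.exists_subset_of_mem_open
          (show x ∈ ((V ⊓ g ⁻¹ᵁ V₀ : T.Opens) : Set T) from ⟨hx, hxV₀⟩) (V ⊓ g ⁻¹ᵁ V₀).isOpen
      exact ⟨W, hW, hxW, hWle⟩
    exact ⟨W, ⟨hW, V₀, hV₀, hWle.trans inf_le_right⟩, hxW, hWle.trans inf_le_left⟩
  · rintro W ⟨hW, V, hV, hWV⟩
    have hAffV : IsAffine (V : Scheme.{u}) := hV
    have hAffW : IsAffine (W : Scheme.{u}) := hW
    have hrange : Set.range (W.ι ≫ g).base ⊆ Set.range V.ι.base := by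
      rintro _ ⟨w, rfl⟩
      rw [Scheme.Opens.range_ι]
      exact hWV w.2
    let g' : (W : Scheme.{u}) ⟶ (V : Scheme.{u}) := IsOpenImmersion.lift V.ι (W.ι ≫ g) hrange
    have hg' : g' ≫ V.ι = W.ι ≫ g := IsOpenImmersion.lift_fac _ _ _
    have hfV : ∀ y, FibH0 (pullback.snd f V.ι) y :=
      fun y => RigBC.fibH0_baseChange f _ y (h0 _)
    have b1 := bijective_snd_appTop_of_isAffine (pullback.snd f V.ι) hfV g'
    have b2 := (bijective_snd_snd_appTop_iff f V.ι g').mp b1
    have b3 := RigFib.bijective_snd_appTop_congr f hg' b2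
    have b4 := (bijective_snd_snd_appTop_iff f g W.ι).mpr b3
    have he : (pullbackRestrictIsoRestrict (pullback.snd f g) W).hom ≫ (pullback.snd f g) ∣_ W =
        pullback.snd (pullback.snd f g) W.ι :=
      pullbackRestrictIsoRestrict_hom_morphismRestrict _ _
    rw [← he, Scheme.Hom.comp_appTop] at b4
    have c1 : Function.Bijective
        (pullbackRestrictIsoRestrict (pullback.snd f g) W).hom.appTop.hom :=
      RigFib.bijective_appTop_of_isIso _
    have b5 : Function.Bijective ((pullback.snd f g) ∣_ W).appTop.hom :=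
      (Function.Bijective.of_comp_iff' c1 _).mp b4
    have h3 : IsIso ((pullback.snd f g) ∣_ W).appTop :=
      (ConcreteCategory.isIso_iff_bijective _).mpr b5
    rw [morphismRestrict_appTop] at h3
    have h4 : IsIso ((pullback.snd f g).app (W.ι ''ᵁ ⊤)) :=
      @IsIso.of_isIso_comp_right _ _ _ _ _ ((pullback.snd f g).app (W.ι ''ᵁ ⊤))
        ((pullback f g).presheaf.map
          (eqToHom (image_morphismRestrict_preimage (pullback.snd f g) W ⊤)).op)
        inferInstance h3
    have h5 : W.ι ''ᵁ ⊤ = W := by simp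
    rw [h5] at h4
    exact (ConcreteCategory.isIso_iff_bijective _).mp h4

end Main

end Groth.Agent.Lib.Helper75.RigUniv
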