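import Mathlib
import Groth.Prelude
import Groth.Agent.Lib.Helper75.AARigidity
import Groth.Agent.Lib.Helper75.AAPoint
import Groth.Agent.Lib.Helper75.AbVarOfSmooth
import Groth.Agent.Lib.Helper75.ConstAffine

/-!
# Rigidity for families `G × (W × V) → Z` with `V` a complete variety
-/

set_option autoImplicit false
universe u
open CategoryTheory CategoryTheory.Limits MonoidalCategory CartesianMonoidalCategory MonObj GrpObj
  AlgebraicGeometry

namespace Groth.Agent.Lib.Helper75.RigidProd

variable (k : Type u) [Field k] [IsAlgClosed k]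

/-- global functions on a complete variety over an algebraically closed field are constants. -/
theorem bijective_of_isProper (V : Over (Spec (CommRingCat.of k))) [IsProper V.hom]
    [IsIntegral V.left] :
    Function.Bijective ((Scheme.ΓSpecIso (CommRingCat.of k)).inv ≫ V.hom.appTop).hom := by
  refine ⟨RingHom.injective _, ?_⟩
  intro t
  obtain ⟨c, hc⟩ := Groth.Agent.Lib.Helper75.ConstAffine.appTop_surjective k V.hom t
  refine ⟨(Scheme.ΓSpecIso (CommRingCat.of k)).hom c, ?_⟩
  rw [CommRingCat.hom_comp, RingHom.comp_apply]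
  have : (Scheme.ΓSpecIso (CommRingCat.of k)).inv.hom ((Scheme.ΓSpecIso (CommRingCat.of k)).hom c)
      = c := CategoryTheory.Iso.hom_inv_id_apply (Scheme.ΓSpecIso (CommRingCat.of k)) c
  rw [this]
  exact hc

/-- the product of a connected group scheme of finite type and an irreducible scheme is
connected. -/
theorem connectedSpace_tensor (G W : Over (Spec (CommRingCat.of k))) [GrpObj G]
    [LocallyOfFiniteType G.hom] [QuasiCompact G.hom] [ConnectedSpace ↥G.left]
    [IrreducibleSpace ↥W.left] : ConnectedSpace ↥(G ⊗ W).left := by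
  have h1 : IrreducibleSpace G.left :=
    Groth.Agent.Lib.Helper75.AbVarOfSmooth.irreducibleSpace_of_grpObj G
  have h2 : GeometricallyIrreducible G.hom :=
    Groth.Agent.Lib.Helper12.GeomAlgClosed.geometricallyIrreducible_of_irreducibleSpace G.hom
  have h3 : Flat G.hom := inferInstance
  have h4 : UniversallyOpen G.hom := inferInstance
  have h5 : IrreducibleSpace ↥(pullback G.hom W.hom) := inferInstance
  have h6 : ConnectedSpace ↥(pullback G.hom W.hom) := inferInstance
  exact h6

/-- Lemma R: a family `F : G × (W × V) → Z` which at `g = e` does not depend on `V` does not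
depend on `V` at all. -/
theorem eq_whiskerLeft_fst_comp (G W V Z : Over (Spec (CommRingCat.of k))) [GrpObj G]
    [LocallyOfFiniteType G.hom] [QuasiCompact G.hom] [ConnectedSpace ↥G.left]
    [LocallyOfFiniteType W.hom] [IrreducibleSpace ↥W.left]
    [IsProper V.hom] [IsIntegral V.left] [IsSeparated Z.hom]
    (F : G ⊗ (W ⊗ V) ⟶ Z) (h : W ⟶ Z)
    (hF : lift (toUnit (W ⊗ V) ≫ η[G]) (𝟙 (W ⊗ V)) ≫ F = fst W V ≫ h)
    (v₀ : 𝟙_ (Over (Spec (CommRingCat.of k))) ⟶ V) :
    F = (G ◁ fst W V) ≫ (G ◁ lift (𝟙 W) (toUnit W ≫ v₀)) ≫ F := by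
  have hV := bijective_of_isProper k V
  have hconn := connectedSpace_tensor k G W
  have hlft : LocallyOfFiniteType (G ⊗ W).hom := by
    have h1 : LocallyOfFiniteType (snd G W).left := by
      rw [Over.snd_left]
      infer_instance
    rw [← Over.w (snd G W)]
    infer_instance
  have hN : IsLocallyNoetherian (G ⊗ W).left :=
    LocallyOfFiniteType.isLocallyNoetherian (G ⊗ W).hom
  have hne : Nonempty ↥W.left := inferInstance
  obtain ⟨w₀⟩ := Groth.Agent.Lib.Helper75.AAPoint.exists_point k W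
  let θ : V ⊗ (G ⊗ W) ⟶ G ⊗ (W ⊗ V) :=
    lift (snd V (G ⊗ W) ≫ fst G W) (lift (snd V (G ⊗ W) ≫ snd G W) (fst V (G ⊗ W)))
  let θ' : G ⊗ (W ⊗ V) ⟶ V ⊗ (G ⊗ W) :=
    lift (snd G (W ⊗ V) ≫ snd W V) (lift (fst G (W ⊗ V)) (snd G (W ⊗ V) ≫ fst W V))
  have hθ : θ' ≫ θ = 𝟙 _ := by
    apply CartesianMonoidalCategory.hom_ext
    · simp [θ, θ']
    · apply CartesianMonoidalCategory.hom_ext <;> simp [θ, θ']
  have hFe : ∀ (T : Over (Spec (CommRingCat.of k))) (p : T ⟶ W ⊗ V),
      lift (toUnit T ≫ η[G]) p ≫ F = p ≫ fst W V ≫ h := by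
    intro T p
    have : lift (toUnit T ≫ η[G]) p = p ≫ lift (toUnit (W ⊗ V) ≫ η[G]) (𝟙 (W ⊗ V)) := by
      rw [comp_lift, Category.comp_id, ← Category.assoc, toUnit_unique (p ≫ toUnit _) (toUnit T)]
    rw [this, Category.assoc, hF]
  have key := Groth.Agent.Lib.Helper75.AARigidity.aa_rigidity k V (G ⊗ W) Z hV v₀
    (lift η[G] w₀) (θ ≫ F) ?_
  · have e1 : θ' ≫ snd V (G ⊗ W) = G ◁ fst W V := by
      apply CartesianMonoidalCategory.hom_ext <;> simp [θ']
    have e2 : lift (toUnit (G ⊗ W) ≫ v₀) (𝟙 (G ⊗ W)) ≫ θ =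
        G ◁ lift (𝟙 W) (toUnit W ≫ v₀) := by
      apply CartesianMonoidalCategory.hom_ext
      · simp [θ]
      · apply CartesianMonoidalCategory.hom_ext
        · simp [θ]
        · simp only [θ, Category.assoc, lift_snd, lift_fst, whiskerLeft_snd, comp_lift,
            lift_snd_assoc]
          rw [← Category.assoc (snd G W), toUnit_unique (snd G W ≫ toUnit W) (toUnit _)]
    calc F = θ' ≫ θ ≫ F := by rw [← Category.assoc, hθ, Category.id_comp]
      _ = θ' ≫ snd V (G ⊗ W) ≫ lift (toUnit (G ⊗ W) ≫ v₀) (𝟙 (G ⊗ W)) ≫ θ ≫ F := by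
          rw [← key]
      _ = (G ◁ fst W V) ≫ (G ◁ lift (𝟙 W) (toUnit W ≫ v₀)) ≫ F := by
          rw [← Category.assoc θ', e1, ← Category.assoc (lift _ _), e2]
  · -- the hypothesis of rigidity
    have e3 : (V ◁ lift η[G] w₀) ≫ θ = lift (toUnit _ ≫ η[G])
        (lift (toUnit _ ≫ w₀) (fst V (𝟙_ _))) := by
      apply CartesianMonoidalCategory.hom_ext
      · simp only [θ, Category.assoc, lift_fst, whiskerLeft_snd_assoc]
        rw [toUnit_unique (toUnit (V ⊗ 𝟙_ _)) (snd V (𝟙_ _))]
      · apply CartesianMonoidalCategory.hom_ext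
        · simp only [θ, Category.assoc, lift_fst, lift_snd, whiskerLeft_snd_assoc]
          rw [toUnit_unique (toUnit (V ⊗ 𝟙_ _)) (snd V (𝟙_ _))]
        · simp [θ]
    have e4 : lift v₀ (lift η[G] w₀) ≫ θ = lift (toUnit _ ≫ η[G]) (lift w₀ v₀) := by
      apply CartesianMonoidalCategory.hom_ext
      · simp only [θ, Category.assoc, lift_fst, lift_snd_assoc]
        rw [toUnit_unique (toUnit (𝟙_ (Over (Spec (CommRingCat.of k))))) (𝟙 _), Category.id_comp]
      · apply CartesianMonoidalCategory.hom_ext <;> simp [θ]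
    rw [← Category.assoc, e3, hFe, lift_fst_assoc, ← Category.assoc (lift v₀ _), e4, hFe,
      lift_fst_assoc]
    simp

end Groth.Agent.Lib.Helper75.RigidProd
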