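import Mathlib.Topology.Spectral.Basic
import Mathlib.Topology.Connected.Clopen
import Mathlib.Topology.Connected.TotallyDisconnected
import Mathlib.Topology.Separation.Basic

/-!
# Spectral spaces: connected components are intersections of clopens (helper75)
-/

namespace Groth.Agent.Lib.Helper75

open Topology Set

variable {X : Type*} [TopologicalSpace X]

/-- If a compact set `K` misses the intersection of all clopen neighbourhoods of `x`,
it misses one of them. -/
theorem exists_isClopen_disjoint_of_isCompact {x : X} {K : Set X} (hK : IsCompact K)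
    (h : K ∩ ⋂ s : { s : Set X // IsClopen s ∧ x ∈ s }, (s : Set X) = ∅) :
    ∃ s : Set X, IsClopen s ∧ x ∈ s ∧ K ∩ s = ∅ := by
  classical
  obtain ⟨u, hu⟩ := hK.elim_finite_subfamily_closed
    (fun s : { s : Set X // IsClopen s ∧ x ∈ s } => (s : Set X)) (fun s => s.2.1.1) h
  refine ⟨⋂ U ∈ u, Subtype.val U, ?_, ?_, hu⟩
  · exact isClopen_biInter_finset fun s _ => s.2.1
  · exact mem_iInter₂.2 fun s _ => s.2.2

/-- In a compact, prespectral, quasi-separated space (e.g. a spectral space), the connected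
component of a point is the intersection of its clopen neighbourhoods. -/
theorem connectedComponent_eq_iInter_isClopen_of_spectral [CompactSpace X] [PrespectralSpace X]
    [QuasiSeparatedSpace X] (x : X) :
    connectedComponent x = ⋂ s : { s : Set X // IsClopen s ∧ x ∈ s }, (s : Set X) := by
  apply Subset.antisymm connectedComponent_subset_iInter_isClopen
  refine IsPreconnected.subset_connectedComponent ?_ (mem_iInter.2 fun s => s.2.2)
  set S : Set X := ⋂ s : { s : Set X // IsClopen s ∧ x ∈ s }, (s : Set X) with hSdef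
  have hS : IsClosed S := isClosed_iInter fun s => s.2.1.1
  have hxS : x ∈ S := mem_iInter.2 fun s => s.2.2
  rw [isPreconnected_iff_subset_of_fully_disjoint_closed hS]
  intro a b ha hb hab ab_disj
  -- compact opens `U ⊇ S ∩ a`, `V ⊇ S ∩ b`
  have hSa : S ∩ a ⊆ bᶜ := fun y hy hyb => Set.disjoint_left.mp ab_disj hy.2 hyb
  have hSb : S ∩ b ⊆ aᶜ := fun y hy hya => Set.disjoint_left.mp ab_disj hya hy.2
  obtain ⟨U, hUc, hUo, hSaU, hUb⟩ := PrespectralSpace.exists_isCompact_and_isOpen_between
    (hS.inter ha).isCompact hb.isOpen_compl hSa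
  obtain ⟨V, hVc, hVo, hSbV, hVa⟩ := PrespectralSpace.exists_isCompact_and_isOpen_between
    (hS.inter hb).isCompact ha.isOpen_compl hSb
  have hSUV : S ⊆ U ∪ V := by
    intro y hy
    rcases hab hy with h | h
    · exact Or.inl (hSaU ⟨hy, h⟩)
    · exact Or.inr (hSbV ⟨hy, h⟩)
  have hSUVe : S ∩ (U ∩ V) = ∅ := by
    rw [eq_empty_iff_forall_notMem]
    rintro y ⟨hy, hyU, hyV⟩
    rcases hab hy with h | h
    · exact hVa hyV h
    · exact hUb hyU h
  -- a clopen `s₁ ∋ x` inside `U ∪ V`
  obtain ⟨s₁, hs₁, hxs₁, hs₁e⟩ := exists_isClopen_disjoint_of_isCompact (x := x)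
    (hUo.union hVo).isClosed_compl.isCompact (by
      rw [eq_empty_iff_forall_notMem]
      rintro y ⟨hy1, hy2⟩
      exact hy1 (hSUV hy2))
  -- a clopen `s₂ ∋ x` missing `U ∩ V`
  obtain ⟨s₂, hs₂, hxs₂, hs₂e⟩ := exists_isClopen_disjoint_of_isCompact (x := x)
    (QuasiSeparatedSpace.inter_isCompact U V hUo hUc hVo hVc) (by
      rw [inter_comm]; exact hSUVe)
  set s := s₁ ∩ s₂ with hs
  have hsc : IsClopen s := hs₁.inter hs₂
  have hxs : x ∈ s := ⟨hxs₁, hxs₂⟩
  have hsUV : s ⊆ U ∪ V := by
    intro y hy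
    by_contra hcon
    have : y ∈ (U ∪ V)ᶜ ∩ s₁ := ⟨hcon, hy.1⟩
    rw [hs₁e] at this
    exact this
  have hsUVe : ∀ y, y ∈ s → y ∈ U → y ∈ V → False := by
    intro y hy hyU hyV
    have : y ∈ (U ∩ V) ∩ s₂ := ⟨⟨hyU, hyV⟩, hy.2⟩
    rw [hs₂e] at this
    exact this
  have hsU : IsClopen (s ∩ U) := by
    refine ⟨?_, hsc.2.inter hUo⟩
    have : s ∩ U = s ∩ Vᶜ := by
      ext y
      constructor
      · rintro ⟨hy, hyU⟩
        exact ⟨hy, fun hyV => hsUVe y hy hyU hyV⟩
      · rintro ⟨hy, hyV⟩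
        exact ⟨hy, (hsUV hy).resolve_right hyV⟩
    rw [this]
    exact hsc.1.inter hVo.isClosed_compl
  have hsV : IsClopen (s ∩ V) := by
    refine ⟨?_, hsc.2.inter hVo⟩
    have : s ∩ V = s ∩ Uᶜ := by
      ext y
      constructor
      · rintro ⟨hy, hyV⟩
        exact ⟨hy, fun hyU => hsUVe y hy hyU hyV⟩
      · rintro ⟨hy, hyU⟩
        exact ⟨hy, (hsUV hy).resolve_left hyU⟩
    rw [this]
    exact hsc.1.inter hUo.isClosed_compl
  rcases hSUV hxS with hxU | hxV
  · left
    have h1 : S ⊆ s ∩ U :=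
      iInter_subset (fun s : { s : Set X // IsClopen s ∧ x ∈ s } => s.1) ⟨s ∩ U, hsU, hxs, hxU⟩
    intro y hy
    rcases hab hy with h | h
    · exact h
    · exact absurd h (hUb (h1 hy).2)
  · right
    have h1 : S ⊆ s ∩ V :=
      iInter_subset (fun s : { s : Set X // IsClopen s ∧ x ∈ s } => s.1) ⟨s ∩ V, hsV, hxs, hxV⟩
    intro y hy
    rcases hab hy with h | h
    · exact absurd h (hVa (h1 hy).2)
    · exact h

/-- In a spectral-like space, if the connected component of `x` is contained in an open `U`,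
some clopen neighbourhood of `x` is contained in `U`. -/
theorem exists_isClopen_subset_of_connectedComponent_subset [CompactSpace X] [PrespectralSpace X]
    [QuasiSeparatedSpace X] {x : X} {U : Set X} (hU : IsOpen U)
    (h : connectedComponent x ⊆ U) : ∃ s : Set X, IsClopen s ∧ x ∈ s ∧ s ⊆ U := by
  rw [connectedComponent_eq_iInter_isClopen_of_spectral] at h
  obtain ⟨s, hs, hxs, hse⟩ := exists_isClopen_disjoint_of_isCompact (x := x)
    hU.isClosed_compl.isCompact (by
      rw [eq_empty_iff_forall_notMem]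
      rintro y ⟨hy1, hy2⟩
      exact hy1 (h hy2))
  refine ⟨s, hs, hxs, ?_⟩
  intro y hy
  by_contra hcon
  have : y ∈ Uᶜ ∩ s := ⟨hcon, hy⟩
  rw [hse] at this
  exact this

end Groth.Agent.Lib.Helper75
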