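import Groth.Agent.Lib.Helper75.HomologyFilteredColim
import Mathlib.CategoryTheory.Monoidal.Tor
import Mathlib.Algebra.Category.ModuleCat.Monoidal.Basic
import Mathlib.Algebra.Category.ModuleCat.Monoidal.Closed
import Mathlib.Algebra.Category.ModuleCat.Monoidal.Symmetric
import Mathlib.Algebra.Category.ModuleCat.Abelian
import Mathlib.Algebra.Category.ModuleCat.Projective
import Mathlib.CategoryTheory.Monoidal.Limits.Preserves
import Mathlib.CategoryTheory.Limits.Preserves.Filtered

/-!
# `Tor_p(-, N)` commutes with filtered colimits (first variable)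
-/

set_option autoImplicit false
universe u
open CategoryTheory Limits MonoidalCategory

namespace Groth.Agent.Lib.Helper75

variable {A : Type u} [CommRing A]

/-- `M ↦ M ⊗ P_•` for a fixed chain complex `P_•`. -/
noncomputable def tensorCx (P : ChainComplex (ModuleCat.{u} A) ℕ) :
    ModuleCat.{u} A ⥤ ChainComplex (ModuleCat.{u} A) ℕ where
  obj M := (((tensoringLeft (ModuleCat.{u} A)).obj M).mapHomologicalComplex _).obj P
  map f := (NatTrans.mapHomologicalComplex ((tensoringLeft (ModuleCat.{u} A)).map f) _).app P
  map_id M := by
    ext n
    simp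
  map_comp f g := by
    ext n
    simp

/-- `Tor_p(-, N)` computed with a fixed projective resolution of `N`. -/
noncomputable def torFlipIso (p : ℕ) {N : ModuleCat.{u} A} (P : ProjectiveResolution N) :
    (Tor (ModuleCat.{u} A) p).flip.obj N ≅
      tensorCx P.complex ⋙ HomologicalComplex.homologyFunctor (ModuleCat.{u} A) _ p :=
  NatIso.ofComponents
    (fun M => P.isoLeftDerivedObj ((tensoringLeft (ModuleCat.{u} A)).obj M) p)
    (fun {M M'} f => by
      have h := ProjectiveResolution.leftDerived_app_eq
        ((tensoringLeft (ModuleCat.{u} A)).map f) P p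
      have h' : (NatTrans.leftDerived ((tensoringLeft (ModuleCat.{u} A)).map f) p).app N ≫
          (P.isoLeftDerivedObj ((tensoringLeft (ModuleCat.{u} A)).obj M') p).hom =
          (P.isoLeftDerivedObj ((tensoringLeft (ModuleCat.{u} A)).obj M) p).hom ≫
            (HomologicalComplex.homologyFunctor (ModuleCat.{u} A) (ComplexShape.down ℕ) p).map
              ((NatTrans.mapHomologicalComplex ((tensoringLeft (ModuleCat.{u} A)).map f)
                (ComplexShape.down ℕ)).app P.complex) := by
        rw [h, Category.assoc, Category.assoc, Iso.inv_hom_id, Category.comp_id]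
      exact h')

theorem tensorCx_preservesColimitsOfShape (P : ChainComplex (ModuleCat.{u} A) ℕ)
    (J : Type u) [SmallCategory J] : PreservesColimitsOfShape J (tensorCx P) := by
  apply HomologicalComplex.preservesColimitsOfShape_of_eval
  intro n
  have e : tensorCx P ⋙ HomologicalComplex.eval _ _ n ≅ tensorRight (P.X n) :=
    NatIso.ofComponents (fun M => Iso.refl _) (fun {M M'} f =>
      (Category.comp_id ((tensorRight (P.X n)).map f)).trans
        (Category.id_comp ((tensorRight (P.X n)).map f)).symm)
  have : PreservesColimitsOfShape J (tensorRight (P.X n)) := ⟨fun {K} => inferInstance⟩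
  exact preservesColimitsOfShape_of_natIso e.symm

theorem tor_flip_preservesColimitsOfShape (p : ℕ) (N : ModuleCat.{u} A)
    (J : Type u) [SmallCategory J] [IsFiltered J] :
    PreservesColimitsOfShape J ((Tor (ModuleCat.{u} A) p).flip.obj N) := by
  have h1 := tensorCx_preservesColimitsOfShape (ProjectiveResolution.of N).complex J
  have h2 : PreservesColimitsOfShape J
      (HomologicalComplex.homologyFunctor (ModuleCat.{u} A) (ComplexShape.down ℕ) p) :=
    homologyFunctor_preservesFilteredColimits p
  exact preservesColimitsOfShape_of_natIso (torFlipIso p (ProjectiveResolution.of N)).symm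

end Groth.Agent.Lib.Helper75
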