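import Groth.Agent.Lib.Helper75.FunctorialRes
import Groth.Agent.Lib.Helper75.TorFilteredColim

/-!
# `Tor_p(M, -)` commutes with filtered colimits (second, i.e. resolved, variable)
-/

set_option autoImplicit false
universe u
open CategoryTheory Limits MonoidalCategory

namespace Groth.Agent.Lib.Helper75

variable {A : Type u} [CommRing A]

/-- `Tor_p(M, -)` computed with the functorial free resolution. -/
noncomputable def torObjIso (p : ℕ) (M : ModuleCat.{u} A) :
    (Tor (ModuleCat.{u} A) p).obj M ≅
      res ⋙ ((tensoringLeft (ModuleCat.{u} A)).obj M).mapHomologicalComplex _ ⋙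
        HomologicalComplex.homologyFunctor (ModuleCat.{u} A) _ p :=
  NatIso.ofComponents
    (fun N => (resProj N).isoLeftDerivedObj ((tensoringLeft (ModuleCat.{u} A)).obj M) p)
    (fun {N N'} f => ProjectiveResolution.isoLeftDerivedObj_hom_naturality f (resProj N)
      (resProj N') (res.map f) (res_map_π f) ((tensoringLeft (ModuleCat.{u} A)).obj M) p)

theorem mapHomologicalComplex_preservesColimitsOfShape (G : ModuleCat.{u} A ⥤ ModuleCat.{u} A)
    [G.Additive] (J : Type u) [SmallCategory J] [PreservesColimitsOfShape J G] :
    PreservesColimitsOfShape J (G.mapHomologicalComplex (ComplexShape.down ℕ)) := by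
  apply HomologicalComplex.preservesColimitsOfShape_of_eval
  intro n
  have e : G.mapHomologicalComplex (ComplexShape.down ℕ) ⋙ HomologicalComplex.eval _ _ n ≅
      HomologicalComplex.eval _ _ n ⋙ G :=
    NatIso.ofComponents (fun K => Iso.refl _) (fun {K K'} f =>
      (Category.comp_id (G.map (f.f n))).trans (Category.id_comp (G.map (f.f n))).symm)
  exact preservesColimitsOfShape_of_natIso e.symm

theorem tor_obj_preservesColimitsOfShape (p : ℕ) (M : ModuleCat.{u} A)
    (J : Type u) [SmallCategory J] [IsFiltered J] :
    PreservesColimitsOfShape J ((Tor (ModuleCat.{u} A) p).obj M) := by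
  have h1 := res_preservesFilteredColimits (A := A) (J := J)
  have h2 : PreservesColimitsOfShape J
      (((tensoringLeft (ModuleCat.{u} A)).obj M).mapHomologicalComplex (ComplexShape.down ℕ)) := by
    have : PreservesColimitsOfShape J ((tensoringLeft (ModuleCat.{u} A)).obj M) :=
      inferInstanceAs (PreservesColimitsOfShape J (tensorLeft M))
    exact mapHomologicalComplex_preservesColimitsOfShape _ J
  have h3 : PreservesColimitsOfShape J
      (HomologicalComplex.homologyFunctor (ModuleCat.{u} A) (ComplexShape.down ℕ) p) :=
    homologyFunctor_preservesFilteredColimits p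
  exact preservesColimitsOfShape_of_natIso (torObjIso p M).symm

end Groth.Agent.Lib.Helper75
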