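import Mathlib
import Groth.Agent.Lib.Helper75.ExtMonoB
import Groth.Agent.Lib.Helper75.LenDim

/-!
# The two-branch singularity `A_{2δ-1}` inside `k⟦X⟧ × k⟦X⟧` (helper75)

`O = {(f, g) | X^δ ∣ f - g}`.  The `O`-submodules
`W α γ = {(u, v) | X^α ∣ u, X^α ∣ v, X^γ ∣ u - v}` (for `γ ≤ δ + α`) and the lengths of their
quotients.
-/

universe u
open PowerSeries

namespace Groth.Agent.Lib.Helper75.TwoBranch

open Groth.Agent.Lib.Helper75

variable {k : Type u} [Field k] {δ : ℕ} (O : Subalgebra k (PowerSeries k × PowerSeries k))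
  (hO : ∀ f : PowerSeries k × PowerSeries k, f ∈ O ↔ (X : PowerSeries k) ^ δ ∣ f.1 - f.2)

/-- The module `{(u, v) | X^α ∣ u, X^α ∣ v, X^γ ∣ u - v}`. -/
def W (α γ : ℕ) (hγ : γ ≤ δ + α) : Submodule O (PowerSeries k × PowerSeries k) where
  carrier := {f | (X : PowerSeries k) ^ α ∣ f.1 ∧ (X : PowerSeries k) ^ α ∣ f.2 ∧
    (X : PowerSeries k) ^ γ ∣ f.1 - f.2}
  add_mem' := by
    rintro f g ⟨hf1, hf2, hf3⟩ ⟨hg1, hg2, hg3⟩
    refine ⟨dvd_add hf1 hg1, dvd_add hf2 hg2, ?_⟩
    have : (f + g).1 - (f + g).2 = (f.1 - f.2) + (g.1 - g.2) := by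
      simp only [Prod.fst_add, Prod.snd_add]; ring
    rw [this]
    exact dvd_add hf3 hg3
  zero_mem' := by simp
  smul_mem' := by
    rintro a f ⟨hf1, hf2, hf3⟩
    have ha := (hO a).mp a.2
    change (X : PowerSeries k) ^ α ∣ (a : PowerSeries k × PowerSeries k).1 * f.1 ∧
      (X : PowerSeries k) ^ α ∣ (a : PowerSeries k × PowerSeries k).2 * f.2 ∧
      (X : PowerSeries k) ^ γ ∣ (a : PowerSeries k × PowerSeries k).1 * f.1 -
        (a : PowerSeries k × PowerSeries k).2 * f.2
    refine ⟨dvd_mul_of_dvd_right hf1 _, dvd_mul_of_dvd_right hf2 _, ?_⟩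
    have : (a : PowerSeries k × PowerSeries k).1 * f.1 - (a : PowerSeries k × PowerSeries k).2 * f.2 =
        (a : PowerSeries k × PowerSeries k).1 * (f.1 - f.2) +
          ((a : PowerSeries k × PowerSeries k).1 - (a : PowerSeries k × PowerSeries k).2) * f.2 := by
      ring
    rw [this]
    apply dvd_add (dvd_mul_of_dvd_right hf3 _)
    refine (pow_dvd_pow X hγ).trans ?_
    rw [pow_add]
    exact mul_dvd_mul ha hf2

lemma mem_W (α γ : ℕ) (hγ : γ ≤ δ + α) (f : PowerSeries k × PowerSeries k) :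
    f ∈ W O hO α γ hγ ↔ (X : PowerSeries k) ^ α ∣ f.1 ∧ (X : PowerSeries k) ^ α ∣ f.2 ∧
      (X : PowerSeries k) ^ γ ∣ f.1 - f.2 := Iff.rfl

/-- The augmentation ideal of `O`. -/
noncomputable def aug : Ideal O :=
  RingHom.ker ((constantCoeff (R := k)).comp
    ((RingHom.fst (PowerSeries k) (PowerSeries k)).comp
      (O.val : O →+* PowerSeries k × PowerSeries k)))

lemma mem_aug (a : O) :
    a ∈ aug O ↔ constantCoeff ((a : PowerSeries k × PowerSeries k).1) = 0 := by
  rw [aug, RingHom.mem_ker]; rfl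

lemma aug_spec (a : O) : ∃ c : k, a - algebraMap k O c ∈ aug O := by
  refine ⟨constantCoeff ((a : PowerSeries k × PowerSeries k).1), ?_⟩
  rw [mem_aug]
  have : ((a - algebraMap k O (constantCoeff ((a : PowerSeries k × PowerSeries k).1)) : O) :
      PowerSeries k × PowerSeries k).1 =
      (a : PowerSeries k × PowerSeries k).1 -
        C (constantCoeff ((a : PowerSeries k × PowerSeries k).1)) := rfl
  rw [this, map_sub, constantCoeff_C, sub_self]

include hO in
lemma X_pow_dvd_of_mem_aug_pow (hδ : 1 ≤ δ) (N : ℕ) : ∀ a ∈ aug O ^ N,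
    (X : PowerSeries k) ^ N ∣ (a : PowerSeries k × PowerSeries k).1 ∧
      (X : PowerSeries k) ^ N ∣ (a : PowerSeries k × PowerSeries k).2 := by
  induction N with
  | zero => intro a _; simp
  | succ N ih =>
    intro a ha
    rw [pow_succ'] at ha
    refine Submodule.mul_induction_on ha ?_ ?_
    · intro b hb c hc
      have hb1 : (X : PowerSeries k) ∣ (b : PowerSeries k × PowerSeries k).1 := by
        rw [X_dvd_iff]; exact (mem_aug O b).mp hb
      have hb2 : (X : PowerSeries k) ∣ (b : PowerSeries k × PowerSeries k).2 := by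
        have h1 := (hO b).mp b.2
        have h2 : (X : PowerSeries k) ∣ (b : PowerSeries k × PowerSeries k).1 -
            (b : PowerSeries k × PowerSeries k).2 :=
          (dvd_pow_self X (by omega)).trans h1
        have := dvd_sub hb1 h2
        simpa using this
      obtain ⟨h2, h3⟩ := ih c hc
      rw [pow_succ']
      exact ⟨mul_dvd_mul hb1 h2, mul_dvd_mul hb2 h3⟩
    · intro b c hb hc
      exact ⟨dvd_add hb.1 hc.1, dvd_add hb.2 hc.2⟩

section length

variable (α γ α' γ' : ℕ) (hγ : γ ≤ δ + α) (hγ' : γ' ≤ δ + α')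

/-- Coefficient map detecting `W α' γ'` inside `W α γ`. -/
noncomputable def coeffMap : ↥(W O hO α γ hγ) →ₗ[k] ((Fin (α' - α) → k) × (Fin (γ' - γ) → k)) where
  toFun f := (fun m => coeff (α + m) (f : PowerSeries k × PowerSeries k).1,
    fun m => coeff (γ + m) ((f : PowerSeries k × PowerSeries k).1 -
      (f : PowerSeries k × PowerSeries k).2))
  map_add' f g := by
    ext m
    · simp
    · simp only [Submodule.coe_add, Prod.fst_add, Prod.snd_add, map_sub, map_add, Pi.add_apply,
        Prod.snd_add]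
      ring
  map_smul' c f := by
    ext m
    · change coeff (α + m) (c • (f : PowerSeries k × PowerSeries k).1) = _
      rw [coeff_smul]; rfl
    · change coeff (γ + m) (c • (f : PowerSeries k × PowerSeries k).1 -
        c • (f : PowerSeries k × PowerSeries k).2) = _
      rw [← smul_sub, coeff_smul]; rfl

lemma coeffMap_surjective (h3 : α ≤ γ) :
    Function.Surjective (coeffMap O hO α γ α' γ' hγ) := by
  classical
  rintro ⟨p, q⟩
  let u : PowerSeries k := PowerSeries.mk
    (fun n => if h : α ≤ n ∧ n - α < α' - α then p ⟨n - α, h.2⟩ else 0)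
  let d : PowerSeries k := PowerSeries.mk
    (fun n => if h : γ ≤ n ∧ n - γ < γ' - γ then q ⟨n - γ, h.2⟩ else 0)
  have hu : (X : PowerSeries k) ^ α ∣ u := by
    rw [X_pow_dvd_iff]
    intro m hm
    simp only [u, coeff_mk]
    rw [dif_neg]
    omega
  have hd : (X : PowerSeries k) ^ γ ∣ d := by
    rw [X_pow_dvd_iff]
    intro m hm
    simp only [d, coeff_mk]
    rw [dif_neg]
    omega
  refine ⟨⟨(u, u - d), hu, dvd_sub hu ((pow_dvd_pow X h3).trans hd), ?_⟩, ?_⟩
  · change (X : PowerSeries k) ^ γ ∣ u - (u - d)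
    rw [sub_sub_cancel]
    exact hd
  · apply Prod.ext
    · funext m
      change coeff (α + m) u = p m
      simp only [u, coeff_mk]
      rw [dif_pos ⟨by omega, by have := m.2; omega⟩]
      congr 1
      apply Fin.ext
      simp
    · funext m
      change coeff (γ + m) (u - (u - d)) = q m
      rw [sub_sub_cancel]
      simp only [d, coeff_mk]
      rw [dif_pos ⟨by omega, by have := m.2; omega⟩]
      congr 1
      apply Fin.ext
      simp

lemma ker_coeffMap (h1 : α ≤ α') (h2 : γ ≤ γ') (h4 : α' ≤ γ') :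
    LinearMap.ker (coeffMap O hO α γ α' γ' hγ) =
      ((W O hO α' γ' hγ').comap (W O hO α γ hγ).subtype).restrictScalars k := by
  ext f
  rw [LinearMap.mem_ker, Submodule.restrictScalars_mem, Submodule.mem_comap, Submodule.subtype_apply,
    mem_W]
  obtain ⟨hf1, hf2, hf3⟩ := f.2
  constructor
  · intro h
    have ha : (X : PowerSeries k) ^ α' ∣ (f : PowerSeries k × PowerSeries k).1 := by
      rw [X_pow_dvd_iff] at hf1 ⊢
      intro m hm
      by_cases hmα : m < α
      · exact hf1 m hmα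
      · have := congrFun (congrArg Prod.fst h) ⟨m - α, by omega⟩
        change coeff (α + (m - α)) _ = 0 at this
        rwa [Nat.add_sub_cancel' (by omega)] at this
    have hc : (X : PowerSeries k) ^ γ' ∣ (f : PowerSeries k × PowerSeries k).1 -
        (f : PowerSeries k × PowerSeries k).2 := by
      rw [X_pow_dvd_iff] at hf3 ⊢
      intro m hm
      by_cases hmγ : m < γ
      · exact hf3 m hmγ
      · have := congrFun (congrArg Prod.snd h) ⟨m - γ, by omega⟩
        change coeff (γ + (m - γ)) _ = 0 at this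
        rwa [Nat.add_sub_cancel' (by omega)] at this
    refine ⟨ha, ?_, hc⟩
    have := dvd_sub ha ((pow_dvd_pow X h4).trans hc)
    simpa using this
  · rintro ⟨ha, _, hc⟩
    rw [X_pow_dvd_iff] at ha hc
    apply Prod.ext
    · funext m
      change coeff (α + m) _ = 0
      exact ha _ (by have := m.2; omega)
    · funext m
      change coeff (γ + m) _ = 0
      exact hc _ (by have := m.2; omega)

/-- The length of `W α γ / W α' γ'`. -/
theorem length_W (hδ : 1 ≤ δ) (h1 : α ≤ α') (h2 : γ ≤ γ') (h3 : α ≤ γ) (h4 : α' ≤ γ') :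
    Module.length O (SubQ (W O hO α γ hγ) (W O hO α' γ' hγ')) =
      (((α' - α) + (γ' - γ) : ℕ) : ℕ∞) := by
  classical
  obtain ⟨e⟩ := subQ_equiv_of_surjective (k := k) (W O hO α γ hγ) (W O hO α' γ' hγ')
    (coeffMap O hO α γ α' γ' hγ) (coeffMap_surjective O hO α γ α' γ' hγ h3)
    (ker_coeffMap O hO α γ α' γ' hγ hγ' h1 h2 h4)
  have : Module.Finite k (SubQ (W O hO α γ hγ) (W O hO α' γ' hγ')) :=
    Module.Finite.equiv e.symm
  have hfr : Module.finrank k (SubQ (W O hO α γ hγ) (W O hO α' γ' hγ')) =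
      (α' - α) + (γ' - γ) := by
    rw [e.finrank_eq, Module.finrank_prod, Module.finrank_fintype_fun_eq_card,
      Module.finrank_fintype_fun_eq_card, Fintype.card_fin, Fintype.card_fin]
  rw [← hfr]
  apply LenDim.length_eq_finrank (aug O) (aug_spec O)
  refine ⟨γ', ?_⟩
  intro a ha v
  obtain ⟨⟨f, hf⟩, rfl⟩ := Submodule.Quotient.mk_surjective _ v
  rw [← Submodule.Quotient.mk_smul, Submodule.Quotient.mk_eq_zero, Submodule.mem_comap]
  obtain ⟨ha1, ha2⟩ := X_pow_dvd_of_mem_aug_pow O hO hδ γ' a ha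
  change (X : PowerSeries k) ^ α' ∣ (a : PowerSeries k × PowerSeries k).1 * f.1 ∧
      (X : PowerSeries k) ^ α' ∣ (a : PowerSeries k × PowerSeries k).2 * f.2 ∧
      (X : PowerSeries k) ^ γ' ∣ (a : PowerSeries k × PowerSeries k).1 * f.1 -
        (a : PowerSeries k × PowerSeries k).2 * f.2
  refine ⟨(pow_dvd_pow X h4).trans (Dvd.dvd.mul_right ha1 _),
    (pow_dvd_pow X h4).trans (Dvd.dvd.mul_right ha2 _), ?_⟩
  exact dvd_sub (Dvd.dvd.mul_right ha1 _) (Dvd.dvd.mul_right ha2 _)

end length

end Groth.Agent.Lib.Helper75.TwoBranch
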