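import Mathlib

/-!
# Witt vectors of a `p`-adically complete ring (helper75)

The ideals `J n s = ker (W(R) → W_n(R/p^s))`, the "product topology" they define on `W(R)`,
and `p`-adic / `I_R`-adic completeness of `W(R)` for `p`-adically complete `R`.
-/

set_option autoImplicit false
set_option linter.unusedSectionVars false
set_option linter.unusedSimpArgs false
set_option linter.unusedVariables false

namespace Groth.Agent.Lib.Helper75.WittComplete

open WittVector

variable {p : ℕ} [hp : Fact p.Prime] {R : Type*} [CommRing R]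

local notation "𝕎" => WittVector p

/-- The kernel of `W(R) → W_n(R / p^s R)`. -/
noncomputable def J (p : ℕ) [Fact p.Prime] (R : Type*) [CommRing R] (n s : ℕ) :
    Ideal (WittVector p R) :=
  RingHom.ker ((WittVector.truncate n).comp
    (WittVector.map (Ideal.Quotient.mk (Ideal.span {(p : R) ^ s}))))

lemma mem_J {n s : ℕ} {x : 𝕎 R} :
    x ∈ J p R n s ↔ ∀ i < n, x.coeff i ∈ Ideal.span {(p : R) ^ s} := by
  unfold J
  rw [RingHom.mem_ker, RingHom.comp_apply, ← RingHom.mem_ker, mem_ker_truncate]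
  simp only [map_coeff, Ideal.Quotient.eq_zero_iff_mem]

lemma sub_mem_J {n s : ℕ} {x y : 𝕎 R} :
    x - y ∈ J p R n s ↔ ∀ i < n, x.coeff i - y.coeff i ∈ Ideal.span {(p : R) ^ s} := by
  unfold J
  rw [RingHom.mem_ker, map_sub, sub_eq_zero, RingHom.comp_apply, RingHom.comp_apply]
  constructor
  · intro h i hi
    have := congrArg (fun t => TruncatedWittVector.coeff ⟨i, hi⟩ t) h
    simp only [WittVector.coeff_truncate, map_coeff] at this
    exact Ideal.Quotient.eq.mp this
  · intro h
    ext i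
    simp only [WittVector.coeff_truncate, map_coeff]
    exact Ideal.Quotient.eq.mpr (h i i.2)

lemma J_anti {n n' s s' : ℕ} (hn : n ≤ n') (hs : s ≤ s') : J p R n' s' ≤ J p R n s := by
  intro x hx
  rw [mem_J] at hx ⊢
  intro i hi
  have h1 := hx i (by omega)
  have h2 : Ideal.span {(p : R) ^ s'} ≤ Ideal.span {(p : R) ^ s} :=
    Ideal.span_singleton_le_span_singleton.mpr (pow_dvd_pow _ hs)
  exact h2 h1

/-- In `W(A)` with `p^s = 0` in `A`, multiplication by `p^(k s)` kills the first `k` coefficients. -/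
lemma pow_mul_coeff_eq_zero {A : Type*} [CommRing A] (s : ℕ) (hs : (p : A) ^ s = 0) (k : ℕ)
    (y : WittVector p A) : ∀ i < k, ((p : WittVector p A) ^ (k * s) * y).coeff i = 0 := by
  induction k with
  | zero => intro i hi; omega
  | succ k ih =>
    have h1 := eq_iterate_verschiebung ih
    set z := ((p : WittVector p A) ^ (k * s) * y).shift k with hz
    have h2 : (p : WittVector p A) ^ ((k + 1) * s) * y =
        (p : WittVector p A) ^ s * (verschiebung^[k] z) := by
      rw [← h1]; ring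
    have h3 : (p : WittVector p A) ^ s * (verschiebung^[k] z) =
        verschiebung^[k] ((p : WittVector p A) ^ s * z) := by
      have hn : ∀ w : WittVector p A, (p : WittVector p A) ^ s * w = (p ^ s : ℕ) • w := by
        intro w; rw [nsmul_eq_mul]; push_cast; rfl
      rw [hn, hn]
      exact (iterate_map_nsmul (verschiebung (p := p) (R := A)) k z (p ^ s)).symm
    have h4 : ((p : WittVector p A) ^ s * z).coeff 0 = 0 := by
      change WittVector.constantCoeff ((p : WittVector p A) ^ s * z) = 0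
      rw [map_mul, map_pow, map_natCast, hs, zero_mul]
    have h5 := eq_iterate_verschiebung (n := 1) (x := (p : WittVector p A) ^ s * z)
      (by intro i hi; interval_cases i; exact h4)
    rw [h2, h3, h5, ← Function.iterate_add_apply]
    intro i hi
    exact iterate_verschiebung_coeff_eq_zero _ (by omega)

lemma pow_mul_mem_J (n s : ℕ) (x : 𝕎 R) : (p : 𝕎 R) ^ (n * s) * x ∈ J p R n s := by
  unfold J
  rw [RingHom.mem_ker, RingHom.comp_apply, map_mul, map_pow, map_natCast, ← RingHom.mem_ker,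
    mem_ker_truncate]
  apply pow_mul_coeff_eq_zero
  rw [← map_natCast (Ideal.Quotient.mk (Ideal.span {(p : R) ^ s})), ← map_pow,
    Ideal.Quotient.eq_zero_iff_mem]
  exact Ideal.mem_span_singleton_self _

lemma mem_J_of_mem_span {n s K : ℕ} (hK : n * s ≤ K) {x : 𝕎 R}
    (hx : x ∈ Ideal.span {(p : 𝕎 R) ^ K}) : x ∈ J p R n s := by
  obtain ⟨y, rfl⟩ := Ideal.mem_span_singleton'.mp hx
  have : y * (p : 𝕎 R) ^ K = (p : 𝕎 R) ^ (n * s) * ((p : 𝕎 R) ^ (K - n * s) * y) := by
    rw [← mul_assoc, ← pow_add, Nat.add_sub_cancel' hK, mul_comm]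
  rw [this]
  exact pow_mul_mem_J n s _

lemma span_pow_eq (s : ℕ) :
    ((Ideal.span {(p : R)}) ^ s • ⊤ : Submodule R R) = Ideal.span {(p : R) ^ s} := by
  rw [smul_eq_mul, Ideal.mul_top, Ideal.span_singleton_pow]

/-- The ideals `J n s` are separated when `R` is `p`-adically separated. -/
lemma eq_zero_of_forall_mem_J [IsHausdorff (Ideal.span {(p : R)}) R] {x : 𝕎 R}
    (hx : ∀ n s, x ∈ J p R n s) : x = 0 := by
  ext i
  rw [WittVector.zero_coeff]
  apply IsHausdorff.haus' (I := Ideal.span {(p : R)})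
  intro s
  rw [SModEq.zero, span_pow_eq]
  exact (mem_J.mp (hx (i + 1) s)) i (by omega)

lemma span_pow_le {K K' : ℕ} (h : K ≤ K') :
    Ideal.span {(p : 𝕎 R) ^ K'} ≤ Ideal.span {(p : 𝕎 R) ^ K} :=
  Ideal.span_singleton_le_span_singleton.mpr (pow_dvd_pow _ h)

/-- A sequence with `x (K+1) - x K ∈ p^K W` is Cauchy for the topology defined by the `J n s`. -/
lemma sub_mem_span_of_le (x : ℕ → 𝕎 R)
    (hx : ∀ K, x (K + 1) - x K ∈ Ideal.span {(p : 𝕎 R) ^ K}) {K K' : ℕ} (h : K ≤ K') :
    x K' - x K ∈ Ideal.span {(p : 𝕎 R) ^ K} := by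
  induction K', h using Nat.le_induction with
  | base => rw [sub_self]; exact Ideal.zero_mem _
  | succ K' hKK' ih =>
    have : x (K' + 1) - x K = (x (K' + 1) - x K') + (x K' - x K) := by ring
    rw [this]
    exact Ideal.add_mem _ (span_pow_le hKK' (hx K')) ih

/-- Limits exist for the topology defined by the `J n s`, when `R` is `p`-adically precomplete. -/
lemma exists_limit [IsPrecomplete (Ideal.span {(p : R)}) R] (x : ℕ → 𝕎 R)
    (hx : ∀ K, x (K + 1) - x K ∈ Ideal.span {(p : 𝕎 R) ^ K}) :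
    ∃ L : 𝕎 R, ∀ n s K, n * s ≤ K → x K - L ∈ J p R n s := by
  have h2 : ∀ n s K K', n * s ≤ K → K ≤ K' → x K' - x K ∈ J p R n s := by
    intro n s K K' h1 h2
    exact mem_J_of_mem_span h1 (sub_mem_span_of_le x hx h2)
  have h3 : ∀ i : ℕ, ∃ l : R, ∀ s, (x ((i + 1) * s)).coeff i ≡ l
      [SMOD ((Ideal.span {(p : R)}) ^ s • ⊤ : Submodule R R)] := by
    intro i
    apply IsPrecomplete.prec' (I := Ideal.span {(p : R)}) (fun s => (x ((i + 1) * s)).coeff i)
    intro s s' hss'
    rw [SModEq.sub_mem, span_pow_eq]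
    have h4 := h2 (i + 1) s ((i + 1) * s) ((i + 1) * s') le_rfl (Nat.mul_le_mul_left _ hss')
    have h5 := (sub_mem_J.mp h4) i (by omega)
    have : (x ((i + 1) * s)).coeff i - (x ((i + 1) * s')).coeff i =
        -((x ((i + 1) * s')).coeff i - (x ((i + 1) * s)).coeff i) := by ring
    rw [this]
    exact Ideal.neg_mem_iff _ |>.mpr h5
  choose l hl using h3
  refine ⟨WittVector.mk p l, ?_⟩
  intro n s K hK
  rw [sub_mem_J]
  intro i hi
  rw [WittVector.coeff_mk]
  have h6 : (i + 1) * s ≤ K := le_trans (Nat.mul_le_mul_right _ (by omega)) hK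
  have h4 := h2 (i + 1) s ((i + 1) * s) K le_rfl h6
  have h5 := (sub_mem_J.mp h4) i (by omega)
  have h7 := hl i s
  rw [SModEq.sub_mem, span_pow_eq] at h7
  have : (x K).coeff i - l i = ((x K).coeff i - (x ((i + 1) * s)).coeff i) +
      ((x ((i + 1) * s)).coeff i - l i) := by ring
  rw [this]
  exact Ideal.add_mem _ h5 h7

lemma span_p_pow_smul_top (k : ℕ) :
    ((Ideal.span {(p : 𝕎 R)}) ^ k • ⊤ : Submodule (𝕎 R) (𝕎 R)) = Ideal.span {(p : 𝕎 R) ^ k} := by
  rw [smul_eq_mul, Ideal.mul_top, Ideal.span_singleton_pow]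

/-- `W(R)` is `p`-adically complete if `R` is. -/
theorem isAdicComplete_p [IsAdicComplete (Ideal.span {(p : R)}) R] :
    IsAdicComplete (Ideal.span {(p : 𝕎 R)}) (𝕎 R) := by
  refine { haus' := ?_, prec' := ?_ }
  · intro x hx
    apply eq_zero_of_forall_mem_J
    intro n s
    have h := hx (n * s)
    rw [SModEq.zero, span_p_pow_smul_top] at h
    exact mem_J_of_mem_span le_rfl h
  · intro f hf
    have hf' : ∀ K, f (K + 1) - f K ∈ Ideal.span {(p : 𝕎 R) ^ K} := by
      intro K
      have h := hf (Nat.le_succ K)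
      rw [SModEq.sub_mem, span_p_pow_smul_top] at h
      have : f (K + 1) - f K = -(f K - f (K + 1)) := by ring
      rw [this]
      exact (Ideal.neg_mem_iff _).mpr h
    obtain ⟨L, hL⟩ := exists_limit f hf'
    refine ⟨L, fun k => ?_⟩
    rw [SModEq.sub_mem, span_p_pow_smul_top]
    -- write the differences
    have hy : ∀ K, ∃ y : 𝕎 R, f (K + 1) - f K = (p : 𝕎 R) ^ K * y := by
      intro K
      obtain ⟨y, hy⟩ := Ideal.mem_span_singleton'.mp (hf' K)
      exact ⟨y, by rw [← hy, mul_comm]⟩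
    choose y hy using hy
    set g : ℕ → 𝕎 R := fun K => ∑ j ∈ Finset.range K, (p : 𝕎 R) ^ j * y (k + j) with hg
    have hg' : ∀ K, g (K + 1) - g K ∈ Ideal.span {(p : 𝕎 R) ^ K} := by
      intro K
      simp only [hg, Finset.sum_range_succ, add_sub_cancel_left]
      exact Ideal.mul_mem_right _ _ (Ideal.mem_span_singleton_self _)
    obtain ⟨z, hz⟩ := exists_limit g hg'
    have hsum : ∀ K, f (k + K) - f k = (p : 𝕎 R) ^ k * g K := by
      intro K
      induction K with
      | zero => simp [hg]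
      | succ K ih =>
        have h1 : f (k + (K + 1)) - f k = (f (k + K + 1) - f (k + K)) + (f (k + K) - f k) := by
          rw [← add_assoc]; ring
        rw [h1, ih, hy (k + K)]
        simp only [hg, Finset.sum_range_succ]
        rw [pow_add]
        ring
    have hkey : f k - L = -((p : 𝕎 R) ^ k * z) := by
      rw [← sub_eq_zero]
      apply eq_zero_of_forall_mem_J
      intro n s
      have h1 := hL n s (k + n * s) (Nat.le_add_left _ _)
      have h2 := hz n s (n * s) le_rfl
      have h3 : f k - L - -((p : 𝕎 R) ^ k * z) =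
          (f (k + n * s) - L) - (p : 𝕎 R) ^ k * (g (n * s) - z) := by
        have := hsum (n * s)
        have h4 : (p : 𝕎 R) ^ k * (g (n * s) - z) =
            (f (k + n * s) - f k) - (p : 𝕎 R) ^ k * z := by rw [this]; ring
        rw [h4]; ring
      rw [h3]
      exact Ideal.sub_mem _ h1 (Ideal.mul_mem_left _ _ h2)
    rw [hkey]
    exact (Ideal.neg_mem_iff _).mpr (Ideal.mul_mem_right _ _ (Ideal.mem_span_singleton_self _))

/-! ### The ideal `I_R = ker (W(R) → R) = V W(R)` -/

lemma natCast_pow_mul_eq_nsmul (j : ℕ) (w : 𝕎 R) : (p : 𝕎 R) ^ j * w = (p ^ j : ℕ) • w := by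
  rw [nsmul_eq_mul]; push_cast; rfl

lemma verschiebung_pow_mul (j : ℕ) (w : 𝕎 R) :
    verschiebung ((p : 𝕎 R) ^ j * w) = (p : 𝕎 R) ^ j * verschiebung w := by
  rw [natCast_pow_mul_eq_nsmul, natCast_pow_mul_eq_nsmul, map_nsmul]

lemma verschiebung_mul_verschiebung (x y : 𝕎 R) :
    verschiebung x * verschiebung y = (p : 𝕎 R) * verschiebung (x * y) := by
  rw [← verschiebung_mul_frobenius, frobenius_verschiebung]
  have : x * (y * (p : 𝕎 R)) = (p : 𝕎 R) ^ 1 * (x * y) := by ring
  rw [this, verschiebung_pow_mul, pow_one]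

lemma mem_ker_constantCoeff_iff (x : 𝕎 R) :
    x ∈ RingHom.ker (constantCoeff : 𝕎 R →+* R) ↔ ∃ u : 𝕎 R, x = verschiebung u := by
  rw [RingHom.mem_ker]
  constructor
  · intro h
    have h' : x.coeff 0 = 0 := h
    have := eq_iterate_verschiebung (n := 1) (x := x) (by intro i hi; interval_cases i; exact h')
    exact ⟨x.shift 1, this⟩
  · rintro ⟨u, rfl⟩
    exact verschiebung_coeff_zero u

lemma exists_eq_pow_mul_verschiebung (k : ℕ) :
    ∀ x ∈ (RingHom.ker (constantCoeff : 𝕎 R →+* R)) ^ (k + 1),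
      ∃ u : 𝕎 R, x = (p : 𝕎 R) ^ k * verschiebung u := by
  induction k with
  | zero =>
    intro x hx
    rw [zero_add, pow_one] at hx
    obtain ⟨u, rfl⟩ := (mem_ker_constantCoeff_iff x).mp hx
    exact ⟨u, by simp⟩
  | succ k ih =>
    intro x hx
    rw [pow_succ] at hx
    refine Submodule.mul_induction_on hx ?_ ?_
    · intro a ha b hb
      obtain ⟨u, rfl⟩ := ih a ha
      obtain ⟨u', rfl⟩ := (mem_ker_constantCoeff_iff b).mp hb
      refine ⟨u * u', ?_⟩
      rw [mul_assoc, verschiebung_mul_verschiebung, pow_succ]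
      ring
    · rintro a b ⟨u, rfl⟩ ⟨u', rfl⟩
      exact ⟨u + u', by rw [map_add, mul_add]⟩

lemma pow_mul_verschiebung_eq (k : ℕ) (u : 𝕎 R) :
    (p : 𝕎 R) ^ k * verschiebung u = (verschiebung (1 : 𝕎 R)) ^ k * verschiebung u := by
  induction k with
  | zero => simp
  | succ k ih =>
    rw [pow_succ, mul_assoc, mul_comm (p : 𝕎 R), ← mul_assoc, ih, pow_succ, mul_assoc,
      mul_assoc, verschiebung_mul_verschiebung, one_mul, mul_comm (verschiebung u)]

lemma pow_mul_verschiebung_mem (k : ℕ) (u : 𝕎 R) :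
    (p : 𝕎 R) ^ k * verschiebung u ∈ (RingHom.ker (constantCoeff : 𝕎 R →+* R)) ^ (k + 1) := by
  rw [pow_mul_verschiebung_eq, pow_succ]
  refine Ideal.mul_mem_mul (Ideal.pow_mem_pow ?_ k) ?_
  · exact (mem_ker_constantCoeff_iff _).mpr ⟨1, rfl⟩
  · exact (mem_ker_constantCoeff_iff _).mpr ⟨u, rfl⟩

lemma verschiebung_mem_J {n s : ℕ} {x : 𝕎 R} (hx : x ∈ J p R n s) :
    verschiebung x ∈ J p R n s := by
  rw [mem_J] at hx ⊢
  intro i hi
  cases i with
  | zero => rw [verschiebung_coeff_zero]; exact Ideal.zero_mem _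
  | succ i => rw [verschiebung_coeff_succ]; exact hx i (by omega)

/-- `W(R)` is `I_R`-adically complete if `R` is `p`-adically complete. -/
theorem isAdicComplete_ker [IsAdicComplete (Ideal.span {(p : R)}) R] :
    IsAdicComplete (RingHom.ker (constantCoeff : 𝕎 R →+* R)) (𝕎 R) := by
  refine { haus' := ?_, prec' := ?_ }
  · intro x hx
    apply eq_zero_of_forall_mem_J
    intro n s
    have h := hx (n * s + 1)
    rw [SModEq.zero, smul_eq_mul, Ideal.mul_top] at h
    obtain ⟨u, rfl⟩ := exists_eq_pow_mul_verschiebung (n * s) x h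
    exact pow_mul_mem_J n s _
  · intro f hf
    have hu : ∀ K, ∃ u : 𝕎 R, f (K + 1 + 1) - f (K + 1) = (p : 𝕎 R) ^ K * verschiebung u := by
      intro K
      have h := hf (Nat.le_succ (K + 1))
      rw [SModEq.sub_mem, smul_eq_mul, Ideal.mul_top] at h
      have h' : f (K + 1 + 1) - f (K + 1) ∈
          (RingHom.ker (constantCoeff : 𝕎 R →+* R)) ^ (K + 1) := by
        have : f (K + 1 + 1) - f (K + 1) = -(f (K + 1) - f (K + 1).succ) := by
          rw [Nat.succ_eq_add_one]; ring
        rw [this]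
        exact (Ideal.neg_mem_iff _).mpr h
      exact exists_eq_pow_mul_verschiebung K _ h'
    choose u hu using hu
    set f' : ℕ → 𝕎 R := fun K => f (K + 1) with hf'def
    have hf' : ∀ K, f' (K + 1) - f' K ∈ Ideal.span {(p : 𝕎 R) ^ K} := by
      intro K
      simp only [hf'def]
      rw [hu K]
      exact Ideal.mul_mem_right _ _ (Ideal.mem_span_singleton_self _)
    obtain ⟨L, hL⟩ := exists_limit f' hf'
    refine ⟨L, fun k => ?_⟩
    rw [SModEq.sub_mem, smul_eq_mul, Ideal.mul_top]
    cases k with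
    | zero => rw [pow_zero, Ideal.one_eq_top]; exact Submodule.mem_top
    | succ m =>
      set g : ℕ → 𝕎 R := fun K => ∑ j ∈ Finset.range K, (p : 𝕎 R) ^ j * u (m + j) with hg
      have hg' : ∀ K, g (K + 1) - g K ∈ Ideal.span {(p : 𝕎 R) ^ K} := by
        intro K
        simp only [hg, Finset.sum_range_succ, add_sub_cancel_left]
        exact Ideal.mul_mem_right _ _ (Ideal.mem_span_singleton_self _)
      obtain ⟨z, hz⟩ := exists_limit g hg'
      have hsum : ∀ K, f' (m + K) - f' m = (p : 𝕎 R) ^ m * verschiebung (g K) := by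
        intro K
        induction K with
        | zero => simp [hg]
        | succ K ih =>
          have h1 : f' (m + (K + 1)) - f' m =
              (f' (m + K + 1) - f' (m + K)) + (f' (m + K) - f' m) := by
            rw [← add_assoc]; ring
          have h2 : f' (m + K + 1) - f' (m + K) =
              (p : 𝕎 R) ^ (m + K) * verschiebung (u (m + K)) := hu (m + K)
          rw [h1, ih, h2]
          simp only [hg, Finset.sum_range_succ, map_add, verschiebung_pow_mul]
          rw [pow_add]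
          ring
      have hkey : f' m - L = -((p : 𝕎 R) ^ m * verschiebung z) := by
        rw [← sub_eq_zero]
        apply eq_zero_of_forall_mem_J
        intro n s
        have h1 := hL n s (m + n * s) (Nat.le_add_left _ _)
        have h2 := hz n s (n * s) le_rfl
        have h3 : f' m - L - -((p : 𝕎 R) ^ m * verschiebung z) =
            (f' (m + n * s) - L) - (p : 𝕎 R) ^ m * verschiebung (g (n * s) - z) := by
          have := hsum (n * s)
          have h4 : (p : 𝕎 R) ^ m * verschiebung (g (n * s) - z) =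
              (f' (m + n * s) - f' m) - (p : 𝕎 R) ^ m * verschiebung z := by
            rw [this, map_sub]; ring
          rw [h4]; ring
        rw [h3]
        exact Ideal.sub_mem _ h1 (Ideal.mul_mem_left _ _ (verschiebung_mem_J h2))
      change f' m - L ∈ _
      rw [hkey]
      exact (Ideal.neg_mem_iff _).mpr (pow_mul_verschiebung_mem m z)

/-! ### Rings without `p`-torsion: ghost components -/

lemma ghostComponent_eq_sum (n : ℕ) (x : 𝕎 R) :
    ghostComponent n x = ∑ i ∈ Finset.range (n + 1), (p : R) ^ i * x.coeff i ^ p ^ (n - i) := by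
  rw [ghostComponent_apply, aeval_wittPolynomial]

lemma ghostComponent_mem_of_mem_J {m s : ℕ} {y : 𝕎 R} (hy : y ∈ J p R m s) {n : ℕ} (hn : n < m) :
    ghostComponent n y ∈ Ideal.span {(p : R) ^ s} := by
  rw [ghostComponent_eq_sum]
  refine Ideal.sum_mem _ fun i hi => ?_
  have hi' : i < m := by have := Finset.mem_range.mp hi; omega
  exact Ideal.mul_mem_left _ _
    (Ideal.pow_mem_of_mem _ (mem_J.mp hy i hi') _ (pow_pos hp.out.pos _))

lemma eq_zero_of_pow_mul_eq_zero (hR : ∀ y : R, (p : R) * y = 0 → y = 0) (k : ℕ) (y : R)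
    (h : (p : R) ^ k * y = 0) : y = 0 := by
  induction k with
  | zero => simpa using h
  | succ k ih =>
    apply ih
    apply hR
    rw [← mul_assoc, ← pow_succ']
    exact h

lemma mem_span_of_pow_mul_mem (hR : ∀ y : R, (p : R) * y = 0 → y = 0) (k t : ℕ) (y : R)
    (h : (p : R) ^ k * y ∈ Ideal.span {(p : R) ^ (k + t)}) : y ∈ Ideal.span {(p : R) ^ t} := by
  obtain ⟨r, hr⟩ := Ideal.mem_span_singleton'.mp h
  have h1 : (p : R) ^ k * (y - r * (p : R) ^ t) = 0 := by
    rw [mul_sub, ← hr, pow_add]; ring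
  have h2 := eq_zero_of_pow_mul_eq_zero hR k _ h1
  rw [sub_eq_zero] at h2
  rw [h2]
  exact Ideal.mul_mem_left _ _ (Ideal.mem_span_singleton_self _)

/-- From ghost components to Witt components, for a ring without `p`-torsion. -/
lemma coeff_mem_of_ghostComponent_mem (hR : ∀ y : R, (p : R) * y = 0 → y = 0) (m t : ℕ)
    (d : 𝕎 R) (hd : ∀ n < m, ghostComponent n d ∈ Ideal.span {(p : R) ^ (t + m)}) :
    ∀ i < m, d.coeff i ∈ Ideal.span {(p : R) ^ (t + m - i)} := by
  intro i
  induction i using Nat.strong_induction_on with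
  | _ i ih =>
    intro hi
    have h1 := hd i hi
    rw [ghostComponent_eq_sum, Finset.sum_range_succ, Nat.sub_self, pow_zero, pow_one] at h1
    have h2 : ∑ j ∈ Finset.range i, (p : R) ^ j * d.coeff j ^ p ^ (i - j) ∈
        Ideal.span {(p : R) ^ (t + m)} := by
      refine Ideal.sum_mem _ fun j hj => ?_
      have hj' : j < i := Finset.mem_range.mp hj
      have h3 := ih j hj' (by omega)
      have h4 : d.coeff j ^ p ^ (i - j) ∈ Ideal.span {(p : R) ^ (t + m - j)} :=
        Ideal.pow_mem_of_mem _ h3 _ (pow_pos hp.out.pos _)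
      obtain ⟨r, hr⟩ := Ideal.mem_span_singleton'.mp h4
      rw [← hr]
      have h5 : (p : R) ^ j * (r * (p : R) ^ (t + m - j)) = r * (p : R) ^ (t + m) := by
        have : t + m = j + (t + m - j) := by omega
        conv_rhs => rw [this, pow_add]
        ring
      rw [h5]
      exact Ideal.mul_mem_left _ _ (Ideal.mem_span_singleton_self _)
    have h6 : (p : R) ^ i * d.coeff i ∈ Ideal.span {(p : R) ^ (t + m)} := by
      have := Ideal.sub_mem _ h1 h2
      rwa [add_sub_cancel_left] at this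
    have h7 : t + m = i + (t + m - i) := by omega
    rw [h7] at h6
    exact mem_span_of_pow_mul_mem hR i _ _ h6

/-- Dividing by `p^u` in `W_m(R / p^s)`, for `R` without `p`-torsion. -/
lemma mem_J_of_pow_mul_mem_J (hR : ∀ y : R, (p : R) * y = 0 → y = 0) (m u s : ℕ) (d : 𝕎 R)
    (h : (p : 𝕎 R) ^ u * d ∈ J p R m (s + u + m)) : d ∈ J p R m s := by
  rw [mem_J]
  intro i hi
  have h1 : ∀ n < m, ghostComponent n d ∈ Ideal.span {(p : R) ^ (s + m)} := by
    intro n hn
    have h2 := ghostComponent_mem_of_mem_J h hn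
    rw [map_mul, map_pow, map_natCast] at h2
    have h3 : s + u + m = u + (s + m) := by omega
    rw [h3] at h2
    exact mem_span_of_pow_mul_mem hR u _ _ h2
  have h4 := coeff_mem_of_ghostComponent_mem hR m s d h1 i hi
  have h5 : Ideal.span {(p : R) ^ (s + m - i)} ≤ Ideal.span {(p : R) ^ s} :=
    Ideal.span_singleton_le_span_singleton.mpr (pow_dvd_pow _ (by omega))
  exact h5 h4

/-- Core of S14861: solving `p^u x = a` in `W_m(R)` from solutions in all `W_m(R/p^s)`. -/
lemma exists_solution (hR : ∀ y : R, (p : R) * y = 0 → y = 0)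
    [IsAdicComplete (Ideal.span {(p : R)}) R] (a : 𝕎 R) (m u : ℕ)
    (h : ∀ s : ℕ, ∃ z : 𝕎 R, (p : 𝕎 R) ^ u * z - a ∈ J p R m s) :
    ∃ x : 𝕎 R, (p : 𝕎 R) ^ u * x - a ∈ RingHom.ker (WittVector.truncate (p := p) (R := R) m) := by
  choose z hz using h
  set ζ : ℕ → 𝕎 R := fun s => z (s + u + m) with hζ
  have hζ' : ∀ s, (p : 𝕎 R) ^ u * ζ s - a ∈ J p R m (s + u + m) := fun s => hz _
  have hcauchy : ∀ s t, s ≤ t → ζ t - ζ s ∈ J p R m s := by
    intro s t hst
    apply mem_J_of_pow_mul_mem_J hR m u s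
    have h1 : (p : 𝕎 R) ^ u * (ζ t - ζ s) =
        ((p : 𝕎 R) ^ u * ζ t - a) - ((p : 𝕎 R) ^ u * ζ s - a) := by ring
    rw [h1]
    exact Ideal.sub_mem _ (J_anti le_rfl (by omega) (hζ' t)) (hζ' s)
  have hlim : ∀ i : ℕ, ∃ l : R, i < m → ∀ s, (ζ s).coeff i ≡ l
      [SMOD ((Ideal.span {(p : R)}) ^ s • ⊤ : Submodule R R)] := by
    intro i
    by_cases hi : i < m
    · obtain ⟨l, hl⟩ := IsPrecomplete.prec' (I := Ideal.span {(p : R)})
        (fun s => (ζ s).coeff i) (by
          intro s t hst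
          rw [SModEq.sub_mem, span_pow_eq]
          have h5 := (sub_mem_J.mp (hcauchy s t hst)) i hi
          have : (ζ s).coeff i - (ζ t).coeff i = -((ζ t).coeff i - (ζ s).coeff i) := by ring
          rw [this]
          exact (Ideal.neg_mem_iff _).mpr h5)
      exact ⟨l, fun _ => hl⟩
    · exact ⟨0, fun h => absurd h hi⟩
  choose l hl using hlim
  refine ⟨WittVector.mk p l, ?_⟩
  have hx : ∀ s, WittVector.mk p l - ζ s ∈ J p R m s := by
    intro s
    rw [sub_mem_J]
    intro i hi
    rw [WittVector.coeff_mk]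
    have h7 := hl i hi s
    rw [SModEq.sub_mem, span_pow_eq] at h7
    have : l i - (ζ s).coeff i = -((ζ s).coeff i - l i) := by ring
    rw [this]
    exact (Ideal.neg_mem_iff _).mpr h7
  have hall : ∀ s, (p : 𝕎 R) ^ u * WittVector.mk p l - a ∈ J p R m s := by
    intro s
    have h1 : (p : 𝕎 R) ^ u * WittVector.mk p l - a =
        (p : 𝕎 R) ^ u * (WittVector.mk p l - ζ s) + ((p : 𝕎 R) ^ u * ζ s - a) := by ring
    rw [h1]
    exact Ideal.add_mem _ (Ideal.mul_mem_left _ _ (hx s)) (J_anti le_rfl (by omega) (hζ' s))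
  rw [mem_ker_truncate]
  intro i hi
  apply IsHausdorff.haus' (I := Ideal.span {(p : R)})
  intro s
  rw [SModEq.zero, span_pow_eq]
  exact mem_J.mp (hall s) i hi

/-! ### Closedness of `p^u W` (S14862) -/

lemma ker_truncate_le_J (n s : ℕ) :
    RingHom.ker (WittVector.truncate (p := p) (R := R) n) ≤ J p R n s := by
  intro x hx
  rw [mem_ker_truncate] at hx
  rw [mem_J]
  intro i hi
  rw [hx i hi]
  exact Ideal.zero_mem _

lemma ker_map_le_J (n s : ℕ) :
    RingHom.ker (WittVector.map (p := p) (Ideal.Quotient.mk (Ideal.span {(p : R) ^ s}))) ≤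
      J p R n s := by
  intro x hx
  rw [RingHom.mem_ker] at hx
  rw [mem_J]
  intro i hi
  have := congrArg (fun t => t.coeff i) hx
  simp only [map_coeff, zero_coeff] at this
  exact Ideal.Quotient.eq_zero_iff_mem.mp this

/-- Core of S14862. -/
lemma mem_span_of_forall_mem_sup (hR : ∀ y : R, (p : R) * y = 0 → y = 0)
    [IsAdicComplete (Ideal.span {(p : R)}) R] (u : ℕ) (x : 𝕎 R)
    (h : ∀ r s : ℕ, x ∈ Ideal.span {(p : 𝕎 R) ^ u} ⊔
        RingHom.ker (WittVector.truncate (p := p) (R := R) r) ⊔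
        RingHom.ker (WittVector.map (p := p) (Ideal.Quotient.mk (Ideal.span {(p : R) ^ s})))) :
    x ∈ Ideal.span {(p : 𝕎 R) ^ u} := by
  have h1 : ∀ r s : ℕ, ∃ z : 𝕎 R, (p : 𝕎 R) ^ u * z - x ∈ J p R r s := by
    intro r s
    obtain ⟨y, hy, w, hw, hyw⟩ := Submodule.mem_sup.mp (h r s)
    obtain ⟨a, ha, v, hv, hav⟩ := Submodule.mem_sup.mp hy
    obtain ⟨z, hz⟩ := Ideal.mem_span_singleton'.mp ha
    refine ⟨z, ?_⟩
    have : (p : 𝕎 R) ^ u * z - x = -(v + w) := by
      rw [← hyw, ← hav, ← hz]; ring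
    rw [this]
    exact (Ideal.neg_mem_iff _).mpr
      (Ideal.add_mem _ (ker_truncate_le_J r s hv) (ker_map_le_J r s hw))
  have h2 : ∀ r : ℕ, ∃ y : 𝕎 R, (p : 𝕎 R) ^ u * y - x ∈
      RingHom.ker (WittVector.truncate (p := p) (R := R) r) :=
    fun r => exists_solution hR x r u (h1 r)
  choose y hy using h2
  have h3 : ∀ r r' : ℕ, r ≤ r' → ∀ i < r, (y r').coeff i = (y r).coeff i := by
    intro r r' hrr' i hi
    have h4 : ∀ s, y r' - y r ∈ J p R r s := by
      intro s
      apply mem_J_of_pow_mul_mem_J hR r u s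
      have h5 : (p : 𝕎 R) ^ u * (y r' - y r) =
          ((p : 𝕎 R) ^ u * y r' - x) - ((p : 𝕎 R) ^ u * y r - x) := by ring
      rw [h5]
      refine ker_truncate_le_J r _ (Ideal.sub_mem _ ?_ (hy r))
      have h6 := hy r'
      rw [mem_ker_truncate] at h6 ⊢
      intro j hj
      exact h6 j (by omega)
    rw [← sub_eq_zero]
    apply IsHausdorff.haus' (I := Ideal.span {(p : R)})
    intro s
    rw [SModEq.zero, span_pow_eq]
    exact (sub_mem_J.mp (h4 s)) i hi
  refine Ideal.mem_span_singleton'.mpr ⟨WittVector.mk p (fun i => (y (i + 1)).coeff i), ?_⟩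
  rw [mul_comm]
  rw [← sub_eq_zero]
  ext r
  rw [zero_coeff]
  have h7 : WittVector.mk p (fun i => (y (i + 1)).coeff i) - y (r + 1) ∈
      RingHom.ker (WittVector.truncate (p := p) (R := R) (r + 1)) := by
    rw [RingHom.mem_ker, map_sub, sub_eq_zero]
    ext i
    simp only [WittVector.coeff_truncate, WittVector.coeff_mk]
    exact (h3 (i + 1) (r + 1) (by omega) i (by omega)).symm
  have h8 : (p : 𝕎 R) ^ u * WittVector.mk p (fun i => (y (i + 1)).coeff i) - x =
      (p : 𝕎 R) ^ u * (WittVector.mk p (fun i => (y (i + 1)).coeff i) - y (r + 1)) +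
        ((p : 𝕎 R) ^ u * y (r + 1) - x) := by ring
  have h9 := Ideal.add_mem _ (Ideal.mul_mem_left _ ((p : 𝕎 R) ^ u) h7) (hy (r + 1))
  rw [← h8, mem_ker_truncate] at h9
  exact h9 r (by omega)

end Groth.Agent.Lib.Helper75.WittComplete
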