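import Mathlib

/-!
# Nilpotency of the Witt vector Frobenius on `W(𝔞)`

If `p` is nilpotent in `S` and `𝔞` is an ideal with `a ^ N = 0` for all `a ∈ 𝔞`, then a power of
the Frobenius of `W(S)` kills all Witt vectors with components in `𝔞`.
-/

set_option autoImplicit false
universe u

namespace Groth.Agent.Lib.Helper75.WittFrobNil

open MvPolynomial

/-- A polynomial with zero constant coefficient takes values in an ideal containing the arguments. -/
lemma aeval_mem_of_constantCoeff_eq_zero {σ : Type*} {S : Type*} [CommRing S] (J : Ideal S)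
    (q : MvPolynomial σ ℤ) (hq : constantCoeff q = 0) (f : σ → S) (hf : ∀ i, f i ∈ J) :
    aeval f q ∈ J := by
  classical
  rw [aeval_def, eval₂_eq]
  apply J.sum_mem
  intro d hd
  by_cases hd0 : d = 0
  · subst hd0
    have : coeff 0 q = 0 := hq
    rw [this, map_zero, zero_mul]
    exact J.zero_mem
  · apply J.mul_mem_left
    have : ∃ i, d i ≠ 0 := by
      by_contra hcon
      push Not at hcon
      exact hd0 (Finsupp.ext hcon)
    obtain ⟨i, hi⟩ := this
    have h1 : (f i) ^ (d i) ∈ J := J.pow_mem_of_mem (hf i) (d i) (Nat.pos_of_ne_zero hi)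
    have h2 : i ∈ d.support := Finsupp.mem_support_iff.mpr hi
    exact Ideal.mem_of_dvd J (Finset.dvd_prod_of_mem (fun i => f i ^ d i) h2) h1

variable (p : ℕ) [hp : Fact p.Prime]

lemma constantCoeff_frobeniusPoly (n : ℕ) : constantCoeff (WittVector.frobeniusPoly p n) = 0 := by
  have h1 : (WittVector.frobenius (0 : WittVector p ℤ)).coeff n = 0 := by
    rw [map_zero, WittVector.zero_coeff]
  rw [WittVector.coeff_frobenius] at h1
  have h2 : (0 : WittVector p ℤ).coeff = (0 : ℕ → ℤ) := by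
    funext k
    exact WittVector.zero_coeff p ℤ k
  rw [h2, aeval_zero] at h1
  simpa using h1

lemma constantCoeff_frobeniusPolyAux (n : ℕ) :
    constantCoeff (WittVector.frobeniusPolyAux p n) = 0 := by
  have h := constantCoeff_frobeniusPoly p n
  rw [WittVector.frobeniusPoly, map_add, map_pow, constantCoeff_X, zero_pow hp.out.ne_zero, zero_add,
    map_mul, constantCoeff_C] at h
  have hp0 : (p : ℤ) ≠ 0 := by exact_mod_cast hp.out.ne_zero
  exact (mul_eq_zero.mp h).resolve_left hp0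

variable {S : Type u} [CommRing S]

/-- the ideal generated by `p^i a^(p^j)`, `i + j = k`, `a ∈ 𝔞` -/
def B (𝔞 : Ideal S) (k : ℕ) : Ideal S :=
  Ideal.span {y | ∃ (i j : ℕ) (a : S), i + j = k ∧ a ∈ 𝔞 ∧ y = (p : S) ^ i * a ^ (p ^ j)}

lemma B_zero (𝔞 : Ideal S) : B p 𝔞 0 = 𝔞 := by
  apply le_antisymm
  · apply Ideal.span_le.mpr
    rintro y ⟨i, j, a, hij, ha, rfl⟩
    obtain ⟨rfl, rfl⟩ : i = 0 ∧ j = 0 := by omega
    simpa using ha
  · intro a ha
    apply Ideal.subset_span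
    exact ⟨0, 0, a, rfl, ha, by simp⟩

lemma p_mul_mem_B (𝔞 : Ideal S) (k : ℕ) {y : S} (hy : y ∈ B p 𝔞 k) : (p : S) * y ∈ B p 𝔞 (k + 1) := by
  induction hy using Submodule.span_induction with
  | mem y hy =>
    obtain ⟨i, j, a, hij, ha, rfl⟩ := hy
    apply Ideal.subset_span
    exact ⟨i + 1, j, a, by omega, ha, by ring⟩
  | zero => rw [mul_zero]; exact Ideal.zero_mem _
  | add x y _ _ hx hy => rw [mul_add]; exact Ideal.add_mem _ hx hy
  | smul c x _ hx =>
    rw [smul_eq_mul, mul_left_comm]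
    exact Ideal.mul_mem_left _ c hx

lemma pow_p_mem_B (𝔞 : Ideal S) (k : ℕ) {y : S} (hy : y ∈ B p 𝔞 k) : y ^ p ∈ B p 𝔞 (k + 1) := by
  induction hy using Submodule.span_induction with
  | mem y hy =>
    obtain ⟨i, j, a, hij, ha, rfl⟩ := hy
    have h1 : (p : S) ^ i * a ^ (p ^ (j + 1)) ∈ B p 𝔞 (k + 1) :=
      Ideal.subset_span ⟨i, j + 1, a, by omega, ha, rfl⟩
    have h2 : ((p : S) ^ i * a ^ p ^ j) ^ p =
        (p : S) ^ (i * p - i) * ((p : S) ^ i * a ^ (p ^ (j + 1))) := by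
      have hle : i ≤ i * p := Nat.le_mul_of_pos_right i hp.out.pos
      rw [mul_pow, ← pow_mul, ← pow_mul, ← mul_assoc, ← pow_add, Nat.sub_add_cancel hle, pow_succ]
    rw [h2]
    exact Ideal.mul_mem_left _ _ h1
  | zero => rw [zero_pow hp.out.ne_zero]; exact Ideal.zero_mem _
  | add x y hx' hy' hx hy =>
    obtain ⟨r, hr⟩ := exists_add_pow_prime_eq hp.out x y
    rw [hr]
    refine Ideal.add_mem _ (Ideal.add_mem _ hx hy) ?_
    have h3 : (p : S) * x * y * r = (y * r) * ((p : S) * x) := by ring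
    rw [h3]
    exact Ideal.mul_mem_left _ _ (p_mul_mem_B p 𝔞 k hx')
  | smul c x _ hx =>
    rw [smul_eq_mul, mul_pow]
    exact Ideal.mul_mem_left _ _ hx

lemma B_eq_bot (𝔞 : Ideal S) (e N : ℕ) (he : (p : S) ^ e = 0) (hN : ∀ a ∈ 𝔞, a ^ N = 0) :
    B p 𝔞 (e + N) = ⊥ := by
  rw [eq_bot_iff]
  apply Ideal.span_le.mpr
  rintro y ⟨i, j, a, hij, ha, rfl⟩
  rw [SetLike.mem_coe, Ideal.mem_bot]
  by_cases hi : e ≤ i
  · rw [← Nat.sub_add_cancel hi, pow_add, he, mul_zero, zero_mul]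
  · have hj : N ≤ p ^ j := by
      have h1 : N ≤ j := by omega
      have h2 : j < p ^ j := Nat.lt_pow_self hp.out.one_lt
      omega
    rw [← Nat.sub_add_cancel hj, pow_add, hN a ha, mul_zero, mul_zero]

lemma frobenius_coeff_mem_B (𝔞 : Ideal S) (k : ℕ) (x : WittVector p S)
    (hx : ∀ n, x.coeff n ∈ B p 𝔞 k) (n : ℕ) :
    (WittVector.frobenius x).coeff n ∈ B p 𝔞 (k + 1) := by
  rw [WittVector.coeff_frobenius, WittVector.frobeniusPoly, map_add, map_pow, aeval_X, map_mul]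
  refine Ideal.add_mem _ (pow_p_mem_B p 𝔞 k (hx n)) ?_
  have h1 : aeval x.coeff (WittVector.frobeniusPolyAux p n) ∈ B p 𝔞 k :=
    aeval_mem_of_constantCoeff_eq_zero _ _ (constantCoeff_frobeniusPolyAux p n) _ hx
  have h2 : aeval x.coeff (C (p : ℤ) : MvPolynomial ℕ ℤ) = (p : S) := by
    rw [aeval_C]; simp
  rw [h2]
  exact p_mul_mem_B p 𝔞 k h1

lemma iterate_frobenius_coeff_mem_B (𝔞 : Ideal S) (x : WittVector p S)
    (hx : ∀ n, x.coeff n ∈ 𝔞) (k : ℕ) :
    ∀ n, ((WittVector.frobenius : WittVector p S →+* WittVector p S)^[k] x).coeff n ∈ B p 𝔞 k := by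
  induction k with
  | zero => intro n; rw [B_zero]; exact hx n
  | succ k ih =>
    intro n
    rw [Function.iterate_succ_apply']
    exact frobenius_coeff_mem_B p 𝔞 k _ ih n

/-- **Nilpotency of Frobenius on `W(𝔞)`.** -/
theorem iterate_frobenius_eq_zero (𝔞 : Ideal S) (e N : ℕ) (he : (p : S) ^ e = 0)
    (hN : ∀ a ∈ 𝔞, a ^ N = 0) (x : WittVector p S) (hx : ∀ n, x.coeff n ∈ 𝔞) :
    (WittVector.frobenius : WittVector p S →+* WittVector p S)^[e + N] x = 0 := by
  ext n
  have h := iterate_frobenius_coeff_mem_B p 𝔞 x hx (e + N) n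
  rw [B_eq_bot p 𝔞 e N he hN, Ideal.mem_bot] at h
  rw [h, WittVector.zero_coeff]

/-- version with a ring homomorphism. -/
theorem iterate_frobenius_eq_zero_of_mem_ker {R : Type*} [CommRing R] (φ : S →+* R)
    (hp' : IsNilpotent (p : S)) (N : ℕ) (hN : ∀ a : S, φ a = 0 → a ^ N = 0) :
    ∃ K : ℕ, ∀ x ∈ RingHom.ker (WittVector.map (p := p) φ),
      (WittVector.frobenius : WittVector p S →+* WittVector p S)^[K] x = 0 := by
  obtain ⟨e, he⟩ := hp'
  refine ⟨e + N, fun x hx => ?_⟩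
  apply iterate_frobenius_eq_zero p (RingHom.ker φ) e N he (fun a ha => hN a ha)
  intro n
  rw [RingHom.mem_ker] at hx ⊢
  have := congrArg (fun w => w.coeff n) hx
  simpa [WittVector.map_coeff] using this

end Groth.Agent.Lib.Helper75.WittFrobNil
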