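import Mathlib
import Groth.Agent.Lib.Helper75.WittComplete
import Groth.Agent.Lib.Helper75.CompleteProjective
import Groth.Agent.S14864

/-!
# The filtration of `W(R)` by the kernels `I_n` of the truncations (for `p` nilpotent in `R`)

Basic facts: `I_1` is the kernel of the zeroth component, `W(R)` is `I_1`-adically complete,
a power of `I_1` lies in `I_n`, finite free `W(R)`-modules are separated and complete for the
filtration by the `I_n`, and a nilpotent Nakayama lemma.
-/

set_option autoImplicit false
universe u v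

namespace Groth.Agent.Lib.Helper75.WittTruncFiltration

open Groth.Agent.Lib.Helper75.HomQuotientSystems

section general

variable {W : Type u} [CommRing W]

/-- If `I ^ N = ⊥` then every module is `I`-adically complete. -/
lemma isAdicComplete_of_pow_eq_bot (I : Ideal W) (N : ℕ) (hN : I ^ N = ⊥)
    (M : Type v) [AddCommGroup M] [Module W M] : IsAdicComplete I M := by
  refine { haus' := ?_, prec' := ?_ }
  · intro x hx
    have h := hx N
    rw [hN, Submodule.bot_smul, SModEq.bot] at h
    exact h
  · intro f hf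
    refine ⟨f N, fun n => ?_⟩
    rcases le_total n N with h | h
    · exact hf h
    · have h1 := hf h
      rw [hN, Submodule.bot_smul, SModEq.bot] at h1
      rw [h1]

lemma smul_top_quot (J : Ideal W) (N : Type v) [AddCommGroup N] [Module W N] :
    (J • ⊤ : Submodule W (N ⧸ (J • ⊤ : Submodule W N))) = ⊥ := by
  have h1 : Submodule.map (J • ⊤ : Submodule W N).mkQ (J • ⊤) = ⊥ :=
    Submodule.mkQ_map_self _
  rw [Submodule.map_smul'', Submodule.map_top, Submodule.range_mkQ] at h1
  exact h1

lemma map_mem_smul_top (J : Ideal W) {X : Type*} {Y : Type*} [AddCommGroup X] [Module W X]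
    [AddCommGroup Y] [Module W Y] (g : X →ₗ[W] Y) (x : X) (hx : x ∈ (J • ⊤ : Submodule W X)) :
    g x ∈ (J • ⊤ : Submodule W Y) := by
  have h1 : g x ∈ Submodule.map g (J • ⊤) := Submodule.mem_map_of_mem hx
  rw [Submodule.map_smul''] at h1
  exact Submodule.smul_mono le_rfl le_top h1

/-- nilpotent Nakayama. -/
lemma eq_top_of_sup_smul_eq_top (I : Ideal W) {Q : Type v} [AddCommGroup Q] [Module W Q]
    (S : Submodule W Q) (h : S ⊔ I • ⊤ = ⊤) (m : ℕ) (hm : (I ^ m • ⊤ : Submodule W Q) = ⊥) :
    S = ⊤ := by
  have hj : ∀ j : ℕ, S ⊔ (I ^ j • ⊤ : Submodule W Q) = ⊤ := by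
    intro j
    induction j with
    | zero => simp
    | succ j ih =>
      rw [eq_top_iff]
      calc (⊤ : Submodule W Q) = S ⊔ I • (⊤ : Submodule W Q) := h.symm
        _ = S ⊔ I • (S ⊔ (I ^ j • ⊤ : Submodule W Q)) := by rw [ih]
        _ = S ⊔ (I • S ⊔ I • (I ^ j • ⊤ : Submodule W Q)) := by rw [Submodule.smul_sup]
        _ ≤ S ⊔ (I ^ (j + 1) • ⊤ : Submodule W Q) := by
            refine sup_le le_sup_left (sup_le ?_ ?_)
            · exact le_trans Submodule.smul_le_right le_sup_left
            · rw [← mul_smul, ← pow_succ']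
              exact le_sup_right
  have := hj m
  rwa [hm, sup_bot_eq] at this

/-- a submodule with `N ≤ I • N` and `I` nilpotent on the ambient module vanishes. -/
lemma eq_bot_of_le_smul (I : Ideal W) {Q : Type v} [AddCommGroup Q] [Module W Q]
    (N : Submodule W Q) (h : N ≤ I • N) (m : ℕ) (hm : (I ^ m • ⊤ : Submodule W Q) = ⊥) :
    N = ⊥ := by
  have hj : ∀ j : ℕ, N ≤ I ^ j • N := by
    intro j
    induction j with
    | zero => simp
    | succ j ih =>
      calc N ≤ I • N := h
        _ ≤ I • (I ^ j • N) := Submodule.smul_mono le_rfl ih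
        _ = I ^ (j + 1) • N := by rw [← mul_smul, ← pow_succ']
  rw [eq_bot_iff, ← hm]
  exact (hj m).trans (Submodule.smul_mono le_rfl le_top)

end general

variable (p : ℕ) [hp : Fact p.Prime] (R : Type u) [CommRing R]

/-- the kernel of the `n`-th truncation -/
noncomputable abbrev In (n : ℕ) : Ideal (WittVector p R) :=
  RingHom.ker (WittVector.truncate (p := p) (R := R) n)

variable {p R}

lemma mem_In {n : ℕ} {x : WittVector p R} : x ∈ In p R n ↔ ∀ i < n, x.coeff i = 0 :=
  WittVector.mem_ker_truncate n x

lemma In_anti {m n : ℕ} (h : m ≤ n) : In p R n ≤ In p R m := by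
  intro x hx
  rw [mem_In] at hx ⊢
  exact fun i hi => hx i (lt_of_lt_of_le hi h)

lemma In_zero : In p R 0 = ⊤ := by
  rw [eq_top_iff]
  intro x _
  rw [mem_In]
  intro i hi
  exact absurd hi (Nat.not_lt_zero i)

lemma In_one : In p R 1 = RingHom.ker (WittVector.constantCoeff : WittVector p R →+* R) := by
  ext x
  rw [mem_In, RingHom.mem_ker]
  constructor
  · intro h; exact h 0 Nat.zero_lt_one
  · intro h i hi
    obtain rfl : i = 0 := by omega
    exact h

lemma sub_mem_In_iff {n : ℕ} {x y : WittVector p R} :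
    x - y ∈ In p R n ↔ ∀ i < n, x.coeff i = y.coeff i := by
  rw [RingHom.mem_ker, map_sub, sub_eq_zero]
  constructor
  · intro h i hi
    have := congrArg (fun t => TruncatedWittVector.coeff (⟨i, hi⟩ : Fin n) t) h
    simpa [WittVector.coeff_truncate] using this
  · intro h
    ext i
    rw [WittVector.coeff_truncate, WittVector.coeff_truncate]
    exact h i i.2

section nilp

variable (hpn : IsNilpotent (p : R))
include hpn

lemma exists_pow_In_one_le (n : ℕ) : ∃ m : ℕ, In p R 1 ^ m ≤ In p R n := by
  obtain ⟨h1, _, h3⟩ := Groth.Agent.S14864.result p R hpn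
  obtain ⟨m, hm⟩ := h3 n
  obtain ⟨m', hm'⟩ := h1 m
  refine ⟨m', ?_⟩
  rw [In_one]
  exact hm'.trans hm

lemma isAdicComplete_In_one : IsAdicComplete (In p R 1) (WittVector p R) := by
  obtain ⟨N, hN⟩ := hpn
  have h0 : (Ideal.span {(p : R)}) ^ N = ⊥ := by
    rw [Ideal.span_singleton_pow, hN]
    exact Ideal.span_singleton_eq_bot.mpr rfl
  have : IsAdicComplete (Ideal.span {(p : R)}) R :=
    isAdicComplete_of_pow_eq_bot _ N h0 R
  rw [In_one]
  exact Groth.Agent.Lib.Helper75.WittComplete.isAdicComplete_ker

end nilp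

section free

variable {r : ℕ}

lemma mem_In_smul_top_pi {n : ℕ} (v : Fin r → WittVector p R) :
    v ∈ (In p R n • ⊤ : Submodule (WittVector p R) (Fin r → WittVector p R)) ↔
      ∀ j, v j ∈ In p R n := by
  rw [mem_smul_top_pi]
  simp only [smul_eq_mul, Ideal.mul_top]

/-- finite free modules are separated for the filtration `I_n`. -/
lemma eq_zero_of_forall_mem (v : Fin r → WittVector p R)
    (h : ∀ n, v ∈ (In p R n • ⊤ : Submodule (WittVector p R) (Fin r → WittVector p R))) :
    v = 0 := by
  funext j
  ext k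
  have := (mem_In_smul_top_pi v).mp (h (k + 1)) j
  rw [mem_In] at this
  rw [Pi.zero_apply, WittVector.zero_coeff]
  exact this k (Nat.lt_succ_self k)

/-- finite free modules are complete for the filtration `I_n`. -/
lemma exists_limit (w : ℕ → (Fin r → WittVector p R))
    (h : ∀ n, w (n + 1) - w n ∈
      (In p R n • ⊤ : Submodule (WittVector p R) (Fin r → WittVector p R))) :
    ∃ L : Fin r → WittVector p R, ∀ n,
      L - w n ∈ (In p R n • ⊤ : Submodule (WittVector p R) (Fin r → WittVector p R)) := by
  have hcoeff : ∀ (j : Fin r) (k m : ℕ), k + 1 ≤ m → (w m j).coeff k = (w (k + 1) j).coeff k := by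
    intro j k m hm
    induction m, hm using Nat.le_induction with
    | base => rfl
    | succ m hm ih =>
      rw [← ih]
      have h1 := (mem_In_smul_top_pi _).mp (h m) j
      rw [Pi.sub_apply, sub_mem_In_iff] at h1
      exact h1 k (by omega)
  refine ⟨fun j => WittVector.mk p (fun k => (w (k + 1) j).coeff k), fun n => ?_⟩
  rw [mem_In_smul_top_pi]
  intro j
  rw [Pi.sub_apply, sub_mem_In_iff]
  intro i hi
  rw [WittVector.coeff_mk]
  exact (hcoeff j i n (by omega)).symm

end free

end Groth.Agent.Lib.Helper75.WittTruncFiltration
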