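import Mathlib
import Groth.Agent.Lib.Helper75.WittTruncFiltration

/-!
# Lifting idempotent matrices along `W(S) → W(R)` for a surjection `S → R` with nil kernel
(`p` nilpotent in `S`).
-/

set_option autoImplicit false
universe u

namespace Groth.Agent.Lib.Helper75.WittLiftProjective

open Groth.Agent.Lib.Helper75.WittTruncFiltration Groth.Agent.Lib.Helper75.CompleteProjective
open Groth.Agent.Lib.Helper75.HomQuotientSystems

section nilmatrix

variable {S : Type u} [CommRing S] {r : ℕ}

lemma pow_succ_apply_mem (𝔟 : Ideal S) (M : Matrix (Fin r) (Fin r) S) (h : ∀ i j, M i j ∈ 𝔟) (k : ℕ) :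
    ∀ i j, (M ^ (k + 1)) i j ∈ 𝔟 ^ (k + 1) := by
  induction k with
  | zero => intro i j; simpa using h i j
  | succ k ih =>
    intro i j
    rw [pow_succ M (k + 1), Matrix.mul_apply, pow_succ 𝔟 (k + 1)]
    exact Ideal.sum_mem _ fun l _ => Ideal.mul_mem_mul (ih i l) (h l j)

/-- a matrix with nilpotent entries over a commutative ring is nilpotent. -/
lemma isNilpotent_matrix (M : Matrix (Fin r) (Fin r) S) (h : ∀ i j, IsNilpotent (M i j)) :
    IsNilpotent M := by
  classical
  set 𝔟 : Ideal S := Ideal.span (Set.range fun ij : Fin r × Fin r => M ij.1 ij.2) with h𝔟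
  have hfg : 𝔟.FG := by
    rw [h𝔟]
    exact ⟨(Finset.univ.image fun ij : Fin r × Fin r => M ij.1 ij.2), by simp⟩
  have hle : 𝔟 ≤ nilradical S := by
    rw [h𝔟, Ideal.span_le]
    rintro _ ⟨ij, rfl⟩
    exact h ij.1 ij.2
  obtain ⟨N, hN⟩ := (Ideal.FG.isNilpotent_iff_le_nilradical hfg).mpr hle
  refine ⟨N + 1, ?_⟩
  ext i j
  have h1 := pow_succ_apply_mem 𝔟 M (fun i j => Ideal.subset_span ⟨(i, j), rfl⟩) N i j
  have h2 : 𝔟 ^ (N + 1) = ⊥ := by
    rw [pow_succ, hN]
    exact Ideal.bot_mul _
  rw [h2, Ideal.mem_bot] at h1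
  rw [h1, Matrix.zero_apply]

end nilmatrix

variable {p : ℕ} [hp : Fact p.Prime] {S R : Type u} [CommRing S] [CommRing R] (φ : S →+* R)

lemma map_mem_In {m : ℕ} {x : WittVector p S} (hx : x ∈ In p S m) :
    WittVector.map φ x ∈ In p R m := by
  rw [mem_In] at hx ⊢
  intro i hi
  rw [WittVector.map_coeff, hx i hi, map_zero]

variable {r : ℕ}

/-- the componentwise map `W(S)^r → W(R)^r` -/
noncomputable def mapVec (r : ℕ) : (Fin r → WittVector p S) →+ (Fin r → WittVector p R) where
  toFun v := fun j => WittVector.map φ (v j)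
  map_zero' := by funext j; simp
  map_add' v w := by funext j; simp

lemma mapVec_apply (v : Fin r → WittVector p S) (j : Fin r) :
    mapVec φ r v j = WittVector.map φ (v j) := rfl

lemma mapVec_smul (c : WittVector p S) (v : Fin r → WittVector p S) :
    mapVec φ r (c • v) = WittVector.map φ c • mapVec φ r v := by
  funext j
  simp [mapVec_apply]

lemma mapVec_mem {m : ℕ} {v : Fin r → WittVector p S}
    (hv : v ∈ (In p S m • ⊤ : Submodule (WittVector p S) (Fin r → WittVector p S))) :
    mapVec φ r v ∈ (In p R m • ⊤ : Submodule (WittVector p R) (Fin r → WittVector p R)) := by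
  rw [mem_In_smul_top_pi] at hv ⊢
  intro j
  exact map_mem_In φ (hv j)

lemma mapVec_eq_zero_iff (v : Fin r → WittVector p S) :
    mapVec φ r v = 0 ↔ v ∈ (RingHom.ker (WittVector.map (p := p) φ) • ⊤ :
      Submodule (WittVector p S) (Fin r → WittVector p S)) := by
  rw [mem_smul_top_pi]
  simp only [smul_eq_mul, Ideal.mul_top, RingHom.mem_ker]
  constructor
  · intro h j
    exact congrFun h j
  · intro h
    funext j
    exact h j

lemma mapVec_mulVec (M : Matrix (Fin r) (Fin r) (WittVector p S)) (v : Fin r → WittVector p S) :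
    mapVec φ r (M.mulVec v) = (M.map (WittVector.map φ)).mulVec (mapVec φ r v) := by
  funext i
  exact RingHom.map_mulVec (WittVector.map φ) M v i

lemma mapVec_surjective (hφ : Function.Surjective φ) : Function.Surjective (mapVec (p := p) φ r) := by
  intro v
  choose w hw using fun j => WittVector.map_surjective φ hφ (v j)
  exact ⟨w, funext hw⟩

/-- **Lifting idempotent matrices.** -/
theorem exists_idempotent_lift_matrix (hφ : Function.Surjective φ)
    (hnil : ∀ a : S, φ a = 0 → IsNilpotent a) (hpn : IsNilpotent (p : S))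
    (E : Matrix (Fin r) (Fin r) (WittVector p R)) (hE : E * E = E) :
    ∃ e : Module.End (WittVector p S) (Fin r → WittVector p S),
      (∀ x, e (e x) = e x) ∧ ∀ x, mapVec φ r (e x) = E.mulVec (mapVec φ r x) := by
  classical
  have hpR : IsNilpotent (p : R) := by
    have := hpn.map φ
    simpa using this
  -- step 1: reduce modulo `I_1` and lift along `S → R`
  set cc : WittVector p R →+* R := WittVector.constantCoeff with hcc
  set E₀ : Matrix (Fin r) (Fin r) R := E.map cc with hE₀
  have hE₀idem : IsIdempotentElem E₀ := by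
    have : E₀ = RingHom.mapMatrix cc E := rfl
    rw [this, IsIdempotentElem, ← map_mul, hE]
  have hker : ∀ M ∈ RingHom.ker (RingHom.mapMatrix φ : Matrix (Fin r) (Fin r) S →+* _),
      IsNilpotent M := by
    intro M hM
    apply isNilpotent_matrix
    intro i j
    apply hnil
    rw [RingHom.mem_ker] at hM
    have := congrFun (congrFun hM i) j
    simpa using this
  have hrange : E₀ ∈ (RingHom.mapMatrix φ : Matrix (Fin r) (Fin r) S →+* _).range := by
    choose m hm using fun ij : Fin r × Fin r => hφ (E₀ ij.1 ij.2)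
    refine ⟨Matrix.of fun i j => m (i, j), ?_⟩
    ext i j
    simpa using hm (i, j)
  obtain ⟨e₀, he₀idem, he₀⟩ :=
    exists_isIdempotentElem_eq_of_ker_isNilpotent _ hker E₀ hrange hE₀idem
  -- step 2: a lift `e₁` of `E` reducing to `e₀`
  set e₁ : Matrix (Fin r) (Fin r) (WittVector p S) := Matrix.of fun i j =>
    WittVector.mk p (fun k => if k = 0 then e₀ i j else Function.surjInv hφ ((E i j).coeff k))
    with he₁
  have he₁map : e₁.map (WittVector.map φ) = E := by
    ext i j k
    rw [Matrix.map_apply, WittVector.map_coeff, he₁, Matrix.of_apply, WittVector.coeff_mk]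
    split_ifs with hk
    · subst hk
      have h1 := congrFun (congrFun he₀ i) j
      simp only [RingHom.mapMatrix_apply, Matrix.map_apply] at h1
      rw [h1]
      rfl
    · exact Function.surjInv_eq hφ _
  have he₁cc : e₁.map (WittVector.constantCoeff : WittVector p S →+* S) = e₀ := by
    ext i j
    rw [Matrix.map_apply, he₁, Matrix.of_apply]
    have hcc0 : ∀ w : WittVector p S, (WittVector.constantCoeff : WittVector p S →+* S) w = w.coeff 0 :=
      fun w => rfl
    rw [hcc0, WittVector.coeff_mk, if_pos rfl]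
  have hentries : ∀ i j, (e₁ * e₁ - e₁) i j ∈ In p S 1 := by
    intro i j
    rw [In_one, RingHom.mem_ker]
    have h1 : RingHom.mapMatrix (WittVector.constantCoeff : WittVector p S →+* S) (e₁ * e₁ - e₁) = 0 := by
      rw [map_sub, map_mul]
      have : RingHom.mapMatrix (WittVector.constantCoeff : WittVector p S →+* S) e₁ = e₀ := he₁cc
      rw [this, he₀idem.eq, sub_self]
    have := congrFun (congrFun h1 i) j
    simpa using this
  -- step 3: Newton iteration
  have hW : IsAdicComplete (In p S 1) (WittVector p S) := isAdicComplete_In_one hpn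
  have hF : IsAdicComplete (In p S 1) (Fin r → WittVector p S) := isAdicComplete_pi (In p S 1) r
  set T := (Matrix.toLinAlgEquiv' : Matrix (Fin r) (Fin r) (WittVector p S) ≃ₐ[WittVector p S] _)
    with hT
  have hTapply : ∀ (M : Matrix (Fin r) (Fin r) (WittVector p S)) (x : Fin r → WittVector p S),
      T M x = M.mulVec x := fun M x => Matrix.toLin'_apply M x
  have hu : ∀ x, (T e₁ * T e₁ - T e₁) x ∈
      (In p S 1 • ⊤ : Submodule (WittVector p S) (Fin r → WittVector p S)) := by
    intro x
    rw [← map_mul, ← map_sub, hTapply, mem_In_smul_top_pi]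
    intro i
    rw [Matrix.mulVec, dotProduct]
    exact Ideal.sum_mem _ fun j _ => Ideal.mul_mem_right _ _ (hentries i j)
  obtain ⟨e, hee, -, hlim⟩ := exists_idempotent_lift' (In p S 1) (T e₁) hu
  refine ⟨e, hee, fun x => ?_⟩
  -- compatibility
  rw [← sub_eq_zero]
  apply eq_zero_of_forall_mem
  intro m
  obtain ⟨n, hn⟩ := exists_pow_In_one_le hpn m
  have h1 := hlim n x
  have h2 : e x - (newton (T e₁) n) x ∈
      (In p S m • ⊤ : Submodule (WittVector p S) (Fin r → WittVector p S)) :=
    Submodule.smul_mono hn le_rfl h1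
  have h3 := mapVec_mem φ h2
  rw [map_sub] at h3
  have h4 : newton (T e₁) n = T (newton e₁ n) := (map_newton T.toRingEquiv.toRingHom e₁ n).symm
  have h5 : mapVec φ r ((newton (T e₁) n) x) = E.mulVec (mapVec φ r x) := by
    rw [h4, hTapply, mapVec_mulVec]
    have h6 : (newton e₁ n).map (WittVector.map φ) = newton (e₁.map (WittVector.map φ)) n :=
      map_newton (RingHom.mapMatrix (WittVector.map φ)) e₁ n
    rw [h6, he₁map, newton_of_idempotent E hE]
  rwa [h5] at h3

end Groth.Agent.Lib.Helper75.WittLiftProjective
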