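import Mathlib
import Groth.Agent.Lib.Helper75.WittTruncFiltration

/-!
# Finitely generated projective modules over `W(R)` (`p` nilpotent in `R`)

A `W(R)`-module `P` which is separated for the filtration `I_n P` and has all `P / I_n P`
finitely generated projective over `W(R) / I_n` is finitely generated projective
(Zink, *The display of a formal p-divisible group*).
-/

set_option autoImplicit false
universe u v

namespace Groth.Agent.Lib.Helper75.WittProjective

open Groth.Agent.Lib.Helper75.WittTruncFiltration

variable {p : ℕ} [hp : Fact p.Prime] {R : Type u} [CommRing R]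


variable {P : Type v} [AddCommGroup P] [Module (WittVector p R) P] {r : ℕ} (f : (Fin r → (WittVector p R)) →ₗ[(WittVector p R)] P)

/-- the induced map on quotients -/
noncomputable def fbar (n : ℕ) :
    ((Fin r → (WittVector p R)) ⧸ (In p R n • ⊤ : Submodule (WittVector p R) (Fin r → (WittVector p R)))) →ₗ[(WittVector p R)]
      (P ⧸ (In p R n • ⊤ : Submodule (WittVector p R) P)) :=
  Submodule.mapQ _ _ f (fun x hx => map_mem_smul_top (In p R n) f x hx)

lemma fbar_mkQ (n : ℕ) (v : Fin r → (WittVector p R)) :
    fbar f n (Submodule.Quotient.mk v) = Submodule.Quotient.mk (f v) := rfl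

section

variable (hpn : IsNilpotent (p : R))
  (hf1 : Function.Surjective ((In p R 1 • ⊤ : Submodule (WittVector p R) P).mkQ ∘ₗ f))

include hpn hf1 in
lemma surj_mod (n : ℕ) : Function.Surjective ((In p R n • ⊤ : Submodule (WittVector p R) P).mkQ ∘ₗ f) := by
  rw [← LinearMap.range_eq_top]
  obtain ⟨m, hm⟩ := exists_pow_In_one_le hpn n
  apply eq_top_of_sup_smul_eq_top (In p R 1) _ _ m
  · rw [eq_bot_iff, ← smul_top_quot (In p R n) P]
    exact Submodule.smul_mono hm le_rfl
  · rw [eq_top_iff]
    intro q _
    obtain ⟨y, rfl⟩ := Submodule.mkQ_surjective _ q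
    obtain ⟨v, hv⟩ := hf1 ((In p R 1 • ⊤ : Submodule (WittVector p R) P).mkQ y)
    have h1 : y - f v ∈ (In p R 1 • ⊤ : Submodule (WittVector p R) P) := by
      rw [← Submodule.Quotient.mk_eq_zero, Submodule.Quotient.mk_sub, sub_eq_zero]
      exact hv.symm
    have h2 : (In p R n • ⊤ : Submodule (WittVector p R) P).mkQ y =
        ((In p R n • ⊤ : Submodule (WittVector p R) P).mkQ ∘ₗ f) v +
          (In p R n • ⊤ : Submodule (WittVector p R) P).mkQ (y - f v) := by
      rw [LinearMap.comp_apply, ← map_add]; congr 1; abel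
    rw [h2]
    exact Submodule.add_mem_sup (LinearMap.mem_range_self _ v)
      (map_mem_smul_top (In p R 1) _ _ h1)

include hpn hf1 in
lemma fbar_surjective (n : ℕ) : Function.Surjective (fbar f n) := by
  intro q
  obtain ⟨v, hv⟩ := surj_mod f hpn hf1 n q
  exact ⟨Submodule.Quotient.mk v, hv⟩

variable (hproj : ∀ n, Module.Projective ((WittVector p R) ⧸ In p R n) (P ⧸ (In p R n • ⊤ : Submodule (WittVector p R) P)))

include hpn hf1 hproj in
lemma exists_section (n : ℕ) :
    ∃ s : (P ⧸ (In p R n • ⊤ : Submodule (WittVector p R) P)) →ₗ[(WittVector p R)]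
      ((Fin r → (WittVector p R)) ⧸ (In p R n • ⊤ : Submodule (WittVector p R) (Fin r → (WittVector p R)))),
      ∀ q, fbar f n (s q) = q := by
  have := hproj n
  have hsurj : Function.Surjective (algebraMap (WittVector p R) ((WittVector p R) ⧸ In p R n)) := Ideal.Quotient.mk_surjective
  obtain ⟨s, hs⟩ := Module.projective_lifting_property
    ((fbar f n).extendScalarsOfSurjective hsurj) LinearMap.id (fbar_surjective f hpn hf1 n)
  refine ⟨s.restrictScalars (WittVector p R), fun q => ?_⟩
  exact LinearMap.congr_fun hs q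

include hpn hf1 hproj in
/-- kernel lifting -/
lemma kernel_lift (n : ℕ) (v : Fin r → (WittVector p R)) (hv : f v ∈ (In p R n • ⊤ : Submodule (WittVector p R) P)) :
    ∃ k : Fin r → (WittVector p R), f k ∈ (In p R (n + 1) • ⊤ : Submodule (WittVector p R) P) ∧
      v - k ∈ (In p R n • ⊤ : Submodule (WittVector p R) (Fin r → (WittVector p R))) := by
  obtain ⟨s, hs⟩ := exists_section f hpn hf1 hproj (n + 1)
  set q : P ⧸ (In p R (n + 1) • ⊤ : Submodule (WittVector p R) P) := Submodule.Quotient.mk (f v) with hq
  have hqmem : q ∈ (In p R n • ⊤ : Submodule (WittVector p R) (P ⧸ (In p R (n + 1) • ⊤ : Submodule (WittVector p R) P))) :=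
    map_mem_smul_top (In p R n) (Submodule.mkQ _) (f v) hv
  obtain ⟨k, hk⟩ := Submodule.mkQ_surjective _
    ((Submodule.Quotient.mk v : (Fin r → (WittVector p R)) ⧸ (In p R (n + 1) • ⊤ : Submodule (WittVector p R) (Fin r → (WittVector p R)))) - s q)
  refine ⟨k, ?_, ?_⟩
  · rw [← Submodule.Quotient.mk_eq_zero, ← fbar_mkQ]
    change fbar f (n + 1) ((In p R (n + 1) • ⊤ : Submodule (WittVector p R) (Fin r → (WittVector p R))).mkQ k) = 0
    rw [hk, map_sub, hs, fbar_mkQ, sub_self]
  · have h1 : (In p R (n + 1) • ⊤ : Submodule (WittVector p R) (Fin r → (WittVector p R))).mkQ (v - k) = s q := by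
      rw [map_sub, hk]
      simp
    have h2 : s q ∈ (In p R n • ⊤ :
        Submodule (WittVector p R) ((Fin r → (WittVector p R)) ⧸ (In p R (n + 1) • ⊤ : Submodule (WittVector p R) (Fin r → (WittVector p R))))) :=
      map_mem_smul_top (In p R n) s q hqmem
    have h3 : (In p R n • ⊤ :
        Submodule (WittVector p R) ((Fin r → (WittVector p R)) ⧸ (In p R (n + 1) • ⊤ : Submodule (WittVector p R) (Fin r → (WittVector p R))))) =
        Submodule.map (In p R (n + 1) • ⊤ : Submodule (WittVector p R) (Fin r → (WittVector p R))).mkQ (In p R n • ⊤) := by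
      rw [Submodule.map_smul'', Submodule.map_top, Submodule.range_mkQ]
    rw [h3, ← h1] at h2
    obtain ⟨z, hz, hzk⟩ := h2
    have h4 : (v - k) - z ∈ (In p R (n + 1) • ⊤ : Submodule (WittVector p R) (Fin r → (WittVector p R))) := by
      rw [← Submodule.Quotient.mk_eq_zero]
      change (In p R (n + 1) • ⊤ : Submodule (WittVector p R) (Fin r → (WittVector p R))).mkQ ((v - k) - z) = 0
      rw [map_sub, hzk, sub_self]
    have h5 : (v - k) = z + ((v - k) - z) := by abel
    rw [h5]
    exact Submodule.add_mem _ hz (Submodule.smul_mono (In_anti (Nat.le_succ n)) le_rfl h4)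

variable (hsep : (⨅ n, (In p R n • ⊤ : Submodule (WittVector p R) P)) = ⊥)

include hpn hf1 hproj hsep in
/-- **Step A**: `f` is surjective. -/
theorem surjective_f : Function.Surjective f := by
  intro y
  -- the approximating sequence
  have step : ∀ (n : ℕ) (w : {w : Fin r → (WittVector p R) // y - f w ∈ (In p R n • ⊤ : Submodule (WittVector p R) P)}),
      ∃ w' : {w : Fin r → (WittVector p R) // y - f w ∈ (In p R (n + 1) • ⊤ : Submodule (WittVector p R) P)},
        w'.1 - w.1 ∈ (In p R n • ⊤ : Submodule (WittVector p R) (Fin r → (WittVector p R))) := by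
    rintro n ⟨w, hw⟩
    obtain ⟨w', hw'⟩ := surj_mod f hpn hf1 (n + 1) ((In p R (n + 1) • ⊤ : Submodule (WittVector p R) P).mkQ y)
    have h1 : y - f w' ∈ (In p R (n + 1) • ⊤ : Submodule (WittVector p R) P) := by
      rw [← Submodule.Quotient.mk_eq_zero, Submodule.Quotient.mk_sub, sub_eq_zero]
      exact hw'.symm
    have h2 : f (w' - w) ∈ (In p R n • ⊤ : Submodule (WittVector p R) P) := by
      have : f (w' - w) = (y - f w) - (y - f w') := by rw [map_sub]; abel
      rw [this]
      exact Submodule.sub_mem _ hw (Submodule.smul_mono (In_anti (Nat.le_succ n)) le_rfl h1)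
    obtain ⟨k, hk1, hk2⟩ := kernel_lift f hpn hf1 hproj n (w' - w) h2
    refine ⟨⟨w' - k, ?_⟩, ?_⟩
    · have : y - f (w' - k) = (y - f w') + f k := by rw [map_sub]; abel
      rw [this]
      exact Submodule.add_mem _ h1 hk1
    · have : (w' - k) - w = (w' - w) - k := by abel
      change (w' - k) - w ∈ _
      rw [this]
      exact hk2
  choose nxt hnxt using step
  have base : y - f 0 ∈ (In p R 0 • ⊤ : Submodule (WittVector p R) P) := by
    rw [In_zero, Submodule.top_smul]; trivial
  let seq : ∀ n, {w : Fin r → (WittVector p R) // y - f w ∈ (In p R n • ⊤ : Submodule (WittVector p R) P)} :=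
    fun n => Nat.rec ⟨0, base⟩ (fun n w => nxt n w) n
  have hseq : ∀ n, (seq (n + 1)).1 - (seq n).1 ∈
      (In p R n • ⊤ : Submodule (WittVector p R) (Fin r → (WittVector p R))) := fun n => hnxt n (seq n)
  obtain ⟨L, hL⟩ := exists_limit (fun n => (seq n).1) hseq
  refine ⟨L, ?_⟩
  rw [← sub_eq_zero, ← Submodule.mem_bot (WittVector p R), ← hsep, Submodule.mem_iInf]
  intro n
  have : f L - y = f (L - (seq n).1) - (y - f (seq n).1) := by rw [map_sub]; abel
  rw [this]
  exact Submodule.sub_mem _ (map_mem_smul_top (In p R n) f _ (hL n)) (seq n).2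

include hpn hf1 hproj hsep in
/-- **Step B**: `P` is finitely generated projective. -/
theorem finite_projective :
    Module.Finite (WittVector p R) P ∧ Module.Projective (WittVector p R) P := by
  classical
  have hfsurj := surjective_f f hpn hf1 hproj hsep
  have hfin : Module.Finite (WittVector p R) P := Module.Finite.of_surjective f hfsurj
  refine ⟨hfin, ?_⟩
  have hW : IsAdicComplete (In p R 1) (WittVector p R) := isAdicComplete_In_one hpn
  have hF : IsAdicComplete (In p R 1) (Fin r → WittVector p R) :=
    Groth.Agent.Lib.Helper75.CompleteProjective.isAdicComplete_pi (In p R 1) r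
  obtain ⟨a, ha⟩ := exists_section f hpn hf1 hproj 1
  obtain ⟨e₁, he₁⟩ := Module.projective_lifting_property
    (In p R 1 • ⊤ : Submodule (WittVector p R) (Fin r → WittVector p R)).mkQ
    (a ∘ₗ (In p R 1 • ⊤ : Submodule (WittVector p R) P).mkQ ∘ₗ f) (Submodule.mkQ_surjective _)
  have he₁' : ∀ x, (Submodule.Quotient.mk (e₁ x) :
      (Fin r → WittVector p R) ⧸ (In p R 1 • ⊤ : Submodule (WittVector p R) (Fin r → WittVector p R))) =
      a (Submodule.Quotient.mk (f x)) := fun x => LinearMap.congr_fun he₁ x
  have hfe₁ : ∀ x, f (e₁ x) - f x ∈ (In p R 1 • ⊤ : Submodule (WittVector p R) P) := by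
    intro x
    rw [← Submodule.Quotient.mk_eq_zero, Submodule.Quotient.mk_sub, sub_eq_zero, ← fbar_mkQ f 1,
      he₁', ha]
  have hidem₁ : ∀ x, (e₁ * e₁ - e₁) x ∈
      (In p R 1 • ⊤ : Submodule (WittVector p R) (Fin r → WittVector p R)) := by
    intro x
    rw [LinearMap.sub_apply, Module.End.mul_apply, ← Submodule.Quotient.mk_eq_zero,
      Submodule.Quotient.mk_sub, sub_eq_zero, he₁', he₁']
    congr 1
    rw [← sub_eq_zero, ← Submodule.Quotient.mk_sub, Submodule.Quotient.mk_eq_zero]
    exact hfe₁ x
  obtain ⟨e, hee, hee₁⟩ :=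
    Groth.Agent.Lib.Helper75.CompleteProjective.exists_idempotent_lift (In p R 1) e₁ hidem₁
  have K1 : ∀ x, f (e x) - f x ∈ (In p R 1 • ⊤ : Submodule (WittVector p R) P) := by
    intro x
    have : f (e x) - f x = f (e x - e₁ x) + (f (e₁ x) - f x) := by rw [map_sub]; abel
    rw [this]
    exact add_mem (map_mem_smul_top _ f _ (hee₁ x)) (hfe₁ x)
  have K2 : ∀ x, f x ∈ (In p R 1 • ⊤ : Submodule (WittVector p R) P) →
      e x ∈ (In p R 1 • ⊤ : Submodule (WittVector p R) (Fin r → WittVector p R)) := by
    intro x hx
    have h1 : e₁ x ∈ (In p R 1 • ⊤ : Submodule (WittVector p R) (Fin r → WittVector p R)) := by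
      rw [← Submodule.Quotient.mk_eq_zero, he₁', (Submodule.Quotient.mk_eq_zero _).mpr hx, map_zero]
    have : e x = (e x - e₁ x) + e₁ x := by abel
    rw [this]
    exact add_mem (hee₁ x) h1
  -- the direct summand
  set G : Submodule (WittVector p R) (Fin r → WittVector p R) := LinearMap.range e with hG
  set ê : (Fin r → WittVector p R) →ₗ[WittVector p R] G := e.rangeRestrict with hê
  set g : G →ₗ[WittVector p R] P := f ∘ₗ G.subtype with hg
  have hêz : ∀ z : G, ê (z : Fin r → WittVector p R) = z := by
    rintro ⟨_, x, rfl⟩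
    apply Subtype.ext
    exact hee x
  have hsplit : ê ∘ₗ G.subtype = LinearMap.id := by
    ext1 z
    exact hêz z
  have hGproj : Module.Projective (WittVector p R) G := Module.Projective.of_split _ _ hsplit
  -- surjectivity of g
  have hgsurj : Function.Surjective g := by
    rw [← LinearMap.range_eq_top, eq_top_iff]
    apply Submodule.le_of_le_smul_of_le_jacobson_bot (I := In p R 1) Module.Finite.fg_top
      (IsAdicComplete.le_jacobson_bot (In p R 1))
    intro y _
    obtain ⟨v, rfl⟩ := hfsurj y
    have h1 : f v = g (ê v) + (f v - f (e v)) := by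
      have h2 : ((ê v : G) : Fin r → WittVector p R) = e v := rfl
      simp only [hg, LinearMap.comp_apply, Submodule.subtype_apply, h2]
      abel
    rw [h1]
    refine Submodule.add_mem_sup (LinearMap.mem_range_self g _) ?_
    rw [← neg_sub]
    exact neg_mem (K1 v)
  -- injectivity of g
  have hginj : Function.Injective g := by
    rw [injective_iff_map_eq_zero]
    intro z hz
    have hall : ∀ n, (z : Fin r → WittVector p R) ∈
        (In p R n • ⊤ : Submodule (WittVector p R) (Fin r → WittVector p R)) := by
      intro n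
      rcases Nat.eq_zero_or_pos n with rfl | hn
      · rw [In_zero, Submodule.top_smul]; trivial
      -- level n
      have hgmap : ∀ x ∈ (In p R n • ⊤ : Submodule (WittVector p R) G),
          g x ∈ (In p R n • ⊤ : Submodule (WittVector p R) P) :=
        fun x hx => map_mem_smul_top (In p R n) g x hx
      set gn : (G ⧸ (In p R n • ⊤ : Submodule (WittVector p R) G)) →ₗ[WittVector p R]
          (P ⧸ (In p R n • ⊤ : Submodule (WittVector p R) P)) := Submodule.mapQ _ _ g hgmap with hgn
      have hgnsurj : Function.Surjective gn := by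
        intro q
        obtain ⟨y, rfl⟩ := Submodule.mkQ_surjective _ q
        obtain ⟨x, rfl⟩ := hgsurj y
        exact ⟨Submodule.Quotient.mk x, rfl⟩
      have := hproj n
      have hsurjalg : Function.Surjective (algebraMap (WittVector p R) (WittVector p R ⧸ In p R n)) :=
        Ideal.Quotient.mk_surjective
      obtain ⟨τ', hτ'⟩ := Module.projective_lifting_property
        (gn.extendScalarsOfSurjective hsurjalg) LinearMap.id hgnsurj
      set τ : (P ⧸ (In p R n • ⊤ : Submodule (WittVector p R) P)) →ₗ[WittVector p R]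
          (G ⧸ (In p R n • ⊤ : Submodule (WittVector p R) G)) := τ'.restrictScalars _ with hτ
      have hgτ : ∀ q, gn (τ q) = q := fun q => LinearMap.congr_fun hτ' q
      set φ : Module.End (WittVector p R) (G ⧸ (In p R n • ⊤ : Submodule (WittVector p R) G)) :=
        LinearMap.id - τ ∘ₗ gn with hφ
      have hφker : LinearMap.range φ ≤ LinearMap.ker gn := by
        rintro _ ⟨x, rfl⟩
        rw [LinearMap.mem_ker, hφ, LinearMap.sub_apply, LinearMap.id_apply, map_sub,
          LinearMap.comp_apply, hgτ, sub_self]
      have hker_le : LinearMap.ker gn ≤ In p R 1 • LinearMap.ker gn := by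
        intro ζ hζ
        obtain ⟨z', rfl⟩ := Submodule.mkQ_surjective _ ζ
        rw [LinearMap.mem_ker] at hζ
        have h1 : g z' ∈ (In p R n • ⊤ : Submodule (WittVector p R) P) := by
          rw [← Submodule.Quotient.mk_eq_zero]
          exact hζ
        have h2 : g z' ∈ (In p R 1 • ⊤ : Submodule (WittVector p R) P) :=
          Submodule.smul_mono (In_anti hn) le_rfl h1
        have h3 : (z' : Fin r → WittVector p R) ∈
            (In p R 1 • ⊤ : Submodule (WittVector p R) (Fin r → WittVector p R)) := by
          have h4 := K2 (z' : Fin r → WittVector p R) h2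
          have h5 : e (z' : Fin r → WittVector p R) = z' := by
            have := congrArg Subtype.val (hêz z')
            exact this
          rwa [h5] at h4
        have h6 : z' ∈ (In p R 1 • ⊤ : Submodule (WittVector p R) G) := by
          have := map_mem_smul_top (In p R 1) ê _ h3
          rwa [hêz] at this
        have h7 : (In p R n • ⊤ : Submodule (WittVector p R) G).mkQ z' ∈
            (In p R 1 • ⊤ : Submodule (WittVector p R)
              (G ⧸ (In p R n • ⊤ : Submodule (WittVector p R) G))) :=
          map_mem_smul_top (In p R 1) _ _ h6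
        have h8 : φ ((In p R n • ⊤ : Submodule (WittVector p R) G).mkQ z') =
            (In p R n • ⊤ : Submodule (WittVector p R) G).mkQ z' := by
          rw [hφ, LinearMap.sub_apply, LinearMap.id_apply, LinearMap.comp_apply, hζ, map_zero,
            sub_zero]
        have h9 : φ ((In p R n • ⊤ : Submodule (WittVector p R) G).mkQ z') ∈
            Submodule.map φ (In p R 1 • ⊤) := Submodule.mem_map_of_mem h7
        rw [Submodule.map_smul'', Submodule.map_top, h8] at h9
        exact Submodule.smul_mono le_rfl hφker h9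
      obtain ⟨m, hm⟩ := exists_pow_In_one_le hpn n
      have hkerbot : LinearMap.ker gn = ⊥ := by
        apply eq_bot_of_le_smul (In p R 1) _ hker_le m
        rw [eq_bot_iff, ← smul_top_quot (In p R n) G]
        exact Submodule.smul_mono hm le_rfl
      have h10 : (In p R n • ⊤ : Submodule (WittVector p R) G).mkQ z ∈ LinearMap.ker gn := by
        rw [LinearMap.mem_ker]
        change Submodule.Quotient.mk (g z) = 0
        rw [hz]; rfl
      rw [hkerbot, Submodule.mem_bot] at h10
      have h11 : z ∈ (In p R n • ⊤ : Submodule (WittVector p R) G) := by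
        rwa [Submodule.mkQ_apply, Submodule.Quotient.mk_eq_zero] at h10
      exact map_mem_smul_top (In p R n) G.subtype z h11
    have h0 := eq_zero_of_forall_mem (z : Fin r → WittVector p R) hall
    exact Subtype.ext h0
  exact Module.Projective.of_equiv (LinearEquiv.ofBijective g ⟨hginj, hgsurj⟩)

end

end Groth.Agent.Lib.Helper75.WittProjective
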